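import Mathlib
import Cfsg.Agent.Lib.Known2.TC

/-!
# The triangle groups `(2,3,3)`, `(2,3,4)`, `(2,3,5)`

Elements `x, y` with `x² = y³ = (xy)ⁿ = 1`, `n = 3, 4, 5`, give homomorphisms from `A₄`, `S₄`, `A₅`.
-/

set_option autoImplicit false

namespace Cfsg.Lib.Linear

open Cfsg.Lib.Known2.TC

/-- Generation from a list of words with distinct values. -/
theorem closure_eq_top_of_words {H : Type*} [Group H] [Finite H] {X : Type*} (σ : H → X) (a : ℕ → H)
    (k : ℕ) (W : List (List ℕ)) (hW : ∀ w ∈ W, ∀ s ∈ w, s < k)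
    (hN : (W.map fun w => σ (ev a w)).Nodup) (hc : Nat.card H ≤ W.length) :
    Subgroup.closure (a '' {s | s < k}) = ⊤ := by
  classical
  have h1 : ∀ w : List ℕ, (∀ s ∈ w, s < k) → ev a w ∈ Subgroup.closure (a '' {s | s < k}) := by
    intro w hw
    induction w with
    | nil => exact one_mem _
    | cons s w ih =>
      rw [ev_cons]
      exact mul_mem (Subgroup.subset_closure ⟨s, hw s (by simp), rfl⟩)
        (ih fun t ht => hw t (by simp [ht]))
  have h2 : (W.map (ev a)).Nodup := List.Nodup.of_map σ (by rwa [List.map_map])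
  have := Fintype.ofFinite H
  have h3 : (W.map (ev a)).toFinset = Finset.univ := Finset.eq_univ_of_card _ (le_antisymm
    (Finset.card_le_univ _) (by
      rwa [List.toFinset_card_of_nodup h2, List.length_map, ← Nat.card_eq_fintype_card]))
  refine eq_top_iff.2 fun g _ => ?_
  have : g ∈ (W.map (ev a)).toFinset := h3 ▸ Finset.mem_univ g
  obtain ⟨w, hw, rfl⟩ := List.mem_map.1 (List.mem_toFinset.1 this)
  exact h1 w (hW w hw)

/-- The inversion of the letters `x, y, y⁻¹`. -/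
def iv3 (s : ℕ) : ℕ := [0, 2, 1].getD s 0

def ta4_st0 : List ℕ := [8, 524296, 1048584, 270008353, 524304, 1048592, 270008369, 24, 32, 40, 136314921, 48, 673185873, 1048632, 270008409, 524352, 135790657, 270532641]
def ta4_steps : List ℕ := ta4_st0
def ta4_rels : List (List ℕ) := [[0, 0], [1, 2], [2, 1], [1, 1, 1], [0, 1, 0, 1, 0, 1]]
def ta4_subs : List (List ℕ) := []
def ta4_al : ℕ := 0xc000b000a000900080007000600050004000300020001
def ta4_ft : ℕ := 0x70008000a00090006000b0006000a0005000b000700040008000b0003000a00090002000400010009000100050008000200000007000000030006000500040000000300020001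
def ta4_words : List (List ℕ) := [[], [0], [1], [2], [1, 0], [2, 0], [0, 1], [0, 2], [0, 1, 0], [0, 2, 0], [2, 0, 1], [1, 0, 2]]
theorem ta4_check : check 3 iv3 ta4_rels [] ta4_steps 12 (get ta4_al) (tab 3 ta4_ft) = true := by
  decide +kernel

def ts4_st0 : List ℕ := [8, 524296, 1048584, 270008353, 524304, 1048592, 270008369, 24, 32, 40, 48, 524344, 1048632, 270008417, 524352, 1048640, 270008433, 524360, 270532649, 1048648, 270008449, 524368, 1048656, 270008465, 2097241, 96, 104, 136314985, 128, 136, 136315017, 524440, 135790745, 524456, 135790761, 270532737]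
def ts4_steps : List ℕ := ts4_st0
def ts4_rels : List (List ℕ) := [[0, 0], [1, 2], [2, 1], [1, 1, 1], [0, 1, 0, 1, 0, 1, 0, 1]]
def ts4_subs : List (List ℕ) := []
def ts4_al : ℕ := 0x1800170016001500140013001200110010000f000e000d000c000b000a000900080007000600050004000300020001
def ts4_ft : ℕ := 0x140015001600120013001700170014001000150017000f00160012000c00130016000b00100009000a000900110015000e000800140008000f000d000c0007000e0007000d0013000a000600120006000b0011001100100005000f000e0004000d000c0003000b000a0002000400010009000100050008000200000007000000030006000500040000000300020001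
def ts4_words : List (List ℕ) := [[], [0], [1], [2], [1, 0], [2, 0], [0, 1], [0, 2], [0, 1, 0], [0, 2, 0], [1, 0, 1], [2, 0, 1], [1, 0, 2], [2, 0, 2], [1, 0, 1, 0], [2, 0, 1, 0], [1, 0, 2, 0], [2, 0, 2, 0], [0, 2, 0, 1], [0, 1, 0, 2], [0, 2, 0, 1, 0], [0, 1, 0, 2, 0], [1, 0, 2, 0, 1], [1, 0, 2, 0, 1, 0]]
theorem ts4_check : check 3 iv3 ts4_rels [] ts4_steps 24 (get ts4_al) (tab 3 ts4_ft) = true := by
  decide +kernel

def ta5_st0 : List ℕ := [8, 524296, 1048584, 270008353, 524304, 1048592, 270008369, 24, 32, 40, 48, 524344, 1048632, 270008417, 524352, 1048640, 270008433, 524360, 1048648, 270008449, 524368, 1048656, 270008465, 88, 96, 104, 112, 120, 136315001, 128, 136, 144, 1210056913, 1048728, 270008537, 524448, 1048736, 270008553, 524456, 270532713, 1048744, 270008569, 524464, 135790769, 524480, 1048768, 270008593, 524488, 270532745, 1048776, 270008609, 216, 224, 248, 256, 264, 288, 524584, 1048872, 270008673, 524592, 270532833, 1048880, 270008689,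 524600, 1048888, 270008705, 524608, 270532865, 1048896, 270008721, 524616, 270532873, 1048904, 270008737, 524624, 1048912, 270008753, 2097497, 368, 376, 136315257, 416, 424, 136315305, 524728, 135791033, 524744, 135791049, 270533025]
def ta5_steps : List ℕ := ta5_st0
def ta5_rels : List (List ℕ) := [[0, 0], [1, 2], [2, 1], [1, 1, 1], [0, 1, 0, 1, 0, 1, 0, 1, 0, 1]]
def ta5_subs : List (List ℕ) := []
def ta5_al : ℕ := 0x3c003b003a0039003800370036003500340033003200310030002f002e002d002c002b002a0029002800270026002500240023002200210020001f001e001d001c001b001a0019001800170016001500140013001200110010000f000e000d000c000b000a000900080007000600050004000300020001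
def ta5_ft : ℕ := 0x380039003a00360037003b003b003800340039003b0033003a0036002e0037003a002d00340029002a00290035003900320028003800280033003100300027003200270031002f002e002600300026002f0037002c002500360025002d002b002a0024002c0024002b003500350034002300330032002000310030001f002f002e001e002d002c001b002b002a001a002200180029001800230021002000170022001700210028001500160027001d001400260014001e001c001b0013001d0013001c00250019001200240012001a001100230022001000210020000f001f0015000e0016001f000d001e001d000c001c001b000b001a0019000a001000090019000900110018000e000800170008000f0016000c000700150007000d0014000a000600130006000b0012001100100005000f000e0004000d000c0003000b000a0002000400010009000100050008000200000007000000030006000500040000000300020001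
def ta5_words : List (List ℕ) := [[], [0], [1], [2], [1, 0], [2, 0], [0, 1], [0, 2], [0, 1, 0], [0, 2, 0], [1, 0, 1], [2, 0, 1], [1, 0, 2], [2, 0, 2], [1, 0, 1, 0], [2, 0, 1, 0], [1, 0, 2, 0], [2, 0, 2, 0], [0, 1, 0, 1], [0, 2, 0, 1], [0, 1, 0, 2], [0, 2, 0, 2], [0, 1, 0, 1, 0], [0, 2, 0, 1, 0], [0, 1, 0, 2, 0], [0, 2, 0, 2, 0], [2, 0, 1, 0, 1], [1, 0, 2, 0, 1], [2, 0, 2, 0, 1], [1, 0, 1, 0, 2], [2, 0, 1, 0, 2], [1, 0, 2, 0, 2], [1, 0, 2, 0, 1, 0], [2, 0, 2, 0, 1, 0], [1, 0, 1, 0, 2, 0], [2, 0, 1, 0, 2, 0], [0, 2, 0, 1, 0, 1], [0, 1, 0, 2, 0, 1], [0, 2, 0, 1, 0, 2], [0, 1, 0, 2, 0, 2], [0, 1, 0, 2, 0, 1, 0], [0, 2, 0, 1, 0, 2, 0], [1, 0, 2, 0, 1, 0, 1], [2, 0, 2, 0, 1, 0, 1], [1, 0, 1, 0, 2, 0, 1], [2, 0, 1, 0, 2, 0, 1], [1, 0, 2, 0, 1, 0, 2], [2, 0, 2, 0, 1, 0, 2], [1, 0, 1, 0, 2, 0, 2], [2, 0, 1, 0, 2, 0, 2], [1, 0, 1, 0, 2, 0, 1, 0], [2, 0, 1, 0, 2, 0, 1, 0], [1, 0, 2, 0, 1, 0, 2, 0], [2, 0, 2, 0, 1, 0, 2, 0], [0, 2, 0, 1, 0, 2, 0, 1], [0, 1, 0,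 2, 0, 1, 0, 2], [0, 2, 0, 1, 0, 2, 0, 1, 0], [0, 1, 0, 2, 0, 1, 0, 2, 0], [1, 0, 2, 0, 1, 0, 2, 0, 1], [1, 0, 2, 0, 1, 0, 2, 0, 1, 0]]
theorem ta5_check : check 3 iv3 ta5_rels [] ta5_steps 60 (get ta5_al) (tab 3 ta5_ft) = true := by
  decide +kernel


variable {G : Type*} [Group G]

theorem tri_iv {x y : G} (hx : x * x = 1) (s : ℕ) (hs : s < 3) :
    [x, y, y⁻¹].getD (iv3 s) 1 = ([x, y, y⁻¹].getD s 1)⁻¹ := by
  interval_cases s <;> simp [iv3, eq_inv_iff_mul_eq_one, hx]

/-- The generators of `A₄`. -/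
def a4x : alternatingGroup (Fin 4) :=
  ⟨Equiv.swap 0 1 * Equiv.swap 2 3, Equiv.Perm.mem_alternatingGroup.2 (by decide)⟩
/-- The generators of `A₄`. -/
def a4y : alternatingGroup (Fin 4) :=
  ⟨Equiv.swap 0 1 * Equiv.swap 1 2, Equiv.Perm.mem_alternatingGroup.2 (by decide)⟩
/-- The generators of `S₄`. -/
def s4x : Equiv.Perm (Fin 4) := Equiv.swap 2 3
/-- The generators of `S₄`. -/
def s4y : Equiv.Perm (Fin 4) := Equiv.swap 0 1 * Equiv.swap 1 2
/-- The generators of `A₅`. -/
def a5x : alternatingGroup (Fin 5) :=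
  ⟨Equiv.swap 0 3 * Equiv.swap 1 4, Equiv.Perm.mem_alternatingGroup.2 (by decide)⟩
/-- The generators of `A₅`. -/
def a5y : alternatingGroup (Fin 5) :=
  ⟨Equiv.swap 0 1 * Equiv.swap 1 2, Equiv.Perm.mem_alternatingGroup.2 (by decide)⟩

theorem card_A4 : Nat.card (alternatingGroup (Fin 4)) = 12 := by
  rw [nat_card_alternatingGroup]; simp; rfl

theorem card_S4 : Nat.card (Equiv.Perm (Fin 4)) = 24 := by
  rw [Nat.card_perm]; simp; rfl

theorem card_A5 : Nat.card (alternatingGroup (Fin 5)) = 60 := by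
  rw [nat_card_alternatingGroup]; simp; rfl

theorem exists_hom_A4 {x y : G} (hx : x * x = 1) (hy : y ^ 3 = 1) (hxy : (x * y) ^ 3 = 1) :
    ∃ φ : alternatingGroup (Fin 4) →* G, φ a4x = x ∧ φ a4y = y := by
  obtain ⟨φ, hφ⟩ := exists_hom ta4_check card_A4.ge (by norm_num)
    (fun s => [a4x, a4y, a4y⁻¹].getD s 1)
    (closure_eq_top_of_words (fun g => (g.1 0, g.1 1)) _ 3 ta4_words (by decide +kernel)
      (by decide +kernel) card_A4.le) (tri_iv (by decide)) (by decide +kernel)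
    (fun s => [x, y, y⁻¹].getD s 1) (tri_iv hx) (by
      simp only [pow_succ, pow_zero, one_mul, mul_assoc] at *
      simp [ta4_rels, *])
  exact ⟨φ, hφ 0 (by norm_num), hφ 1 (by norm_num)⟩

theorem exists_hom_S4 {x y : G} (hx : x * x = 1) (hy : y ^ 3 = 1) (hxy : (x * y) ^ 4 = 1) :
    ∃ φ : Equiv.Perm (Fin 4) →* G, φ s4x = x ∧ φ s4y = y := by
  obtain ⟨φ, hφ⟩ := exists_hom ts4_check card_S4.ge (by norm_num)
    (fun s => [s4x, s4y, s4y⁻¹].getD s 1)
    (closure_eq_top_of_words (fun g => (g 0, g 1, g 2)) _ 3 ts4_words (by decide +kernel)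
      (by decide +kernel) card_S4.le) (tri_iv (by decide)) (by decide +kernel)
    (fun s => [x, y, y⁻¹].getD s 1) (tri_iv hx) (by
      simp only [pow_succ, pow_zero, one_mul, mul_assoc] at *
      simp [ts4_rels, *])
  exact ⟨φ, hφ 0 (by norm_num), hφ 1 (by norm_num)⟩

theorem exists_hom_A5 {x y : G} (hx : x * x = 1) (hy : y ^ 3 = 1) (hxy : (x * y) ^ 5 = 1) :
    ∃ φ : alternatingGroup (Fin 5) →* G, φ a5x = x ∧ φ a5y = y := by
  obtain ⟨φ, hφ⟩ := exists_hom ta5_check card_A5.ge (by norm_num)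
    (fun s => [a5x, a5y, a5y⁻¹].getD s 1)
    (closure_eq_top_of_words (fun g => (g.1 0, g.1 1, g.1 2)) _ 3 ta5_words (by decide +kernel)
      (by decide +kernel) card_A5.le) (tri_iv (by decide)) (by decide +kernel)
    (fun s => [x, y, y⁻¹].getD s 1) (tri_iv hx) (by
      simp only [pow_succ, pow_zero, one_mul, mul_assoc] at *
      simp [ta5_rels, *])
  exact ⟨φ, hφ 0 (by norm_num), hφ 1 (by norm_num)⟩

theorem injective_of_normalClosure {H : Type*} [Group H] (φ : H →* G) {v : H} (hv : φ v ≠ 1)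
    (h : ∀ g : H, g ≠ 1 → ∃ a b : H, v = a * g * a⁻¹ ∨ v = a * (g * b * g⁻¹ * b⁻¹) * a⁻¹) :
    Function.Injective φ :=
  (injective_iff_map_eq_one φ).2 fun g hg => by
    by_contra h1
    obtain ⟨a, b, e | e⟩ := h g h1 <;> exact hv (by simp [e, hg])

theorem injective_A4 (φ : alternatingGroup (Fin 4) →* G) (h : φ a4x ≠ 1) : Function.Injective φ :=
  injective_of_normalClosure φ h (by decide +kernel)

theorem injective_S4 (φ : Equiv.Perm (Fin 4) →* G) (h : φ ((s4x * s4y) ^ 2) ≠ 1) :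
    Function.Injective φ :=
  injective_of_normalClosure φ h (by decide +kernel)

theorem injective_of_simple {H : Type*} [Group H] [IsSimpleGroup H] (φ : H →* G) {v : H}
    (h : φ v ≠ 1) : Function.Injective φ :=
  (MonoidHom.ker_eq_bot_iff φ).1 ((φ.normal_ker.eq_bot_or_eq_top).resolve_right fun e =>
    h (show v ∈ φ.ker from e ▸ Subgroup.mem_top v))

theorem exists_subgroup_A4 {x y : G} (hx : x * x = 1) (hy : y ^ 3 = 1) (hxy : (x * y) ^ 3 = 1)
    (h1 : x ≠ 1) : ∃ H : Subgroup G, Nonempty (H ≃* alternatingGroup (Fin 4)) := by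
  obtain ⟨φ, e, -⟩ := exists_hom_A4 hx hy hxy
  exact ⟨φ.range, ⟨(MonoidHom.ofInjective (injective_A4 φ (e ▸ h1))).symm⟩⟩

theorem exists_subgroup_S4 {x y : G} (hx : x * x = 1) (hy : y ^ 3 = 1) (hxy : (x * y) ^ 4 = 1)
    (h1 : (x * y) ^ 2 ≠ 1) : ∃ H : Subgroup G, Nonempty (H ≃* Equiv.Perm (Fin 4)) := by
  obtain ⟨φ, e, e'⟩ := exists_hom_S4 hx hy hxy
  exact ⟨φ.range, ⟨(MonoidHom.ofInjective (injective_S4 φ
    (by rwa [map_pow, map_mul, e, e']))).symm⟩⟩

theorem exists_subgroup_A5 {x y : G} (hx : x * x = 1) (hy : y ^ 3 = 1) (hxy : (x * y) ^ 5 = 1)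
    (h1 : x ≠ 1) : ∃ H : Subgroup G, Nonempty (H ≃* alternatingGroup (Fin 5)) := by
  obtain ⟨φ, e, -⟩ := exists_hom_A5 hx hy hxy
  exact ⟨φ.range, ⟨(MonoidHom.ofInjective (injective_of_simple φ (e ▸ h1))).symm⟩⟩

theorem A5_pow (g : alternatingGroup (Fin 5)) : g ^ 2 = 1 ∨ g ^ 3 = 1 ∨ g ^ 5 = 1 := by
  revert g; decide +kernel

theorem A4_pow (g : alternatingGroup (Fin 4)) : g ^ 2 = 1 ∨ g ^ 3 = 1 := by
  revert g; decide +kernel

theorem S4_pow (g : Equiv.Perm (Fin 4)) : g ^ 3 = 1 ∨ g ^ 4 = 1 := by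
  revert g; decide +kernel

end Cfsg.Lib.Linear
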