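import Cfsg.Agent.Lib.Linear.SymPres
import Cfsg.Agent.Lib.Linear.MatEval
import Cfsg.Agent.Lib.Linear.TvConj
import Cfsg.Agent.Lib.Linear.PSL2Small

/-!
The isomorphisms `SL₃(2) ≅ PSL₂(7)` and `A₈ ≅ SL₄(2)`.
-/

namespace Cfsg.Lib.Linear

open Matrix Cfsg.Lib.Known2.TC

local notation "SL" => Matrix.SpecialLinearGroup
local notation "PSL" => Matrix.ProjectiveSpecialLinearGroup

section general
variable {ι : Type} [Fintype ι] [DecidableEq ι] {F : Type*} [Field F]

theorem card_SL_fin [Finite F] (n : ℕ) : (Nat.card F - 1) * Nat.card (SL (Fin (n + 1)) F) =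
    ∏ i : Fin (n + 1), (Nat.card F ^ (n + 1) - Nat.card F ^ (i : ℕ)) := by
  rw [card_SL_aux, card_GL, Fintype.card_fin]

/-- `SL ≅ PSL` when `gcd(n, q - 1) = 1`. -/
theorem nonempty_sl_equiv_psl [Finite F] [Nonempty ι]
    (h : Nat.gcd (Fintype.card ι) (Nat.card F - 1) = 1) : Nonempty (SL ι F ≃* PSL ι F) := by
  have : Subgroup.center (SL ι F) = ⊥ := by
    rw [← Subgroup.card_eq_one, card_center_SL, h]
  exact ⟨QuotientGroup.quotientBot.symm.trans (QuotientGroup.quotientMulEquivOfEq this.symm)⟩

/-- `SL ≅ GL` over the field with two elements. -/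
theorem toGL_bijective_of_card_two (h : Nat.card F = 2) :
    Function.Bijective (SpecialLinearGroup.toGL : SL ι F →* GL ι F) := by
  haveI : Finite F := Nat.finite_of_card_ne_zero (by omega)
  refine ⟨SpecialLinearGroup.toGL_injective, fun g => exists_toGL_eq_of_det ?_⟩
  have : Nat.card Fˣ = 1 := by rw [card_units_eq, h]
  exact (Nat.card_eq_one_iff_unique.1 this).1.elim _ _

theorem sl_isSimpleGroup_of_card_two [Nontrivial ι] (h : Nat.card F = 2) (hι : 3 ≤ Fintype.card ι) :
    IsSimpleGroup (SL ι F) := by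
  haveI : Finite F := Nat.finite_of_card_ne_zero (by omega)
  obtain ⟨e⟩ := nonempty_sl_equiv_psl (ι := ι) (F := F) (by simp [h])
  haveI := psl_isSimpleGroup (ι := ι) (F := F) (Or.inl hι)
  exact e.isSimpleGroup

end general

theorem card_SL_three_two : Nat.card (SL (Fin 3) (ZMod 2)) = 168 := by
  have := card_SL_fin (F := ZMod 2) 2
  rw [Nat.card_zmod] at this
  exact (one_mul _).symm.trans (this.trans (by decide))

theorem card_SL_four_two : Nat.card (SL (Fin 4) (ZMod 2)) = 20160 := by
  have := card_SL_fin (F := ZMod 2) 3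
  rw [Nat.card_zmod] at this
  exact (one_mul _).symm.trans (this.trans (by decide))

theorem card_A8 : Nat.card (alternatingGroup (Fin 8)) = 20160 := by
  rw [nat_card_alternatingGroup]; simp; rfl

def tl27_st0 : List ℕ := [8, 524296, 1048584, 270008353, 524304, 1048592, 270008369, 24, 32, 40, 48, 524344, 1048632, 270008417, 524352, 1048640, 270008433, 524360, 1048648, 270008449, 524368, 1048656, 270008465, 88, 96, 104, 112, 120, 128, 136, 144, 524440, 1048728, 270008545, 524448, 1048736, 270008561, 524456, 1048744, 270008577, 524464, 1048752, 270008593, 524472, 1048760, 270008609, 524480, 1048768, 270008625, 524488, 1048776, 270008641, 524496, 1048784, 270008657, 216, 224, 232, 240, 248, 256, 264, 272, 280, 136315161, 288, 296, 304, 312, 320, 328, 336, 1746928081, 1048920, 270008793, 524640, 1048928, 270008809, 524648, 1048936, 270008825, 524656, 1048944, 270008841, 524664, 270532857, 1048952, 270008857, 524672, 1048960, 270008873, 524680, 1048968, 270008889, 524688, 135790993, 524704, 1048992,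 270008913, 524712, 1049000, 539492481, 270008929, 524720, 1049008, 270008945, 524728, 270532921, 1049016, 270008961, 524736, 271057217, 1049024, 270008977, 524744, 1049032, 270008993, 472, 480, 488, 496, 512, 536, 552, 560, 568, 136839737, 576, 584, 592, 600, 616, 640, 656, 664, 672, 136839841, 524968, 1049256, 270009153, 524976, 135791281, 524984, 1049272, 270009177, 524992, 270533105, 1049280, 270009193, 525000, 1049288, 270009209, 525008, 1049296, 270009225, 525016, 1049304, 270009241, 525024, 270533169, 1049312, 270009257, 525040, 1049328, 270009273, 525048, 135791353, 525056, 1049344, 270009297, 525064, 270533209, 1049352, 270009313, 525072, 1049360, 270009329, 525080, 1049368, 270009345, 525088, 1049376, 270009361, 525096, 270533273, 1049384, 270009377, 824, 832, 840, 848, 872, 880, 888, 136840057, 896, 904, 912, 936, 944]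
def tl27_st1 : List ℕ := [952, 136840121, 960, 968, 405275217, 992, 1746928801, 1000, 136315881, 1008, 136840177, 1016, 405275265, 1024, 1746928833, 1032, 136315913, 1056, 136840225, 525352, 135791657, 1049648, 270009569, 525368, 270533449, 1049656, 270009585, 525376, 135791681, 525384, 135791689, 1049680, 270009609, 525408, 135791713, 525416, 135791721, 270533513, 1049712, 539492905, 270009633, 1049720, 539493273, 270009641, 525440, 135791745, 270533553, 525456, 270533569, 1049744, 539492937, 270009665]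
def tl27_steps : List ℕ := tl27_st0 ++ tl27_st1
def tl27_rels : List (List ℕ) := [[0, 0], [1, 2], [2, 1], [1, 1, 1], [0, 1, 0, 1, 0, 1, 0, 1, 0, 1, 0, 1, 0, 1], [0, 1, 0, 2, 0, 1, 0, 2, 0, 1, 0, 2, 0, 1, 0, 2]]
def tl27_subs : List (List ℕ) := []
def tl27_al : ℕ := 0xa800a700a600a500a400a300a200a100a0009f009e009d009c009b009a0099009800970096009500940093009200910090008f008e008d008c008b008a0089008800870086008500840083008200810080007f007e007d007c007b007a0079007800770076007500740073007200710070006f006e006d006c006b006a0069006800670066006500640063006200610060005f005e005d005c005b005a0059005800570056005500540053005200510050004f004e004d004c004b004a0049004800470046004500440043004200410040003f003e003d003c003b003a0039003800370036003500340033003200310030002f002e002d002c002b002a0029002800270026002500240023002200210020001f001e001d001c001b001a0019001800170016001500140013001200110010000f000e000d000c000b000a000900080007000600050004000300020001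
def tl27_ft : ℕ := 0xa60091009a009100a700a1008f0095009d0092008e009e0097008d00a0008c0098009f008b009000a60093008900a30088009400a20087009900a4009c008600a50086009d009b00960085009c0084008a00a7009e0087008300a2008c0080008d00a3007f0085009b007e00a5008f007d009f0088007c008900a0007b008e00a4007800a700a6007700a1008b0076009500a5007500a40092007400a300970071009800a20070009000a1006f009a0084006e00a00093006d0094009f006c0099009e0069009d009c0068009b00960067008a009a0066008200640099006400830081008000630082006300810098007e006200970062007f0096007c006100950061007d0094007a006000930060007b00790078005f007a005f00790092005e006500910075005d0090005d0076008f0073005b008e005b007400720071005a0073005a0072008d006f0059008c00590070008b006d0058008a0058006e0089006b005700880057006c006a00690056006b0056006a00870055005c00860066005400850054006700840077005e0053008300820052008100800051007f007e004f007d007c004c007b007a004a0079007800490065007700480076007500470068005500460074007300450072007100440070006f0042006e006d003f006c006b003d006a0069003c005c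0068003b00670066003a005200380065003800530064005000370063003700510043004e003600620036004f004d004c0035004e0035004d0061004a0034003e0034004b006000480033005f00330049005e00310032005d00450030005c00300046005b0043002f005a002f004400500041002e0059002e00420040003f002d0041002d00400058003d002c004b002c003e0057003b002b0056002b003c00550039002a0054002a003a0029005300520028005100500027004f004e0026004d004c0025004b004a002400490048002300470031002200320047002100460045002000440043001f00420041001e0040003f001d003e003d001c003c003b001b003a0039001a002800190039001900290038002600180037001800270036002400170035001700250034002200160033001600230032002000150031001500210030001e0014002f0014001f002e001c0013002d0013001d002c001a0012002b0012001b002a00290028001100270026001000250024000f00230022000e00210020000d001f001e000c001d001c000b001b001a000a001000090019000900110018000e000800170008000f0016000c000700150007000d0014000a000600130006000b0012001100100005000f000e0004000d000c0003000b000a0002000400010009000100050008000200000007000000030006000500040000000300020001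

theorem tl27_check : check 3 iv3 tl27_rels [] tl27_steps 168 (get tl27_al) (tab 3 tl27_ft) = true := by
  decide +kernel

/-- Generators of `SL₃(2)`. -/
def l32x : SL (Fin 3) (ZMod 2) := ⟨!![1, 1, 0; 0, 1, 0; 0, 0, 1], by decide⟩
/-- Generators of `SL₃(2)`. -/
def l32y : SL (Fin 3) (ZMod 2) := ⟨!![0, 0, 1; 1, 0, 0; 0, 1, 0], by decide⟩

theorem l32_matL : [l32x, l32y, l32y⁻¹].map (fun x => x.1) =
    [[[1, 1, 0], [0, 1, 0], [0, 0, 1]], [[0, 0, 1], [1, 0, 0], [0, 1, 0]],
      [[0, 1, 0], [0, 0, 1], [1, 0, 0]]].map (matL 3) := by decide +kernel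

theorem closure_l32 : Subgroup.closure ((fun s => [l32x, l32y, l32y⁻¹].getD s 1) '' {s | s < 3}) = ⊤ := by
  refine sl_eq_top_of_transvection_mem _ fun i j hij c => ?_
  have : ∀ (i j : Fin 3) (hij : i ≠ j) (c : ZMod 2), ∃ w ∈ [[], [0], [0, 1, 0, 2, 0, 1, 0, 2],
      [1, 0, 1, 0, 2, 0, 1, 0, 1], [1, 0, 2], [2, 0, 1], [0, 2, 0, 1, 0, 2, 0, 1]],
      (∀ s ∈ w, s < 3) ∧ matL 3 (evL 3 (fun s => [[[1, 1, 0], [0, 1, 0], [0, 0, 1]],
        [[0, 0, 1], [1, 0, 0], [0, 1, 0]], [[0, 1, 0], [0, 0, 1], [1, 0, 0]]].getD s (scalL 3 1)) w) =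
        (SpecialLinearGroup.transvection hij c).1 := by decide +kernel
  obtain ⟨w, -, hw, e⟩ := this i j hij c
  exact sl_ev_eq l32_matL e ▸ ev_mem_closure _ hw

/-- The presentation `⟨x, y | x², y³, (xy)⁷, [x, y]⁴⟩` of `SL₃(2)`. -/
theorem exists_hom_SL32 {G : Type*} [Group G] {x y : G} (hx : x * x = 1) (hy : y ^ 3 = 1)
    (hxy : (x * y) ^ 7 = 1) (hc : (x * y * x * y⁻¹) ^ 4 = 1) :
    ∃ φ : SL (Fin 3) (ZMod 2) →* G, φ l32x = x ∧ φ l32y = y := by
  obtain ⟨φ, hφ⟩ := exists_hom tl27_check card_SL_three_two.ge (by norm_num)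
    (fun s => [l32x, l32y, l32y⁻¹].getD s 1) closure_l32 (tri_iv (by decide +kernel))
    (fun r hr => sl_ev_eq_one l32_matL (by revert r; decide +kernel))
    (fun s => [x, y, y⁻¹].getD s 1) (tri_iv hx) (by
      simp only [pow_succ, pow_zero, one_mul, mul_assoc] at *
      simp [tl27_rels, *])
  exact ⟨φ, hφ 0 (by norm_num), hφ 1 (by norm_num)⟩

theorem psl2_mk_neg_one {R : Type*} [CommRing R] : ((-1 : SL (Fin 2) R) : PSL (Fin 2) R) = 1 :=
  (QuotientGroup.eq_one_iff _).2 (Subgroup.mem_center_iff.2 fun g => Subtype.ext (by simp))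

instance factPrimeSeven : Fact (Nat.Prime 7) := ⟨by norm_num⟩

theorem nonempty_SL32_equiv_PSL27 : Nonempty (SL (Fin 3) (ZMod 2) ≃* PSL (Fin 2) (ZMod 7)) := by
  let x : SL (Fin 2) (ZMod 7) := ⟨!![0, 6; 1, 0], by decide⟩
  let y : SL (Fin 2) (ZMod 7) := ⟨!![0, 1; 6, 1], by decide⟩
  have h : [x, y, y⁻¹].map (fun x => x.1) =
      [[[0, 6], [1, 0]], [[0, 1], [6, 1]], [[1, 6], [1, 0]]].map (matL 2) := by decide +kernel
  obtain ⟨φ, hx, -⟩ := exists_hom_SL32 (G := PSL (Fin 2) (ZMod 7)) (x := x) (y := y)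
    (by simpa using psl_ev_eq_one h (w := [0, 0]) (-1) (by decide +kernel))
    (by simpa [pow_succ, mul_assoc] using psl_ev_eq_one h (w := [1, 1, 1]) (-1) (by decide +kernel))
    (by simpa [pow_succ, mul_assoc] using
      psl_ev_eq_one h (w := [0, 1, 0, 1, 0, 1, 0, 1, 0, 1, 0, 1, 0, 1]) 1 (by decide +kernel))
    (by simpa [pow_succ, mul_assoc] using
      psl_ev_eq_one h (w := [0, 1, 0, 2, 0, 1, 0, 2, 0, 1, 0, 2, 0, 1, 0, 2]) (-1) (by decide +kernel))
  haveI := sl_isSimpleGroup_of_card_two (ι := Fin 3) (F := ZMod 2) (by simp) (by simp)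
  have hi := injective_of_simple φ (v := l32x) (by
    rw [hx, Ne, QuotientGroup.eq_one_iff]
    exact fun h => absurd (Subgroup.mem_center_iff.1 h y) (by decide +kernel))
  have hc := card_PSL_two_of_odd (F := ZMod 7) (by simp; decide)
  rw [Nat.card_zmod] at hc
  exact ⟨MulEquiv.ofBijective φ (hi.bijective_of_nat_card_le (by rw [card_SL_three_two]; omega))⟩

/-- The images of the three-cycles `(0 1 i)` in `SL₄(2)`. -/
def a8gen : Fin 8 → SL (Fin 4) (ZMod 2) := ![1, 1,
  ⟨!![1, 0, 0, 1; 0, 1, 1, 0; 0, 1, 0, 0; 1, 0, 0, 0], by decide +kernel⟩,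
  ⟨!![1, 0, 1, 1; 0, 1, 0, 1; 1, 1, 0, 0; 0, 1, 0, 0], by decide +kernel⟩,
  ⟨!![1, 0, 1, 0; 0, 1, 1, 1; 1, 0, 0, 0; 1, 1, 0, 0], by decide +kernel⟩,
  ⟨!![0, 0, 0, 1; 0, 0, 1, 1; 1, 1, 1, 0; 1, 0, 0, 1], by decide +kernel⟩,
  ⟨!![0, 0, 1, 0; 0, 0, 0, 1; 1, 0, 1, 0; 0, 1, 0, 1], by decide +kernel⟩,
  ⟨!![0, 0, 1, 1; 0, 0, 1, 0; 0, 1, 1, 0; 1, 1, 0, 1], by decide +kernel⟩]

/-- The matrices of `a8gen` as lists of rows. -/
def a8genL : List (List (List (ZMod 2))) := [scalL 4 1, scalL 4 1,
  [[1, 0, 0, 1], [0, 1, 1, 0], [0, 1, 0, 0], [1, 0, 0, 0]],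
  [[1, 0, 1, 1], [0, 1, 0, 1], [1, 1, 0, 0], [0, 1, 0, 0]],
  [[1, 0, 1, 0], [0, 1, 1, 1], [1, 0, 0, 0], [1, 1, 0, 0]],
  [[0, 0, 0, 1], [0, 0, 1, 1], [1, 1, 1, 0], [1, 0, 0, 1]],
  [[0, 0, 1, 0], [0, 0, 0, 1], [1, 0, 1, 0], [0, 1, 0, 1]],
  [[0, 0, 1, 1], [0, 0, 1, 0], [0, 1, 1, 0], [1, 1, 0, 1]]]

theorem a8gen_matL : (List.ofFn a8gen).map (fun x => x.1) = a8genL.map (matL 4) := by
  decide +kernel

theorem a8gen_getD (i : Fin 8) : (List.ofFn a8gen).getD i 1 = a8gen i := by
  fin_cases i <;> rfl

theorem carm_a8gen : Carm (fun i : {i : Fin 8 // i ≠ 0 ∧ i ≠ 1} => a8gen i) Set.univ := by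
  refine ⟨fun i _ => ?_, fun i _ j _ hij => ?_⟩
  · have := sl_ev_eq_one a8gen_matL (w := [i.1, i.1, i.1]) (by revert i; decide +kernel)
    simpa only [ev_cons, ev_nil, a8gen_getD, pow_succ, pow_zero, mul_one, one_mul, mul_assoc]
      using this
  · have := sl_ev_eq_one a8gen_matL (w := [i.1, j.1, i.1, j.1]) (by revert i j; decide +kernel)
    simpa only [ev_cons, ev_nil, a8gen_getD, pow_succ, pow_zero, mul_one, one_mul, mul_assoc]
      using this

/-- `A₈ ≅ SL₄(2)`, with explicit images of the three-cycles `(0 1 i)`. -/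
theorem exists_A8_equiv_SL42 : ∃ e : alternatingGroup (Fin 8) ≃* SL (Fin 4) (ZMod 2),
    ∀ i, e (altCyc (a := 0) (b := 1) (by decide) i) = a8gen i := by
  obtain ⟨φ, hφ⟩ := exists_hom_carmichael (α := Fin 8) (a := 0) (b := 1) (by decide)
    (fun i => a8gen i) carm_a8gen
  haveI := alternatingGroup.isSimpleGroup (α := Fin 8) (by simp)
  have hi := injective_of_simple φ (v := altCyc (a := 0) (b := 1) (by decide) ⟨2, by decide⟩)
    (by rw [hφ]; decide +kernel)
  exact ⟨MulEquiv.ofBijective φ (hi.bijective_of_nat_card_le (by rw [card_SL_four_two, card_A8])),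
    hφ⟩

variable {F K : Type*} [Field F] [Finite F] [Field K] [Finite K]

theorem psl2_seven_equiv (hF : Nat.card F = 7) (hK : Nat.card K = 2) :
    Nonempty (PSL (Fin 2) F ≃* PSL (Fin 3) K) := by
  obtain ⟨e1⟩ := nonempty_psl_equiv_of_card_eq (ι := Fin 2) (hF.trans (Nat.card_zmod 7).symm)
  obtain ⟨e2⟩ := nonempty_SL32_equiv_PSL27
  obtain ⟨e3⟩ := nonempty_sl_equiv_of_card_eq (ι := Fin 3) (hK.trans (Nat.card_zmod 2).symm)
  obtain ⟨e4⟩ := nonempty_sl_equiv_psl (ι := Fin 3) (F := K) (by simp [hK])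
  exact ⟨e1.trans (e2.symm.trans (e3.symm.trans e4))⟩

theorem sl4_two_equiv (hF : Nat.card F = 2) :
    Nonempty (SL (Fin 4) F ≃* alternatingGroup (Fin 8)) := by
  obtain ⟨e2, -⟩ := exists_A8_equiv_SL42
  obtain ⟨e3⟩ := nonempty_sl_equiv_of_card_eq (ι := Fin 4) (hF.trans (Nat.card_zmod 2).symm)
  exact ⟨e3.trans e2.symm⟩

theorem psl4_two_equiv (hF : Nat.card F = 2) :
    Nonempty (PSL (Fin 4) F ≃* alternatingGroup (Fin 8)) := by
  obtain ⟨e3⟩ := sl4_two_equiv hF
  obtain ⟨e4⟩ := nonempty_sl_equiv_psl (ι := Fin 4) (F := F) (by simp [hF])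
  exact ⟨e4.symm.trans e3⟩

theorem gl4_two_equiv (hF : Nat.card F = 2) :
    Nonempty (GL (Fin 4) F ≃* alternatingGroup (Fin 8)) := by
  obtain ⟨e3⟩ := sl4_two_equiv hF
  exact ⟨(MulEquiv.ofBijective _ (toGL_bijective_of_card_two hF)).symm.trans e3⟩

end Cfsg.Lib.Linear
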