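import Cfsg.Agent.Lib.Linear.TvSub

/-! The regular unipotent Jordan block. -/

set_option autoImplicit false

namespace Cfsg.Lib.Linear

open Matrix Module

variable {n : ℕ} {F : Type*} [Field F]

local notation "SL" => Matrix.SpecialLinearGroup

/-- The nilpotent Jordan block. -/
def shM (n : ℕ) (F : Type*) [Field F] : Matrix (Fin n) (Fin n) F := of fun i j => if j.val = i.val + 1 then 1 else 0

theorem vecMul_shM_pow (k : ℕ) (φ : Fin n → F) (j : Fin n) :
    (φ ᵥ* shM n F ^ k) j = if h : k ≤ j.val then φ ⟨j.val - k, by omega⟩ else 0 := by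
  induction k generalizing j with
  | zero => simp
  | succ k ih =>
    rw [pow_succ, ← vecMul_vecMul, vecMul, dotProduct]
    simp only [ih]
    simp only [shM, of_apply]
    by_cases h : j.val = 0
    · rw [dif_neg (by omega)]; exact Finset.sum_eq_zero fun i _ => by rw [if_neg (by omega), mul_zero]
    · rw [Finset.sum_eq_single ⟨j.val - 1, by omega⟩ (fun i _ hi => by
        rw [if_neg fun e => hi (Fin.ext (by simp; omega)), mul_zero]) (by simp), if_pos (by simp; omega), mul_one]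
      by_cases h' : k + 1 ≤ j.val
      · rw [dif_pos h', dif_pos (by simp; omega)]; congr 2; simp; omega
      · rw [dif_neg h', dif_neg (by simp; omega)]

theorem vecMul_shM (φ : Fin n → F) (j : Fin n) :
    (φ ᵥ* shM n F) j = if h : 1 ≤ j.val then φ ⟨j.val - 1, by omega⟩ else 0 := by
  simpa using vecMul_shM_pow 1 φ j

theorem shM_pow_eq_zero : shM n F ^ n = 0 := by
  ext i j
  have := vecMul_shM_pow n (Pi.single i (1 : F)) j
  rwa [dif_neg (by omega), single_one_vecMul] at this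

theorem shM_pow_ne_zero (hn : 0 < n) : shM n F ^ (n - 1) ≠ 0 := fun h => by
  have := vecMul_shM_pow (n - 1) (fun _ : Fin n => (1 : F)) ⟨n - 1, by omega⟩
  simp [h] at this

/-- The unipotent Jordan block. -/
def jSL (n : ℕ) (F : Type*) [Field F] : SL (Fin n) F := ⟨1 + shM n F, by
  rw [det_of_isUpperTriangular fun i j (h : j < i) => by
    simp [shM, one_apply_ne h.ne']; omega]
  simp [shM]⟩

theorem coe_jSL : (jSL n F).1 = 1 + shM n F := rfl

theorem jSL_reg (hn : 0 < n) : IsNilpotent ((jSL n F).1 - 1) ∧ ((jSL n F).1 - 1) ^ (n - 1) ≠ 0 := by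
  rw [coe_jSL, add_sub_cancel_left]; exact ⟨⟨n, shM_pow_eq_zero⟩, shM_pow_ne_zero hn⟩

theorem reg_conj {u : SL (Fin n) F} (h : IsNilpotent (u.1 - 1) ∧ (u.1 - 1) ^ (n - 1) ≠ 0) (g : SL (Fin n) F) :
    IsNilpotent ((g * u * g⁻¹).1 - 1) ∧ ((g * u * g⁻¹).1 - 1) ^ (n - 1) ≠ 0 := by
  have e : ∀ k, ((g * u * g⁻¹).1 - 1) ^ k = g.1 * (u.1 - 1) ^ k * g⁻¹.1 := fun k => by
    induction k with
    | zero => simpa using (sl_coe_mul_inv g).symm
    | succ k ih =>
      rw [pow_succ, ih, pow_succ, sl_coe_mul, sl_coe_mul, mul_sub, mul_sub, mul_sub, sub_mul]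
      simp only [mul_assoc, mul_one]
      rw [← mul_assoc g⁻¹.1, sl_coe_inv_mul, one_mul]
  obtain ⟨⟨k, hk⟩, h⟩ := h
  refine ⟨⟨k, by rw [e, hk, mul_zero, zero_mul]⟩, fun c => h ?_⟩
  have := congrArg (g⁻¹.1 * · * g.1) ((e _).symm.trans c)
  simp only [mul_assoc, sl_coe_inv_mul, mul_one, mul_zero, zero_mul] at this
  rwa [← mul_assoc, sl_coe_inv_mul, one_mul] at this

variable {A : AddSubgroup (Fin (n + 2) → F)}

theorem vecMul_shM_pow_mem (hA : ∀ φ ∈ A, φ ᵥ* shM _ F ∈ A) {φ : Fin (n + 2) → F} (h : φ ∈ A) (k : ℕ) :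
    φ ᵥ* shM _ F ^ k ∈ A := by
  induction k with
  | zero => simpa
  | succ k ih => rw [pow_succ, ← vecMul_vecMul]; exact hA _ ih

theorem single_last_mem (hA : ∀ φ ∈ A, φ ᵥ* shM _ F ∈ A) {φ : Fin (n + 2) → F} (h : φ ∈ A) {j : Fin (n + 2)}
    (hj : ∀ i < j, φ i = 0) : Pi.single (Fin.last _) (φ j) ∈ A := by
  convert vecMul_shM_pow_mem hA h (n + 1 - j.val) using 1
  ext i
  rw [vecMul_shM_pow]
  by_cases e : i = Fin.last _
  · subst e; rw [Pi.single_eq_same, dif_pos (by simp)]; congr 1; ext; simp; omega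
  · rw [Pi.single_eq_of_ne e]
    split_ifs with c
    · exact (hj _ (by have := Fin.val_lt_last e; rw [Fin.lt_def]; simp; omega)).symm
    · rfl

theorem mem_of_lead (hA : ∀ φ ∈ A, φ ᵥ* shM _ F ∈ A) (h : ∀ c, ∃ φ ∈ A, φ 0 = 0 ∧ φ 1 = c) (ψ : Fin (n + 2) → F)
    (hψ : ψ 0 = 0) : ψ ∈ A := by
  have key : ∀ d k, k + d = n + 1 → ∀ ψ : Fin (n + 2) → F, (∀ i, i.val ≤ k → ψ i = 0) → ψ ∈ A := fun d => by
    induction d with
    | zero => exact fun k e ψ hψ => (funext fun i => hψ i (by omega) : ψ = 0) ▸ zero_mem A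
    | succ d ih =>
      intro k e ψ hψ
      obtain ⟨φ, a, b, c⟩ := h (ψ ⟨k + 1, by omega⟩)
      have := add_mem (ih (k + 1) (by omega) (ψ - φ ᵥ* shM _ F ^ k) fun i hi => ?_) (vecMul_shM_pow_mem hA a k)
      · simpa using this
      rw [Pi.sub_apply, vecMul_shM_pow]
      split_ifs with d
      · by_cases e : i.val = k + 1
        · rw [show (⟨i.val - k, _⟩ : Fin (n + 2)) = 1 from Fin.ext (by simp; omega), c, sub_eq_zero]; congr 1; exact Fin.ext e
        · rw [hψ i (by omega), show (⟨i.val - k, _⟩ : Fin (n + 2)) = 0 from Fin.ext (by simp; omega), b, sub_zero]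
      · rw [hψ i (by omega), sub_zero]
  exact key (n + 1) 0 (by simp) ψ fun i hi => by rwa [show i = 0 from Fin.ext (by simpa using hi)]

theorem jSL_mulVec_zero : (jSL (n + 1) F).1 *ᵥ Pi.single 0 1 = Pi.single 0 1 := by
  ext i; simp [coe_jSL, add_mulVec, shM, one_apply, Pi.single_apply]

theorem tvA_shM {H : Subgroup (SL (Fin (n + 2)) F)} (hu : jSL _ F ∈ H) :
    ∀ φ ∈ tvA H (Pi.single 0 1), φ ᵥ* shM _ F ∈ tvA H (Pi.single 0 1) := fun φ h => by
  have := sub_mem ((tvA_conj (v := Pi.single 0 1) hu).1 (by rwa [jSL_mulVec_zero])) h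
  simpa [coe_jSL, vecMul_add] using this

/-- A lower triangular conjugate of the Jordan block. -/
theorem exists_lower_conj : ∃ (g : SL (Fin n) F) (d : Fin n → F), (∀ i, d i ≠ 0) ∧
    (g * jSL n F * g⁻¹).1 = 1 + of fun i j => if i.val = j.val + 1 then d i * d j else 0 := by
  rcases n with - | n
  · exact ⟨1, 1, by simp, Subsingleton.elim _ _⟩
  let s : F := ((Equiv.Perm.sign (Fin.revPerm : Equiv.Perm (Fin (n + 1))) : ℤ) : F)
  have hs : s * s = 1 := by rw [← Int.cast_mul, ← Units.val_mul, Int.units_mul_self]; simp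
  let d : Fin (n + 1) → F := Function.update 1 0 s
  have hd : ∀ i, d i * d i = 1 := fun i => by by_cases e : i = 0 <;> simp [d, e, hs]
  let g : SL (Fin (n + 1)) F := ⟨diagonal d * (Fin.revPerm : Equiv.Perm (Fin (n + 1))).permMatrix F, by
    rw [det_mul, det_diagonal, det_permutation, Finset.prod_update_of_mem (by simp)]; simpa using hs⟩
  refine ⟨g, d, fun i e => by simpa [e] using hd i, ?_⟩
  have : g.1 * shM _ F = (of fun i j => if i.val = j.val + 1 then d i * d j else 0) * g.1 := by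
    simp only [g]
    rw [mul_assoc, ← mul_assoc _ (diagonal d), Equiv.Perm.permMatrix, PEquiv.toMatrix_toPEquiv_mul,
      PEquiv.mul_toMatrix_toPEquiv]
    ext i j
    simp only [diagonal_mul, mul_diagonal, submatrix_apply, of_apply, shM, id, Fin.revPerm_apply, Fin.revPerm_symm, Fin.val_rev]
    split_ifs <;> first | omega | simp [mul_assoc, hd]
  rw [sl_coe_mul, sl_coe_mul, coe_jSL, mul_add, add_mul, this, mul_one, sl_coe_mul_inv, mul_assoc, sl_coe_mul_inv, mul_one]

end Cfsg.Lib.Linear
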