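import Cfsg.Agent.Lib.Linear.LevCh
import Cfsg.Agent.Lib.Linear.RegUnip

/-! Lev's theorem: products of two regular unipotent elements. -/

set_option autoImplicit false

namespace Cfsg.Lib.Linear.Lev
open Module Submodule Cfsg.Lib.Known

universe u

section blk
variable {K : Type*} [Field K] {X W V : Type*} [AddCommGroup X] [Module K X] [AddCommGroup W]
  [Module K W] [AddCommGroup V] [Module K V]

/-- block endomorphisms -/
def blk (a : End K X) (b : W →ₗ[K] X) (c : X →ₗ[K] W) (d : End K W) : End K (X × W) :=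
  (a.coprod b).prod (c.coprod d)

@[simp] theorem blk_apply (a : End K X) (b : W →ₗ[K] X) (c : X →ₗ[K] W) (d : End K W) (p : X × W) :
    blk a b c d p = (a p.1 + b p.2, c p.1 + d p.2) := rfl

theorem blk_mul (a a' : End K X) (b b' : W →ₗ[K] X) (c c' : X →ₗ[K] W) (d d' : End K W) :
    blk a b c d * blk a' b' c' d' =
      blk (a * a' + b ∘ₗ c') (a ∘ₗ b' + b ∘ₗ d') (c ∘ₗ a' + d ∘ₗ c') (c ∘ₗ b' + d * d') := by
  refine LinearMap.ext fun p => Prod.ext ?_ ?_ <;> simp <;> abel

theorem blk_one : blk (1 : End K X) 0 0 (1 : End K W) = 1 := by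
  refine LinearMap.ext fun p => Prod.ext ?_ ?_ <;> simp

theorem blk_sub_smul (a : End K X) (b : W →ₗ[K] X) (c : X →ₗ[K] W) (d : End K W) (f : K) :
    blk a b c d - f • 1 = blk (a - f • 1) b c (d - f • 1) := by
  refine LinearMap.ext fun p => Prod.ext ?_ ?_ <;> simp <;> abel

theorem blk_sub_one (a : End K X) (b : W →ₗ[K] X) (c : X →ₗ[K] W) (d : End K W) :
    blk a b c d - 1 = blk (a - 1) b c (d - 1) := by
  simpa using blk_sub_smul a b c d 1

theorem blk_add_one (a : End K X) (b : W →ₗ[K] X) (c : X →ₗ[K] W) (d : End K W) :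
    blk a b c d + 1 = blk (a + 1) b c (d + 1) := by
  refine LinearMap.ext fun p => Prod.ext ?_ ?_ <;> simp <;> abel

theorem nil_up {a : End K X} (b : W →ₗ[K] X) {d : End K W} (ha : IsNilpotent a) (hd : IsNilpotent d) :
    IsNilpotent (blk a b 0 d) := by
  obtain ⟨m, hm⟩ := ha
  obtain ⟨n, hn⟩ := hd
  have h1 : ∀ k (p : X × W), ((blk a b 0 d ^ k) p).2 = (d ^ k) p.2 := fun k => by
    induction k with
    | zero => simp
    | succ k ih => intro p; rw [pow_succ', pow_succ', End.mul_apply, End.mul_apply, ← ih]; simp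
  have h2 : ∀ k (x : X), (blk a b 0 d ^ k) (x, 0) = ((a ^ k) x, 0) := fun k => by
    induction k with
    | zero => simp
    | succ k ih => intro x; rw [pow_succ', pow_succ', End.mul_apply, End.mul_apply, ih]; simp
  refine ⟨m + n, LinearMap.ext fun p => ?_⟩
  have : (blk a b 0 d ^ n) p = (((blk a b 0 d ^ n) p).1, 0) := Prod.ext rfl (by rw [h1, hn]; rfl)
  rw [pow_add, End.mul_apply, this, h2, hm]; rfl

theorem nil_lo {a : End K X} (c : X →ₗ[K] W) {d : End K W} (ha : IsNilpotent a) (hd : IsNilpotent d) :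
    IsNilpotent (blk a 0 c d) := by
  obtain ⟨m, hm⟩ := ha
  obtain ⟨n, hn⟩ := hd
  have h1 : ∀ k (p : X × W), ((blk a 0 c d ^ k) p).1 = (a ^ k) p.1 := fun k => by
    induction k with
    | zero => simp
    | succ k ih => intro p; rw [pow_succ', pow_succ', End.mul_apply, End.mul_apply, ← ih]; simp
  have h2 : ∀ k (x : W), (blk a 0 c d ^ k) (0, x) = (0, (d ^ k) x) := fun k => by
    induction k with
    | zero => simp
    | succ k ih => intro x; rw [pow_succ', pow_succ', End.mul_apply, End.mul_apply, ih]; simp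
  refine ⟨n + m, LinearMap.ext fun p => ?_⟩
  have : (blk a 0 c d ^ m) p = (0, ((blk a 0 c d ^ m) p).2) := Prod.ext (by rw [h1, hm]; rfl) rfl
  rw [pow_add, End.mul_apply, this, h2, hn]; rfl

theorem det_unip [FiniteDimensional K V] {f : End K V} (h : IsNilpotent (f - 1)) :
    LinearMap.det f = 1 := by
  classical
  let b := Module.finBasis K V
  rw [← LinearMap.det_toMatrix b]
  apply det_eq_one_of_isNilpotent_sub_one
  have := h.map (LinearMap.toMatrixAlgEquiv b)
  rwa [map_sub, map_one] at this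

variable [FiniteDimensional K X] [FiniteDimensional K W]

theorem det_diag (a : End K X) (d : End K W) :
    LinearMap.det (blk a 0 0 d) = LinearMap.det a * LinearMap.det d := by
  rw [← LinearMap.det_prodMap]
  congr 1
  refine LinearMap.ext fun p => Prod.ext ?_ ?_ <;> simp

theorem det_up (a : End K X) (b : W →ₗ[K] X) (d : End K W) :
    LinearMap.det (blk a b 0 d) = LinearMap.det a * LinearMap.det d := by
  have : blk a b 0 d = blk 1 0 0 d * blk 1 b 0 1 * blk a 0 0 1 := by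
    refine LinearMap.ext fun p => Prod.ext ?_ ?_ <;> simp
  rw [this, map_mul, map_mul, det_diag, det_diag, det_unip (f := blk 1 b 0 1)
    (by rw [blk_sub_one, sub_self, sub_self]; exact nil_up _ IsNilpotent.zero IsNilpotent.zero)]
  simp [mul_comm]

theorem det_lo (a : End K X) (c : X →ₗ[K] W) (d : End K W) :
    LinearMap.det (blk a 0 c d) = LinearMap.det a * LinearMap.det d := by
  have : blk a 0 c d = blk a 0 0 1 * blk 1 0 c 1 * blk 1 0 0 d := by
    refine LinearMap.ext fun p => Prod.ext ?_ ?_ <;> simp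
  rw [this, map_mul, map_mul, det_diag, det_diag, det_unip (f := blk 1 0 c 1)
    (by rw [blk_sub_one, sub_self, sub_self]; exact nil_lo _ IsNilpotent.zero IsNilpotent.zero)]
  simp

theorem det_schur {a t : End K X} (h : a * t = 1) (b : W →ₗ[K] X) (c : X →ₗ[K] W)
    (d : End K W) : LinearMap.det (blk a b c d) = LinearMap.det a * LinearMap.det (d - c ∘ₗ t ∘ₗ b) := by
  have h1 : ∀ x, a (t x) = x := fun x => LinearMap.congr_fun h x
  have : blk a b c d = blk a 0 c (d - c ∘ₗ t ∘ₗ b) * blk 1 (t ∘ₗ b) 0 1 := by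
    refine LinearMap.ext fun p => Prod.ext ?_ ?_ <;> simp [h1]
  rw [this, map_mul, det_lo, det_up]; simp

end blk

section split
variable {K : Type*} [Field K] {X V : Type*} [AddCommGroup X] [Module K X]
  [AddCommGroup V] [Module K V] {i : X →ₗ[K] V} {p : V →ₗ[K] X}

/-- projection onto the kernel of a retraction -/
def pk (h : ∀ a, p (i a) = a) : V →ₗ[K] LinearMap.ker p :=
  (1 - i ∘ₗ p : End K V).codRestrict _ fun y => by simp [h]

@[simp] theorem coe_pk (h : ∀ a, p (i a) = a) (y : V) : (pk h y : V) = y - i (p y) := rfl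

/-- the splitting defined by a retraction -/
def spl (h : ∀ a, p (i a) = a) : V ≃ₗ[K] X × LinearMap.ker p :=
  LinearEquiv.ofLinearMap (p.prod (pk h)) (i.coprod (LinearMap.ker p).subtype)
    (LinearMap.ext fun q => Prod.ext (by simp [h]) (Subtype.ext (by simp [h])))
    (LinearMap.ext fun y => by simp)

theorem spl_apply (h : ∀ a, p (i a) = a) (y : V) : spl h y = (p y, pk h y) := rfl

theorem spl_symm (h : ∀ a, p (i a) = a) (q : X × LinearMap.ker p) : (spl h).symm q = i q.1 + q.2 := rfl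

theorem spl_blk (h : ∀ a, p (i a) = a) (S : End K V) (y : V) :
    spl h (S y) = blk (p ∘ₗ S ∘ₗ i) (p ∘ₗ S ∘ₗ (LinearMap.ker p).subtype) (pk h ∘ₗ S ∘ₗ i)
      (pk h ∘ₗ S ∘ₗ (LinearMap.ker p).subtype) (spl h y) := by
  refine Prod.ext ?_ (Subtype.ext ?_) <;> simp [spl_apply]

theorem finrank_spl [FiniteDimensional K V] [FiniteDimensional K X] (h : ∀ a, p (i a) = a) :
    finrank K V = finrank K X + finrank K (LinearMap.ker p) := by
  rw [(spl h).finrank_eq, finrank_prod]

end split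

section lev
variable {K : Type*} [Field K] {V V' : Type*} [AddCommGroup V] [Module K V] [AddCommGroup V']
  [Module K V']

/-- factorisation into regular unipotent elements -/
def Lv (S : End K V) (v : V) (u : V →ₗ[K] K) : Prop :=
  ∃ B C : End K V, S = B * C ∧ IsNilpotent (B - 1) ∧ IsNilpotent (C - 1) ∧
    (∀ y, ∃ z, ∃ c : K, y = B z - z + c • v) ∧ ∀ y, C y = y → u y = 0 → y = 0

theorem eq_conj (e : V ≃ₗ[K] V') {S : End K V} {S' : End K V'} (h : ∀ y, e (S y) = S' (e y)) :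
    S = e.symm.conjAlgEquiv K S' := by
  ext y
  simp [LinearEquiv.conjAlgEquiv_apply, ← h]

theorem Lv.of_equiv (e : V ≃ₗ[K] V') {S : End K V} {S' : End K V'} (h : ∀ y, e (S y) = S' (e y))
    {v : V} {u : V →ₗ[K] K} (hl : Lv S' (e v) (u ∘ₗ e.symm.toLinearMap)) : Lv S v u := by
  obtain ⟨B, C, h1, h2, h3, h4, h5⟩ := hl
  refine ⟨e.symm.conjAlgEquiv K B, e.symm.conjAlgEquiv K C, by rw [eq_conj e h, h1, map_mul], ?_, ?_,
    fun y => ?_, fun y hy hu => ?_⟩
  · simpa using h2.map (e.symm.conjAlgEquiv K)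
  · simpa using h3.map (e.symm.conjAlgEquiv K)
  · obtain ⟨z, c, hz⟩ := h4 (e y)
    refine ⟨e.symm z, c, e.injective ?_⟩
    simpa [LinearEquiv.conjAlgEquiv_apply] using hz
  · refine e.injective ((h5 (e y) ?_ (by simpa using hu)).trans (map_zero e).symm)
    have := congrArg e hy
    simpa [LinearEquiv.conjAlgEquiv_apply] using this

theorem Lv.blk {b : V →ₗ[K] K} {c : K →ₗ[K] V} {d : End K V} (h : Lv (d - c ∘ₗ b) (c 1) b)
    {v : K × V} (hv : v.1 ≠ 0) {u : K × V →ₗ[K] K} (hu : u (1, 0) ≠ 0) : Lv (blk 1 b c d) v u := by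
  obtain ⟨B, C, h1, h2, h3, h4, h5⟩ := h
  have hc : ∀ t : K, c t = t • c 1 := fun t => by rw [← map_smul]; simp
  refine ⟨Lev.blk 1 0 c B, Lev.blk 1 b 0 C, ?_, ?_, ?_, fun y => ?_, fun y hy hu' => ?_⟩
  · rw [blk_mul, ← h1]; exact LinearMap.ext fun p => Prod.ext (by simp) (by simp)
  · rw [blk_sub_one, sub_self]; exact nil_lo _ IsNilpotent.zero h2
  · rw [blk_sub_one, sub_self]; exact nil_up _ IsNilpotent.zero h3
  · obtain ⟨z, t, hz⟩ := h4 (y.2 - (y.1 / v.1) • v.2)
    refine ⟨(t, z), y.1 / v.1, Prod.ext (by simp [hv]) ?_⟩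
    simp only [blk_apply, Prod.snd_add, Prod.snd_sub, Prod.smul_snd, hc t]
    linear_combination (norm := module) hz
  · have e1 := congrArg Prod.fst hy
    have e2 := congrArg Prod.snd hy
    simp only [blk_apply, End.one_apply, add_eq_left, LinearMap.zero_apply, zero_add] at e1 e2
    have h0 := h5 _ e2 e1
    have : y = y.1 • ((1, 0) : K × V) := Prod.ext (by simp) (by simp [h0])
    rw [this, map_smul, smul_eq_mul] at hu'
    rw [this, (mul_eq_zero.1 hu').resolve_right hu, zero_smul]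

/-- non-scalar and not a transvection -/
def Good (S : End K V) : Prop := 2 ≤ finrank K V → (¬ ∃ c : K, ∀ y, S y = c • y) ∧ ¬ Rk1 S

theorem sq_of_rk1 [FiniteDimensional K V] {S : End K V} (h : Rk1 S) (hd : LinearMap.det S = 1) :
    ∃ (f : V →ₗ[K] K) (w : V), f w = 0 ∧ ∀ y, S y = y + f y • w := by
  obtain ⟨w, hw⟩ := h
  by_cases h0 : w = 0
  · refine ⟨0, 0, rfl, fun y => ?_⟩
    obtain ⟨c, hc⟩ := hw y
    rw [h0, smul_zero, sub_eq_zero] at hc
    simp [hc]
  obtain ⟨ψ, hz, -⟩ := Submodule.exists_le_ker_of_notMem (p := (⊥ : Submodule K V)) (v := w) h0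
  have key : ∀ y, S y = y + ((ψ w)⁻¹ • ψ ∘ₗ (S - 1)) y • w := fun y => by
    obtain ⟨c, hc⟩ := hw y
    have : ((ψ w)⁻¹ • ψ ∘ₗ (S - 1)) y = c := by
      show (ψ w)⁻¹ • ψ (S y - y) = c
      rw [hc, map_smul, smul_eq_mul, smul_eq_mul]; field_simp
    rw [this, ← hc]; abel
  refine ⟨_, w, ?_, key⟩
  have : S = LinearMap.transvection ((ψ w)⁻¹ • ψ ∘ₗ (S - 1)) w := LinearMap.ext key
  rw [this, LinearMap.transvection.det] at hd
  linear_combination hd

theorem inj_of_det [FiniteDimensional K V] {S : End K V} (hd : LinearMap.det S ≠ 0) (y : V)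
    (hy : S y = 0) : y = 0 := by
  have := (LinearMap.isUnit_iff_ker_eq_bot S).1 ((LinearMap.isUnit_iff_isUnit_det S).2 hd.isUnit)
  exact LinearMap.ker_eq_bot'.1 this y hy

/-- One step of the reduction. -/
theorem step1 [FiniteDimensional K V] (S : End K V) {x : V} {φ : V →ₗ[K] K} (h1 : φ x = 1)
    (h2 : φ (S x) = 1) : ∃ (e : V ≃ₗ[K] K × LinearMap.ker φ) (b : LinearMap.ker φ →ₗ[K] K)
      (c : K →ₗ[K] LinearMap.ker φ) (d : End K (LinearMap.ker φ)),
      (∀ y, e (S y) = blk 1 b c d (e y)) ∧ (∀ y, (e y).1 = φ y) ∧ e.symm (1, 0) = x ∧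
      (∀ w, b w = φ (S w)) ∧ (c 1 : V) = S x - x ∧
      (∀ w, ((d - c ∘ₗ b : End K _) w : V) = sch S x φ w) ∧
      LinearMap.det (d - c ∘ₗ b) = LinearMap.det S ∧
      finrank K V = finrank K (LinearMap.ker φ) + 1 := by
  have h : ∀ a : K, φ (LinearMap.toSpanSingleton K V x a) = a := fun a => by simp [h1]
  have ha : φ ∘ₗ S ∘ₗ LinearMap.toSpanSingleton K V x = 1 := by ext; simp [h2]
  have hb := spl_blk h S
  rw [ha] at hb
  refine ⟨spl h, _, _, _, hb, fun _ => rfl, by simp [spl_symm], fun _ => rfl, by simp [h2],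
    fun w => ?_, ?_, by rw [finrank_spl h, finrank_self, add_comm]⟩
  · simp [sch_apply, h2, smul_sub]
  · rw [Sim.det ⟨spl h, hb⟩, det_schur (t := 1) (mul_one _)]
    simp [End.one_eq_id]

theorem step_good (hK : Big K) [FiniteDimensional K V] {S : End K V} (hd : LinearMap.det S = 1)
    (hn : 2 ≤ finrank K V) (hg : Good S) {v : V} (hv : v ≠ 0) {u : V →ₗ[K] K} (hu : u ≠ 0) :
    ∃ (φ : V →ₗ[K] K) (e : V ≃ₗ[K] K × LinearMap.ker φ) (b : LinearMap.ker φ →ₗ[K] K)
      (c : K →ₗ[K] LinearMap.ker φ) (d : End K (LinearMap.ker φ)),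
      (∀ y, e (S y) = blk 1 b c d (e y)) ∧ (e v).1 ≠ 0 ∧ u (e.symm (1, 0)) ≠ 0 ∧ b ≠ 0 ∧ c 1 ≠ 0 ∧
      Good (d - c ∘ₗ b) ∧ LinearMap.det (d - c ∘ₗ b) = 1 ∧
      finrank K V = finrank K (LinearMap.ker φ) + 1 := by
  obtain ⟨x, φ, a1, a2, a3, a4, a5, ⟨y, a6, a7⟩, a8⟩ :=
    choice hK (inj_of_det (hd ▸ one_ne_zero)) (hg hn).1 (hg hn).2 hv hu
  obtain ⟨e, b, c, d, b1, b2, b3, b4, b5, b6, b7, b8⟩ := step1 S a1 a2
  refine ⟨φ, e, b, c, d, b1, by rwa [b2], by rwa [b3], fun h => a7 ?_, fun h => a5 ?_, fun h => ?_,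
    b7.trans hd, b8⟩
  · rw [← b4 ⟨y, a6⟩, h]; rfl
  · rw [← b5, h]; rfl
  · obtain ⟨c1, c2⟩ := a8 (by omega)
    refine ⟨fun ⟨t, ht⟩ => c1 ⟨t, fun y hy => ?_⟩, fun h => c2 fun y hy => ?_⟩
    · rw [← b6 ⟨y, hy⟩, ht]; rfl
    · obtain ⟨f, w, f0, hf⟩ := sq_of_rk1 h (b7.trans hd)
      have : sch S x φ y - y = (f ⟨y, hy⟩ • w : LinearMap.ker φ) := by
        rw [← b6 ⟨y, hy⟩, hf]; simp
      rw [this, ← b6, hf]; simp [f0]

theorem eq_one_of_finrank [FiniteDimensional K V] {S : End K V} (h : finrank K V ≤ 1)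
    (hd : LinearMap.det S = 1) : S = 1 := by
  obtain ⟨v, hv⟩ := finrank_le_one_iff.1 h
  obtain ⟨c, hc⟩ := hv (S v)
  have hS : S = c • 1 := LinearMap.ext fun y => by
    obtain ⟨a, rfl⟩ := hv y
    simp [← hc, smul_smul, mul_comm]
  rcases Nat.le_one_iff_eq_zero_or_eq_one.1 h with h | h
  · have := finrank_zero_iff.1 h
    exact Subsingleton.elim _ _
  · rw [hS, LinearMap.det_smul, h, map_one, pow_one, mul_one] at hd
    rw [hS, hd, one_smul]

theorem lev (hK : Big K) (n : ℕ) : ∀ (V : Type u) [AddCommGroup V] [Module K V] [FiniteDimensional K V],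
    finrank K V = n + 1 → ∀ S : End K V, LinearMap.det S = 1 → Good S → ∀ v : V, v ≠ 0 →
    ∀ u : V →ₗ[K] K, u ≠ 0 → Lv S v u := by
  induction n with
  | zero =>
    intro V _ _ _ hn S hd _ v hv u hu
    have h1 := (finrank_eq_one_iff_of_nonzero' v hv).1 hn
    refine ⟨1, 1, by rw [eq_one_of_finrank hn.le hd, mul_one], by simp, by simp, fun y => ?_,
      fun y _ hy => ?_⟩
    · obtain ⟨c, hc⟩ := h1 y
      exact ⟨0, c, by simp [hc]⟩
    · by_contra h0
      refine hu (LinearMap.ext fun z => ?_)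
      obtain ⟨c, rfl⟩ := (finrank_eq_one_iff_of_nonzero' y h0).1 hn z
      simp [hy]
  | succ n ih =>
    intro V _ _ _ hn S hd hg v hv u hu
    obtain ⟨φ, e, b, c, d, b1, b2, b3, b4, b5, b6, b7, b8⟩ := step_good hK hd (by omega) hg hv hu
    exact Lv.of_equiv e b1 (Lv.blk (ih _ (by omega) _ b7 b6 _ b5 _ b4) b2 b3)

/-- regular unipotent -/
def Reg (B : End K V) : Prop := IsNilpotent (B - 1) ∧ finrank K (LinearMap.ker (B - 1)) ≤ 1

theorem Lv.reg [FiniteDimensional K V] {S : End K V} {v : V} {u : V →ₗ[K] K} (h : Lv S v u) :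
    ∃ B C : End K V, S = B * C ∧ Reg B ∧ Reg C := by
  obtain ⟨B, C, h1, h2, h3, h4, h5⟩ := h
  refine ⟨B, C, h1, ⟨h2, ?_⟩, h3, ?_⟩
  · have e1 : LinearMap.range (B - 1) ⊔ span K {v} = ⊤ := eq_top_iff.2 fun y _ => by
      obtain ⟨z, c, rfl⟩ := h4 y
      exact add_mem (mem_sup_left ⟨z, rfl⟩) (mem_sup_right (smul_mem _ _ (mem_span_singleton_self v)))
    have e2 := finrank_sup_add_finrank_inf_eq (LinearMap.range (B - 1)) (span K {v})
    have e3 := LinearMap.finrank_range_add_finrank_ker (B - 1)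
    have e4 : finrank K (span K {v}) ≤ 1 := by
      have := finrank_span_finset_le_card (R := K) ({v} : Finset V)
      rwa [Set.finrank, Finset.coe_singleton, Finset.card_singleton] at this
    rw [e1, finrank_top] at e2
    omega
  · have := LinearMap.finrank_le_finrank_of_injective (f := u ∘ₗ (LinearMap.ker (C - 1)).subtype)
      ((injective_iff_map_eq_zero _).2 fun y hy => Subtype.ext (h5 y (sub_eq_zero.1 (LinearMap.mem_ker.1 y.2)) hy))
    simpa using this

open Polynomial in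
theorem Reg.hasED [FiniteDimensional K V] {B : End K V} (hB : Reg B) :
    HasED B (unipOf K (if finrank K V = 0 then 0 else {finrank K V})) := by
  obtain ⟨s, hs⟩ := exists_hasED B
  obtain ⟨k, hk⟩ := hB.1
  have h1 : ∀ x ∈ s, x.1 = X - 1 := fun x hx => by
    have := (hs.aeval_eq_zero_iff ((X - 1) ^ k)).1 (by simpa using hk) x hx
    obtain ⟨a1, a2, a3⟩ := hs.1 x hx
    have := a2.prime.dvd_of_dvd_pow ((dvd_pow_self x.1 (by omega)).trans this)
    exact eq_of_monic_of_associated a1 monic_X_sub_one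
      (a2.associated_of_dvd irreducible_X_sub_one this)
  have h2 := unipOf_map_snd h1
  set t := s.map Prod.snd
  rw [← h2] at hs
  have h3 := hs.finrank
  have h4 := hs.kd_pow monic_X_sub_one irreducible_X_sub_one 1
  have h5 := isED_unipOf.1 hs.1
  rw [edDeg_unipOf] at h3
  rw [edCnt_unipOf, natDegree_X_sub_one', mul_one, kd, pow_one, map_sub, aeval_X, map_one,
    Multiset.map_congr rfl fun e he => min_eq_left (h5 e he)] at h4
  have h6 := hB.2
  simp only [Multiset.map_const', Multiset.sum_replicate, smul_eq_mul, mul_one] at h4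
  convert hs
  rcases Nat.le_one_iff_eq_zero_or_eq_one.1 (h4 ▸ h6) with h | h
  · rw [Multiset.card_eq_zero] at h
    rw [h3, h]; simp
  · obtain ⟨e, he⟩ := Multiset.card_eq_one.1 h
    have := h5 e (by simp [he])
    rw [h3, he, Multiset.sum_singleton, if_neg (by omega)]

theorem Reg.sim [FiniteDimensional K V] [FiniteDimensional K V'] {B : End K V} {C : End K V'}
    (hB : Reg B) (hC : Reg C) (h : finrank K V = finrank K V') : Sim B C :=
  hB.hasED.sim (h ▸ hC.hasED)

theorem big_of_card (h : 4 ≤ Cardinal.mk K) : Big K := fun a b c => by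
  classical
  by_contra hc
  push Not at hc
  have h1 : (Set.univ : Set K) ⊆ ({a, b, c} : Finset K) := fun t _ => by
    by_cases h1 : t = a
    · simp [h1]
    · by_cases h2 : t = b
      · simp [h2]
      · simp [hc t h1 h2]
  have h2 := Cardinal.mk_le_mk_of_subset h1
  rw [Cardinal.mk_univ, Finset.coe_sort_coe, Cardinal.mk_coe_finset] at h2
  have h3 : ((4 : ℕ) : Cardinal) ≤ (({a, b, c} : Finset K).card : Cardinal) := h.trans h2
  have h4 := Finset.card_le_three (a := a) (b := b) (c := c)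
  have := Nat.cast_le.1 h3
  omega

open Polynomial in
theorem kd_of_coprime [FiniteDimensional K V] {S : End K V} {r a : K[X]} (hr : IsNilpotent (aeval S r))
    (h : IsCoprime a r) : kd S a = 0 := by
  obtain ⟨u, v, huv⟩ := h
  have h1 : IsUnit (aeval S u * aeval S a) := by
    have : aeval S u * aeval S a = 1 - aeval S v * aeval S r := by
      rw [eq_sub_iff_add_eq, ← map_mul, ← map_mul, ← map_add, huv, map_one]
    rw [this]
    refine IsNilpotent.isUnit_one_sub (Commute.isNilpotent_mul_left ?_ hr)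
    rw [Commute, SemiconjBy, ← map_mul, ← map_mul, mul_comm]
  rw [kd, (LinearMap.isUnit_iff_ker_eq_bot _).1 (isUnit_of_mul_isUnit_right h1), finrank_bot]

open Polynomial in
theorem sim_sq [FiniteDimensional K V] {S t : End K V} (hS : (S - 1) ^ 2 = 0) (ht : (t - 1) ^ 2 = 0)
    (h : finrank K (LinearMap.ker (S - 1)) = finrank K (LinearMap.ker (t - 1))) : Sim S t := by
  refine sim_of_kd fun p hp hp' k => ?_
  by_cases h1 : p = X - 1
  · subst h1
    have e : ∀ S : End K V, aeval S ((X - 1 : K[X]) ^ k) = (S - 1) ^ k := fun S => by simp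
    rw [kd, kd, e, e]
    rcases k with _ | _ | k
    · rw [pow_zero, pow_zero]
    · rwa [zero_add, pow_one, pow_one]
    · rw [pow_add _ k 2, pow_add _ k 2, hS, ht, mul_zero, mul_zero]
  · have := (isCoprime_of_monic_irreducible hp hp' monic_X_sub_one irreducible_X_sub_one h1).pow_left (m := k)
    rw [kd_of_coprime ⟨2, by simpa using hS⟩ this, kd_of_coprime ⟨2, by simpa using ht⟩ this]

theorem Reg.of_sim {B : End K V} {C : End K V'} (h : Sim B C) (hC : Reg C) : Reg B := by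
  obtain ⟨e, he⟩ := h
  have h1 : Sim (B - 1) (C - 1) := ⟨e, fun v => by simp [he]⟩
  refine ⟨?_, h1.finrank_ker ▸ hC.2⟩
  rw [eq_conj e he]
  simpa using hC.1.map (e.symm.conjAlgEquiv K)

theorem sim_conjAlg (e : V ≃ₗ[K] V') (B : End K V') : Sim (e.symm.conjAlgEquiv K B) B :=
  ⟨e, fun v => by simp [LinearEquiv.conjAlgEquiv_apply]⟩

open Polynomial in
theorem two_reg (hK : Big K) {V : Type u} [AddCommGroup V] [Module K V] [FiniteDimensional K V]
    (hn : 3 ≤ finrank K V) {J : End K V} (hJ : Reg J) {S : End K V} (hd : LinearMap.det S = 1)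
    (hS : ¬ ∃ c : K, ∀ y, S y = c • y) : ∃ B C : End K V, S = B * C ∧ Reg B ∧ Reg C := by
  obtain ⟨m, hm⟩ : ∃ m, finrank K V = m + 3 := ⟨finrank K V - 3, by omega⟩
  by_cases hr : ¬ Rk1 S
  · have : Nontrivial V := (finrank_pos_iff (R := K)).1 (by omega)
    obtain ⟨v, hv⟩ := exists_ne (0 : V)
    obtain ⟨ψ, hz, -⟩ := Submodule.exists_le_ker_of_notMem (p := (⊥ : Submodule K V)) (v := v) hv
    exact (lev hK (m + 2) V hm S hd (fun _ => ⟨hS, hr⟩) v hv ψ (fun h => hz (by rw [h]; rfl))).reg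
  push Not at hr
  obtain ⟨f, w, h0, hf⟩ := sq_of_rk1 hr hd
  have hw : w ≠ 0 := fun h => hS ⟨1, fun y => by simp [hf, h]⟩
  have hf0 : f ≠ 0 := fun h => hS ⟨1, fun y => by simp [hf, h]⟩
  set N := J - 1 with hN
  have hk : ∀ k, finrank K (LinearMap.ker (N ^ k)) = min k (m + 3) := fun k => by
    have := hJ.hasED.kd_pow monic_X_sub_one irreducible_X_sub_one k
    rw [edCnt_unipOf, natDegree_X_sub_one', mul_one, kd, map_pow, map_sub, aeval_X, map_one, hm] at this
    simpa using this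
  have hsim : Sim S (1 + N ^ (m + 2)) := by
    refine sim_sq (LinearMap.ext fun y => by simp [pow_two, hf, h0]) ?_ ?_
    · rw [add_sub_cancel_left, ← pow_mul, ← LinearMap.ker_eq_top]
      exact eq_top_of_finrank_eq (by rw [hk, hm]; omega)
    · have : LinearMap.ker (S - 1) = LinearMap.ker f := by
        ext y; simp [hf, hw]
      have h2 := Module.Dual.finrank_ker_add_one_of_ne_zero hf0
      rw [this, add_sub_cancel_left, hk]; omega
  obtain ⟨e, he⟩ := hsim
  have hNn : IsNilpotent N := hJ.1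
  obtain ⟨U, hU⟩ := hNn.isUnit_add_one
  obtain ⟨U', hU'⟩ := (hNn.pow_succ m).isUnit_sub_one
  have hJU : J = U := by rw [hU, hN, sub_add_cancel]
  have c1 : Commute N (U⁻¹ : (End K V)ˣ) := Commute.units_inv_right (by rw [hU]; simp)
  have c2 : Commute N U' := by rw [hU']; simp
  have e1 : (U⁻¹ : (End K V)ˣ) * (1 + N ^ (m + 2)) - 1 = ((U⁻¹ * U' : (End K V)ˣ) : End K V) * N := by
    have : ((U⁻¹ : (End K V)ˣ) : End K V) * (N + 1) = 1 := by rw [← hU]; simp
    rw [Units.val_mul, hU', mul_assoc, sub_mul, ← pow_succ, one_mul]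
    linear_combination (norm := noncomm_ring) this
  have hC : Reg (((U⁻¹ : (End K V)ˣ) : End K V) * (1 + N ^ (m + 2))) := by
    refine ⟨e1 ▸ Commute.isNilpotent_mul_left ?_ hNn, ?_⟩
    · rw [Units.val_mul]; exact (c1.mul_right c2).symm
    · rw [e1, End.mul_eq_comp, LinearMap.ker_comp_of_ker_eq_bot _
        ((LinearMap.isUnit_iff_ker_eq_bot _).1 (Units.isUnit _))]
      exact hJ.2
  refine ⟨_, _, ?_, (hJ.of_sim (sim_conjAlg e J)), hC.of_sim (sim_conjAlg e _)⟩
  rw [eq_conj e he, ← map_mul, hJU, ← mul_assoc, Units.mul_inv, one_mul]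

end lev

end Cfsg.Lib.Linear.Lev
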