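import Cfsg.Agent.Lib.Linear.ClassNum
import Cfsg.Agent.Lib.Linear.Card

set_option autoImplicit false

namespace Cfsg.Lib.Linear

open Polynomial Finset Known Matrix

variable {F : Type*} [Field F]

/-- The product of the elementary divisors with a given exponent. -/
noncomputable def edTup (s : Multiset (F[X] × ℕ)) (i : ℕ) : F[X] := ((s.filter (·.2 = i)).map Prod.fst).prod

theorem edTup_cons (x : F[X] × ℕ) (s : Multiset (F[X] × ℕ)) (i : ℕ) :
    edTup (x ::ₘ s) i = (if x.2 = i then x.1 else 1) * edTup s i := by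
  unfold edTup; split_ifs with h <;> simp [h]

theorem adm_edTup {s : Multiset (F[X] × ℕ)} (hs : IsED s) (hX : ∀ x ∈ s, x.1 ≠ X) {j : ℕ} (hj : edDeg s ≤ j) :
    Adm j (edDeg s) (edTup s) ∧ ∏ i ∈ range (j + 1), edTup s i ^ i = edProd s := by
  induction s using Multiset.induction_on with
  | empty => simp [Adm, edTup, edDeg, edProd]
  | cons x s ih =>
    obtain ⟨h1, h2, h3⟩ := hs x (Multiset.mem_cons_self _ _)
    have e : edDeg (x ::ₘ s) = x.2 * x.1.natDegree + edDeg s := by simp [edDeg]
    have h4 : x.2 ≤ j := (Nat.le_mul_of_pos_right _ h2.natDegree_pos).trans (by omega)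
    obtain ⟨⟨k1, k2, k3⟩, k4⟩ := ih (fun y hy => hs y (Multiset.mem_cons_of_mem hy))
      (fun y hy => hX y (Multiset.mem_cons_of_mem hy)) (by omega)
    have h5 : x.1.coeff 0 ≠ 0 := fun h => hX x (Multiset.mem_cons_self _ _) (eq_of_monic_of_associated h1 monic_X
      (irreducible_X.associated_of_dvd h2 (X_dvd_iff.2 h)).symm)
    have h6 : ∀ i, (if x.2 = i then x.1 else 1).Monic := fun i => by split_ifs; exacts [h1, monic_one]
    simp only [Adm, edTup_cons, e]
    refine ⟨⟨fun i => ⟨(h6 i).mul (k1 i).1, ?_⟩, fun i hi => by rw [if_neg (by omega), k2 i hi, one_mul], ?_⟩, ?_⟩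
    · rw [mul_coeff_zero]; exact mul_ne_zero (by split_ifs <;> simp [h5]) (k1 i).2
    · simp only [(h6 _).natDegree_mul (k1 _).1, mul_add, sum_add_distrib, k3, apply_ite natDegree, natDegree_one, mul_ite, mul_zero]
      simp [Nat.lt_succ_of_le h4]
    · simp only [mul_pow, prod_mul_distrib, k4]
      simp [edProd, Nat.lt_succ_of_le h4]

theorem eq_of_edTup {s t : Multiset (F[X] × ℕ)} (hs : IsED s) (ht : IsED t) (h : edTup s = edTup t) : s = t := by
  classical
  have key : ∀ s : Multiset (F[X] × ℕ), IsED s → ∀ p i, s.count (p, i) =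
      (UniqueFactorizationMonoid.normalizedFactors (edTup s i)).count p := fun s hs p i => by
    rw [edTup, UniqueFactorizationMonoid.normalizedFactors_prod_eq _ (by
      simp only [Multiset.mem_map, Multiset.mem_filter]; rintro _ ⟨x, hx, rfl⟩; exact (hs x hx.1).2.1), Multiset.map_map,
      Multiset.map_congr (f := normalize ∘ Prod.fst) (g := Prod.fst) rfl fun x hx => (hs x (Multiset.mem_filter.1 hx).1).1.normalize_eq_self, Multiset.count_map,
      Multiset.filter_filter, Multiset.count, Multiset.countP_eq_card_filter]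
    exact congrArg _ (Multiset.filter_congr fun x _ => by simp [Prod.ext_iff, eq_comm])
  ext ⟨p, i⟩
  rw [key s hs, key t ht, h]

theorem exists_mem_of_edTup {s : Multiset (F[X] × ℕ)} {i : ℕ} (h : (edTup s i).natDegree ≠ 0) : ∃ p, (p, i) ∈ s := by
  by_contra! h'
  rw [edTup, Multiset.filter_eq_nil.2 fun x hx e => h' x.1 (by rwa [← e])] at h
  simp at h

/-- Scaling the roots. -/
noncomputable def scaleEquiv (z : F) (hz : z ≠ 0) : F[X] ≃* F[X] where
  toFun p := p.scaleRoots z
  invFun p := p.scaleRoots z⁻¹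
  left_inv p := by simp [← scaleRoots_mul, hz]
  right_inv p := by simp [← scaleRoots_mul, hz]
  map_mul' p r := mul_scaleRoots_of_noZeroDivisors p r z

variable {n : Type*} [Fintype n] [DecidableEq n]

theorem ed_smul (A : Matrix n n F) {z : F} (hz : z ≠ 0) :
    ed (z • A) = (ed A).map fun x => (scaleEquiv z hz x.1, x.2) := by
  refine (isED_ed _).eq_of_edCnt (fun x hx => ?_) fun p hp hp' k => ?_
  · obtain ⟨y, hy, rfl⟩ := Multiset.mem_map.1 hx
    obtain ⟨h1, h2, h3⟩ := isED_ed A y hy
    exact ⟨(monic_scaleRoots_iff z).2 h1, (MulEquiv.irreducible_iff _).2 h2, h3⟩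
  obtain ⟨r, rfl⟩ := (scaleEquiv z hz).surjective p
  have h1 := edCnt_add_rank (z • A) hp hp' k
  have h2 := edCnt_add_rank A ((monic_scaleRoots_iff z).1 hp) ((MulEquiv.irreducible_iff _).1 hp') k
  have h3 : aeval (z • A) (scaleEquiv z hz r) = z ^ r.natDegree • aeval A r := by
    rw [Algebra.smul_def, Algebra.smul_def, map_pow]
    exact scaleRoots_eval₂_mul_of_commute _ A z (Algebra.commutes _ _) fun _ _ => Algebra.commutes _ _
  rw [h3, _root_.smul_pow, rank_smul_of_mem_nonZeroDivisors _ (mem_nonZeroDivisors_of_ne_zero (by positivity)), ← h2,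
    show (scaleEquiv z hz r).natDegree = r.natDegree from natDegree_scaleRoots _ _] at h1
  rw [Nat.eq_of_mul_eq_mul_right ((MulEquiv.irreducible_iff _).1 hp').natDegree_pos (Nat.add_right_cancel h1)]
  simp only [edCnt, Multiset.map_map, Function.comp_def]
  exact congrArg _ (Multiset.map_congr rfl fun x _ => by by_cases h : x.1 = r <;> simp [h])

theorem edTup_smul (A : Matrix n n F) {z : F} (hz : z ≠ 0) (i : ℕ) :
    edTup (ed (z • A)) i = (edTup (ed A) i).scaleRoots z := by
  rw [ed_smul A hz, edTup, Multiset.filter_map, Multiset.map_map]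
  exact ((map_multiset_prod (scaleEquiv z hz) _).trans (by rw [Multiset.map_map]; rfl)).symm

theorem expand_contract_of_scaleRoots {u : F[X]} (h0 : u.coeff 0 ≠ 0) {z : F} (h : u.scaleRoots z = u) (hz : orderOf z ≠ 0) :
    expand F (orderOf z) (contract (orderOf z) u) = u := by
  have key : ∀ i, u.coeff i ≠ 0 → orderOf z ∣ u.natDegree - i := fun i hi => orderOf_dvd_of_pow_eq_one
    (mul_left_cancel₀ hi (by rw [← coeff_scaleRoots, h, mul_one]))
  ext i
  rw [coeff_expand (Nat.pos_of_ne_zero hz), coeff_contract hz]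
  split_ifs with hi
  · rw [Nat.div_mul_cancel hi]
  · by_contra h'
    exact hi ((Nat.dvd_sub_iff_right (le_natDegree_of_ne_zero (Ne.symm h')) (key 0 h0)).1 (key i (Ne.symm h')))

theorem adm_ed (g : GL n F) : Adm (Fintype.card n) (Fintype.card n) (edTup (ed (g : Matrix n n F))) ∧
    admD (Fintype.card n) (edTup (ed (g : Matrix n n F))) = (-1) ^ Fintype.card n * (g : Matrix n n F).det := by
  obtain ⟨h1, h2⟩ := adm_edTup (isED_ed (g : Matrix n n F)) (ed_ne_X g) (edDeg_ed _).le
  rw [edDeg_ed] at h1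
  refine ⟨h1, ?_⟩
  rw [det_eq_sign_charpoly_coeff, charpoly_eq_edProd, ← h2, ← mul_assoc, ← mul_pow, admD, coeff_zero_prod]
  simp [coeff_zero_eq_eval_zero]

variable [Fintype F]

local notation "q" => Fintype.card F

theorem exists_norm_eq_pow {p : F[X]} (hp : p.Monic) (hp' : Irreducible p) {e : ℕ} (he : e ≠ 0) (a : F) (ha : a ≠ 0) :
    ∃ u : AdjoinRoot (p ^ e), IsUnit u ∧ Algebra.norm F u = a ^ e := by
  have : Fact (Irreducible p) := ⟨hp'⟩
  have := finiteDimensional_adjoinRoot hp.ne_zero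
  have := finiteDimensional_adjoinRoot (hp.pow e).ne_zero
  have : Finite (AdjoinRoot p) := Module.finite_of_finite F
  obtain ⟨u, rfl⟩ := FiniteField.norm_surjective F (AdjoinRoot p) a
  have hu : u ≠ 0 := by rintro rfl; simp at ha
  have h1 : aeval ((FiniteField.frobeniusAlgHom F (AdjoinRoot (p ^ e)) ^ e) (AdjoinRoot.root _)) p = 0 := by
    rw [aeval_algHom_apply, AdjoinRoot.aeval_eq, AlgHom.coe_pow, FiniteField.coe_frobeniusAlgHom, pow_iterate]
    exact (map_pow _ _ _).symm.trans (AdjoinRoot.mk_eq_zero.2 (pow_dvd_pow _ (Nat.lt_pow_self Fintype.one_lt_card).le))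
  let φ : AdjoinRoot p →ₐ[F] AdjoinRoot (p ^ e) := AdjoinRoot.liftAlgHom p (Algebra.ofId _ _) _ h1
  let := φ.toAlgebra
  have := IsScalarTower.of_algHom φ
  have h2 := Module.finrank_mul_finrank F (AdjoinRoot p) (AdjoinRoot (p ^ e))
  rw [finrank_adjoinRoot, finrank_adjoinRoot, natDegree_pow, mul_comm] at h2
  have := Module.Finite.of_restrictScalars_finite F (AdjoinRoot p) (AdjoinRoot (p ^ e))
  refine ⟨algebraMap _ _ u, hu.isUnit.map _, ?_⟩
  rw [← Algebra.norm_norm (S := AdjoinRoot p), Algebra.norm_algebraMap, Nat.eq_of_mul_eq_mul_right hp'.natDegree_pos h2, map_pow]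

theorem admH_le (g : GL n F) : admH (edTup (ed (g : Matrix n n F))) ≤ (Subgroup.centralizer {g}).map GeneralLinearGroup.det := by
  refine iSup₂_le fun i hi => ?_
  rintro _ ⟨a, rfl⟩
  obtain ⟨p, hp⟩ := exists_mem_of_edTup hi
  obtain ⟨h1, h2, h3⟩ := isED_ed _ _ hp
  obtain ⟨u, hu, h⟩ := exists_norm_eq_pow h1 h2 (Nat.one_le_iff_ne_zero.1 h3) a a.ne_zero
  obtain ⟨c, hc, hd⟩ := exists_GL_comm_det_norm hp u hu
  exact ⟨c, Subgroup.mem_centralizer_singleton_iff.2 (Units.ext hc), Units.ext (hd.trans (by simpa using h))⟩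

theorem card_classes_GL_le : Nat.card (ConjClasses (GL n F)) ≤ #(admT F (Fintype.card n) (Fintype.card n)) := by
  choose r hr using ConjClasses.exists_rep (α := GL n F)
  rw [← Nat.card_eq_finsetCard]
  refine Nat.card_le_card_of_injective (fun C => ⟨_, mem_admT.2 (adm_ed (r C)).1⟩) fun C D h => ?_
  rw [← hr C, ← hr D, ConjClasses.mk_eq_mk_iff_isConj, isConj_GL_iff_ed]
  exact eq_of_edTup (isED_ed _) (isED_ed _) (congrArg Subtype.val h)

open Classical in
theorem card_classes_SL_le (P : ConjClasses (SpecialLinearGroup n F) → Prop) (T : Finset (ℕ → F[X]))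
    (h : ∀ g : SpecialLinearGroup n F, P (ConjClasses.mk g) → edTup (ed (g : Matrix n n F)) ∈ T) :
    Nat.card {C // P C} ≤ ∑ u ∈ T, (admH u).index := by
  choose r hr using ConjClasses.exists_rep (α := SpecialLinearGroup n F)
  have := Fintype.ofFinite (ConjClasses (SpecialLinearGroup n F))
  rw [Nat.card_eq_fintype_card, Fintype.card_subtype, card_eq_sum_card_fiberwise (f := fun C => edTup (ed (r C : Matrix n n F)))
    (t := T) fun C hC => h _ (by simpa [hr] using hC)]
  refine sum_le_sum fun u _ => ?_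
  generalize hs : filter (fun C => edTup (ed (r C : Matrix n n F)) = u) (filter P univ) = s
  rcases s.eq_empty_or_nonempty with rfl | ⟨C, hC⟩
  · simp
  have h1 : ∀ D ∈ s, edTup (ed (r D : Matrix n n F)) = u := fun D hD => by rw [← hs] at hD; exact (mem_filter.1 hD).2
  have h2 := fun D : s => ed_eq_iff.1 (eq_of_edTup (isED_ed _) (isED_ed _) ((h1 C hC).trans (h1 D D.2).symm))
  choose c hc using h2
  rw [← Nat.card_eq_finsetCard]
  refine Nat.card_le_card_of_injective (fun D => (GeneralLinearGroup.det (c D) : Fˣ ⧸ admH u)) fun D E hDE => Subtype.ext ?_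
  obtain ⟨k, hk, hd⟩ := admH_le (SpecialLinearGroup.toGL (r C)) (by simpa [h1 C hC] using QuotientGroup.eq.1 hDE)
  have h3 : ∀ D : s, SpecialLinearGroup.toGL (r D) = c D * SpecialLinearGroup.toGL (r C) * (c D)⁻¹ := fun D =>
    eq_mul_inv_of_mul_eq (Units.ext (hc D).symm)
  have h4 : GeneralLinearGroup.det (c D * k * (c E)⁻¹) = 1 := by simp [hd]
  rw [← hr D, ← hr E, eq_comm, ConjClasses.mk_eq_mk_iff_isConj, isConj_iff]
  obtain ⟨w, hw⟩ : ∃ w : SpecialLinearGroup n F, SpecialLinearGroup.toGL w = c D * k * (c E)⁻¹ :=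
    ⟨⟨(c D * k * (c E)⁻¹ : GL n F), congrArg Units.val h4⟩, Units.ext rfl⟩
  refine ⟨w, SpecialLinearGroup.toGL_injective ?_⟩
  rw [map_mul, map_mul, map_inv, h3, h3, hw]
  have := Subgroup.mem_centralizer_singleton_iff.1 hk
  simp [mul_assoc, ← this]
  simp [← mul_assoc, this]

theorem toGL_mem_admS (g : SpecialLinearGroup n F) : Adm (Fintype.card n) (Fintype.card n) (edTup (ed (g : Matrix n n F))) ∧
    admD (Fintype.card n) (edTup (ed (g : Matrix n n F))) = (-1) ^ Fintype.card n := by
  simpa using adm_ed (SpecialLinearGroup.toGL g)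

theorem card_fixed_le {z : F} (hz : z ≠ 0) (P : ConjClasses (SpecialLinearGroup n F) → Prop)
    (h : ∀ g : SpecialLinearGroup n F, P (ConjClasses.mk g) → ed (z • (g : Matrix n n F)) = ed (g : Matrix n n F)) :
    Nat.card {C // P C} ≤ admS F (Fintype.card n) (Fintype.card n / orderOf z) ((-1) ^ Fintype.card n) := by
  classical
  have hm : orderOf z ≠ 0 := by
    lift z to Fˣ using hz.isUnit
    rw [orderOf_units]; exact (orderOf_pos z).ne'
  have hm' := Nat.pos_of_ne_zero hm
  refine (card_classes_SL_le P (image (fun v i => expand F (orderOf z) (v i)) {v ∈ admT F (Fintype.card n) (Fintype.card n / orderOf z) |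
    admD (Fintype.card n) v = (-1) ^ Fintype.card n}) fun g hg => ?_).trans ((sum_image_le_of_nonneg fun _ _ => zero_le).trans_eq ?_)
  · obtain ⟨⟨h1, h2, h3⟩, h4⟩ := toGL_mem_admS g
    have h5 := fun i => expand_contract_of_scaleRoots (h1 i).2 (by rw [← edTup_smul _ hz, h g hg]) hm
    refine mem_image.2 ⟨fun i => contract (orderOf z) (edTup (ed (g : Matrix n n F)) i), mem_filter.2 ⟨mem_admT.2 ⟨fun i =>
      ⟨(monic_expand_iff hm').1 ((h5 i).symm ▸ (h1 i).1), by simpa [coeff_contract hm] using (h1 i).2⟩, fun i hi => ?_, ?_⟩,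
      by simpa [admD, coeff_contract hm] using h4⟩, funext h5⟩
    · simp only [h2 i hi]; rw [← C_1, contract_C]
    · refine (Nat.div_eq_of_eq_mul_left hm' ?_).symm
      rw [sum_mul]
      exact h3.symm.trans (sum_congr rfl fun i _ => by rw [mul_assoc, ← natDegree_expand, h5])
  · simp [admS, admH, natDegree_expand, hm]

theorem card_classes_SL_le_admS : Nat.card (ConjClasses (SpecialLinearGroup n F)) ≤
    admS F (Fintype.card n) (Fintype.card n) ((-1) ^ Fintype.card n) := by
  simpa using card_fixed_le (n := n) (one_ne_zero (α := F)) (fun _ => True) (by simp)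

/-- The centre acts on conjugacy classes by multiplication. -/
@[reducible] def centerAct (G : Type*) [Group G] : MulAction (Subgroup.center G) (ConjClasses G) where
  smul z := Quotient.map (z.1 * ·) fun a b h => by
    obtain ⟨c, rfl⟩ := isConj_iff.1 h
    exact isConj_iff.2 ⟨c, by simp [mul_assoc, ← (Subgroup.mem_center_iff.1 z.2 c)]; simp [← mul_assoc, Subgroup.mem_center_iff.1 z.2 c]⟩
  one_smul C := Quotient.inductionOn C fun a => congrArg ConjClasses.mk (one_mul a)
  mul_smul x y C := Quotient.inductionOn C fun a => congrArg ConjClasses.mk (mul_assoc _ _ a)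

theorem card_center_mul_classes_le (G : Type*) [Group G] [Finite G] [Fintype (Subgroup.center G)] :
    Nat.card (Subgroup.center G) * Nat.card (ConjClasses (G ⧸ Subgroup.center G)) ≤
      ∑ z : Subgroup.center G, Nat.card {C : ConjClasses G // ∃ g, ConjClasses.mk g = C ∧ IsConj (z.1 * g) g} := by
  classical
  let := centerAct G
  have := Fintype.ofFinite (ConjClasses G)
  have := Fintype.ofFinite (MulAction.orbitRel.Quotient (Subgroup.center G) (ConjClasses G))
  have h := MulAction.sum_card_fixedBy_eq_card_orbits_mul_card_group (Subgroup.center G) (ConjClasses G)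
  simp only [← Nat.card_eq_fintype_card] at h
  rw [mul_comm]
  refine (Nat.mul_le_mul_right _ (Nat.card_le_card_of_surjective (Quotient.lift (ConjClasses.map (QuotientGroup.mk' _)) ?_) ?_)).trans
    (h.ge.trans (sum_le_sum fun z _ => Nat.card_le_card_of_injective _ (Set.inclusion_injective fun C hC => ?_)))
  · rintro _ D ⟨z, rfl⟩
    obtain ⟨g, rfl⟩ := D.exists_rep
    exact congrArg ConjClasses.mk ((map_mul _ _ _).trans (by simp [(QuotientGroup.eq_one_iff _).2 z.2]))
  · intro C
    obtain ⟨g, rfl⟩ := C.exists_rep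
    obtain ⟨g, rfl⟩ := QuotientGroup.mk_surjective g
    exact ⟨Quotient.mk _ (ConjClasses.mk g), rfl⟩
  · obtain ⟨g, rfl⟩ := C.exists_rep
    exact ⟨g, rfl, ConjClasses.mk_eq_mk_iff_isConj.1 hC⟩

end Cfsg.Lib.Linear
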