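import Cfsg.Agent.Lib.Linear.SymPres
import Cfsg.Agent.Lib.Mult.Transfer

/-! Central extensions of the alternating groups. -/

set_option autoImplicit false

namespace Cfsg.Lib.Linear

open Subgroup Equiv alternatingGroup

variable {α Γ : Type*} [Fintype α] [DecidableEq α] [Group Γ] {a b : α} (hab : a ≠ b) (π : Γ →* alternatingGroup α)

theorem mem_of_carm {X : {i // i ≠ a ∧ i ≠ b} → Γ} (hX : ∀ i, π (X i) = altCyc hab i) (N : Subgroup Γ) [N.Normal]
    (h3 : ∀ i, X i ^ 3 ∈ N) (h2 : ∀ i j, i ≠ j → (X i * X j) ^ 2 ∈ N) {g : Γ} (hg : g ∈ closure (Set.range X))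
    (h : π g = 1) : g ∈ N := by
  obtain ⟨φ, hφ⟩ := exists_hom_carmichael hab (fun i => (X i : Γ ⧸ N)) ⟨fun i _ => (QuotientGroup.eq_one_iff _).2 (h3 i),
    fun i _ j _ hij => (QuotientGroup.eq_one_iff _).2 (h2 i j hij)⟩
  have : φ.comp π g = QuotientGroup.mk' N g :=
    MonoidHom.eqOn_closure (by rintro _ ⟨i, rfl⟩; simp [hX, hφ]) hg
  exact (QuotientGroup.eq_one_iff _).1 (by simpa [h] using this.symm)

theorem card_ker_le_two_of_good (h4 : 4 ≤ Fintype.card α) (hs : Function.Surjective π) (hc : π.ker ≤ center Γ)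
    (hd : π.ker ≤ commutator Γ) (P : Γ → Prop) (p1 : ∀ x g, P x → P (g * x * g⁻¹)) (p2 : ∀ x, P x → P x⁻¹)
    (p3 : ∀ x, P x → x ^ 3 = 1) (p4 : ∀ i, ∃ x, P x ∧ π x = altCyc hab i)
    (p5 : ∀ i x y, P x → P y → π x = altCyc hab i → π y = altCyc hab i → x = y) : Nat.card π.ker ≤ 2 := by
  choose X hP hX using p4
  have h0 : ∀ i j, i ≠ j → ∀ g, g * (X i * X j) ^ 2 * g⁻¹ = (X i * X j) ^ 2 := fun i j h g => by
    rw [mem_center_iff.1 (hc (show π _ = 1 by simpa [hX] using (carm_altCyc hab).sq i trivial j trivial h)) g, mul_inv_cancel_right]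
  have h1 : ∀ i j, i ≠ j → ((X i * X j) ^ 2) ^ 2 = 1 := fun i j h => by
    have := Subtype.coe_ne_coe.2 h
    obtain ⟨g, hg⟩ := hs ⟨swap a b * swap i.1 j, sign_swap_mul_swap hab this⟩
    have e : ∀ i' j', (i' = i ∧ j' = j ∨ i' = j ∧ j' = i) → g * (X i')⁻¹ * g⁻¹ = X j' := fun i' j' h' =>
      p5 _ _ _ (p1 _ _ (p2 _ (hP _))) (hP _) (by
        rw [map_mul, map_mul, map_inv, map_inv, hg, hX, mul_inv_eq_iff_eq_mul]
        ext x; have := i.2; have := j.2
        rcases h' with ⟨rfl, rfl⟩ | ⟨rfl, rfl⟩ <;> simp only [altCyc, cyc3, coe_mul, coe_inv, mul_inv_rev, swap_inv, Perm.mul_apply,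
          swap_apply_def] <;> grind) (hX _)
    have e2 : g * (X i * X j)⁻¹ * g⁻¹ = X i * X j := by
      rw [show g * (X i * X j)⁻¹ * g⁻¹ = g * (X j)⁻¹ * g⁻¹ * (g * (X i)⁻¹ * g⁻¹) by group, e j i (.inr ⟨rfl, rfl⟩), e i j (.inl ⟨rfl, rfl⟩)]
    rw [sq, ← eq_inv_iff_mul_eq_one]
    nth_rw 2 [← h0 i j h g]
    rw [conj_inv, ← inv_pow, ← conj_pow, e2]
  have h2 : ∀ i j, i ≠ j → (X i * X j) ^ 2 = (X j * X i) ^ 2 := fun i j h => by
    rw [← h0 i j h (X j)]; simp [sq, mul_assoc]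
  have h3 : ∀ i j k, j ≠ i → k ≠ i → (X i * X j) ^ 2 = (X i * X k) ^ 2 := fun i j k hj hk => by
    rcases eq_or_ne j k with rfl | h
    · rfl
    have := Subtype.coe_ne_coe.2 h
    have := Subtype.coe_ne_coe.2 hj
    have := Subtype.coe_ne_coe.2 hk
    obtain ⟨g, hg⟩ := hs ⟨swap j.1 i * swap i.1 k, sign_swap_mul_swap ‹_› (Ne.symm ‹_›)⟩
    have e : ∀ i' j', (i' = j ∧ j' = i ∨ i' = i ∧ j' = k) → g * X i' * g⁻¹ = X j' := fun i' j' h' =>
      p5 _ _ _ (p1 _ _ (hP _)) (hP _) (by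
        rw [map_mul, map_mul, map_inv, hg, hX, mul_inv_eq_iff_eq_mul]
        ext x; have := i.2; have := j.2; have := k.2
        rcases h' with ⟨rfl, rfl⟩ | ⟨rfl, rfl⟩ <;> simp only [altCyc, cyc3, coe_mul, Perm.mul_apply, swap_apply_def] <;> grind) (hX _)
    rw [h2 i j hj.symm, ← h0 j i hj g, ← conj_pow, ← e _ _ (.inr ⟨rfl, rfl⟩)]
    nth_rw 2 [← e _ _ (.inl ⟨rfl, rfl⟩)]
    simp [mul_assoc]
  obtain ⟨i, j, hij⟩ := Fintype.exists_pair_of_one_lt_card (show 1 < Fintype.card {i // i ≠ a ∧ i ≠ b} by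
    have := card_ne_ne hab; omega)
  have : (zpowers ((X i * X j) ^ 2)).Normal := ⟨fun x hx g => by
    obtain ⟨k, rfl⟩ := hx; exact ⟨k, by rw [← conj_zpow, h0 i j hij]⟩⟩
  have h5 : ∀ g, ∃ k ∈ closure (Set.range X), ∃ z ∈ center Γ, g = k * z := fun g => by
    have : π g ∈ (closure (Set.range X)).map π := by
      rw [MonoidHom.map_closure, ← Set.range_comp, show π ∘ X = altCyc hab from funext hX, closure_altCyc]; trivial
    obtain ⟨k, hk, e⟩ := this
    exact ⟨k, hk, k⁻¹ * g, hc (by simp [e]), by simp⟩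
  have h6 : π.ker ≤ zpowers ((X i * X j) ^ 2) := fun g hg => by
    refine mem_of_carm hab π hX _ (fun i => p3 _ (hP i) ▸ one_mem _) (fun k l h => ?_) (commutator_le.2 (fun x _ y _ => ?_) (hd hg)) hg
    · rcases eq_or_ne k i with rfl | h'
      · exact h3 k l j h.symm hij.symm ▸ mem_zpowers _
      · rw [h3 k l i h.symm h'.symm, h2 k i h', h3 i k j h' hij.symm]; exact mem_zpowers _
    obtain ⟨x, hx, z, hz, rfl⟩ := h5 x
    obtain ⟨y, hy, w, hw, rfl⟩ := h5 y
    convert mul_mem (mul_mem (mul_mem hx hy) (inv_mem hx)) (inv_mem hy) using 1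
    rw [commutatorElement_def, mul_inv_rev y, mul_assoc x z, ← mem_center_iff.1 hz, mul_inv_rev]
    simp only [mul_assoc, mul_inv_cancel_left]
    rw [← mul_assoc x⁻¹, mem_center_iff.1 (inv_mem hw)]
    simp [mul_assoc]
  have : Finite (zpowers ((X i * X j) ^ 2)) := finite_zpowers.2 (isOfFinOrder_iff_pow_eq_one.2 ⟨2, two_pos, h1 i j hij⟩)
  exact (card_le_of_le h6).trans ((Nat.card_zpowers _).trans_le (orderOf_le_of_pow_eq_one two_pos (h1 i j hij)))

theorem closure_sq_eq_one (h3 : Fintype.card α ≠ 3) (h4 : Fintype.card α ≠ 4) :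
    closure {f : alternatingGroup α | f ^ 2 = 1} = ⊤ := by
  rcases le_or_gt (Fintype.card α) 2 with h | h
  · exact eq_top_iff.2 fun x _ => subset_closure (Subtype.ext ((alternatingGroup.eq_bot_of_card_le_two (by simpa)).le (x ^ 2).2))
  have := alternatingGroup.isSimpleGroup (α := α) (by simp; omega)
  refine top_le_iff.1 (((normalClosure_normal (s := {f : alternatingGroup α | f ^ 2 = 1})).eq_bot_or_eq_top.resolve_left fun e => ?_).ge.trans
    (closure_mono fun x hx => ?_)); swap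
  · obtain ⟨y, hy, h⟩ := Group.mem_conjugatesOfSet_iff.1 hx
    exact isConj_one_right.1 (hy ▸ h.pow 2)
  obtain ⟨x, hx⟩ := exists_prime_orderOf_dvd_card' (G := alternatingGroup α) 2 (by
    have : Nontrivial α := Fintype.one_lt_card_iff_nontrivial.1 (by omega)
    refine Nat.dvd_of_mul_dvd_mul_left two_pos ?_
    rw [Nat.card_eq_fintype_card, two_mul_card_alternatingGroup, Fintype.card_perm]
    exact Nat.dvd_factorial (by norm_num) (by omega))
  have := e.le (subset_normalClosure (show x ^ 2 = 1 from hx ▸ pow_orderOf_eq_one x))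
  simp_all

omit [Fintype α] in
include hab in
theorem exists_fix_of_commute_cyc3 {c : α} (hca : c ≠ a) (hcb : c ≠ b) {y : Perm α} (h : Commute y (cyc3 a b c)) :
    ∃ k : ℕ, ∀ d ∈ ({a, b, c} : Finset α), (y * cyc3 a b c ^ k) d = d := by
  have e1 : cyc3 a b c a = b := by simp only [cyc3, Perm.mul_apply, swap_apply_def]; grind
  have e2 : cyc3 a b c b = c := by simp only [cyc3, Perm.mul_apply, swap_apply_def]; grind
  obtain ⟨k, hk⟩ : ∃ k : ℕ, (y * cyc3 a b c ^ k) a = a := by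
    obtain ⟨u, hu⟩ := y.surjective a
    have := congrArg (· u) h.eq
    simp only [Perm.mul_apply, hu, e1] at this
    have : u = a ∨ u = b ∨ u = c := by simp only [cyc3, Perm.mul_apply, swap_apply_def] at this; grind
    rcases this with rfl | rfl | rfl
    exacts [⟨0, hu⟩, ⟨1, by simpa [e1]⟩, ⟨2, by simpa [sq, e1, e2]⟩]
  have e3 := (h.mul_left ((Commute.refl _).pow_left k)).eq
  refine ⟨k, ?_⟩
  generalize y * cyc3 a b c ^ k = y at *
  have e4 := congrArg (· a) e3
  have e5 := congrArg (· b) e3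
  simp only [Perm.mul_apply, hk, e1, e2] at e4 e5
  simp_all

include hab in
theorem commute_of_commute_altCyc (h6 : Fintype.card α ≠ 6) (h7 : Fintype.card α ≠ 7) (hs : Function.Surjective π)
    (hc : π.ker ≤ center Γ) {i : {i // i ≠ a ∧ i ≠ b}} {x : Γ} (hx : π x = altCyc hab i) {g : Γ} (hg : Commute (π g) (π x)) :
    Commute g x := by
  have h3 := (carm_altCyc hab).cube i trivial
  have hz : ∀ {x y : Γ}, π x = π y → ∃ z ∈ center Γ, y = x * z := fun {x y} h => ⟨x⁻¹ * y, hc (by simp [h]), by simp⟩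
  have := i.2
  have e1 : ∀ f, ofSubtype {a, b, i.1}ᶜ f ∈ (centralizer {x}).map π := fun f => by
    have : Fintype.card ({a, b, i.1}ᶜ : Finset α) + 3 = Fintype.card α := by
      rw [Fintype.card_coe, ← Finset.card_compl_add_card {a, b, i.1}, Finset.card_eq_three (s := {a, b, i.1}).2 ⟨a, b, i, hab, this.1.symm, this.2.symm, rfl⟩]
    refine mem_comap.1 (((closure_sq_eq_one (by omega) (by omega)).ge.trans ((closure_le _).2 fun f hf => ?_)) (mem_top f))
    obtain ⟨y, hy⟩ := hs (ofSubtype _ f)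
    refine ⟨y, mem_centralizer_singleton_iff.2 ?_, hy⟩
    obtain ⟨z, h1, h2⟩ := @hz x (y * x * y⁻¹) (by
      have := (mem_range_ofSubtype_iff _ _).1 ⟨f, hy.symm⟩
      rw [map_mul, map_mul, map_inv, eq_mul_inv_iff_mul_eq, hx]
      refine Subtype.ext (Perm.Disjoint.commute fun c => (em (c ∈ ({a, b, i.1} : Finset α))).symm.imp ?_ fun h => ?_)
      · simp only [altCyc, cyc3, Perm.mul_apply, swap_apply_def]; grind
      · exact Perm.notMem_support.1 fun h' => Finset.mem_compl.1 (this h') h)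
    have c3 := congrArg (· ^ 3) h2
    simp only [conj_pow, Commute.mul_pow (mem_center_iff.1 h1 x)] at c3
    rw [mem_center_iff.1 (hc (show π (x ^ 3) = 1 by rw [map_pow, hx, h3])), mul_inv_cancel_right, left_eq_mul] at c3
    have c2 : y ^ 2 * x * (y ^ 2)⁻¹ = x * z ^ 2 := by
      rw [show y ^ 2 * x * (y ^ 2)⁻¹ = y * (y * x * y⁻¹) * y⁻¹ by simp [sq, mul_assoc], h2, ← mul_assoc, mul_assoc _ z, ← mem_center_iff.1 h1,
        ← mul_assoc, h2, sq, mul_assoc]
    rw [← mem_center_iff.1 (hc (show π (y ^ 2) = 1 by rw [map_pow, hy, ← map_pow, hf, map_one])), mul_inv_cancel_right, left_eq_mul] at c2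
    rw [pow_succ, c2, one_mul] at c3
    rwa [c3, mul_one, mul_inv_eq_iff_eq_mul] at h2
  obtain ⟨k, e2⟩ := exists_fix_of_commute_cyc3 hab this.1 this.2 (y := π g) (by rw [hx] at hg; exact congrArg Subtype.val hg.eq)
  have : π x ^ k ∈ (centralizer {x}).map π := pow_mem (mem_map_of_mem π (mem_centralizer_singleton_iff.2 rfl)) k
  obtain ⟨f, hf⟩ := (mem_range_ofSubtype_iff {a, b, i.1}ᶜ (π g * π x ^ k)).2 fun c hc =>
    Finset.mem_compl.2 fun h => Perm.mem_support.1 hc (hx ▸ e2 c h)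
  obtain ⟨y, hy, e⟩ := (mul_mem_cancel_right this).1 (hf ▸ e1 f)
  obtain ⟨z, h, rfl⟩ := hz e
  exact .mul_left (mem_centralizer_singleton_iff.1 hy) (mem_center_iff.1 h _).symm

/-- The Schur multiplier of `A_n` has order at most two for `n ≠ 6, 7`. -/
theorem card_ker_le_two (h4 : 4 ≤ Fintype.card α) (h6 : Fintype.card α ≠ 6) (h7 : Fintype.card α ≠ 7) (hs : Function.Surjective π)
    (hc : π.ker ≤ center Γ) (hd : π.ker ≤ commutator Γ) : Nat.card π.ker ≤ 2 := by
  obtain ⟨a, b, hab⟩ := Fintype.exists_pair_of_one_lt_card (show 1 < Fintype.card α by omega)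
  have h3 := fun i => (carm_altCyc hab).cube i trivial
  have hz : ∀ {x y : Γ}, π x = π y → ∃ z ∈ center Γ, π z = 1 ∧ y = x * z := fun {x y} h =>
    have : π (x⁻¹ * y) = 1 := by simp [h]
    ⟨_, hc this, this, by simp⟩
  have hz3 : ∀ {x z : Γ} (k : ℕ), z ∈ center Γ → (x * z) ^ k = x ^ k * z ^ k := fun k h => (Commute.mul_pow (mem_center_iff.1 h _) k)
  rcases h4.eq_or_lt with h4' | h5
  · have h1 : ∀ z, π z = 1 → z ^ 4 = 1 := fun z h => by
      obtain ⟨i⟩ := Fintype.card_pos_iff.1 (show 0 < Fintype.card {i // i ≠ a ∧ i ≠ b} by have := card_ne_ne hab; omega)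
      obtain ⟨x, hx⟩ := hs (altCyc hab i)
      have e : ((zpowers (π x)).comap π).index = 4 := by
        have e' := (zpowers (π x)).index_mul_card
        have : Nontrivial α := ⟨_, _, hab⟩
        have e := two_mul_card_alternatingGroup (α := α)
        rw [Nat.card_zpowers, hx, orderOf_eq_prime (h3 i) fun e => hab (by
          simpa [altCyc, cyc3, swap_apply_of_ne_of_ne hab i.2.1.symm] using congrArg (fun x => x.1 a) e.symm), Nat.card_eq_fintype_card] at e'
        rw [Fintype.card_perm, ← h4', show Nat.factorial 4 = 24 from rfl] at e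
        rw [index_comap_of_surjective _ hs, hx]; omega
      have : ((zpowers (π x)).comap π).FiniteIndex := ⟨by omega⟩
      rw [← e, ← mem_bot]
      refine commutator_le.2 (fun u hu v hv => ?_) (Cfsg.Lib.Mult.pow_index_mem_commutator (hc h) (hd h))
      obtain ⟨⟨k, hk⟩, l, hl⟩ := And.intro hu hv
      obtain ⟨u, h1, -, rfl⟩ := hz ((map_zpow π x k).trans hk)
      obtain ⟨v, h2, -, rfl⟩ := hz ((map_zpow π x l).trans hl)
      exact commutatorElement_eq_one_iff_commute.2 (.mul_left (.mul_right (.zpow_zpow_self _ _ _) (mem_center_iff.1 h2 _))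
        (mem_center_iff.1 h1 _).symm)
    refine card_ker_le_two_of_good hab π h4 hs hc hd (· ^ 3 = 1) (fun x g h => by rw [conj_pow, h]; simp) (by simp) (by simp)
      (fun i => ?_) fun i x y hx hy e e' => ?_
    · obtain ⟨x, hx⟩ := hs (altCyc hab i)
      exact ⟨x ^ 4, by rw [← pow_mul, mul_comm, pow_mul, h1 _ (by rw [map_pow, hx, h3])], by rw [map_pow, hx, pow_succ, h3, one_mul]⟩
    · obtain ⟨z, h, h', rfl⟩ := hz (e.trans e'.symm)
      have := h1 z h'
      rw [hz3 _ h, hx, one_mul] at hy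
      rw [pow_succ, hy, one_mul] at this
      simp [this]
  refine card_ker_le_two_of_good hab π h4 hs hc hd (fun x => x ^ 3 = 1 ∧ IsConj x x⁻¹) (fun x g h => ⟨by rw [conj_pow, h.1]; simp,
    ?_⟩) (fun x h => by simpa using h.imp id IsConj.symm) (fun _ h => h.1) (fun i => ?_) fun i x y hx hy e e' => ?_
  · exact (isConj_iff.2 ⟨g, rfl⟩).symm.trans (h.2.trans (isConj_iff.2 ⟨g, by group⟩))
  · obtain ⟨x, hx⟩ := hs (altCyc hab i)
    obtain ⟨c, hc1, d, hd1, hcd⟩ := Finset.one_lt_card.1 (show 1 < ({a, b, i.1}ᶜ : Finset α).card by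
      have := Finset.card_compl_add_card {a, b, i.1}; have := Finset.card_le_three (a := a) (b := b) (c := i.1); omega)
    obtain ⟨g, hg⟩ := hs ⟨swap a b * swap c d, sign_swap_mul_swap hab hcd⟩
    obtain ⟨z, h1, h1', h2⟩ := @hz x⁻¹ (g * x * g⁻¹) (by
      rw [map_mul, map_mul, map_inv, map_inv, eq_mul_inv_iff_mul_eq, hx, hg]
      ext y; have := i.2
      simp only [Finset.mem_compl, Finset.mem_insert, Finset.mem_singleton] at hc1 hd1
      clear * - hc1 hd1 hcd this hab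
      simp only [altCyc, cyc3, coe_mul, coe_inv, mul_inv_rev, swap_inv, Perm.mul_apply, swap_apply_def]; grind)
    have h4 : π (x ^ 3) = 1 := by rw [map_pow, hx, h3]
    have c3 := congrArg (· ^ 3) h2
    simp only [conj_pow, hz3 _ h1, mem_center_iff.1 (hc h4) g, mul_inv_cancel_right, inv_pow, eq_inv_mul_iff_mul_eq] at c3
    have h5 := inv_mem (hc h4)
    refine ⟨x * (z * (x ^ 3)⁻¹), ⟨by rw [hz3 _ (mul_mem h1 h5), hz3 _ h5, ← c3]; group, isConj_iff.2 ⟨g, ?_⟩⟩, by simp [h1', h3, hx]⟩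
    rw [← mul_assoc, mul_assoc (g * x), ← mem_center_iff.1 (mul_mem h1 h5), ← mul_assoc, h2, mem_center_iff.1 (mul_mem h1 h5) x,
      mul_inv_rev, mul_assoc, mul_right_inj, eq_inv_iff_mul_eq_one, mul_assoc z, ← sq, hz3 _ h5, ← mul_assoc, ← pow_succ', ← c3]
    group
  · obtain ⟨z, h, h', rfl⟩ := hz (e.trans e'.symm)
    obtain ⟨⟨g, hg⟩, g', hg'⟩ := And.intro (isConj_iff.1 hx.2) (isConj_iff.1 hy.2)
    have h1 := (commute_of_commute_altCyc hab π h6 h7 hs hc e (g := g⁻¹ * g') (by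
      have := (congrArg π hg).trans (by simpa [h'] using (congrArg π hg').symm)
      simp only [map_mul, map_inv] at this ⊢
      rw [commute_iff_eq, mul_assoc, inv_mul_eq_iff_eq_mul, ← mul_assoc, ← mul_assoc, this, inv_mul_cancel_right])).eq
    rw [mul_assoc, inv_mul_eq_iff_eq_mul, ← mul_assoc, ← mul_assoc, hg] at h1
    rw [← mul_assoc, h1, mul_assoc _ z, ← mem_center_iff.1 h, mul_assoc, mul_inv_cancel_left, mem_center_iff.1 h x, mul_inv_rev,
      mul_right_inj, eq_inv_iff_mul_eq_one, ← sq] at hg'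
    have := hy.1
    rw [hz3 _ h, hx.1, one_mul, pow_succ, hg', one_mul] at this
    simp [this]

/-- Elements of a Clifford algebra lifting the transpositions. -/
theorem exists_clifford (α : Type) [Fintype α] [DecidableEq α] : ∃ (A : Type) (_ : Ring A) (t : α → α → A), (-1 : A) ≠ 1 ∧
    (∀ i j, i ≠ j → t i j * t i j = -1) ∧ (∀ i j k, i ≠ j → j ≠ k → i ≠ k → t j k * t i j = 1 - t i j * t j k) ∧
    (∀ i j k, t i j + t j k = t i k) ∧ ∀ i j k l, i ≠ k → i ≠ l → j ≠ k → j ≠ l → t k l * t i j = -(t i j * t k l) := by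
  let Q := QuadraticMap.weightedSumSquares (ZMod 3) fun _ : α => (1 : ZMod 3)
  have : Invertible (2 : ZMod 3) := ⟨2, rfl, rfl⟩
  have h1 : ∀ u v, QuadraticMap.polar Q u v = -(u ⬝ᵥ v) := fun u v => by
    simp only [Q, QuadraticMap.polar, QuadraticMap.weightedSumSquares_apply, dotProduct, ← Finset.sum_sub_distrib, ← Finset.sum_neg_distrib]
    exact Finset.sum_congr rfl fun i _ => by simp only [Pi.add_apply, smul_eq_mul]; have h3 : (3 : ZMod 3) = 0 := rfl; linear_combination (u i * v i) * h3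
  refine ⟨CliffordAlgebra Q, inferInstance, fun i j => CliffordAlgebra.ι Q (Pi.single i 1 - Pi.single j 1), fun h => ?_, fun i j h => ?_,
    fun i j k _ _ _ => ?_, fun i j k => by rw [← map_add, sub_add_sub_cancel], fun i j k l _ _ _ _ => ?_⟩
  · exact absurd ((algebraMap (ZMod 3) (CliffordAlgebra Q)).injective (a₁ := -1) (a₂ := 1) (by simpa using h)) (by decide)
  · rw [CliffordAlgebra.ι_sq_scalar, show Q _ = (Pi.single i 1 - Pi.single j 1) ⬝ᵥ (Pi.single i 1 - Pi.single j 1) by simp [Q, dotProduct],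
      show (_ ⬝ᵥ _ : ZMod 3) = -1 by simp [h, h.symm]; rfl]
    simp
  · rw [eq_sub_iff_add_eq, CliffordAlgebra.ι_mul_ι_add_swap, h1]; simp [*, Ne.symm]
  · rw [eq_neg_iff_add_eq_zero, CliffordAlgebra.ι_mul_ι_add_swap, h1]; simp [*, Ne.symm]

/-- The double cover of the alternating group. -/
theorem exists_alt_cover (α : Type) [Fintype α] [DecidableEq α] (h4 : 4 ≤ Fintype.card α) : ∃ (Γ : Type) (_ : Group Γ) (_ : Finite Γ)
    (π : Γ →* alternatingGroup α) (z : Γ), Function.Surjective π ∧ π.ker = zpowers z ∧ z ∈ center Γ ∧ orderOf z = 2 ∧ z ∈ commutator Γ := by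
  obtain ⟨a, b, hab⟩ := Fintype.exists_pair_of_one_lt_card (show 1 < Fintype.card α by omega)
  obtain ⟨A, _, t, h0, h1, h2, h3, h5⟩ := exists_clifford α
  let X : {i // i ≠ a ∧ i ≠ b} → Aˣ × alternatingGroup α := fun i => (⟨-(t a b * t b i), -(t b i * t a b),
    by rw [neg_mul_neg, mul_assoc, ← mul_assoc (t b i), h1 _ _ i.2.2.symm]; simp [h1 _ _ hab],
    by rw [neg_mul_neg, mul_assoc, ← mul_assoc (t a b), h1 _ _ hab]; simp [h1 _ _ i.2.2.symm]⟩, altCyc hab i)
  have e1 : ∀ i : {i // i ≠ a ∧ i ≠ b}, t a b * t b i * t a b = t a i := fun i => by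
    rw [mul_assoc, h2 _ _ _ hab i.2.2.symm i.2.1.symm, mul_sub, ← mul_assoc, h1 _ _ hab, ← h3 a b i]; simp
  have e3 : ∀ i, X i ^ 3 = 1 := fun i => Prod.ext (Units.ext (by
    have := i.2.2.symm
    change (-(t a b * t b i)) ^ 3 = 1
    simp only [pow_succ, pow_zero, one_mul, neg_mul, neg_neg, ← mul_assoc, e1, mul_neg]
    rw [← h3 a b i, add_mul, h1 _ _ this, add_mul, e1, ← h3 a b i]; simp [h1 _ _ this])) ((carm_altCyc hab).cube i trivial)
  have e2 : ∀ i j, i ≠ j → (X i * X j) ^ 2 = (-1, 1) := fun i j h => Prod.ext (Units.ext (by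
    change (-(t a b * t b i) * -(t a b * t b j)) ^ 2 = -1
    rw [neg_mul_neg, ← mul_assoc, e1, sq, ← mul_assoc, mul_assoc (t a i), h5 _ _ _ _ hab j.2.1.symm i.2.2 (Subtype.coe_ne_coe.2 h), mul_neg, ← mul_assoc, h1 _ _ i.2.1.symm]
    simp [h1 _ _ j.2.2.symm])) ((carm_altCyc hab).sq i trivial j trivial h)
  obtain ⟨i, j, hij⟩ := Fintype.exists_pair_of_one_lt_card (show 1 < Fintype.card {i // i ≠ a ∧ i ≠ b} by
    have := card_ne_ne hab; omega)
  let Y : _ → closure (Set.range X) := fun i => ⟨X i, subset_closure ⟨i, rfl⟩⟩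
  have hY : closure (Set.range Y) = ⊤ := closure_range_eq_top_of_le Y le_rfl
  let π := (MonoidHom.snd _ _).comp (closure (Set.range X)).subtype
  have z1 : ∀ i j, i ≠ j → ((Y i * Y j) ^ 2).1 = (-1, 1) := e2
  have z2 : (Y i * Y j) ^ 2 ∈ center _ := mem_center_iff.2 fun g => Subtype.ext (by rw [coe_mul, coe_mul _ _ g, z1 i j hij]; ext <;> simp)
  have z3 : orderOf ((Y i * Y j) ^ 2) = 2 := orderOf_eq_prime (Subtype.ext (by rw [coe_pow, z1 i j hij]; simp)) fun e =>
    h0 (by simpa [Units.ext_iff] using (z1 i j hij).symm.trans (congrArg Subtype.val e))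
  have : (zpowers ((Y i * Y j) ^ 2)).Normal := ⟨fun x hx g => by
    rwa [mem_center_iff.1 (zpowers_le.2 z2 hx) g, mul_inv_cancel_right]⟩
  have hk : π.ker = zpowers ((Y i * Y j) ^ 2) := le_antisymm (fun g hg => mem_of_carm hab π (X := Y) (fun _ => rfl) _
    (fun i => (show Y i ^ 3 = 1 from Subtype.ext (e3 i)) ▸ one_mem _) (fun k l h => (show (Y i * Y j) ^ 2 = (Y k * Y l) ^ 2 from
      Subtype.ext ((z1 i j hij).trans (z1 k l h).symm)) ▸ mem_zpowers _) (hY ▸ mem_top g) hg)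
    (zpowers_le.2 (congrArg Prod.snd (z1 i j hij)))
  refine ⟨_, inferInstance, ?_, π, _, MonoidHom.range_eq_top.1 (eq_top_iff.2 ?_), hk, z2, z3, ?_⟩
  · have : Finite π.ker := hk ▸ Nat.finite_of_card_ne_zero (by simp [z3])
    exact (MonoidHom.finite_iff_finite_ker_range π).2 ⟨this, inferInstance⟩
  · rw [← closure_altCyc hab, closure_le]; rintro _ ⟨i, rfl⟩; exact ⟨Y i, rfl⟩
  rw [← Abelianization.ker_of, MonoidHom.mem_ker]
  have y3 : ∀ i, Abelianization.of (Y i) ^ 3 = 1 := fun i => by rw [← map_pow, show Y i ^ 3 = 1 from Subtype.ext (e3 i), map_one]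
  have : Abelianization.of ((Y i * Y j) ^ 2) ^ 3 = 1 := by rw [map_pow, ← pow_mul, mul_comm, pow_mul, map_mul, mul_pow, y3, y3]; simp
  rwa [pow_succ, ← map_pow, orderOf_dvd_iff_pow_eq_one.1 z3.dvd, map_one, one_mul] at this

end Cfsg.Lib.Linear
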