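/-
The cubic form in 27 variables: polarisations and structure constants.
-/
import Cfsg.Prelude.Def_E6

set_option autoImplicit false

namespace Cfsg.Lib.Linear.Cub

open Cfsg.Lie Matrix

section ring
variable {R : Type*} [CommRing R]

/-- The cross product. -/
def cr (x y : I27 → R) (c : I27) : R :=
  x (c.1, c.2.1 + 1, c.2.2 + 1) * y (c.1, c.2.1 + 2, c.2.2 + 2) +
    x (c.1, c.2.1 + 2, c.2.2 + 2) * y (c.1, c.2.1 + 1, c.2.2 + 1) -
    x (c.1, c.2.1 + 1, c.2.2 + 2) * y (c.1, c.2.1 + 2, c.2.2 + 1) -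
    x (c.1, c.2.1 + 2, c.2.2 + 1) * y (c.1, c.2.1 + 1, c.2.2 + 2) -
    x (c.1 + 1, c.2.2, 0) * y (c.1 + 2, 0, c.2.1) - x (c.1 + 2, 0, c.2.1) * y (c.1 + 1, c.2.2, 0) -
    x (c.1 + 1, c.2.2, 1) * y (c.1 + 2, 1, c.2.1) - x (c.1 + 2, 1, c.2.1) * y (c.1 + 1, c.2.2, 1) -
    x (c.1 + 1, c.2.2, 2) * y (c.1 + 2, 2, c.2.1) - x (c.1 + 2, 2, c.2.1) * y (c.1 + 1, c.2.2, 2)

/-- The adjoint. -/
def sh (x : I27 → R) (c : I27) : R :=
  x (c.1, c.2.1 + 1, c.2.2 + 1) * x (c.1, c.2.1 + 2, c.2.2 + 2) -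
    x (c.1, c.2.1 + 1, c.2.2 + 2) * x (c.1, c.2.1 + 2, c.2.2 + 1) -
    x (c.1 + 1, c.2.2, 0) * x (c.1 + 2, 0, c.2.1) - x (c.1 + 1, c.2.2, 1) * x (c.1 + 2, 1, c.2.1) -
    x (c.1 + 1, c.2.2, 2) * x (c.1 + 2, 2, c.2.1)

/-- The basis vectors. -/
def bs (a b : I27) : R := if b = a then 1 else 0

theorem sh_add (x y : I27 → R) : sh (x + y) = sh x + sh y + cr x y := by
  funext c; simp only [sh, cr, Pi.add_apply]; ring

theorem cr_comm (x y : I27 → R) : cr x y = cr y x := by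
  funext c; simp only [cr]; ring

theorem cr_add (x y z : I27 → R) : cr x (y + z) = cr x y + cr x z := by
  funext c; simp only [cr, Pi.add_apply]; ring

theorem cr_smul (x y : I27 → R) (t : R) : cr x (t • y) = t • cr x y := by
  funext c; simp only [cr, Pi.smul_apply, smul_eq_mul]; ring

theorem smul_cr (x y : I27 → R) (t : R) : cr (t • x) y = t • cr x y := by
  rw [cr_comm, cr_smul, cr_comm]

theorem cub_eq (v : I27 → R) : cubicT v =
    v (0,0,0) * v (0,1,1) * v (0,2,2) - v (0,0,0) * v (0,1,2) * v (0,2,1) - v (0,0,1) * v (0,1,0) * v (0,2,2)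
      + v (0,0,1) * v (0,1,2) * v (0,2,0) + v (0,0,2) * v (0,1,0) * v (0,2,1) - v (0,0,2) * v (0,1,1) * v (0,2,0) +
    (v (1,0,0) * v (1,1,1) * v (1,2,2) - v (1,0,0) * v (1,1,2) * v (1,2,1) - v (1,0,1) * v (1,1,0) * v (1,2,2)
      + v (1,0,1) * v (1,1,2) * v (1,2,0) + v (1,0,2) * v (1,1,0) * v (1,2,1) - v (1,0,2) * v (1,1,1) * v (1,2,0)) +
    (v (2,0,0) * v (2,1,1) * v (2,2,2) - v (2,0,0) * v (2,1,2) * v (2,2,1) - v (2,0,1) * v (2,1,0) * v (2,2,2)
      + v (2,0,1) * v (2,1,2) * v (2,2,0) + v (2,0,2) * v (2,1,0) * v (2,2,1) - v (2,0,2) * v (2,1,1) * v (2,2,0)) -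
    ∑ i : Fin 3, ∑ j : Fin 3, ∑ l : Fin 3, v (0, i, j) * v (1, j, l) * v (2, l, i) := by
  simp only [cubicT, mat3, det_fin_three, of_apply, trace, diag_apply, mul_apply, Fin.sum_univ_three]
  ring

theorem cub_add (x y : I27 → R) (t : R) :
    cubicT (x + t • y) = cubicT x + t * (sh x ⬝ᵥ y) + t ^ 2 * (sh y ⬝ᵥ x) + t ^ 3 * cubicT y := by
  simp only [cub_eq, dotProduct, Fintype.sum_prod_type, Fin.sum_univ_three, sh, Pi.add_apply, Pi.smul_apply,
    smul_eq_mul, Fin.reduceAdd]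
  ring

theorem cr_dot (x y z : I27 → R) : cr x y ⬝ᵥ z = cr x z ⬝ᵥ y := by
  simp only [dotProduct, Fintype.sum_prod_type, Fin.sum_univ_three, cr, Fin.reduceAdd]
  ring

theorem bs_self (a : I27) : (bs a a : R) = 1 := if_pos rfl

theorem bs_ne {a b : I27} (h : b ≠ a) : (bs a b : R) = 0 := if_neg h

theorem dot_bs (x : I27 → R) (a : I27) : x ⬝ᵥ bs a = x a := by simp [dotProduct, bs]

theorem bs_dot (x : I27 → R) (a : I27) : bs a ⬝ᵥ x = x a := by rw [dotProduct_comm, dot_bs]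

theorem cast_bs (a b : I27) : ((bs a b : ℤ) : R) = bs a b := by unfold bs; split_ifs <;> simp

theorem mulVec_bs (M : Matrix I27 I27 R) (a b : I27) : (M *ᵥ bs a) b = M b a := dot_bs _ _

end ring

/-- The structure constants. -/
def dz (a b c : I27) : ℤ := cr (bs a) (bs b) c

/-- Two weights in a common monomial. -/
def nb (a b : I27) : Bool :=
  if b.1 = a.1 then b.2.1 != a.2.1 && b.2.2 != a.2.2 else if b.1 = a.1 + 1 then b.2.1 == a.2.2 else b.2.2 == a.2.1

/-- The third weight in the monomial. -/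
def thd (a b : I27) : I27 :=
  if b.1 = a.1 then (a.1, 2 * (a.2.1 + b.2.1), 2 * (a.2.2 + b.2.2))
  else if b.1 = a.1 + 1 then (a.1 + 2, b.2.2, a.2.1) else (a.1 + 1, a.2.2, b.2.1)

theorem dz_zero : ∀ a b c : I27, nb a b = false ∨ c ≠ thd a b → dz a b c = 0 := by decide +kernel

theorem dz_thd : ∀ a b : I27, nb a b = true → (dz a b (thd a b) = 1 ∨ dz a b (thd a b) = -1) ∧
    nb a (thd a b) = true ∧ thd a (thd a b) = b ∧ nb b a = true ∧ thd b a = thd a b := by decide +kernel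

theorem nb_self : ∀ a : I27, nb a a = false := by decide +kernel

theorem sh_pairs : ∀ p c : I27, nb p c = true →
    (nb p (c.1, c.2.1 + 1, c.2.2 + 1) = false ∨ nb p (c.1, c.2.1 + 2, c.2.2 + 2) = false) ∧
    (nb p (c.1, c.2.1 + 1, c.2.2 + 2) = false ∨ nb p (c.1, c.2.1 + 2, c.2.2 + 1) = false) ∧
    (nb p (c.1 + 1, c.2.2, 0) = false ∨ nb p (c.1 + 2, 0, c.2.1) = false) ∧
    (nb p (c.1 + 1, c.2.2, 1) = false ∨ nb p (c.1 + 2, 1, c.2.1) = false) ∧
    (nb p (c.1 + 1, c.2.2, 2) = false ∨ nb p (c.1 + 2, 2, c.2.1) = false) := by decide +kernel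

theorem sh_bs_int : ∀ a c : I27, (sh (bs a) c : ℤ) = 0 := by decide +kernel

theorem nb_symm (a b : I27) : nb a b = nb b a := by
  cases h : nb a b
  · cases h' : nb b a
    · rfl
    · rw [(dz_thd _ _ h').2.2.2.1] at h; cases h
  · exact (dz_thd _ _ h).2.2.2.1.symm

section ring
variable {R : Type*} [CommRing R]

theorem cr_bs_bs (a b c : I27) : (cr (bs a) (bs b) c : R) = dz a b c := by
  simp only [dz, cr, ← cast_bs (R := R)]; push_cast; rfl

theorem sh_bs (a : I27) : (sh (bs a) : I27 → R) = 0 := by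
  funext c
  have := congrArg (Int.cast : ℤ → R) (sh_bs_int a c)
  simp only [sh] at this ⊢
  push_cast at this
  simpa only [cast_bs, Pi.zero_apply] using this

/-- The sign of a monomial. -/
def sg (R : Type*) [CommRing R] (a b : I27) : R := dz a b (thd a b)

theorem sg_sq {a b : I27} (h : nb a b = true) : sg R a b * sg R a b = 1 := by
  unfold sg; rcases (dz_thd a b h).1 with e | e <;> rw [e] <;> simp

theorem cr_bs_bs_of_nb {a b : I27} (h : nb a b = true) :
    cr (bs a) (bs b) = sg R a b • (bs (thd a b) : I27 → R) := by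
  funext c
  rw [cr_bs_bs, Pi.smul_apply, smul_eq_mul]
  by_cases e : c = thd a b
  · rw [e, bs_self, mul_one, sg]
  · rw [bs_ne e, dz_zero a b c (.inr e)]; simp

theorem cr_bs_bs_of_not {a b : I27} (h : nb a b = false) : (cr (bs a) (bs b) : I27 → R) = 0 := by
  funext c; rw [cr_bs_bs, dz_zero a b c (.inl h)]; simp

theorem cr_bs (a c : I27) (v : I27 → R) : cr (bs a) v c = cr (bs a) (bs c) ⬝ᵥ v := by
  rw [← dot_bs (cr (bs a) v), cr_dot]

theorem cr_bs_of_nb {a c : I27} (h : nb a c = true) (v : I27 → R) : cr (bs a) v c = sg R a c * v (thd a c) := by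
  rw [cr_bs, cr_bs_bs_of_nb h, smul_dotProduct, bs_dot, smul_eq_mul]

theorem cr_bs_of_not {a c : I27} (h : nb a c = false) (v : I27 → R) : cr (bs a) v c = 0 := by
  rw [cr_bs, cr_bs_bs_of_not h, zero_dotProduct]

theorem eq_bs_of_sing {v : I27 → R} (hv : sh v = 0) {p : I27} (h1 : v p = 1)
    (h2 : ∀ q, q ≠ p → nb p q = false → v q = 0) : v = bs p := by
  have hw : ∀ q, nb p q = false → (v - bs p : I27 → R) q = 0 := fun q hq => by
    by_cases e : q = p
    · rw [e, Pi.sub_apply, h1, bs_self, sub_self]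
    · rw [Pi.sub_apply, h2 q e hq, bs_ne e, sub_self]
  have e : v = bs p + (v - bs p) := by abel
  rw [← sub_eq_zero]
  generalize v - bs p = w at hw e
  funext r
  cases hr : nb p r
  · exact hw r hr
  obtain ⟨-, a1, a2, -⟩ := dz_thd p r hr
  have := congrFun hv (thd p r)
  rw [e, sh_add, sh_bs, Pi.add_apply, Pi.add_apply, cr_bs_of_nb a1, a2] at this
  have h0 : sh w (thd p r) = 0 := by
    obtain ⟨b1, b2, b3, b4, b5⟩ := sh_pairs p _ a1
    have k : ∀ a b, nb p a = false ∨ nb p b = false → w a * w b = 0 := by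
      rintro a b (h | h) <;> simp [hw _ h]
    simp only [sh, k _ _ b1, k _ _ b2, k _ _ b3, k _ _ b4, k _ _ b5, sub_self]
  rw [h0] at this
  have h3 := sg_sq (R := R) a1
  simp only [Pi.zero_apply, zero_add] at this ⊢
  linear_combination sg R p (thd p r) * this - w r * h3

/-- The root vectors. -/
def DD (p q : I27) (z : I27 → R) : I27 → R := z p • bs q - cr (bs p) (cr (bs q) z)

theorem DD_of_not {p q ν : I27} (h : nb p ν = false) (z : I27 → R) : DD p q z ν = z p * bs q ν := by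
  simp only [DD, Pi.sub_apply, cr_bs_of_not h, Pi.smul_apply, smul_eq_mul, sub_zero]

theorem DD_bs {p q f : I27} (h1 : f ≠ p) (h2 : nb q f = false ∨ nb p (thd q f) = false) :
    (DD p q (bs f) : I27 → R) = 0 := by
  rw [DD, bs_ne h1.symm, zero_smul, zero_sub, neg_eq_zero]
  cases h : nb q f
  · rw [cr_bs_bs_of_not h, ← zero_smul R (0 : I27 → R), cr_smul, zero_smul, zero_smul]
  · rw [cr_bs_bs_of_nb h, cr_smul, cr_bs_bs_of_not (h2.resolve_left (by simp [h])), smul_zero]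

end ring

section field
variable {F : Type*} [Field F] [Fintype F] (hF : 3 ≤ Fintype.card F) {g : GL I27 F} (hg : g ∈ E6univ F)
include hF hg

theorem sh_inv (x y : I27 → F) : sh (g.val *ᵥ x) ⬝ᵥ (g.val *ᵥ y) = sh x ⬝ᵥ y := by
  classical
  have hg' : ∀ v, cubicT (g.val *ᵥ v) = cubicT v := hg
  have key : ∀ t : F, t ≠ 0 → (sh (g.val *ᵥ x) ⬝ᵥ (g.val *ᵥ y) - sh x ⬝ᵥ y) +
      t * (sh (g.val *ᵥ y) ⬝ᵥ (g.val *ᵥ x) - sh y ⬝ᵥ x) = 0 := fun t ht => by
    have := hg' (x + t • y)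
    rw [mulVec_add, mulVec_smul, cub_add, cub_add, hg', hg'] at this
    apply mul_left_cancel₀ ht
    linear_combination this
  obtain ⟨t, ht⟩ : ∃ t : F, t ∉ ({0, 1} : Finset F) := by
    by_contra h
    push Not at h
    have := Finset.card_le_card (fun t _ => h t : Finset.univ ⊆ ({0, 1} : Finset F))
    have := (Finset.card_le_two (a := (0 : F)) (b := 1))
    rw [Finset.card_univ] at *; omega
  simp only [Finset.mem_insert, Finset.mem_singleton, not_or] at ht
  have e1 := key 1 one_ne_zero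
  have e2 := key t ht.1
  apply mul_left_cancel₀ (sub_ne_zero.2 ht.2)
  linear_combination t * e1 - e2

theorem cr_inv (x y z : I27 → F) : cr (g.val *ᵥ x) (g.val *ᵥ y) ⬝ᵥ (g.val *ᵥ z) = cr x y ⬝ᵥ z := by
  have := sh_inv hF hg (x + y) z
  rw [mulVec_add, sh_add, sh_add, add_dotProduct, add_dotProduct, add_dotProduct, add_dotProduct,
    sh_inv hF hg, sh_inv hF hg] at this
  exact add_left_cancel this

omit hF hg in
theorem eq_zero_of_dot (g : GL I27 F) {v : I27 → F} (h : ∀ z, v ⬝ᵥ (g.val *ᵥ z) = 0) : v = 0 := by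
  funext c
  have := h ((g⁻¹).val *ᵥ bs c)
  rwa [mulVec_mulVec, ← Units.val_mul, mul_inv_cancel, Units.val_one, one_mulVec, dot_bs] at this

theorem sh_col (a : I27) : sh (g.val *ᵥ bs a) = 0 :=
  eq_zero_of_dot g fun z => by rw [sh_inv hF hg, sh_bs, zero_dotProduct]

theorem zero_one {f x y : I27} {t : F} (ht : t ≠ 0) (hf : g.val *ᵥ bs f = t • bs f) (h1 : nb f y = true)
    (h2 : nb f x = false) : g.val y x = 0 := by
  have h3 : cr (bs f) (g.val *ᵥ bs x) = 0 := eq_zero_of_dot g fun z => by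
    have := cr_inv hF hg (bs f) (bs x) z
    rw [hf, smul_cr, cr_bs_bs_of_not h2, zero_dotProduct, smul_dotProduct] at this
    exact (smul_eq_zero.1 this).resolve_left ht
  obtain ⟨-, a1, a2, -⟩ := dz_thd f y h1
  have := congrFun h3 (thd f y)
  rw [cr_bs_of_nb a1, a2, mulVec_bs] at this
  have h4 := sg_sq (R := F) a1
  simp only [Pi.zero_apply] at this
  linear_combination sg F f (thd f y) * this - g.val y x * h4

theorem row_two {f f' : I27} {t t' : F} (hf : g.val *ᵥ bs f = t • bs f) (hf' : g.val *ᵥ bs f' = t' • bs f')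
    (h : nb f f' = true) (x : I27) : t * t' * g.val (thd f f') x = bs x (thd f f') := by
  have := cr_inv hF hg (bs f) (bs f') (bs x)
  rw [hf, hf', smul_cr, cr_smul, cr_bs_bs_of_nb h, smul_dotProduct, smul_dotProduct, smul_dotProduct,
    smul_dotProduct, bs_dot, bs_dot, mulVec_bs] at this
  have h4 := sg_sq (R := F) h
  simp only [smul_eq_mul] at this
  linear_combination sg F f f' * this - (t * t' * g.val (thd f f') x - bs x (thd f f')) * h4

theorem exists_ne {f x : I27} (hf : g.val *ᵥ bs f = bs f) (h : nb f x = true) :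
    ∃ y, nb f y = true ∧ g.val y x ≠ 0 := by
  by_contra H
  push Not at H
  have h3 : cr (bs f) (g.val *ᵥ bs x) = 0 := by
    funext c
    cases hc : nb f c
    · exact cr_bs_of_not hc _
    · rw [cr_bs_of_nb hc, mulVec_bs, H _ (dz_thd f c hc).2.1, mul_zero]; rfl
  have := cr_inv hF hg (bs f) (bs x) (bs (thd f x))
  rw [hf, h3, zero_dotProduct, dot_bs, cr_bs_bs_of_nb h, Pi.smul_apply, bs_self, smul_eq_mul, mul_one] at this
  have h4 := sg_sq (R := F) h
  rw [← this] at h4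
  simp at h4

end field

end Cfsg.Lib.Linear.Cub
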