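/-
The isometry group of the cubic form in 27 variables is generated by its root elements.
-/
import Cfsg.Agent.Lib.Linear.CubA

set_option autoImplicit false

namespace Cfsg.Lib.Linear.Cub

open Cfsg.Lie Matrix

/-- The root element moving `p` to `q` fixes the basis vectors in `L`. -/
def alw (L : List I27) (p q : I27) : Bool :=
  p != q && !nb p q && L.all fun f => f != p && (!nb q f || !nb p (thd q f))

/-- An entry that is forced to vanish. -/
def zchk (L : List I27) (x y : I27) : Bool :=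
  (L.any fun f => nb f y && !nb f x) || L.any fun f => L.any fun f' => nb f f' && thd f f' == y

/-- A diagonal entry that is forced to be one. -/
def ochk (L : List I27) (x : I27) : Bool := L.any fun f => L.any fun f' => nb f f' && thd f f' == x

variable {F : Type*} [Field F]

/-- The basis vectors in `L` are fixed. -/
def Fx (L : List I27) (g : GL I27 F) : Prop := ∀ f ∈ L, g.val *ᵥ bs f = bs f

/-- The basis vectors in `L` are eigenvectors. -/
def Dgs (L : List I27) (g : GL I27 F) : Prop := ∀ f ∈ L, ∃ t : F, t ≠ 0 ∧ g.val *ᵥ bs f = t • bs f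

theorem Fx.dgs {L : List I27} {g : GL I27 F} (h : Fx L g) : Dgs L g :=
  fun f hf => ⟨1, one_ne_zero, by rw [one_smul, h f hf]⟩

theorem Fx.mul {L : List I27} {g u : GL I27 F} (hu : Fx L u) (h : Fx L g) : Fx L (u * g) :=
  fun f hf => by rw [Units.val_mul, ← mulVec_mulVec, h f hf, hu f hf]

theorem eq_one_of_fix {g : GL I27 F} (h : ∀ x, g.val *ᵥ bs x = bs x) : g = 1 := by
  refine Units.ext (Matrix.ext fun i j => ?_)
  rw [← mulVec_bs g.val, h, Units.val_one, one_apply, bs]

theorem col_ne (g : GL I27 F) (x : I27) : ∃ y, g.val y x ≠ 0 := by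
  by_contra h
  push Not at h
  have h1 : g.val *ᵥ bs x = 0 := funext fun y => by rw [mulVec_bs, h]; rfl
  have := congrFun (congrArg ((g⁻¹).val *ᵥ ·) h1) x
  simp only [mulVec_mulVec, ← Units.val_mul, inv_mul_cancel, Units.val_one, one_mulVec, bs_self, mulVec_zero] at this
  simp at this

theorem mul_entry (u g : GL I27 F) (y x : I27) : (u * g).val y x = (u.val *ᵥ (g.val *ᵥ bs x)) y := by
  rw [mulVec_mulVec, mulVec_bs, Units.val_mul]

variable (E : Subgroup (GL I27 F))

/-- Isometries fixing `L` lie in `E`. -/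
def PP (L : List I27) : Prop := ∀ g ∈ E6univ F, Fx L g → g ∈ E

/-- The same, given a non-zero entry. -/
def QQ (L : List I27) (x : I27) (M : List I27) : Prop :=
  ∀ g ∈ E6univ F, Fx L g → (∃ y ∈ M, g.val y x ≠ 0) → g ∈ E

/-- The same, given a diagonal entry. -/
def Q1 (L : List I27) (x : I27) : Prop := ∀ g ∈ E6univ F, Fx L g → g.val x x = 1 → g ∈ E

/-- `E` contains the root elements. -/
def Has (p q : I27) : Prop := ∀ t : F, ∃ u ∈ E, ∀ z, u.val *ᵥ z = z + t • DD p q z

variable {E}

section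
variable (hE : E ≤ E6univ F) (hX : ∀ p q, p ≠ q → nb p q = false → Has E p q)
include hX

theorem mv {L : List I27} {p q : I27} (h : alw L p q = true) (t : F) : ∃ u ∈ E, Fx L u ∧
    ∀ (g : GL I27 F) x ν, nb p ν = false → (u * g).val ν x = g.val ν x + t * g.val p x * bs q ν := by
  simp only [alw, Bool.and_eq_true, bne_iff_ne, ne_eq, Bool.not_eq_true', List.all_eq_true, Bool.or_eq_true] at h
  obtain ⟨u, hu, e⟩ := hX p q h.1.1 h.1.2 t
  refine ⟨u, hu, fun f hf => ?_, fun g x ν hν => ?_⟩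
  · rw [e, DD_bs (h.2 f hf).1 (h.2 f hf).2, smul_zero, add_zero]
  · rw [mul_entry, e, Pi.add_apply, Pi.smul_apply, DD_of_not hν, mulVec_bs, mulVec_bs, smul_eq_mul, mul_assoc]

omit hX in
theorem alw_spec {L : List I27} {p q : I27} (h : alw L p q = true) : p ≠ q ∧ nb p q = false := by
  simp only [alw, Bool.and_eq_true, bne_iff_ne, ne_eq, Bool.not_eq_true'] at h
  exact h.1

include hE

theorem stage {L : List I27} {x : I27} {M M' : List I27} (h : QQ E L x M')
    (hc : ∀ y ∈ M, y ∈ M' ∨ ∃ y' ∈ M', alw L y y' = true) : QQ E L x M := by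
  rintro g hg hf ⟨y, hy, h0⟩
  rcases hc y hy with h1 | ⟨y', h1, h2⟩
  · exact h g hg hf ⟨y, h1, h0⟩
  by_cases h3 : g.val y' x = 0
  swap
  · exact h g hg hf ⟨y', h1, h3⟩
  obtain ⟨u, hu, a, b⟩ := mv hX h2 1
  refine (E.mul_mem_cancel_left hu).1 (h _ (mul_mem (hE hu) hg) (a.mul hf) ⟨y', h1, ?_⟩)
  rwa [b g x y' (alw_spec h2).2, h3, bs_self, zero_add, one_mul, mul_one]

theorem set_one {L : List I27} {x x' : I27} (h : Q1 E L x) (hc : alw L x' x = true) : QQ E L x [x'] := by
  rintro g hg hf ⟨y, hy, h0⟩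
  obtain rfl := List.mem_singleton.1 hy
  obtain ⟨u, hu, a, b⟩ := mv hX hc ((1 - g.val x x) / g.val y x)
  refine (E.mul_mem_cancel_left hu).1 (h _ (mul_mem (hE hu) hg) (a.mul hf) ?_)
  rw [b g x x (alw_spec hc).2, bs_self, mul_one, div_mul_cancel₀ _ h0, add_sub_cancel]

end

variable [Fintype F] (hF : 3 ≤ Fintype.card F)
include hF

theorem zero_of_chk {L : List I27} {g : GL I27 F} (hg : g ∈ E6univ F) (hf : Dgs L g) {x y : I27}
    (h : zchk L x y = true) (e : y ≠ x) : g.val y x = 0 := by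
  simp only [zchk, Bool.or_eq_true, List.any_eq_true, Bool.and_eq_true, Bool.not_eq_true', beq_iff_eq] at h
  rcases h with ⟨f, h1, h2, h3⟩ | ⟨f, h1, f', h2, h3, rfl⟩
  · obtain ⟨t, ht, a⟩ := hf f h1
    exact zero_one hF hg ht a h2 h3
  · obtain ⟨t, ht, a⟩ := hf f h1
    obtain ⟨t', ht', a'⟩ := hf f' h2
    have := row_two hF hg a a' h3 x
    rw [bs_ne e] at this
    exact (mul_eq_zero.1 this).resolve_left (mul_ne_zero ht ht')

theorem one_of_chk {L : List I27} {g : GL I27 F} (hg : g ∈ E6univ F) (hf : Fx L g) {x : I27}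
    (h : ochk L x = true) : g.val x x = 1 := by
  simp only [ochk, List.any_eq_true, Bool.and_eq_true, beq_iff_eq] at h
  obtain ⟨f, h1, f', h2, h3, rfl⟩ := h
  have := row_two hF hg (t := 1) (t' := 1) (by rw [one_smul, hf f h1]) (by rw [one_smul, hf f' h2]) h3 (thd f f')
  rwa [bs_self, one_mul, one_mul] at this

theorem dg_step {L : List I27} {g : GL I27 F} (hg : g ∈ E6univ F) (hf : Dgs L g) (x : I27)
    (h : ∀ y, y = x ∨ zchk L x y = true) : Dgs (x :: L) g := by
  intro f hf'
  rcases List.mem_cons.1 hf' with rfl | h1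
  swap
  · exact hf f h1
  have h2 : ∀ y, y ≠ f → g.val y f = 0 := fun y e => zero_of_chk hF hg hf ((h y).resolve_left e) e
  refine ⟨g.val f f, fun h0 => ?_, funext fun y => ?_⟩
  · obtain ⟨y, hy⟩ := col_ne g f
    by_cases e : y = f
    · exact hy (e ▸ h0)
    · exact hy (h2 y e)
  · rw [mulVec_bs, Pi.smul_apply, smul_eq_mul]
    by_cases e : y = f
    · rw [e, bs_self, mul_one]
    · rw [h2 y e, bs_ne e, mul_zero]

theorem one_step {L : List I27} {g : GL I27 F} (hg : g ∈ E6univ F)
    (d : ∀ x, ∃ t : F, t ≠ 0 ∧ g.val *ᵥ bs x = t • bs x) (hf : Fx L g) (x : I27) (h : ochk L x = true) :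
    Fx (x :: L) g := by
  intro f hf'
  rcases List.mem_cons.1 hf' with rfl | h1
  swap
  · exact hf f h1
  obtain ⟨t, -, e⟩ := d f
  have := congrFun e f
  rw [mulVec_bs, one_of_chk hF hg hf h, Pi.smul_apply, bs_self, smul_eq_mul, mul_one] at this
  rw [e, ← this, one_smul]

theorem of_one {L : List I27} {x : I27} (h : Q1 E L x) (hc : ochk L x = true) : PP E L :=
  fun g hg hf => h g hg hf (one_of_chk hF hg hf hc)

theorem of_ne {L : List I27} {x : I27} {M : List I27} (h : QQ E L x M)
    (hc : ∀ y, y ∈ M ∨ (y ≠ x ∧ zchk L x y = true)) : PP E L := fun g hg hf => by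
  obtain ⟨y, hy⟩ := col_ne g x
  exact h g hg hf ⟨y, (hc y).resolve_right fun a => hy (zero_of_chk hF hg hf.dgs a.2 a.1), hy⟩

theorem of_nb {L : List I27} {x f : I27} {M : List I27} (h : QQ E L x M) (h1 : f ∈ L) (h2 : nb f x = true)
    (hc : ∀ y, nb f y = true → y ∈ M) : PP E L := fun g hg hf => by
  obtain ⟨y, hy, h0⟩ := exists_ne hF hg (hf f h1) h2
  exact h g hg hf ⟨y, hc y hy, h0⟩

variable (hE : E ≤ E6univ F) (hX : ∀ p q, p ≠ q → nb p q = false → Has E p q)
include hE hX

theorem clear {L : List I27} {x : I27} (h : PP E (x :: L))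
    (hc : ∀ y, y = x ∨ nb x y = true ∨ zchk L x y = true ∨ alw L x y = true) : Q1 E L x := by
  intro g hg hf h1
  have key : ∀ s : Finset I27, ∃ u ∈ E, Fx L u ∧ (u * g).val x x = 1 ∧
      ∀ y ∈ s, alw L x y = true → (u * g).val y x = 0 := by
    intro s
    induction s using Finset.induction_on with
    | empty => exact ⟨1, one_mem _, fun f _ => by simp, by rwa [one_mul], by simp⟩
    | insert y s hy ih =>
      obtain ⟨u, hu, a, b, c⟩ := ih
      by_cases h2 : alw L x y = true
      swap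
      · exact ⟨u, hu, a, b, fun z hz hz' => c z ((Finset.mem_insert.1 hz).resolve_left
          fun e => h2 (e ▸ hz')) hz'⟩
      obtain ⟨u', hu', a', b'⟩ := mv hX h2 (-(u * g).val y x)
      refine ⟨u' * u, mul_mem hu' hu, a'.mul a, ?_, fun z hz hz' => ?_⟩
      · rw [mul_assoc, b' _ x x (nb_self x), b, bs_ne (alw_spec h2).1, mul_zero, add_zero]
      · rw [mul_assoc, b' _ x z (alw_spec hz').2, b]
        rcases Finset.mem_insert.1 hz with rfl | hz
        · rw [bs_self]; ring
        · rw [c z hz hz', bs_ne (fun e : z = y => hy (e ▸ hz)), mul_zero, add_zero]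
  obtain ⟨u, hu, a, b, c⟩ := key Finset.univ
  have hg' := mul_mem (hE hu) hg
  refine (E.mul_mem_cancel_left hu).1 (h _ hg' fun f hf' => ?_)
  rcases List.mem_cons.1 hf' with rfl | h2
  swap
  · exact a.mul hf f h2
  refine eq_bs_of_sing (sh_col hF hg' f) (by rw [mulVec_bs, b]) fun q h3 h4 => ?_
  rw [mulVec_bs]
  rcases hc q with e | e | e | e
  · exact absurd e h3
  · rw [h4] at e; cases e
  · exact zero_of_chk hF hg' (a.mul hf).dgs e h3
  · exact c q (Finset.mem_univ _) e

theorem gen_all {g : GL I27 F} (hg : g ∈ E6univ F) : g ∈ E := by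
  have h11 : PP E [(1,1,1), (2,1,1), (2,0,1), (1,1,0), (0,2,0), (0,0,2), (2,0,0), (1,0,0), (0,2,2), (0,1,1), (0,0,0)] := fun g hg hf => by
    have d0 := hf.dgs
    have d1 := dg_step hF hg d0 (0,0,1) (by decide +kernel)
    have d2 := dg_step hF hg d1 (0,1,0) (by decide +kernel)
    have d3 := dg_step hF hg d2 (0,1,2) (by decide +kernel)
    have d4 := dg_step hF hg d3 (0,2,1) (by decide +kernel)
    have d5 := dg_step hF hg d4 (1,0,1) (by decide +kernel)
    have d6 := dg_step hF hg d5 (1,0,2) (by decide +kernel)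
    have d7 := dg_step hF hg d6 (1,1,2) (by decide +kernel)
    have d8 := dg_step hF hg d7 (1,2,0) (by decide +kernel)
    have d9 := dg_step hF hg d8 (1,2,1) (by decide +kernel)
    have d10 := dg_step hF hg d9 (1,2,2) (by decide +kernel)
    have d11 := dg_step hF hg d10 (2,0,2) (by decide +kernel)
    have d12 := dg_step hF hg d11 (2,1,0) (by decide +kernel)
    have d13 := dg_step hF hg d12 (2,1,2) (by decide +kernel)
    have d14 := dg_step hF hg d13 (2,2,0) (by decide +kernel)
    have d15 := dg_step hF hg d14 (2,2,1) (by decide +kernel)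
    have d16 := dg_step hF hg d15 (2,2,2) (by decide +kernel)
    have d : ∀ x, ∃ t : F, t ≠ 0 ∧ g.val *ᵥ bs x = t • bs x := fun x => d16 x (by revert x; decide +kernel)
    have o0 := hf
    have o1 := one_step hF hg d o0 (0,0,1) (by decide +kernel)
    have o2 := one_step hF hg d o1 (0,1,0) (by decide +kernel)
    have o3 := one_step hF hg d o2 (0,1,2) (by decide +kernel)
    have o4 := one_step hF hg d o3 (0,2,1) (by decide +kernel)
    have o5 := one_step hF hg d o4 (1,0,1) (by decide +kernel)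
    have o6 := one_step hF hg d o5 (1,2,0) (by decide +kernel)
    have o7 := one_step hF hg d o6 (1,2,1) (by decide +kernel)
    have o8 := one_step hF hg d o7 (1,2,2) (by decide +kernel)
    have o9 := one_step hF hg d o8 (2,0,2) (by decide +kernel)
    have o10 := one_step hF hg d o9 (2,1,0) (by decide +kernel)
    have o11 := one_step hF hg d o10 (2,1,2) (by decide +kernel)
    have o12 := one_step hF hg d o11 (2,2,0) (by decide +kernel)
    have o13 := one_step hF hg d o12 (2,2,1) (by decide +kernel)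
    have o14 := one_step hF hg d o13 (2,2,2) (by decide +kernel)
    have o15 := one_step hF hg d o14 (1,0,2) (by decide +kernel)
    have o16 := one_step hF hg d o15 (1,1,2) (by decide +kernel)
    exact eq_one_of_fix (fun x => o16 x (by revert x; decide +kernel)) ▸ one_mem E
  have h10 : PP E [(2,1,1), (2,0,1), (1,1,0), (0,2,0), (0,0,2), (2,0,0), (1,0,0), (0,2,2), (0,1,1), (0,0,0)] := of_one hF (clear hF hE hX h11 (by decide +kernel)) (by decide +kernel)
  have h9 : PP E [(2,0,1), (1,1,0), (0,2,0), (0,0,2), (2,0,0), (1,0,0), (0,2,2), (0,1,1), (0,0,0)] := of_ne hF (stage hE hX (set_one hE hX (clear hF hE hX h10 (by decide +kernel)) (x' := (2,2,1)) (by decide +kernel)) (M := [(2,1,1), (2,2,1)]) (by decide +kernel)) (by decide +kernel)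
  have h8 : PP E [(1,1,0), (0,2,0), (0,0,2), (2,0,0), (1,0,0), (0,2,2), (0,1,1), (0,0,0)] := of_one hF (clear hF hE hX h9 (by decide +kernel)) (by decide +kernel)
  have h7 : PP E [(0,2,0), (0,0,2), (2,0,0), (1,0,0), (0,2,2), (0,1,1), (0,0,0)] := of_ne hF (stage hE hX (set_one hE hX (clear hF hE hX h8 (by decide +kernel)) (x' := (2,1,1)) (by decide +kernel)) (M := [(1,1,0), (2,1,1), (2,2,1)]) (by decide +kernel)) (by decide +kernel)
  have h6 : PP E [(0,0,2), (2,0,0), (1,0,0), (0,2,2), (0,1,1), (0,0,0)] := of_one hF (clear hF hE hX h7 (by decide +kernel)) (by decide +kernel)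
  have h5 : PP E [(2,0,0), (1,0,0), (0,2,2), (0,1,1), (0,0,0)] := of_ne hF (stage hE hX (set_one hE hX (clear hF hE hX h6 (by decide +kernel)) (x' := (1,1,0)) (by decide +kernel)) (M := [(0,0,2), (1,1,0), (2,1,1), (2,2,1)]) (by decide +kernel)) (by decide +kernel)
  have h4 : PP E [(1,0,0), (0,2,2), (0,1,1), (0,0,0)] := of_one hF (clear hF hE hX h5 (by decide +kernel)) (by decide +kernel)
  have h3 : PP E [(0,2,2), (0,1,1), (0,0,0)] := of_ne hF (stage hE hX (stage hE hX (set_one hE hX (clear hF hE hX h4 (by decide +kernel)) (x' := (0,1,2)) (by decide +kernel)) (M := [(0,1,2), (1,0,0), (1,0,1), (1,0,2), (2,0,0), (2,1,0), (2,2,0)]) (by decide +kernel)) (M := [(0,1,2), (0,2,1), (1,0,0), (1,0,1), (1,0,2), (2,0,0), (2,1,0), (2,2,0)]) (by decide +kernel)) (by decide +kernel)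
  have h2 : PP E [(0,1,1), (0,0,0)] := of_one hF (clear hF hE hX h3 (by decide +kernel)) (by decide +kernel)
  have h1 : PP E [(0,0,0)] := of_nb hF (stage hE hX (stage hE hX (set_one hE hX (clear hF hE hX h2 (by decide +kernel)) (x' := (0,1,2)) (by decide +kernel)) (M := [(0,1,1), (0,1,2), (0,2,2), (1,0,0), (1,0,1), (1,0,2), (2,0,0), (2,1,0), (2,2,0)]) (by decide +kernel)) (M := [(0,1,1), (0,1,2), (0,2,1), (0,2,2), (1,0,0), (1,0,1), (1,0,2), (2,0,0), (2,1,0), (2,2,0)]) (by decide +kernel)) (f := (0,0,0)) (by decide +kernel) (by decide +kernel) (by decide +kernel)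
  have h0 : PP E [] := of_ne hF (stage hE hX (stage hE hX (set_one hE hX (clear hF hE hX h1 (by decide +kernel)) (x' := (0,0,1)) (by decide +kernel)) (M := [(0,0,0), (0,0,1), (0,0,2), (0,1,1), (0,2,1), (1,0,0), (1,0,1), (1,0,2), (1,2,0), (1,2,1), (1,2,2), (2,0,1), (2,0,2), (2,1,1), (2,1,2), (2,2,1), (2,2,2)]) (by decide +kernel)) (M := [(0,0,0), (0,0,1), (0,0,2), (0,1,0), (0,1,1), (0,1,2), (0,2,0), (0,2,1), (0,2,2), (1,0,0), (1,0,1), (1,0,2), (1,1,0), (1,1,1), (1,1,2), (1,2,0), (1,2,1), (1,2,2), (2,0,0), (2,0,1), (2,0,2), (2,1,0), (2,1,1), (2,1,2), (2,2,0), (2,2,1), (2,2,2)]) (by decide +kernel)) (by decide +kernel)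
  exact h0 g hg (by simp [Fx])

end Cfsg.Lib.Linear.Cub
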