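/-
Fundamental root elements of the isometry group of the cubic form in 27 variables.
-/
import Cfsg.Agent.Lib.Linear.CubB
import Cfsg.Agent.Lib.Chev.CT3

set_option autoImplicit false

namespace Cfsg.Lib.Linear.Cub

open Cfsg.Lie Matrix Cfsg.Lib.Chev Cfsg.Lib.Chev.PreSys Cfsg.Lib.Chev.SL3

local notation "SL" => Matrix.SpecialLinearGroup

/-- Numbering of the coordinates. -/
def enc (p : I27) : ℕ := 9 * p.1.val + 3 * p.2.1.val + p.2.2.val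

/-- A table of integers. -/
def tz (l : List ℤ) (p : I27) : ℤ := l.getD (enc p) 0

/-- A table of coordinates. -/
def ti (l : List I27) (p : I27) : I27 := l.getD (enc p) p

/-- Signs of the conjugating elements. -/
def ws (i : Fin 6) : I27 → ℤ :=
  tz (match i with
    | 0 => [1, 1, 1, 1, 1, 1, 1, 1, 1, 1, 1, 1, 1, 1, 1, 1, 1, 1, 1, 1, 1, 1, 1, 1, 1, 1, 1]
    | 1 => [-1, 1, 1, -1, 1, -1, 1, 1, -1, 1, 1, 1, 1, -1, -1, -1, -1, 1, -1, 1, 1, -1, -1, 1, -1, -1, -1]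
    | 2 => [1, 1, 1, 1, 1, 1, 1, 1, 1, 1, 1, 1, 1, 1, 1, 1, 1, 1, 1, 1, 1, 1, 1, 1, 1, 1, 1]
    | 3 => [-1, 1, 1, -1, -1, 1, -1, -1, -1, 1, 1, -1, 1, 1, 1, -1, 1, 1, -1, -1, -1, 1, -1, -1, 1, 1, -1]
    | 4 => [-1, -1, -1, 1, -1, -1, 1, 1, -1, 1, 1, -1, 1, -1, -1, 1, -1, 1, -1, -1, 1, 1, 1, 1, 1, -1, -1]
    | 5 => [1, 1, 1, 1, 1, 1, 1, 1, 1, -1, 1, -1, -1, 1, -1, -1, 1, -1, -1, -1, -1, 1, 1, 1, -1, -1, -1])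

/-- Permutations of the conjugating elements. -/
def wp (i : Fin 6) : I27 → I27 :=
  ti (match i with
    | 0 => [(0,0,0), (0,0,1), (0,0,2), (0,1,0), (0,1,1), (0,1,2), (0,2,0), (0,2,1), (0,2,2), (1,0,0), (1,0,1), (1,0,2), (1,1,0), (1,1,1), (1,1,2), (1,2,0), (1,2,1), (1,2,2), (2,0,0), (2,0,1), (2,0,2), (2,1,0), (2,1,1), (2,1,2), (2,2,0), (2,2,1), (2,2,2)]
    | 1 => [(1,1,2), (1,0,2), (2,1,0), (1,1,1), (1,0,1), (2,2,0), (0,0,0), (0,0,1), (1,2,0), (1,0,0), (0,2,1), (0,1,1), (1,1,0), (0,2,0), (0,1,0), (0,0,2), (2,0,1), (2,0,2), (1,2,1), (1,2,2), (2,0,0), (2,2,2), (2,1,2), (0,1,2), (2,2,1), (2,1,1), (0,2,2)]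
    | 2 => [(0,0,0), (0,0,1), (0,0,2), (0,1,0), (0,1,1), (0,1,2), (0,2,0), (0,2,1), (0,2,2), (1,0,0), (1,0,1), (1,0,2), (1,1,0), (1,1,1), (1,1,2), (1,2,0), (1,2,1), (1,2,2), (2,0,0), (2,0,1), (2,0,2), (2,1,0), (2,1,1), (2,1,2), (2,2,0), (2,2,1), (2,2,2)]
    | 3 => [(1,1,2), (1,0,2), (0,2,2), (0,0,0), (0,0,1), (2,2,1), (0,1,0), (0,1,1), (2,2,0), (1,0,0), (1,0,1), (0,2,1), (1,1,0), (1,1,1), (0,2,0), (2,1,2), (2,0,2), (1,2,2), (1,2,1), (2,0,0), (2,0,1), (1,2,0), (2,1,0), (2,1,1), (2,2,2), (0,1,2), (0,0,2)]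
    | 4 => [(1,1,2), (0,2,2), (0,1,2), (1,2,2), (0,2,1), (0,1,1), (0,0,0), (2,2,1), (2,2,2), (1,0,0), (1,0,1), (2,2,0), (2,1,2), (2,0,2), (0,1,0), (2,1,1), (2,0,1), (0,2,0), (1,2,1), (1,1,1), (2,0,0), (1,2,0), (1,1,0), (2,1,0), (0,0,1), (0,0,2), (1,0,2)]
    | 5 => [(0,2,2), (0,1,2), (0,0,2), (0,2,1), (0,1,1), (0,0,1), (0,2,0), (0,1,0), (0,0,0), (2,1,2), (2,0,2), (2,2,2), (2,1,1), (2,0,1), (2,2,1), (2,1,0), (2,0,0), (2,2,0), (1,2,1), (1,1,1), (1,0,1), (1,2,0), (1,1,0), (1,0,0), (1,2,2), (1,1,2), (1,0,2)])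

/-- Signs of the inverses. -/
def ws' (i : Fin 6) : I27 → ℤ :=
  tz (match i with
    | 0 => [1, 1, 1, 1, 1, 1, 1, 1, 1, 1, 1, 1, 1, 1, 1, 1, 1, 1, 1, 1, 1, 1, 1, 1, 1, 1, 1]
    | 1 => [1, 1, -1, -1, 1, 1, -1, 1, -1, 1, 1, 1, 1, -1, -1, -1, -1, 1, 1, -1, 1, 1, -1, -1, -1, -1, -1]
    | 2 => [1, 1, 1, 1, 1, 1, 1, 1, 1, 1, 1, 1, 1, 1, 1, 1, 1, 1, 1, 1, 1, 1, 1, 1, 1, 1, 1]
    | 3 => [-1, -1, -1, -1, -1, 1, 1, -1, 1, 1, 1, 1, 1, 1, -1, 1, -1, 1, -1, -1, 1, -1, -1, -1, -1, 1, 1]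
    | 4 => [1, 1, -1, -1, -1, -1, 1, -1, -1, 1, 1, -1, 1, -1, -1, 1, -1, 1, 1, -1, -1, 1, 1, 1, -1, 1, -1]
    | 5 => [1, 1, 1, 1, 1, 1, 1, 1, 1, 1, -1, -1, 1, -1, -1, 1, -1, -1, 1, 1, 1, -1, -1, -1, -1, -1, -1])

/-- Permutations of the inverses. -/
def wp' (i : Fin 6) : I27 → I27 :=
  ti (match i with
    | 0 => [(0,0,0), (0,0,1), (0,0,2), (0,1,0), (0,1,1), (0,1,2), (0,2,0), (0,2,1), (0,2,2), (1,0,0), (1,0,1), (1,0,2), (1,1,0), (1,1,1), (1,1,2), (1,2,0), (1,2,1), (1,2,2), (2,0,0), (2,0,1), (2,0,2), (2,1,0), (2,1,1), (2,1,2), (2,2,0), (2,2,1), (2,2,2)]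
    | 1 => [(0,2,0), (0,2,1), (1,2,0), (1,1,2), (1,0,2), (2,1,2), (1,1,1), (1,0,1), (2,2,2), (1,0,0), (0,1,1), (0,0,1), (1,1,0), (0,1,0), (0,0,0), (0,2,2), (2,0,0), (2,0,1), (2,0,2), (1,2,1), (1,2,2), (0,0,2), (2,2,1), (2,1,1), (0,1,2), (2,2,0), (2,1,0)]
    | 2 => [(0,0,0), (0,0,1), (0,0,2), (0,1,0), (0,1,1), (0,1,2), (0,2,0), (0,2,1), (0,2,2), (1,0,0), (1,0,1), (1,0,2), (1,1,0), (1,1,1), (1,1,2), (1,2,0), (1,2,1), (1,2,2), (2,0,0), (2,0,1), (2,0,2), (2,1,0), (2,1,1), (2,1,2), (2,2,0), (2,2,1), (2,2,2)]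
    | 3 => [(0,1,0), (0,1,1), (2,2,2), (0,2,0), (0,2,1), (2,2,1), (1,1,2), (1,0,2), (0,0,2), (1,0,0), (1,0,1), (0,0,1), (1,1,0), (1,1,1), (0,0,0), (2,1,0), (2,0,0), (1,2,2), (2,0,1), (2,0,2), (1,2,1), (2,1,1), (2,1,2), (1,2,0), (0,2,2), (0,1,2), (2,2,0)]
    | 4 => [(0,2,0), (2,2,0), (2,2,1), (1,1,2), (0,1,2), (0,0,2), (1,2,2), (0,1,1), (0,0,1), (1,0,0), (1,0,1), (2,2,2), (2,1,1), (2,0,1), (0,0,0), (2,1,0), (2,0,0), (0,1,0), (2,0,2), (1,2,1), (1,1,1), (2,1,2), (1,2,0), (1,1,0), (1,0,2), (0,2,1), (0,2,2)]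
    | 5 => [(0,2,2), (0,1,2), (0,0,2), (0,2,1), (0,1,1), (0,0,1), (0,2,0), (0,1,0), (0,0,0), (2,1,2), (2,0,2), (2,2,2), (2,1,1), (2,0,1), (2,2,1), (2,1,0), (2,0,0), (2,2,0), (1,2,1), (1,1,1), (1,0,1), (1,2,0), (1,1,0), (1,0,0), (1,2,2), (1,1,2), (1,0,2)])

/-- Signs of the fundamental root vectors. -/
def ys (i : Fin 6) (b : Bool) : I27 → ℤ :=
  tz (match i, b with
    | 0, true => [1, 1, 1, 0, 0, 0, 0, 0, 0, 0, 0, 0, 0, 0, 0, 0, 0, 0, 0, -1, 0, 0, -1, 0, 0, -1, 0]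
    | 0, false => [0, 0, 0, 1, 1, 1, 0, 0, 0, 0, 0, 0, 0, 0, 0, 0, 0, 0, -1, 0, 0, -1, 0, 0, -1, 0, 0]
    | 1, true => [0, 0, 0, 0, 0, 0, 0, 0, 0, 0, 0, 1, 0, 0, 1, 0, 0, 1, 0, 0, 0, -1, -1, -1, 0, 0, 0]
    | 1, false => [0, 0, 0, 0, 0, 0, 0, 0, 0, 0, 1, 0, 0, 1, 0, 0, 1, 0, 0, 0, 0, 0, 0, 0, -1, -1, -1]
    | 2, true => [0, 0, 0, 1, 1, 1, 0, 0, 0, 0, 0, 0, 0, 0, 0, 0, 0, 0, 0, 0, -1, 0, 0, -1, 0, 0, -1]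
    | 2, false => [0, 0, 0, 0, 0, 0, 1, 1, 1, 0, 0, 0, 0, 0, 0, 0, 0, 0, 0, -1, 0, 0, -1, 0, 0, -1, 0]
    | 3, true => [0, 0, 0, 0, 0, 0, -1, 1, 0, 0, 0, 0, 0, 0, 0, -1, 1, 0, 0, 0, 0, 0, 0, 0, -1, 1, 0]
    | 3, false => [0, 0, 1, 0, 0, -1, 0, 0, 0, 0, 0, 1, 0, 0, -1, 0, 0, 0, 0, 0, 1, 0, 0, -1, 0, 0, 0]
    | 4, true => [0, 0, 1, 0, 0, 1, 0, 0, 1, 0, 0, 0, -1, -1, -1, 0, 0, 0, 0, 0, 0, 0, 0, 0, 0, 0, 0]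
    | 4, false => [0, 1, 0, 0, 1, 0, 0, 1, 0, 0, 0, 0, 0, 0, 0, -1, -1, -1, 0, 0, 0, 0, 0, 0, 0, 0, 0]
    | 5, true => [0, 1, 0, 0, 1, 0, 0, 1, 0, -1, -1, -1, 0, 0, 0, 0, 0, 0, 0, 0, 0, 0, 0, 0, 0, 0, 0]
    | 5, false => [1, 0, 0, 1, 0, 0, 1, 0, 0, 0, 0, 0, -1, -1, -1, 0, 0, 0, 0, 0, 0, 0, 0, 0, 0, 0, 0])

/-- Sources of the fundamental root vectors. -/
def yp (i : Fin 6) (b : Bool) : I27 → I27 :=
  ti (match i, b with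
    | 0, true => [(0,1,0), (0,1,1), (0,1,2), (0,1,0), (0,1,1), (0,1,2), (0,2,0), (0,2,1), (0,2,2), (1,0,0), (1,0,1), (1,0,2), (1,1,0), (1,1,1), (1,1,2), (1,2,0), (1,2,1), (1,2,2), (2,0,0), (2,0,0), (2,0,2), (2,1,0), (2,1,0), (2,1,2), (2,2,0), (2,2,0), (2,2,2)]
    | 0, false => [(0,0,0), (0,0,1), (0,0,2), (0,0,0), (0,0,1), (0,0,2), (0,2,0), (0,2,1), (0,2,2), (1,0,0), (1,0,1), (1,0,2), (1,1,0), (1,1,1), (1,1,2), (1,2,0), (1,2,1), (1,2,2), (2,0,1), (2,0,1), (2,0,2), (2,1,1), (2,1,1), (2,1,2), (2,2,1), (2,2,1), (2,2,2)]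
    | 1, true => [(0,0,0), (0,0,1), (0,0,2), (0,1,0), (0,1,1), (0,1,2), (0,2,0), (0,2,1), (0,2,2), (1,0,0), (1,0,1), (1,0,1), (1,1,0), (1,1,1), (1,1,1), (1,2,0), (1,2,1), (1,2,1), (2,0,0), (2,0,1), (2,0,2), (2,2,0), (2,2,1), (2,2,2), (2,2,0), (2,2,1), (2,2,2)]
    | 1, false => [(0,0,0), (0,0,1), (0,0,2), (0,1,0), (0,1,1), (0,1,2), (0,2,0), (0,2,1), (0,2,2), (1,0,0), (1,0,2), (1,0,2), (1,1,0), (1,1,2), (1,1,2), (1,2,0), (1,2,2), (1,2,2), (2,0,0), (2,0,1), (2,0,2), (2,1,0), (2,1,1), (2,1,2), (2,1,0), (2,1,1), (2,1,2)]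
    | 2, true => [(0,0,0), (0,0,1), (0,0,2), (0,2,0), (0,2,1), (0,2,2), (0,2,0), (0,2,1), (0,2,2), (1,0,0), (1,0,1), (1,0,2), (1,1,0), (1,1,1), (1,1,2), (1,2,0), (1,2,1), (1,2,2), (2,0,0), (2,0,1), (2,0,1), (2,1,0), (2,1,1), (2,1,1), (2,2,0), (2,2,1), (2,2,1)]
    | 2, false => [(0,0,0), (0,0,1), (0,0,2), (0,1,0), (0,1,1), (0,1,2), (0,1,0), (0,1,1), (0,1,2), (1,0,0), (1,0,1), (1,0,2), (1,1,0), (1,1,1), (1,1,2), (1,2,0), (1,2,1), (1,2,2), (2,0,0), (2,0,2), (2,0,2), (2,1,0), (2,1,2), (2,1,2), (2,2,0), (2,2,2), (2,2,2)]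
    | 3, true => [(0,0,0), (0,0,1), (0,0,2), (0,1,0), (0,1,1), (0,1,2), (1,1,2), (1,0,2), (0,2,2), (1,0,0), (1,0,1), (1,0,2), (1,1,0), (1,1,1), (1,1,2), (2,1,2), (2,0,2), (1,2,2), (2,0,0), (2,0,1), (2,0,2), (2,1,0), (2,1,1), (2,1,2), (0,1,2), (0,0,2), (2,2,2)]
    | 3, false => [(0,0,0), (0,0,1), (2,2,1), (0,1,0), (0,1,1), (2,2,0), (0,2,0), (0,2,1), (0,2,2), (1,0,0), (1,0,1), (0,2,1), (1,1,0), (1,1,1), (0,2,0), (1,2,0), (1,2,1), (1,2,2), (2,0,0), (2,0,1), (1,2,1), (2,1,0), (2,1,1), (1,2,0), (2,2,0), (2,2,1), (2,2,2)]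
    | 4, true => [(0,0,0), (0,0,1), (0,0,1), (0,1,0), (0,1,1), (0,1,1), (0,2,0), (0,2,1), (0,2,1), (1,0,0), (1,0,1), (1,0,2), (1,2,0), (1,2,1), (1,2,2), (1,2,0), (1,2,1), (1,2,2), (2,0,0), (2,0,1), (2,0,2), (2,1,0), (2,1,1), (2,1,2), (2,2,0), (2,2,1), (2,2,2)]
    | 4, false => [(0,0,0), (0,0,2), (0,0,2), (0,1,0), (0,1,2), (0,1,2), (0,2,0), (0,2,2), (0,2,2), (1,0,0), (1,0,1), (1,0,2), (1,1,0), (1,1,1), (1,1,2), (1,1,0), (1,1,1), (1,1,2), (2,0,0), (2,0,1), (2,0,2), (2,1,0), (2,1,1), (2,1,2), (2,2,0), (2,2,1), (2,2,2)]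
    | 5, true => [(0,0,0), (0,0,0), (0,0,2), (0,1,0), (0,1,0), (0,1,2), (0,2,0), (0,2,0), (0,2,2), (1,1,0), (1,1,1), (1,1,2), (1,1,0), (1,1,1), (1,1,2), (1,2,0), (1,2,1), (1,2,2), (2,0,0), (2,0,1), (2,0,2), (2,1,0), (2,1,1), (2,1,2), (2,2,0), (2,2,1), (2,2,2)]
    | 5, false => [(0,0,1), (0,0,1), (0,0,2), (0,1,1), (0,1,1), (0,1,2), (0,2,1), (0,2,1), (0,2,2), (1,0,0), (1,0,1), (1,0,2), (1,0,0), (1,0,1), (1,0,2), (1,2,0), (1,2,1), (1,2,2), (2,0,0), (2,0,1), (2,0,2), (2,1,0), (2,1,1), (2,1,2), (2,2,0), (2,2,1), (2,2,2)])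

/-- Signs of the fundamental reflections. -/
def rs (i : Fin 6) : I27 → ℤ :=
  tz (match i with
    | 0 => [1, 1, 1, -1, -1, -1, 1, 1, 1, 1, 1, 1, 1, 1, 1, 1, 1, 1, 1, -1, 1, 1, -1, 1, 1, -1, 1]
    | 1 => [1, 1, 1, 1, 1, 1, 1, 1, 1, 1, -1, 1, 1, -1, 1, 1, -1, 1, 1, 1, 1, -1, -1, -1, 1, 1, 1]
    | 2 => [1, 1, 1, 1, 1, 1, -1, -1, -1, 1, 1, 1, 1, 1, 1, 1, 1, 1, 1, 1, -1, 1, 1, -1, 1, 1, -1]
    | 3 => [1, 1, -1, 1, 1, 1, -1, 1, 1, 1, 1, -1, 1, 1, 1, -1, 1, 1, 1, 1, -1, 1, 1, 1, -1, 1, 1]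
    | 4 => [1, -1, 1, 1, -1, 1, 1, -1, 1, 1, 1, 1, -1, -1, -1, 1, 1, 1, 1, 1, 1, 1, 1, 1, 1, 1, 1]
    | 5 => [-1, 1, 1, -1, 1, 1, -1, 1, 1, -1, -1, -1, 1, 1, 1, 1, 1, 1, 1, 1, 1, 1, 1, 1, 1, 1, 1])

/-- The fundamental reflections. -/
def rp (i : Fin 6) : I27 → I27 :=
  ti (match i with
    | 0 => [(0,1,0), (0,1,1), (0,1,2), (0,0,0), (0,0,1), (0,0,2), (0,2,0), (0,2,1), (0,2,2), (1,0,0), (1,0,1), (1,0,2), (1,1,0), (1,1,1), (1,1,2), (1,2,0), (1,2,1), (1,2,2), (2,0,1), (2,0,0), (2,0,2), (2,1,1), (2,1,0), (2,1,2), (2,2,1), (2,2,0), (2,2,2)]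
    | 1 => [(0,0,0), (0,0,1), (0,0,2), (0,1,0), (0,1,1), (0,1,2), (0,2,0), (0,2,1), (0,2,2), (1,0,0), (1,0,2), (1,0,1), (1,1,0), (1,1,2), (1,1,1), (1,2,0), (1,2,2), (1,2,1), (2,0,0), (2,0,1), (2,0,2), (2,2,0), (2,2,1), (2,2,2), (2,1,0), (2,1,1), (2,1,2)]
    | 2 => [(0,0,0), (0,0,1), (0,0,2), (0,2,0), (0,2,1), (0,2,2), (0,1,0), (0,1,1), (0,1,2), (1,0,0), (1,0,1), (1,0,2), (1,1,0), (1,1,1), (1,1,2), (1,2,0), (1,2,1), (1,2,2), (2,0,0), (2,0,2), (2,0,1), (2,1,0), (2,1,2), (2,1,1), (2,2,0), (2,2,2), (2,2,1)]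
    | 3 => [(0,0,0), (0,0,1), (2,2,1), (0,1,0), (0,1,1), (2,2,0), (1,1,2), (1,0,2), (0,2,2), (1,0,0), (1,0,1), (0,2,1), (1,1,0), (1,1,1), (0,2,0), (2,1,2), (2,0,2), (1,2,2), (2,0,0), (2,0,1), (1,2,1), (2,1,0), (2,1,1), (1,2,0), (0,1,2), (0,0,2), (2,2,2)]
    | 4 => [(0,0,0), (0,0,2), (0,0,1), (0,1,0), (0,1,2), (0,1,1), (0,2,0), (0,2,2), (0,2,1), (1,0,0), (1,0,1), (1,0,2), (1,2,0), (1,2,1), (1,2,2), (1,1,0), (1,1,1), (1,1,2), (2,0,0), (2,0,1), (2,0,2), (2,1,0), (2,1,1), (2,1,2), (2,2,0), (2,2,1), (2,2,2)]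
    | 5 => [(0,0,1), (0,0,0), (0,0,2), (0,1,1), (0,1,0), (0,1,2), (0,2,1), (0,2,0), (0,2,2), (1,1,0), (1,1,1), (1,1,2), (1,0,0), (1,0,1), (1,0,2), (1,2,0), (1,2,1), (1,2,2), (2,0,0), (2,0,1), (2,0,2), (2,1,0), (2,1,1), (2,1,2), (2,2,0), (2,2,1), (2,2,2)])

/-- The distance from the base pair. -/
def dep (p q : I27) : ℕ :=
  ([[0, 11, 10, 1, 0, 0, 2, 0, 0, 0, 0, 0, 11, 4, 3, 10, 5, 4, 0, 7, 6, 0, 10, 9, 0, 9, 8],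
    [12, 0, 9, 0, 2, 0, 0, 3, 0, 12, 5, 4, 0, 0, 0, 9, 6, 5, 0, 8, 7, 0, 9, 8, 0, 8, 7],
    [11, 10, 0, 0, 0, 3, 0, 0, 4, 11, 6, 5, 10, 7, 6, 0, 0, 0, 0, 9, 8, 0, 8, 7, 0, 7, 6],
    [0, 0, 0, 0, 10, 9, 3, 0, 0, 0, 0, 0, 10, 5, 4, 9, 6, 5, 8, 0, 7, 9, 0, 8, 8, 0, 7],
    [0, 1, 0, 11, 0, 8, 0, 4, 0, 11, 6, 5, 0, 0, 0, 8, 7, 6, 9, 0, 8, 8, 0, 7, 7, 0, 6],
    [0, 0, 2, 10, 9, 0, 0, 0, 5, 10, 7, 6, 9, 8, 7, 0, 0, 0, 10, 0, 9, 7, 0, 6, 6, 0, 5],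
    [1, 0, 0, 2, 0, 0, 0, 9, 8, 0, 0, 0, 11, 6, 5, 10, 7, 6, 9, 8, 0, 8, 7, 0, 7, 6, 0],
    [0, 2, 0, 0, 3, 0, 10, 0, 7, 12, 7, 6, 0, 0, 0, 9, 8, 7, 10, 9, 0, 7, 6, 0, 6, 5, 0],
    [0, 0, 3, 0, 0, 4, 9, 8, 0, 11, 8, 7, 10, 9, 8, 0, 0, 0, 11, 10, 0, 6, 5, 0, 5, 4, 0],
    [0, 13, 12, 0, 12, 11, 0, 13, 12, 0, 15, 14, 13, 0, 0, 12, 0, 0, 0, 0, 0, 9, 10, 11, 10, 11, 12],
    [0, 4, 5, 0, 5, 6, 0, 6, 7, 14, 0, 7, 0, 10, 0, 0, 9, 0, 12, 11, 10, 0, 0, 0, 7, 6, 7],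
    [0, 3, 4, 0, 4, 5, 0, 5, 6, 13, 8, 0, 0, 0, 9, 0, 0, 8, 11, 10, 9, 8, 7, 8, 0, 0, 0],
    [12, 0, 11, 11, 0, 10, 12, 0, 11, 12, 0, 0, 0, 14, 13, 11, 0, 0, 0, 0, 0, 8, 9, 10, 9, 10, 11],
    [3, 0, 6, 4, 0, 7, 5, 0, 8, 0, 9, 0, 13, 0, 6, 0, 8, 0, 11, 10, 9, 0, 0, 0, 8, 7, 8],
    [2, 0, 5, 3, 0, 6, 4, 0, 7, 0, 0, 8, 12, 7, 0, 0, 0, 7, 10, 9, 8, 9, 8, 9, 0, 0, 0],
    [11, 10, 0, 10, 9, 0, 11, 10, 0, 11, 0, 0, 10, 0, 0, 0, 13, 12, 0, 0, 0, 7, 8, 9, 8, 9, 10],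
    [4, 5, 0, 5, 6, 0, 6, 7, 0, 0, 8, 0, 0, 7, 0, 12, 0, 7, 12, 11, 10, 0, 0, 0, 9, 8, 9],
    [3, 4, 0, 4, 5, 0, 5, 6, 0, 0, 0, 7, 0, 0, 6, 11, 8, 0, 11, 10, 9, 10, 9, 10, 0, 0, 0],
    [0, 0, 0, 7, 8, 9, 8, 9, 10, 0, 11, 10, 0, 10, 9, 0, 11, 10, 0, 13, 12, 11, 0, 0, 10, 0, 0],
    [6, 7, 8, 0, 0, 0, 7, 8, 9, 0, 10, 9, 0, 9, 8, 0, 10, 9, 14, 0, 11, 0, 10, 0, 0, 9, 0],
    [5, 6, 7, 6, 7, 8, 0, 0, 0, 0, 9, 8, 0, 8, 7, 0, 9, 8, 13, 12, 0, 0, 0, 11, 0, 0, 10],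
    [0, 0, 0, 10, 9, 8, 9, 8, 7, 8, 0, 9, 7, 0, 10, 6, 0, 11, 12, 0, 0, 0, 4, 5, 9, 0, 0],
    [11, 10, 9, 0, 0, 0, 8, 7, 6, 9, 0, 8, 8, 0, 9, 7, 0, 10, 0, 11, 0, 5, 0, 6, 0, 10, 0],
    [10, 9, 8, 9, 8, 7, 0, 0, 0, 10, 0, 9, 9, 0, 10, 8, 0, 11, 0, 0, 12, 6, 7, 0, 0, 0, 11],
    [0, 0, 0, 9, 8, 7, 8, 7, 6, 9, 8, 0, 8, 9, 0, 7, 10, 0, 11, 0, 0, 8, 0, 0, 0, 3, 4],
    [10, 9, 8, 0, 0, 0, 7, 6, 5, 10, 7, 0, 9, 8, 0, 8, 9, 0, 0, 10, 0, 0, 9, 0, 4, 0, 5],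
    [9, 8, 7, 8, 7, 6, 0, 0, 0, 11, 8, 0, 10, 9, 0, 9, 10, 0, 0, 0, 11, 0, 0, 10, 5, 6, 0]].getD (enc p) []).getD (enc q) 0

/-- The reflection decreasing the distance. -/
def gen (p q : I27) : Fin 6 :=
  ([[0, 0, 0, 0, 0, 0, 2, 0, 0, 0, 0, 0, 4, 1, 3, 3, 4, 4, 0, 2, 3, 0, 0, 0, 0, 0, 0],
    [0, 0, 0, 0, 5, 0, 0, 5, 0, 5, 5, 5, 0, 0, 0, 3, 5, 5, 0, 5, 5, 0, 0, 0, 0, 0, 0],
    [0, 0, 0, 0, 0, 4, 0, 0, 4, 5, 4, 4, 4, 4, 4, 0, 0, 0, 0, 4, 4, 0, 0, 0, 0, 0, 0],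
    [0, 0, 0, 0, 2, 2, 0, 0, 0, 0, 0, 0, 4, 1, 3, 3, 4, 4, 0, 0, 3, 2, 0, 2, 2, 0, 2],
    [0, 5, 0, 2, 0, 2, 0, 5, 0, 5, 5, 5, 0, 0, 0, 3, 5, 5, 5, 0, 5, 2, 0, 2, 2, 0, 2],
    [0, 0, 4, 2, 2, 0, 0, 0, 4, 5, 4, 4, 4, 4, 4, 0, 0, 0, 4, 0, 4, 2, 0, 2, 2, 0, 2],
    [2, 0, 0, 0, 0, 0, 0, 3, 3, 0, 0, 0, 4, 2, 2, 3, 4, 4, 0, 2, 0, 1, 1, 0, 3, 3, 0],
    [0, 5, 0, 0, 5, 0, 3, 0, 3, 5, 5, 5, 0, 0, 0, 3, 5, 5, 5, 5, 0, 1, 1, 0, 3, 3, 0],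
    [0, 0, 4, 0, 0, 4, 3, 3, 0, 5, 4, 4, 4, 4, 4, 0, 0, 0, 4, 4, 0, 1, 1, 0, 3, 3, 0],
    [0, 5, 5, 0, 5, 5, 0, 5, 5, 0, 5, 5, 4, 0, 0, 5, 0, 0, 0, 0, 0, 5, 5, 5, 5, 5, 5],
    [0, 5, 4, 0, 5, 4, 0, 5, 4, 5, 0, 5, 0, 4, 0, 0, 5, 0, 5, 5, 5, 0, 0, 0, 3, 3, 2],
    [0, 5, 4, 0, 5, 4, 0, 5, 4, 5, 5, 0, 0, 0, 4, 0, 0, 5, 5, 5, 5, 1, 1, 2, 0, 0, 0],
    [4, 0, 4, 4, 0, 4, 4, 0, 4, 4, 0, 0, 0, 4, 4, 3, 0, 0, 0, 0, 0, 4, 4, 4, 4, 4, 4],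
    [1, 0, 4, 1, 0, 4, 2, 0, 4, 0, 4, 0, 4, 0, 3, 0, 1, 0, 0, 2, 1, 0, 0, 0, 3, 3, 2],
    [3, 0, 4, 3, 0, 4, 2, 0, 4, 0, 0, 4, 4, 3, 0, 0, 0, 3, 0, 2, 3, 1, 1, 2, 0, 0, 0],
    [3, 3, 0, 3, 3, 0, 3, 3, 0, 5, 0, 0, 3, 0, 0, 0, 3, 3, 0, 0, 0, 3, 3, 2, 3, 3, 2],
    [4, 5, 0, 4, 5, 0, 4, 5, 0, 0, 5, 0, 0, 1, 0, 3, 0, 4, 0, 2, 1, 0, 0, 0, 3, 3, 2],
    [4, 5, 0, 4, 5, 0, 4, 5, 0, 0, 0, 5, 0, 0, 3, 3, 4, 0, 0, 2, 3, 1, 1, 2, 0, 0, 0],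
    [0, 0, 0, 0, 5, 4, 0, 5, 4, 0, 5, 5, 0, 0, 0, 0, 0, 0, 0, 2, 3, 1, 0, 0, 3, 0, 0],
    [2, 5, 4, 0, 0, 0, 2, 5, 4, 0, 5, 5, 0, 2, 2, 0, 2, 2, 2, 0, 3, 0, 1, 0, 0, 3, 0],
    [3, 5, 4, 3, 5, 4, 0, 0, 0, 0, 5, 5, 0, 1, 3, 0, 1, 3, 3, 3, 0, 0, 0, 2, 0, 0, 2],
    [0, 0, 0, 2, 2, 2, 1, 1, 1, 5, 0, 1, 4, 0, 1, 3, 0, 1, 1, 0, 0, 0, 1, 2, 3, 0, 0],
    [0, 0, 0, 0, 0, 0, 1, 1, 1, 5, 0, 1, 4, 0, 1, 3, 0, 1, 0, 1, 0, 1, 0, 0, 0, 3, 0],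
    [0, 0, 0, 2, 2, 2, 0, 0, 0, 5, 0, 2, 4, 0, 2, 2, 0, 2, 0, 0, 2, 2, 0, 0, 0, 0, 2],
    [0, 0, 0, 2, 2, 2, 3, 3, 3, 5, 3, 0, 4, 3, 0, 3, 3, 0, 3, 0, 0, 3, 0, 0, 0, 3, 2],
    [0, 0, 0, 0, 0, 0, 3, 3, 3, 5, 3, 0, 4, 3, 0, 3, 3, 0, 0, 3, 0, 0, 3, 0, 3, 0, 0],
    [0, 0, 0, 2, 2, 2, 0, 0, 0, 5, 2, 0, 4, 2, 0, 2, 2, 0, 0, 0, 2, 0, 0, 2, 2, 0, 0]].getD (enc p) []).getD (enc q) 0

/-- The parent of a node. -/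
def par : Fin 6 → Fin 6 := ![0, 3, 0, 2, 3, 4]

/-- A sparse map. -/
def spf {R : Type*} [CommRing R] (a : I27 → ℤ) (b : I27 → I27) (t : R) (z : I27 → R) (ν : I27) : R :=
  z ν + t * (a ν : R) * z (b ν)

variable {F : Type*} [Field F]

/-- `u` acts as a sparse map. -/
def Sp (u : GL I27 F) (a : I27 → ℤ) (b : I27 → I27) (t : F) : Prop := ∀ z, u.val *ᵥ z = spf a b t z

/-- `u` is monomial. -/
def Mon (u : GL I27 F) (s : I27 → ℤ) (σ : I27 → I27) : Prop := ∀ z ν, (u.val *ᵥ z) ν = (s ν : F) * z (σ ν)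

theorem ext_mulVec {u u' : GL I27 F} (h : ∀ z, u.val *ᵥ z = u'.val *ᵥ z) : u = u' :=
  Units.ext (Matrix.ext fun i j => by rw [← mulVec_bs u.val, h, mulVec_bs])

theorem Sp.conj {u w : GL I27 F} {a a' s s' : I27 → ℤ} {b b' σ σ' : I27 → I27} {t : F} (hu : Sp u a b t)
    (hw : Mon w s σ) (hw' : Mon w⁻¹ s' σ') (h : ∀ ν, s ν * s' (σ ν) = 1 ∧ σ' (σ ν) = ν ∧
      s ν * a (σ ν) * s' (b (σ ν)) = a' ν ∧ (a' ν = 0 ∨ σ' (b (σ ν)) = b' ν)) : Sp (w * u * w⁻¹) a' b' t := by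
  intro z
  funext ν
  obtain ⟨h1, h2, h3, h4⟩ := h ν
  have e1 := congrArg (Int.cast : ℤ → F) h1
  have e3 := congrArg (Int.cast : ℤ → F) h3
  push_cast at e1 e3
  rw [Units.val_mul, Units.val_mul, ← mulVec_mulVec, ← mulVec_mulVec, hw, hu, spf, spf, hw', hw', h2]
  rcases h4 with h4 | h4
  · rw [h4] at e3 ⊢
    push_cast at e3 ⊢
    linear_combination z ν * e1 + t * z (σ' (b (σ ν))) * e3
  · rw [h4]
    linear_combination z ν * e1 + t * z (b' ν) * e3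

theorem Sp.comm {u u' : GL I27 F} {a a' : I27 → ℤ} {b b' : I27 → I27} {t t' : F} (hu : Sp u a b t)
    (hu' : Sp u' a' b' t') (h : ∀ ν, a ν * a' (b ν) = a' ν * a (b' ν) ∧ (a ν * a' (b ν) = 0 ∨ b' (b ν) = b (b' ν))) :
    u * u' = u' * u := by
  refine ext_mulVec fun z => funext fun ν => ?_
  obtain ⟨h1, h2⟩ := h ν
  have e1 := congrArg (Int.cast : ℤ → F) h1
  push_cast at e1
  simp only [Units.val_mul, ← mulVec_mulVec, hu _, hu' _, spf]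
  rcases h2 with h2 | h2
  · have e2 := congrArg (Int.cast : ℤ → F) h2
    push_cast at e2
    linear_combination t * t' * (z (b' (b ν)) - z (b (b' ν))) * e2 + t * t' * z (b (b' ν)) * e1
  · rw [h2]
    linear_combination t * t' * z (b (b' ν)) * e1

/-- Monomial matrices. -/
def mm (F : Type*) [Field F] (s : I27 → ℤ) (σ : I27 → I27) : Matrix I27 I27 F :=
  Matrix.of fun ν μ => (s ν : F) * bs μ (σ ν)

theorem mm_mulVec (s : I27 → ℤ) (σ : I27 → I27) (z : I27 → F) (ν : I27) :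
    (mm F s σ *ᵥ z) ν = (s ν : F) * z (σ ν) := by
  simp [mm, mulVec, dotProduct, bs]

theorem mm_mul {s s' : I27 → ℤ} {σ σ' : I27 → I27} (h : ∀ ν, s ν * s' (σ ν) = 1 ∧ σ' (σ ν) = ν) :
    mm F s σ * mm F s' σ' = 1 := by
  refine Matrix.ext fun i j => ?_
  have e1 := congrArg (Int.cast : ℤ → F) (h i).1
  push_cast at e1
  rw [← mulVec_bs (_ * _), ← mulVec_mulVec, mm_mulVec, mm_mulVec, (h i).2, ← mul_assoc, e1, one_mul, one_apply, bs]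

theorem Sp.mon {u u' : GL I27 F} {a a' s : I27 → ℤ} {b b' σ : I27 → I27} (hu : Sp u a b 1) (hu' : Sp u' a' b' (-1))
    (h : ∀ μ ν, spf a b 1 (spf a' b' (-1) (spf a b 1 (bs μ))) ν = s ν * bs μ (σ ν)) : Mon (u * u' * u) s σ := by
  have : (u * u' * u).val = mm F s σ := Matrix.ext fun i j => by
    have e1 := congrArg (Int.cast : ℤ → F) (h j i)
    rw [← mulVec_bs (u * u' * u).val, Units.val_mul, Units.val_mul, ← mulVec_mulVec, ← mulVec_mulVec, hu, hu', hu]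
    simp only [spf] at e1 ⊢
    push_cast at e1
    simpa only [cast_bs, mm, of_apply] using e1
  intro z ν
  rw [this, mm_mulVec]

theorem w_chk : ∀ i ν, (ws i ν * ws' i (wp i ν) = 1 ∧ wp' i (wp i ν) = ν) ∧
    (ws' i ν * ws i (wp' i ν) = 1 ∧ wp i (wp' i ν) = ν) := by decide +kernel

variable (F) in
/-- The conjugating elements. -/
def ww (i : Fin 6) : GL I27 F :=
  ⟨mm F (ws i) (wp i), mm F (ws' i) (wp' i), mm_mul fun ν => (w_chk i ν).1, mm_mul fun ν => (w_chk i ν).2⟩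

theorem ww_mon (i : Fin 6) : Mon (ww F i) (ws i) (wp i) := mm_mulVec _ _

theorem ww_mon' (i : Fin 6) : Mon (ww F i)⁻¹ (ws' i) (wp' i) := mm_mulVec _ _

theorem ww_mem (i : Fin 6) : ww F i ∈ E6univ F := by
  intro v
  show cubicT ((ww F i).val *ᵥ v) = cubicT v
  simp only [cub_eq, ww_mon i v, Fin.sum_univ_three]
  fin_cases i <;> simp [ws, wp, tz, ti, enc] <;> ring

/-- The action of a pair of matrices. -/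
def act (A B : Matrix (Fin 3) (Fin 3) F) : (I27 → F) →ₗ[F] (I27 → F) where
  toFun z p := if p.1 = 0 then ∑ l, A p.2.1 l * z (0, l, p.2.2) else if p.1 = 1 then z p
    else ∑ l, z (2, p.2.1, l) * B l p.2.2
  map_add' x y := by
    funext p; simp only [Pi.add_apply]; split_ifs <;> simp [mul_add, add_mul, Finset.sum_add_distrib]
  map_smul' c x := by
    funext p; simp only [Pi.smul_apply, smul_eq_mul, RingHom.id_apply]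
    split_ifs <;> simp [Finset.mul_sum, mul_left_comm, mul_assoc]

theorem mat3_act (A B : Matrix (Fin 3) (Fin 3) F) (z : I27 → F) : mat3 (act A B z) 0 = A * mat3 z 0 ∧
    mat3 (act A B z) 1 = mat3 z 1 ∧ mat3 (act A B z) 2 = mat3 z 2 * B := by
  refine ⟨?_, ?_, ?_⟩ <;> ext i j <;> simp [mat3, act, mul_apply]

theorem mat3_ext {z z' : I27 → F} (h0 : mat3 z 0 = mat3 z' 0) (h1 : mat3 z 1 = mat3 z' 1)
    (h2 : mat3 z 2 = mat3 z' 2) : z = z' := by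
  funext ⟨k, i, j⟩
  fin_cases k
  exacts [congrFun (congrFun h0 i) j, congrFun (congrFun h1 i) j, congrFun (congrFun h2 i) j]

variable (F) in
/-- The action of `SL₃`. -/
def actHom : SL (Fin 3) F →* Module.End F (I27 → F) where
  toFun A := act A.1 (A⁻¹).1
  map_one' := LinearMap.ext fun z => mat3_ext (by simp [mat3_act]) (by simp [mat3_act]) (by simp [mat3_act])
  map_mul' A B := LinearMap.ext fun z => by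
    have e1 : (A * B).1 = A.1 * B.1 := rfl
    have e2 : ((A * B)⁻¹).1 = (B⁻¹).1 * (A⁻¹).1 := by rw [_root_.mul_inv_rev]; rfl
    refine mat3_ext ?_ ?_ ?_ <;> simp only [Module.End.mul_apply, mat3_act, e1, e2, Matrix.mul_assoc]

variable (F) in
/-- The embedding of `SL₃`. -/
noncomputable def io : SL (Fin 3) F →* GL I27 F :=
  ((LinearMap.toMatrixAlgEquiv' (R := F) (n := I27)).toMonoidHom.comp (actHom F)).toHomUnits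

theorem io_mulVec (A : SL (Fin 3) F) (z : I27 → F) : (io F A).val *ᵥ z = act A.1 (A⁻¹).1 z := by
  have : (io F A).val = LinearMap.toMatrix' (act A.1 (A⁻¹).1) := rfl
  rw [this, LinearMap.toMatrix'_mulVec]

theorem io_mem (A : SL (Fin 3) F) : io F A ∈ E6univ F := by
  intro v
  show cubicT ((io F A).val *ᵥ v) = cubicT v
  have h : (A⁻¹).1 * A.1 = 1 := congrArg Subtype.val (inv_mul_cancel A)
  simp only [io_mulVec, cubicT, mat3_act, det_mul, A.2, (A⁻¹).2, one_mul, mul_one]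
  rw [← Matrix.mul_assoc, trace_mul_comm, ← Matrix.mul_assoc, ← Matrix.mul_assoc, ← Matrix.mul_assoc, h,
    Matrix.one_mul]

theorem blk_t (t : F) : (blk ((sl2 F).x true t)).1 = !![1, t, 0; 0, 1, 0; 0, 0, 1] := rfl

theorem blk_f (t : F) : (blk ((sl2 F).x false t)).1 = !![1, 0, 0; t, 1, 0; 0, 0, 1] := rfl

theorem blk_t' (t : F) : (blk' ((sl2 F).x true t)).1 = !![1, 0, 0; 0, 1, t; 0, 0, 1] := blk'_val _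

theorem blk_f' (t : F) : (blk' ((sl2 F).x false t)).1 = !![1, 0, 0; 0, 1, 0; 0, t, 1] := blk'_val _

set_option maxHeartbeats 2000000 in
theorem io_blk (b : Bool) (t : F) : Sp (io F (blk ((sl2 F).x b t))) (ys 0 b) (yp 0 b) t := by
  intro z
  have e : (blk ((sl2 F).x b t))⁻¹ = blk ((sl2 F).x b (-t)) := by rw [← map_inv, PreSys.x_neg]
  rw [io_mulVec, e]
  funext ⟨k, i, j⟩
  cases b
  · rw [blk_f, blk_f]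
    fin_cases k <;> fin_cases i <;> fin_cases j <;>
      simp [act, spf, ys, yp, tz, ti, enc, Fin.sum_univ_three] <;> ring
  · rw [blk_t, blk_t]
    fin_cases k <;> fin_cases i <;> fin_cases j <;>
      simp [act, spf, ys, yp, tz, ti, enc, Fin.sum_univ_three] <;> ring

set_option maxHeartbeats 2000000 in
theorem io_blk' (b : Bool) (t : F) : Sp (io F (blk' ((sl2 F).x b t))) (ys 2 b) (yp 2 b) t := by
  intro z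
  have e : (blk' ((sl2 F).x b t))⁻¹ = blk' ((sl2 F).x b (-t)) := by rw [← map_inv, PreSys.x_neg]
  rw [io_mulVec, e]
  funext ⟨k, i, j⟩
  cases b
  · rw [blk_f', blk_f']
    fin_cases k <;> fin_cases i <;> fin_cases j <;>
      simp [act, spf, ys, yp, tz, ti, enc, Fin.sum_univ_three] <;> ring
  · rw [blk_t', blk_t']
    fin_cases k <;> fin_cases i <;> fin_cases j <;>
      simp [act, spf, ys, yp, tz, ti, enc, Fin.sum_univ_three] <;> ring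

variable (F) in
/-- The subgroups `SL₃` attached to the edges. -/
noncomputable def th (i : Fin 6) : SL (Fin 3) F →* E6univ F :=
  ((MulAut.conj (ww F i)).toMonoidHom.comp (io F)).codRestrict _ fun A =>
    mul_mem (mul_mem (ww_mem i) (io_mem A)) (inv_mem (ww_mem i))

theorem th_blk (i : Fin 6) (b : Bool) (t : F) : Sp (th F i (blk ((sl2 F).x b t))).1 (ys (par i) b) (yp (par i) b) t :=
  (io_blk b t).conj (ww_mon i) (ww_mon' i) (by revert i b; decide +kernel)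

theorem th_blk' (i : Fin 6) (hi : i ≠ 0) (b : Bool) (t : F) :
    Sp (th F i (blk' ((sl2 F).x b t))).1 (ys i b) (yp i b) t :=
  (io_blk' b t).conj (ww_mon i) (ww_mon' i) (by revert i b; decide +kernel)

/-- The fundamental root elements. -/
noncomputable def yy (i : Fin 6) (b : Bool) (t : F) : E6univ F :=
  if i = 0 then th F 0 (blk ((sl2 F).x b t)) else th F i (blk' ((sl2 F).x b t))

theorem yy_sp (i : Fin 6) (b : Bool) (t : F) : Sp (yy i b t).1 (ys i b) (yp i b) t := by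
  unfold yy
  split_ifs with h
  · rw [h]; exact th_blk 0 b t
  · exact th_blk' i h b t

theorem th_edge (i : Fin 6) (hi : i ≠ 0) (b : Bool) (t : F) :
    th F i (blk ((sl2 F).x b t)) = yy (par i) b t ∧ th F i (blk' ((sl2 F).x b t)) = yy i b t :=
  ⟨Subtype.ext (ext_mulVec fun z => (th_blk i b t z).trans (yy_sp _ b t z).symm), by rw [yy, if_neg hi]⟩

theorem yy_comm {i j : Fin 6} (h : i ≠ j) (h1 : par i ≠ j ∨ i = 0) (h2 : par j ≠ i ∨ j = 0) (b b' : Bool) (t u : F) :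
    yy i b t * yy j b' u = yy j b' u * yy i b t :=
  Subtype.ext ((yy_sp i b t).comm (yy_sp j b' u) (by revert i j b b'; decide +kernel))

theorem r_chk : ∀ i ν, rp i (rp i ν) = ν ∧ rs i ν * rs i ν = 1 := by decide +kernel

theorem dep_chk : ∀ p q : I27, p ≠ q → nb p q = false → (p = (0, 1, 0) ∧ q = (0, 0, 0)) ∨
    (rp (gen p q) p ≠ rp (gen p q) q ∧ nb (rp (gen p q) p) (rp (gen p q) q) = false ∧
      dep (rp (gen p q) p) (rp (gen p q) q) < dep p q) := by decide +kernel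

theorem DD_base (z : I27 → F) (ν : I27) : DD (0, 1, 0) (0, 0, 0) z ν = (ys 0 true ν : F) * z (yp 0 true ν) := by
  obtain ⟨k, i, j⟩ := ν
  fin_cases k <;> fin_cases i <;> fin_cases j <;> simp [DD, cr, bs, ys, yp, tz, ti, enc]

variable [Fintype F] (hF : 3 ≤ Fintype.card F)
include hF

theorem Has.conj {E : Subgroup (GL I27 F)} {w : GL I27 F} (hw : w ∈ E) (hw' : w ∈ E6univ F) {s : I27 → ℤ}
    {σ : I27 → I27} (hm : Mon w s σ) (h : ∀ ν, σ (σ ν) = ν ∧ s ν * s ν = 1) {p q : I27} (H : Has E (σ p) (σ q)) :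
    Has E p q := by
  have s2 : ∀ ν, (s ν : F) * s ν = 1 := fun ν => by exact_mod_cast congrArg (Int.cast : ℤ → F) (h ν).2
  have e1 : ∀ a, w.val *ᵥ bs (σ a) = (s a : F) • bs a := fun a => funext fun ν => by
    rw [hm, Pi.smul_apply, smul_eq_mul]
    by_cases e : ν = a
    · rw [e, bs_self, bs_self]
    · rw [bs_ne e, bs_ne fun e' => e (by rw [← (h ν).1, e', (h a).1]), mul_zero, mul_zero]
  have e2 : ∀ x y, w.val *ᵥ cr x y = cr (w.val *ᵥ x) (w.val *ᵥ y) := fun x y => funext fun ν => by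
    have := cr_inv hF hw' x y (bs (σ ν))
    rw [e1, dotProduct_smul, dot_bs, dot_bs, smul_eq_mul] at this
    rw [hm, ← this, ← mul_assoc, s2, one_mul]
  intro t
  obtain ⟨u, hu, e⟩ := H ((s p : F) * s q * t)
  refine ⟨w * u * w⁻¹, mul_mem (mul_mem hw hu) (inv_mem hw), fun z => ?_⟩
  obtain ⟨z, rfl⟩ : ∃ z', z = w.val *ᵥ z' :=
    ⟨(w⁻¹).val *ᵥ z, by rw [mulVec_mulVec, ← Units.val_mul, mul_inv_cancel, Units.val_one, one_mulVec]⟩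
  rw [mulVec_mulVec, ← Units.val_mul, inv_mul_cancel_right, Units.val_mul, ← mulVec_mulVec, e, mulVec_add,
    mulVec_smul, DD, mulVec_sub, mulVec_smul, e2, e2, e1, e1, smul_cr, smul_cr, cr_smul, DD, hm]
  funext ν
  simp only [Pi.add_apply, Pi.smul_apply, Pi.sub_apply, smul_eq_mul]
  linear_combination (t * (s p : F) * z (σ p) * bs q ν - t * (s p * s p) *
    cr (bs p) (cr (bs q) (w.val *ᵥ z)) ν) * s2 q - t * cr (bs p) (cr (bs q) (w.val *ᵥ z)) ν * s2 p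

theorem eq_top_of_yy {K : Subgroup (E6univ F)} (hK : ∀ i b t, yy i b t ∈ K) : K = ⊤ := by
  have hE : K.map (E6univ F).subtype ≤ E6univ F := Subgroup.map_subtype_le _
  have hy : ∀ i b t, (yy i b t).1 ∈ K.map (E6univ F).subtype := fun i b t => ⟨_, hK i b t, rfl⟩
  have key : ∀ n p q, p ≠ q → nb p q = false → dep p q = n → Has (K.map (E6univ F).subtype) p q := by
    intro n
    induction n using Nat.strong_induction_on with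
    | _ n ih =>
      intro p q h1 h2 h3
      rcases dep_chk p q h1 h2 with ⟨rfl, rfl⟩ | ⟨a, b, c⟩
      · refine fun t => ⟨_, hy 0 true t, fun z => funext fun ν => ?_⟩
        rw [yy_sp, spf, Pi.add_apply, Pi.smul_apply, DD_base, smul_eq_mul, mul_assoc]
      · have hw := mul_mem (mul_mem (hy (gen p q) true 1) (hy (gen p q) false (-1))) (hy (gen p q) true 1)
        refine Has.conj hF hw (hE hw) ((yy_sp _ true 1).mon (yy_sp _ false (-1)) ?_) (r_chk _)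
          (ih _ (h3 ▸ c) _ _ a b rfl)
        generalize gen p q = i
        revert i; decide +kernel
  refine top_le_iff.1 fun g _ => ?_
  obtain ⟨g', h1, h2⟩ := gen_all hF hE (fun p q h1 h2 => key _ p q h1 h2 rfl) g.2
  rwa [← show g' = g from Subtype.ext h2]

omit hF [Fintype F] in
theorem yy_not_comm : yy 0 true (1 : F) * yy 0 false 1 ≠ yy 0 false 1 * yy 0 true 1 := by
  intro h
  have := congrArg (fun g : E6univ F => (g.1.val *ᵥ bs (0, 0, 0)) (0, 0, 0)) h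
  simp only [Subgroup.coe_mul, Units.val_mul, ← mulVec_mulVec, yy_sp 0 _ _ _] at this
  simp [spf, ys, yp, tz, ti, enc, bs] at this

end Cfsg.Lib.Linear.Cub
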