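import Cfsg.Agent.S0144
import Cfsg.Agent.S0678
import Cfsg.Agent.S0493
import Cfsg.Agent.S0495
import Cfsg.Agent.Lib.Linear.SmallIso
import Cfsg.Agent.Lib.Linear.SmallRec
import Cfsg.Agent.Lib.Core.Fitting

/-! Subgroups of `GL₄(2) ≅ A₈` with trivial solvable radical. -/

set_option autoImplicit false

namespace Cfsg.Lib.Linear.A8S
open MulAction Subgroup Cfsg.Lib

universe u

theorem ns60_aux (n : ℕ) : ∀ (G : Type u) [Group G] [Finite G], Nat.card G = n → n ≤ 100 →
    ¬ Group.IsSolvable G → n = 60 ∧ IsSimpleGroup G := by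
  induction n using Nat.strong_induction_on with
  | _ n ih =>
  intro G _ _ hn h100 hG
  have hnt : Nontrivial G := by
    by_contra h
    rw [not_nontrivial_iff_subsingleton] at h
    exact hG inferInstance
  have hs : IsSimpleGroup G := by
    refine ⟨fun N hN => ?_⟩
    by_contra hc
    push Not at hc
    have h1 := N.card_mul_index
    have h2 : 1 < Nat.card N := (N.one_lt_card_iff_ne_bot).2 hc.1
    have h3 : 1 < N.index := Nat.one_lt_iff_ne_zero_and_ne_one.2
      ⟨N.index_ne_zero_of_finite, fun h => hc.2 (index_eq_one.1 h)⟩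
    have s1 : Group.IsSolvable N := by
      by_contra h
      have := (ih (Nat.card N) (by nlinarith) N rfl (by nlinarith) h).1
      nlinarith
    have s2 : Group.IsSolvable (G ⧸ N) := by
      by_contra h
      have := (ih N.index (by nlinarith) (G ⧸ N) rfl (by nlinarith) h).1
      nlinarith
    exact hG (Core.isSolvable_of_normal_of_quotient N)
  refine ⟨hn ▸ Agent.S0493.result (fun hc => hG ?_) (hn ▸ h100), hs⟩
  exact Group.isSolvable_of_comm fun a b => hc.isMulCommutative.is_comm.comm a b

variable {G : Type u} [Group G] [Finite G]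

theorem ge60 (h : ¬ Group.IsSolvable G) : 60 ≤ Nat.card G := by
  by_contra hc
  have := (ns60_aux _ G rfl (by omega) h).1
  omega

theorem solv_of_lt (h : Nat.card G < 60) : Group.IsSolvable G := by
  by_contra hc
  have := ge60 hc
  omega

/-- Faithful actions with orbits of length at most four force solvability. -/
theorem solv_of_orbits {X : Type*} [Finite X] [MulAction G X]
    (hf : ∀ g : G, (∀ x : X, g • x = x) → g = 1) (h4 : ∀ x : X, Nat.card (orbit G x) ≤ 4) :
    Group.IsSolvable G := by
  classical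
  have : ∀ x : X, ∃ n, derivedSeries (Equiv.Perm (orbit G x)) n = ⊥ := fun x => by
    have : Group.IsSolvable (Equiv.Perm (orbit G x)) := by
      apply solv_of_lt
      rw [Nat.card_perm]
      exact lt_of_le_of_lt (Nat.factorial_le (h4 x)) (by decide)
    exact this.solvable
  choose n hn using this
  obtain ⟨m, hm⟩ := (Set.finite_range n).bddAbove
  refine ⟨m, eq_bot_iff.2 fun g hg => hf g fun x => ?_⟩
  have h1 : toPermHom G (orbit G x) g ∈ derivedSeries (Equiv.Perm (orbit G x)) (n x) :=
    map_derivedSeries_le_derivedSeries _ _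
      (mem_map_of_mem _ (derivedSeries_antitone _ (hm ⟨x, rfl⟩) hg))
  rw [hn x, mem_bot] at h1
  exact congrArg Subtype.val (Equiv.ext_iff.1 h1 ⟨x, mem_orbit_self x⟩)

/-- trivial solvable radical -/
def RT (G : Type u) [Group G] : Prop := ∀ N : Subgroup G, N.Normal → Group.IsSolvable N → N = ⊥

theorem RT.ns [Nontrivial G] (h : RT G) : ¬ Group.IsSolvable G := fun hs =>
  top_ne_bot (h ⊤ inferInstance inferInstance)

theorem exists_orbit [Nontrivial G] (hR : RT G) {X : Type*} [Finite X] [MulAction G X]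
    (hX : Nat.card X ≤ 9) (hf : ∀ g : G, (∀ x : X, g • x = x) → g = 1) :
    ∃ x : X, 5 ≤ Nat.card (orbit G x) ∧ ∀ g : G, (∀ y : orbit G x, g • y = y) → g = 1 := by
  by_contra hc
  push Not at hc
  apply hR.ns
  refine solv_of_orbits hf fun x => ?_
  by_contra h5
  obtain ⟨g, hg, hg1⟩ := hc x (by omega)
  apply hg1
  have hK : (toPermHom G (orbit G x)).ker = ⊥ := by
    refine hR _ inferInstance (solv_of_orbits (X := X) (fun k hk => Subtype.ext (hf _ hk)) fun y => ?_)
    by_cases hy : y ∈ orbit G x
    · have : orbit (toPermHom G (orbit G x)).ker y = {y} := by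
        ext z
        refine ⟨?_, fun h => by rw [Set.mem_singleton_iff.1 h]; exact mem_orbit_self y⟩
        rintro ⟨k, rfl⟩
        exact congrArg Subtype.val (Equiv.ext_iff.1 k.2 ⟨y, hy⟩)
      rw [this]; simp
    · have h1 : orbit (toPermHom G (orbit G x)).ker y ⊆ (orbit G x)ᶜ := by
        rintro _ ⟨k, rfl⟩ hz
        apply hy
        obtain ⟨a, ha⟩ := hz
        refine ⟨(k : G)⁻¹ * a, ?_⟩
        simp only at ha ⊢
        rw [mul_smul, ha]
        exact inv_smul_smul _ _
      have h2 := Set.ncard_le_ncard h1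
      have h3 := Set.ncard_add_ncard_compl (orbit G x)
      simp only [Nat.card_coe_set_eq] at h5 ⊢
      omega
  have : g ∈ (toPermHom G (orbit G x)).ker := Equiv.ext hg
  rwa [hK, mem_bot] at this

/-- the conclusion -/
def Concl (G : Type u) [Group G] : Prop :=
  (∃ n : ℕ, 5 ≤ n ∧ n ≤ 8 ∧ Nonempty (G ≃* alternatingGroup (Fin n))) ∨
    Nonempty (G ≃* Equiv.Perm (Fin 5)) ∨ Nonempty (G ≃* Equiv.Perm (Fin 6)) ∨
    Nonempty (G ≃* GL (Fin 3) (ZMod 2))

theorem c5 (h : ¬ Group.IsSolvable G) (f : G →* Equiv.Perm (Fin 5)) (hf : Function.Injective f) :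
    Concl G := by
  have h1 := ge60 h
  have h2 := card_dvd_of_injective f hf
  rw [Nat.card_perm, Nat.card_fin] at h2
  obtain ⟨k, hk⟩ := h2
  have h3 : Nat.factorial 5 = 120 := by decide
  have : k = 1 ∨ k = 2 := by
    have : k ≠ 0 := by rintro rfl; omega
    have : k < 3 := by nlinarith
    omega
  rcases this with rfl | rfl
  · exact Or.inr (Or.inl (nonempty_equiv_perm_of_injective f hf (by omega)))
  · exact Or.inl ⟨5, le_rfl, by norm_num, nonempty_equiv_alternating_of_injective f hf (by omega)⟩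

theorem index_ge {S : Type*} [Group S] [Finite S] [IsSimpleGroup S] (K : Subgroup S) (hK : K ≠ ⊤)
    {m : ℕ} (hm : ¬ Nat.card S ∣ m.factorial) : m < K.index := by
  by_contra h
  exact hm ((card_dvd_factorial_index_of_simple K hK).trans (Nat.factorial_dvd_factorial (by omega)))

theorem card_alt (n : ℕ) (hn : 2 ≤ n) : 2 * Nat.card (alternatingGroup (Fin n)) = n.factorial := by
  have : Nontrivial (Fin n) := Fin.nontrivial_iff_two_le.2 hn
  have := two_mul_nat_card_alternatingGroup (α := Fin n)
  rwa [Nat.card_perm, Nat.card_fin] at this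

theorem c6 [Nontrivial G] (hR : RT G) (f : G →* Equiv.Perm (Fin 6)) (hf : Function.Injective f) :
    Concl G := by
  have hA : Nat.card (alternatingGroup (Fin 6)) = 360 := by
    have := card_alt 6 (by norm_num)
    have h3 : Nat.factorial 6 = 720 := by decide
    omega
  have h720 : Nat.factorial 6 = 720 := by decide
  have : IsSimpleGroup (alternatingGroup (Fin 6)) := alternatingGroup.isSimpleGroup (by simp)
  set G0 := (alternatingGroup (Fin 6)).comap f with hG0
  have hi : G0.index ∣ 2 := by
    have : Nontrivial (Fin 6) := inferInstance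
    rw [hG0, index_comap, ← alternatingGroup.index_eq_two (α := Fin 6)]
    exact relIndex_dvd_index_of_normal _ _
  have hc := G0.card_mul_index
  have hns : ¬ Group.IsSolvable G0 := fun hs => by
    have h1 := hR G0 inferInstance hs
    have h2 := ge60 hR.ns
    rw [h1, index_bot] at hi
    have := Nat.le_of_dvd two_pos hi
    omega
  have h60 := ge60 hns
  let K : Subgroup (alternatingGroup (Fin 6)) := (G0.map f).subgroupOf _
  have hK : Nat.card K = Nat.card G0 := by
    rw [Nat.card_congr (subgroupOfEquivOfLe (map_comap_le f _)).toEquiv, card_map_of_injective hf]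
  have hK2 := K.card_mul_index
  have hcard : Nat.card G0 = 60 ∨ Nat.card G0 = 360 := by
    by_cases hK1 : K = ⊤
    · right; rw [← hK, hK1, card_top, hA]
    · have := index_ge K hK1 (m := 5) (by rw [hA]; decide)
      left; nlinarith
  have hi2 : G0.index = 1 ∨ G0.index = 2 := (Nat.dvd_prime Nat.prime_two).1 hi
  rcases hcard with h1 | h1 <;> rcases hi2 with h2 | h2 <;> rw [h1, h2] at hc
  · have := (ns60_aux _ G rfl (by omega) hR.ns).2
    exact Or.inl ⟨5, le_rfl, by norm_num, nonempty_equiv_A5_of_simple (by omega)⟩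
  · -- order 120
    let _ : MulAction G (Equiv.Perm (Fin 6) ⧸ f.range) := MulAction.compHom _ f
    have hr : Nat.card f.range = 120 := by
      rw [← Nat.card_congr (MonoidHom.ofInjective hf).toEquiv]; omega
    have hX : Nat.card (Equiv.Perm (Fin 6) ⧸ f.range) = 6 := by
      have := f.range.card_mul_index
      rw [Nat.card_perm, Nat.card_eq_fintype_card (α := Fin 6), Fintype.card_fin, hr, h720] at this
      rw [← index_eq_card]; omega
    have hcore : f.range.normalCore = ⊥ := by
      by_contra hc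
      have := card_le_of_le ((Equiv.Perm.alternatingGroup_le_of_normal (by simp)
        ((nontrivial_iff_ne_bot _).2 hc)).trans f.range.normalCore_le)
      omega
    obtain ⟨x, hx5, hx⟩ := exists_orbit hR (X := Equiv.Perm (Fin 6) ⧸ f.range) (by omega) fun g hg => by
      have : f g ∈ f.range.normalCore := by
        rw [normalCore_eq_ker]; exact Equiv.ext hg
      rw [hcore, mem_bot] at this
      exact hf (this.trans f.map_one.symm)
    have hx6 : Nat.card (orbit G x) = 5 := by
      by_contra h
      have h6 : (orbit G x).ncard ≤ 6 := (Set.ncard_le_card _).trans hX.le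
      rw [Nat.card_coe_set_eq] at h hx5
      have hu : orbit G x = Set.univ := by
        apply Set.eq_of_subset_of_ncard_le (Set.subset_univ _)
        rw [Set.ncard_univ]; omega
      have h1 : ((1 : Equiv.Perm (Fin 6)) : Equiv.Perm (Fin 6) ⧸ f.range) ∈ orbit G x := hu ▸ trivial
      rw [← orbit_eq_iff] at h1
      have : orbit G ((1 : Equiv.Perm (Fin 6)) : Equiv.Perm (Fin 6) ⧸ f.range) =
          {((1 : Equiv.Perm (Fin 6)) : Equiv.Perm (Fin 6) ⧸ f.range)} := by
        ext z
        refine ⟨?_, fun h => h ▸ mem_orbit_self _⟩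
        rintro ⟨k, rfl⟩
        show ((f k * 1 : Equiv.Perm (Fin 6)) : Equiv.Perm (Fin 6) ⧸ f.range) = _
        rw [QuotientGroup.eq]; simp
      rw [← h1, this] at hx5; simp at hx5
    obtain ⟨f', hf'⟩ := exists_injective_perm_of_faithful hx6 hx
    exact c5 hR.ns f' hf'
  · exact Or.inl ⟨6, by norm_num, by norm_num, nonempty_equiv_alternating_of_injective f hf (by omega)⟩
  · exact Or.inr (Or.inr (Or.inl (nonempty_equiv_perm_of_injective f hf (by omega))))

theorem c7 [Nontrivial G] (hR : RT G) (h5040 : Nat.card G ≠ 5040) {X : Type} [Finite X]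
    [MulAction G X] [IsPretransitive G X] (hX : Nat.card X = 7)
    (hf : ∀ g : G, (∀ x : X, g • x = x) → g = 1) : Concl G := by
  classical
  have := Fintype.ofFinite X
  have hinj : Function.Injective (toPermHom G X) :=
    (injective_iff_map_eq_one _).2 fun g hg => hf g (Equiv.ext_iff.1 hg)
  let e := MonoidHom.ofInjective hinj
  have : IsPretransitive (toPermHom G X).range X := ⟨fun x y => by
    obtain ⟨g, hg⟩ := exists_smul_eq G x y
    exact ⟨e g, hg⟩⟩
  by_cases hA : alternatingGroup X ≤ (toPermHom G X).range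
  · obtain ⟨f', hf'⟩ := exists_injective_perm_of_faithful hX hf
    have : Nontrivial X := Finite.one_lt_card_iff_nontrivial.1 (by omega)
    have h1 := two_mul_nat_card_alternatingGroup (α := X)
    have h7 : Nat.factorial 7 = 5040 := by decide
    rw [Nat.card_perm, hX, h7] at h1
    have h2 := card_le_of_le hA
    rw [← Nat.card_congr e.toEquiv] at h2
    obtain ⟨k, hk⟩ := card_dvd_of_injective f' hf'
    rw [Nat.card_perm, Nat.card_eq_fintype_card (α := Fin 7), Fintype.card_fin, h7] at hk
    have : k = 2 := by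
      have : k ≠ 0 := by rintro rfl; omega
      have : k ≠ 1 := by rintro rfl; omega
      have : k < 3 := by nlinarith
      omega
    subst this
    exact Or.inl ⟨7, by norm_num, by norm_num, nonempty_equiv_alternating_of_injective f' hf' (by omega)⟩
  · obtain ⟨h1, h2⟩ := Agent.S0678.result (by rw [← Nat.card_eq_fintype_card, hX]) (toPermHom G X).range
      (fun h => hR.ns (Core.isSolvable_of_equiv e.symm)) hA
    obtain ⟨e1⟩ := Agent.S0495.result h1 (F := ZMod 7) (by simp)
    obtain ⟨e2⟩ := nonempty_SL32_equiv_PSL27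
    exact Or.inr (Or.inr (Or.inr ⟨((e.trans e1).trans e2.symm).trans (MulEquiv.ofBijective _
      (toGL_bijective_of_card_two (by simp)))⟩))

theorem small [Nontrivial G] (hR : RT G) (h5040 : Nat.card G ≠ 5040) {X : Type} [Finite X]
    [MulAction G X] (hX : Nat.card X ≤ 8) (hf : ∀ g : G, (∀ x : X, g • x = x) → g = 1)
    (hnt : ∀ x : X, Nat.card (orbit G x) ≤ 7) : Concl G := by
  obtain ⟨x, hx5, hx⟩ := exists_orbit hR (X := X) (by omega) hf
  have h7 := hnt x
  obtain h | h | h : Nat.card (orbit G x) = 5 ∨ Nat.card (orbit G x) = 6 ∨ Nat.card (orbit G x) = 7 := by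
    omega
  · obtain ⟨f', hf'⟩ := exists_injective_perm_of_faithful h hx
    exact c5 hR.ns f' hf'
  · obtain ⟨f', hf'⟩ := exists_injective_perm_of_faithful h hx
    exact c6 hR f' hf'
  · exact c7 hR h5040 h hx

theorem seven_dvd (h : ¬ Group.IsSolvable G) (hd : Nat.card G ∣ 20160) (h5 : ¬ 5 ∣ Nat.card G) :
    7 ∣ Nat.card G := by
  by_contra h7
  have h1 : Nat.card G ∣ 2 ^ 6 * 3 ^ 2 := by
    have c5 : (Nat.card G).Coprime 5 := ((Nat.Prime.coprime_iff_not_dvd Nat.prime_five).2 h5).symm
    have c7 : (Nat.card G).Coprime 7 := ((Nat.Prime.coprime_iff_not_dvd (by norm_num)).2 h7).symm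
    exact c5.dvd_of_dvd_mul_right (c7.dvd_of_dvd_mul_right (by norm_num; exact hd))
  obtain ⟨a, b, ha, hb, hab⟩ := exists_dvd_and_dvd_of_dvd_mul h1
  obtain ⟨i, -, rfl⟩ := (Nat.dvd_prime_pow Nat.prime_two).1 ha
  obtain ⟨j, -, rfl⟩ := (Nat.dvd_prime_pow Nat.prime_three).1 hb
  exact h (Agent.S0144.result 2 3 i j Nat.prime_two Nat.prime_three hab)

theorem orbit_le_of_fixed {X : Type*} [Finite X] [MulAction G X] {m : ℕ} (hX : Nat.card X ≤ m + 1)
    (hm : 1 ≤ m) {x0 : X} (h0 : ∀ g : G, g • x0 = x0) (x : X) : Nat.card (orbit G x) ≤ m := by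
  rw [Nat.card_coe_set_eq]
  by_cases hx : x0 ∈ orbit G x
  · rw [← orbit_eq_iff.2 hx]
    refine le_trans ((Set.ncard_le_one_iff_eq (Set.toFinite _)).2 (Or.inr ⟨x0, ?_⟩)) hm
    ext z
    refine ⟨?_, fun h => by rw [Set.mem_singleton_iff.1 h]; exact mem_orbit_self _⟩
    rintro ⟨k, rfl⟩
    exact h0 k
  · have h1 : (orbit G x).ncard < (Set.univ : Set X).ncard :=
      Set.ncard_lt_ncard (Set.ssubset_univ_iff.2 fun h => hx (h ▸ trivial))
    rw [Set.ncard_univ] at h1
    omega

/-- The case `5 ∤ #H`, seen on the natural module. -/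
theorem c_lin {H : Type u} [Group H] [Finite H] [Nontrivial H] (hR : RT H)
    (hd : Nat.card H ∣ 20160) (h5 : ¬ 5 ∣ Nat.card H) {V : Type} [AddCommGroup V] [Module (ZMod 2) V]
    [Finite V] (hV : Nat.card V = 16) (ρ : H →* Module.End (ZMod 2) V)
    (hρ : ∀ g : H, (∀ x, ρ g x = x) → g = 1) : Concl H := by
  have h5040 : Nat.card H ≠ 5040 := fun h => h5 (by rw [h]; norm_num)
  let _ : MulAction H V := MulAction.compHom _ ρ
  have hs : ∀ (g : H) (x : V), g • x = ρ g x := fun _ _ => rfl
  -- a nonzero vector with a short orbit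
  obtain ⟨v, hv0, hv⟩ : ∃ v : V, v ≠ 0 ∧ (orbit H v).ncard ≤ 7 := by
    by_contra hc
    push Not at hc
    have nz : ∀ v : V, v ≠ 0 → orbit H v ⊆ {0}ᶜ := fun v hv => by
      rintro _ ⟨g, rfl⟩ h
      apply hv
      have h' : g • v = 0 := h
      rw [← inv_smul_smul g v, h', hs, map_zero]
    have h15 : ({0}ᶜ : Set V).ncard = 15 := by
      have := Set.ncard_add_ncard_compl ({0} : Set V)
      rw [Set.ncard_singleton, hV] at this
      omega
    have : Nontrivial V := Finite.one_lt_card_iff_nontrivial.1 (by omega)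
    obtain ⟨v1, hv1⟩ := exists_ne (0 : V)
    have hne : orbit H v1 ≠ {0}ᶜ := fun h => by
      apply h5
      have := (stabilizer H v1).index_dvd_card
      rw [index_stabilizer, h, h15] at this
      exact Dvd.dvd.trans (by norm_num) this
    obtain ⟨w, hw0, hw⟩ := Set.exists_of_ssubset ((nz _ hv1).ssubset_of_ne hne)
    have hdis : Disjoint (orbit H w) (orbit H v1) := by
      rw [Set.disjoint_left]
      intro z h1 h2
      exact hw ((orbit_eq_iff.2 h2) ▸ (mem_orbit_symm.1 h1))
    have := Set.ncard_le_ncard (Set.union_subset (nz w hw0) (nz _ hv1))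
    rw [Set.ncard_union_eq hdis, h15] at this
    have := hc w hw0
    have := hc _ hv1
    omega
  set K := (toPermHom H (orbit H v)).ker with hKd
  by_cases hK : K = ⊥
  · refine small hR h5040 (X := orbit H v) (by rw [Nat.card_coe_set_eq]; omega) (fun g hg => ?_)
      fun x => ?_
    · have : g ∈ K := Equiv.ext hg
      rwa [hK, mem_bot] at this
    · rw [Nat.card_coe_set_eq]
      exact (Set.ncard_le_card _).trans (by rw [Nat.card_coe_set_eq]; omega)
  let U : Submodule (ZMod 2) V :=
    { carrier := {x | ∀ k ∈ K, ρ k x = x}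
      add_mem' := fun ha hb k hk => by rw [map_add, ha k hk, hb k hk]
      zero_mem' := fun k _ => map_zero _
      smul_mem' := fun c x hx k hk => by rw [map_smul, hx k hk] }
  have hU : ∀ g : H, U ≤ U.comap (ρ g) := fun g x hx k hk => by
    have := hx (g⁻¹ * k * g) (by simpa using (inferInstance : K.Normal).conj_mem k hk g⁻¹)
    have h2 := congrArg (ρ g) this
    rwa [← Module.End.mul_apply, ← map_mul, ← mul_assoc, ← mul_assoc, mul_inv_cancel, one_mul, map_mul,
      Module.End.mul_apply] at h2
  have hvU : v ∈ U := fun k hk => congrArg Subtype.val (Equiv.ext_iff.1 hk ⟨v, mem_orbit_self v⟩)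
  let σ : H →* Module.End (ZMod 2) (V ⧸ U) :=
    { toFun := fun g => U.mapQ U (ρ g) (hU g)
      map_one' := by ext x; simp
      map_mul' := fun a b => by ext x; simp }
  have hσ : ∀ (g : H) (x : V), σ g (U.mkQ x) = U.mkQ (ρ g x) := fun _ _ => rfl
  have hQ : Nat.card (V ⧸ U) ≤ 8 := by
    have h1 := U.card_eq_card_quotient_mul_card
    have h2 : 1 < Nat.card U := Finite.one_lt_card_iff_nontrivial.2
      ⟨⟨⟨v, hvU⟩, 0, fun h => hv0 (congrArg Subtype.val h)⟩⟩
    rw [hV] at h1
    nlinarith
  have hLK : σ.ker ⊓ K = ⊥ := by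
    refine hR _ inferInstance (Group.isSolvable_of_comm fun a b => Subtype.ext ?_)
    have key : ∀ a b : (σ.ker ⊓ K : Subgroup H), ∀ x, ρ a (ρ b x) = ρ a x + ρ b x - x := fun a b x => by
      have h1 : ρ b x - x ∈ U := by
        rw [← Submodule.Quotient.eq]
        exact (hσ b x).symm.trans (by rw [(MonoidHom.mem_ker).1 b.2.1]; rfl)
      have h2 := h1 a a.2.2
      rw [map_sub] at h2
      rw [sub_eq_iff_eq_add.1 h2]; abel
    rw [← mul_inv_eq_one]
    refine hρ _ fun x => ?_
    obtain ⟨y, rfl⟩ : ∃ y, x = ρ ((b * a : (σ.ker ⊓ K : Subgroup H)) : H) y :=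
      ⟨ρ ((b * a : (σ.ker ⊓ K : Subgroup H)) : H)⁻¹ x, by
        rw [← Module.End.mul_apply, ← map_mul, mul_inv_cancel, map_one]; rfl⟩
    rw [← Module.End.mul_apply, ← map_mul, inv_mul_cancel_right]
    simp only [Subgroup.coe_mul, map_mul, Module.End.mul_apply]
    rw [key, key]; abel
  have hL : σ.ker = ⊥ := by
    by_contra hL
    have s7 : ∀ N : Subgroup H, N.Normal → N ≠ ⊥ → 7 ∣ Nat.card N := fun N hN hN1 =>
      seven_dvd (fun h => hN1 (hR N hN h)) (N.card_subgroup_dvd_card.trans hd)
        fun h => h5 (h.trans N.card_subgroup_dvd_card)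
    have h1 := s7 _ inferInstance hL
    have h2 := s7 _ inferInstance hK
    have h3 : Nat.card σ.ker ∣ K.index := by
      have := relIndex_dvd_index_of_normal K σ.ker
      rwa [← inf_relIndex_right, inf_comm, hLK, relIndex_bot_left] at this
    have h4 := (mul_dvd_mul h2 (h1.trans h3)).trans (K.card_mul_index ▸ hd)
    norm_num at h4
  have : Finite (V ⧸ U) := Finite.of_surjective _ U.mkQ_surjective
  let _ : MulAction H (V ⧸ U) := MulAction.compHom _ σ
  refine small hR h5040 (X := V ⧸ U) hQ (fun g hg => ?_)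
    (orbit_le_of_fixed (x0 := 0) hQ (by norm_num) fun g => map_zero (σ g))
  have : g ∈ σ.ker := LinearMap.ext hg
  rwa [hL, mem_bot] at this

theorem main (H : Subgroup (GL (Fin 4) (ZMod 2))) [Nontrivial H] (hR : RT H) : Concl H := by
  obtain ⟨e⟩ := gl4_two_equiv (F := ZMod 2) (by simp)
  have : IsSimpleGroup (alternatingGroup (Fin 8)) := alternatingGroup.isSimpleGroup (by simp)
  let f0 : H →* alternatingGroup (Fin 8) := e.toMonoidHom.comp H.subtype
  have hf0 : Function.Injective f0 := e.injective.comp H.subtype_injective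
  have hd : Nat.card H ∣ 20160 := card_A8 ▸ card_dvd_of_injective f0 hf0
  by_cases h5 : ¬ 5 ∣ Nat.card H
  · refine c_lin hR hd h5 (V := Fin 4 → ZMod 2) (by simp)
      (((Matrix.toLinAlgEquiv' (R := ZMod 2) (n := Fin 4)).toMulEquiv.toMonoidHom.comp
      (Units.coeHom _)).comp H.subtype) fun g hg => ?_
    apply Subtype.ext
    apply Units.ext
    apply (Matrix.toLinAlgEquiv' (R := ZMod 2) (n := Fin 4)).injective
    rw [OneMemClass.coe_one, Units.val_one, map_one]
    exact LinearMap.ext hg
  push Not at h5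
  have hc0 : Nat.card f0.range = Nat.card H := (Nat.card_congr (MonoidHom.ofInjective hf0).toEquiv).symm
  have h5040 : Nat.card H ≠ 5040 := fun h => by
    have h1 := f0.range.card_mul_index
    rw [hc0, h, card_A8] at h1
    have := index_ge f0.range (fun h => by rw [h, index_top] at h1; omega) (m := 7)
      (by rw [card_A8]; decide)
    omega
  let f : H →* Equiv.Perm (Fin 8) := (alternatingGroup (Fin 8)).subtype.comp f0
  have hf : Function.Injective f := (alternatingGroup (Fin 8)).subtype_injective.comp hf0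
  let _ : MulAction H (Fin 8) := MulAction.compHom _ f
  have hfa : ∀ g : H, (∀ x : Fin 8, g • x = x) → g = 1 := fun g hg =>
    hf ((Equiv.ext hg).trans f.map_one.symm)
  by_cases ho : ∀ x : Fin 8, Nat.card (orbit H x) ≤ 7
  · exact small hR h5040 (by simp) hfa ho
  push Not at ho
  obtain ⟨x, hx⟩ := ho
  have hu : orbit H x = Set.univ := by
    apply Set.eq_of_subset_of_ncard_le (Set.subset_univ _)
    rw [Set.ncard_univ, Nat.card_fin]; rw [Nat.card_coe_set_eq] at hx; omega
  let ε := MonoidHom.ofInjective hf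
  have : IsPretransitive f.range (Fin 8) := ⟨fun a b => by
    obtain ⟨g, hg⟩ : a ∈ orbit H x := hu ▸ trivial
    obtain ⟨k, hk⟩ : b ∈ orbit H x := hu ▸ trivial
    refine ⟨ε (k * g⁻¹), ?_⟩
    show (k * g⁻¹) • a = b
    rw [← hg, ← hk, mul_smul, inv_smul_smul]⟩
  by_cases hA : alternatingGroup (Fin 8) ≤ f.range
  · have h1 := card_le_of_le hA
    rw [← Nat.card_congr ε.toEquiv, card_A8] at h1
    have := Nat.le_of_dvd (by norm_num) hd
    exact Or.inl ⟨8, by norm_num, le_rfl, nonempty_equiv_alternating_of_injective f hf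
      (by rw [show Nat.card H = 20160 by omega]; decide)⟩
  exfalso
  have : Fact (Nat.Prime 5) := ⟨Nat.prime_five⟩
  obtain ⟨g, hg⟩ := exists_prime_orderOf_dvd_card' (G := f.range) 5
    (by rw [← Nat.card_congr ε.toEquiv]; exact h5)
  obtain ⟨y, hy⟩ : ∃ y : Fin 8, g • y ≠ y := by
    by_contra hc
    push Not at hc
    have : g = 1 := Subtype.ext (Equiv.ext hc)
    rw [this, orderOf_one] at hg; omega
  have h5' : Nat.card (orbit (zpowers g) y) = 5 := by
    have h1 := (stabilizer (zpowers g) y).index_dvd_card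
    rw [index_stabilizer, Nat.card_zpowers, hg] at h1
    rw [Nat.card_coe_set_eq]
    refine ((Nat.dvd_prime Nat.prime_five).1 h1).resolve_left fun h => hy ?_
    exact (Set.ncard_le_one_iff (Set.toFinite _)).1 h.le ⟨⟨g, mem_zpowers g⟩, rfl⟩ (mem_orbit_self y)
  have : IsPreprimitive (zpowers g) (orbit (zpowers g) y) :=
    IsPreprimitive.of_prime_card (h5' ▸ Nat.prime_five)
  let φ : orbit (zpowers g) y →ₑ[((↑) : zpowers g → f.range)] Fin 8 := ⟨Subtype.val, fun _ _ => rfl⟩
  have hp : IsPreprimitive f.range (Fin 8) := IsPreprimitive.of_card_lt (f := φ) (by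
    have : Set.range φ = orbit (zpowers g) y := Subtype.range_coe
    rw [this, ← Nat.card_coe_set_eq, h5']; simp)
  have h1 := Hall.jordan_supp hp hA (by simp) Nat.prime_five (by simp) hg
  have h2 := Finset.card_le_univ (g : Equiv.Perm (Fin 8)).support
  simp at h2; omega

theorem rt_of_cores (hO : pPrimeCore 2 G = ⊥) (hO2 : pCore 2 G = ⊥) : RT G := fun N hN hs => by
  by_contra h
  obtain ⟨p, hp, h1⟩ := Core.exists_pCore_inf_ne_bot_of_solvable N h
  apply h1
  have : pCore p G = ⊥ := by
    by_cases h2 : p = 2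
    · rw [h2, hO2]
    · rw [eq_bot_iff, ← hO]
      have := Fact.mk hp
      obtain ⟨k, hk⟩ := IsPGroup.iff_card.1 (Core.isPGroup_pCore p G)
      exact Core.le_pPrimeCore (by
        rw [hk]; exact Nat.Coprime.pow_left _ ((Nat.coprime_primes hp Nat.prime_two).2 h2))
  rw [this, bot_inf_eq]

end Cfsg.Lib.Linear.A8S
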