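import Cfsg.Agent.Lib.Linear.PermRes
import Cfsg.Agent.Lib.Core.Nilpotent

/-! The largest abelian subgroups of the symmetric and alternating groups. -/

set_option autoImplicit false

namespace Cfsg.Lib.Linear

open Subgroup Equiv Finset Cfsg.Lib.Amalg Cfsg.Lib.Core

variable {α : Type*} [Fintype α] [DecidableEq α] {s t : Finset α} {N : Subgroup (Perm α)}

theorem comm_range {G H : Type*} [Group G] [Group H] (h : IsMulCommutative G) (f : G →* H) : IsMulCommutative f.range :=
  ⟨⟨by rintro ⟨_, x, rfl⟩ ⟨_, y, rfl⟩; exact Subtype.ext (by simp [← map_mul, h.is_comm.comm x])⟩⟩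

theorem comm_of_le {G : Type*} [Group G] {H K : Subgroup G} (h : K ≤ H) (hH : IsMulCommutative H) : IsMulCommutative K :=
  ⟨⟨fun x y => Subtype.ext (congrArg (Subtype.val : H → G) (hH.is_comm.comm ⟨x, h x.2⟩ ⟨y, h y.2⟩))⟩⟩

theorem card_res_comm (h : IsMulCommutative N) (x : α) : Nat.card (pinv_porb (N := N) x).res.range = #(porb N x) := by
  refine .trans ?_ (congrArg card ((pinv_porb x).porb_res (mem_porb_self x)))
  rw [card_porb, ← index_bot]
  refine congrArg _ (eq_bot_iff.2 fun g hg => Subtype.ext (Equiv.ext fun y => ?_)).symm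
  by_cases hy : y ∈ porb N x
  · obtain ⟨k, hk, rfl⟩ := mem_porb.1 ((pinv_porb x).porb_res (mem_porb_self x) ▸ hy)
    have := congrArg (·.1 x) ((comm_range h _).is_comm.comm g ⟨k, hk⟩)
    simpa [show g.1 x = x from hg] using this
  · exact mem_psupp.1 ((pinv_porb x).range_res_le g.2) y hy

/-- The largest order of an abelian subgroup of `S_n`. -/
def abS : ℕ → ℕ
  | 0 => 1 | 1 => 1 | 2 => 2 | 3 => 3 | 4 => 4 | n + 5 => 3 * abS (n + 2)

/-- The largest order of an abelian subgroup of `A_n`. -/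
def abA : ℕ → ℕ
  | 0 => 1 | 1 => 1 | 2 => 1 | 3 => 3 | 4 => 4 | 5 => 5 | 6 => 9 | 7 => 12 | 8 => 16 | n + 9 => 3 * abA (n + 6)

theorem abS_mul_le : ∀ j d, 1 ≤ d → abS j * d ≤ abS (j + d)
  | j, d + 5, _ => by have := abS_mul_le j (d + 2) (by omega); rw [← add_assoc, abS]; rw [← add_assoc] at this; nlinarith
  | j + 5, d, h => by have := abS_mul_le (j + 2) d h; rw [add_right_comm, abS, abS, add_right_comm]; nlinarith
  | 0, 1, _ | 0, 2, _ | 0, 3, _ | 0, 4, _ | 1, 1, _ | 1, 2, _ | 1, 3, _ | 1, 4, _ | 2, 1, _ | 2, 2, _ | 2, 3, _ | 2, 4, _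
  | 3, 1, _ | 3, 2, _ | 3, 3, _ | 3, 4, _ | 4, 1, _ | 4, 2, _ | 4, 3, _ | 4, 4, _ => by decide

theorem abA_mul_le (j d : ℕ) (h : 3 ≤ d) : abA j * d ≤ abA (j + d) := by
  induction d using Nat.strong_induction_on with
  | _ d ih =>
  rcases le_or_gt 9 d with h' | h'
  · obtain ⟨d, rfl⟩ := Nat.exists_eq_add_of_le' h'
    have := ih (d + 6) (by omega) (by omega)
    rw [← add_assoc, abA]; rw [← add_assoc] at this; nlinarith
  clear ih
  induction j using Nat.strong_induction_on with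
  | _ j ih =>
  rcases le_or_gt 9 j with h' | h'
  · obtain ⟨j, rfl⟩ := Nat.exists_eq_add_of_le' h'
    have := ih (j + 6) (by omega)
    rw [add_right_comm, abA, abA, add_right_comm]; nlinarith
  clear ih
  interval_cases d <;> interval_cases j <;> decide

theorem abA_sq : ∀ n, 3 ≤ n → n ≠ 4 → n ≠ 5 → n ≠ 8 → 2 ^ n < abA n ^ 2 ∧ abA n = abA (n - 3) * 3
  | 0 | 1 | 2 | 3 | 4 | 5 | 6 | 7 | 8 | 9 | 10 | 11 => by decide
  | n + 12 => fun _ _ _ _ => by
    have := (abA_sq (n + 9) (by omega) (by omega) (by omega) (by omega)).1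
    rw [show abA (n + 12) = 3 * abA (n + 9) from rfl]
    exact ⟨by rw [show n + 12 = n + 9 + 3 from rfl, pow_add]; nlinarith, mul_comm _ _⟩

theorem abA_two {n : ℕ} (h : 3 ≤ n) : 2 ^ ((n - 1) / 2) < abA n := by
  by_cases h' : n = 4 ∨ n = 5 ∨ n = 8
  · rcases h' with rfl | rfl | rfl <;> decide
  refine lt_of_pow_lt_pow_left₀ 2 (by omega) (.trans_le' (abA_sq n h (by omega) (by omega) (by omega)).1 ?_)
  rw [← pow_mul]; exact Nat.pow_le_pow_right two_pos (by omega)

theorem abS_lt : ∀ n, n ≠ 2 → abS n < 2 * abA n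
  | 0 | 1 | 2 | 3 | 4 | 5 | 6 | 7 | 8 => by decide
  | n + 9 => fun _ => by have := abS_lt (n + 6) (by omega); rw [abA, show abS (n + 9) = 3 * abS (n + 6) from rfl]; omega

theorem card_le_abS (h : IsMulCommutative N) (hs : N ≤ psupp s) : Nat.card N ≤ abS #s := by
  refine card_le_prod_of_porb id abS (IsMulCommutative ·) (fun _ _ => comm_of_le) (fun _ d => 2 ≤ d) (fun s N _ h1 h2 => ?_)
    (fun N x h => (card_res_comm h x).le) (fun d j h => abS_mul_le j d (by omega)) s N h hs
  rw [eq_bot_of_porb h1 fun x hx => by have := h2 x hx; omega, card_bot]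
  exact (abS_mul_le 0 1 le_rfl).trans (by induction #s with | zero => decide | succ n ih => nlinarith [abS_mul_le n 1 le_rfl])

theorem card_le_two_pow (h : IsMulCommutative N) (ha : N ≤ alternatingGroup α) (hs : N ≤ psupp s) (h2 : ∀ x, #(porb N x) ≤ 2) :
    Nat.card N ≤ 2 ^ ((#s - 1) / 2) := by
  refine card_le_prod_of_porb id (fun n => 2 ^ ((n - 1) / 2)) (fun N => IsMulCommutative N ∧ N ≤ alternatingGroup α ∧ ∀ x, #(porb N x) ≤ 2)
    (fun _ _ h h' => ⟨comm_of_le h h'.1, h.trans h'.2.1, fun x => (card_le_card (porb_mono h x)).trans (h'.2.2 x)⟩)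
    (fun n d => d = 2 ∧ n ≠ 2) (fun s N h h1 h2 => ?_) (fun N x h => (card_res_comm h.1 x).le) ?_ s N ⟨h, ha, h2⟩ hs
  · rw [show N = ⊥ from (em (#s = 2)).elim (fun e => eq_bot_iff.2 ((le_inf h1 h.2.1).trans (psupp_alt_eq_bot e.le).le)) fun e =>
      eq_bot_of_porb h1 fun x hx => by have := h2 x hx; have := h.2.2 x; omega, card_bot]
    exact Nat.one_le_two_pow
  · rintro _ j ⟨rfl, h⟩
    exact (pow_succ _ _).ge.trans (Nat.pow_le_pow_right two_pos (by omega))

theorem porb_eq_of_notMem (hs : N ≤ psupp s) {x : α} (hx : x ∉ s) : porb N x = {x} := by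
  ext y; simp only [mem_porb, mem_singleton]
  exact ⟨fun ⟨g, hg, e⟩ => e ▸ mem_psupp.1 (hs hg) x hx, fun e => ⟨1, one_mem _, e.symm⟩⟩

theorem card_le_two_pow' (h : IsMulCommutative N) (ha : N ≤ alternatingGroup α) (hs : N ≤ psupp s) (h2 : ∀ x ∈ s, ¬ 3 ≤ #(porb N x)) :
    Nat.card N ≤ 2 ^ ((#s - 1) / 2) := card_le_two_pow h ha hs fun x =>
  (em (x ∈ s)).elim (fun hx => by have := h2 x hx; omega) fun hx => by simp [porb_eq_of_notMem hs hx]

theorem card_le_abA (h : IsMulCommutative N) (ha : N ≤ alternatingGroup α) (hs : N ≤ psupp s) : Nat.card N ≤ abA #s := by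
  refine card_le_prod_of_porb id abA (fun N => IsMulCommutative N ∧ N ≤ alternatingGroup α) (fun _ _ h h' => ⟨comm_of_le h h'.1, h.trans h'.2⟩)
    (fun _ d => 3 ≤ d) (fun s N h h1 h2 => (card_le_two_pow' h.1 h.2 h1 h2).trans ?_)
    (fun N x h => (card_res_comm h.1 x).le) (fun d j => abA_mul_le j d) s N ⟨h, ha⟩ hs
  rcases le_or_gt 3 #s with h | h
  · exact (abA_two h).le
  · generalize #s = n at h; interval_cases n <;> decide

theorem card_sq_le (s : Finset α) : ∀ N : Subgroup (Perm α), IsMulCommutative N → N ≤ psupp s → (∀ x ∈ s, #(porb N x) ≠ 3) →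
    Nat.card N ^ 2 ≤ 2 ^ #s := by
  induction s using Finset.strongInduction with
  | H s ih =>
  intro N h hs h3
  rcases s.eq_empty_or_nonempty with rfl | ⟨x, hx⟩
  · simp [eq_bot_iff.2 (hs.trans psupp_empty.le)]
  have h1 := ih _ (sdiff_ssubset (porb_subset hs hx) ⟨x, mem_porb_self x⟩) _ (comm_range h (pinv_porb x).compl.res)
    ((le_inf ((pinv_porb x).compl.range_res_le_of_le hs) (pinv_porb x).compl.range_res_le).trans (inf_psupp_le le_rfl _))
    fun y hy => by rw [PInv.porb_res _ (mem_compl.2 (mem_sdiff.1 hy).2)]; exact h3 y (mem_sdiff.1 hy).1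
  have h2 : ∀ d, d ≠ 3 → d ^ 2 ≤ 2 ^ d := fun d h => by
    rcases le_or_gt 4 d with h' | h'
    · clear h; induction h' with | refl => decide | step h ih => simp at h; rw [pow_succ 2]; nlinarith
    · interval_cases d <;> simp_all
  rw [(pinv_porb x).card_eq, card_res_comm h, ← card_sdiff_add_card_eq_card (porb_subset hs hx), mul_pow, pow_add]
  exact Nat.mul_le_mul ((Nat.pow_le_pow_left (card_le_of_le (pinv_porb x).inf_le_range) 2).trans h1) (h2 _ (h3 x hx))

/-- The size of an orbit that a largest abelian subgroup of `A_n` must have. -/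
def abM (n : ℕ) : ℕ := if n = 4 ∨ n = 8 then 4 else if n = 5 then 5 else 3

theorem abM_facts {n : ℕ} (h : 3 ≤ n) : abA n = abA (n - abM n) * abM n ∧ abM n ≤ n ∧ n - abM n ≠ 2 ∧ 2 ≤ abM n ∧
    ∃ p, p.Prime ∧ (abM n = p ∨ abM n = p ^ 2) ∧ abM n = p ^ ((abM n).factorial / 2).factorization p := by
  unfold abM
  split_ifs with h1 h2
  · exact ⟨by rcases h1 with rfl | rfl <;> rfl, by omega, by omega, by omega, 2, Nat.prime_two, .inr rfl, by decide +kernel⟩
  · exact ⟨by subst h2; rfl, by omega, by omega, by omega, 5, Nat.prime_five, .inl rfl, by decide +kernel⟩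
  · exact ⟨(abA_sq n h (by omega) h2 (by omega)).2, h, by omega, by omega, 3, Nat.prime_three, .inl rfl, by decide +kernel⟩

theorem exists_comm_alt (s : Finset α) : ∃ N ≤ psupp s ⊓ alternatingGroup α, IsMulCommutative N ∧ Nat.card N = abA #s := by
  induction s using Finset.strongInduction with
  | H s ih =>
  rcases le_or_gt 3 #s with h | h
  swap; · exact ⟨⊥, bot_le, inferInstance, by rw [card_bot]; generalize #s = n at h; interval_cases n <;> rfl⟩
  obtain ⟨h1, h2, -, h3, p, hp, h4, h5⟩ := abM_facts h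
  obtain ⟨t, ht, e⟩ := exists_subset_card_eq h2
  obtain ⟨K, hK, h6, h7⟩ := ih _ (sdiff_ssubset ht (card_pos.1 (by omega)))
  have := Fact.mk hp
  obtain ⟨R, hR⟩ := exists_syl p (psupp t ⊓ alternatingGroup α)
  have h8 : Nat.card R = abM #s := by
    rw [hR.card_eq_pow, h5, ← e, ← card_psupp_alt (e ▸ h3), Nat.mul_div_cancel_left _ two_pos]
  have : IsMulCommutative R := h4.elim (fun h => (isCyclic_of_prime_card (h8.trans h)).isMulCommutative) fun h =>
    IsPGroup.isMulCommutative_of_card_eq_prime_sq (h8.trans h)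
  have h9 := hR.le.trans inf_le_left
  refine ⟨K ⊔ R, sup_le (hK.trans (inf_le_inf_right _ (psupp_mono sdiff_subset))) (hR.le.trans (inf_le_inf_right _ (psupp_mono ht))),
    isMulCommutative_sup_of_le_centralizer (le_cent_of_psupp sdiff_disjoint (hK.trans inf_le_left) h9), ?_⟩
  rw [card_sup_of_psupp sdiff_disjoint (hK.trans inf_le_left) h9, h7, h8, h1, card_sdiff_of_subset ht, e]

theorem exists_comm_perm (s : Finset α) : ∃ N ≤ psupp s, IsMulCommutative N ∧ Nat.card N = abS #s := by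
  induction s using Finset.strongInduction with
  | H s ih =>
  by_cases h : #s = 2
  · have := (card_psupp s).trans (congrArg _ h)
    exact ⟨_, le_rfl, (isCyclic_of_prime_card (p := 2) this).isMulCommutative, h ▸ this⟩
  rcases le_or_gt 5 #s with h' | h'
  swap
  · obtain ⟨N, h1, h2, h3⟩ := exists_comm_alt s
    exact ⟨N, h1.trans inf_le_left, h2, by rw [h3]; generalize #s = n at h h'; interval_cases n <;> simp_all [abA, abS]⟩
  obtain ⟨t, ht, e⟩ := exists_subset_card_eq (show 3 ≤ #s by omega)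
  obtain ⟨K, hK, h6, h7⟩ := ih _ (sdiff_ssubset ht (card_pos.1 (by omega)))
  obtain ⟨R, h1, h2, h3⟩ := exists_comm_alt t
  have h9 := h1.trans inf_le_left
  refine ⟨K ⊔ R, sup_le (hK.trans (psupp_mono sdiff_subset)) (h9.trans (psupp_mono ht)),
    isMulCommutative_sup_of_le_centralizer (le_cent_of_psupp sdiff_disjoint hK h9), ?_⟩
  rw [card_sup_of_psupp sdiff_disjoint hK h9, h7, h3, card_sdiff_of_subset ht, e]
  obtain ⟨n, hn⟩ := Nat.exists_eq_add_of_le' h'
  rw [hn, mul_comm]; rfl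

theorem exists_split_comm (h : IsMulCommutative N) (hs : N ≤ psupp s ⊓ alternatingGroup α) (h1 : Nat.card N = abA #s) (h3 : 3 ≤ #s) :
    ∃ t ⊆ s, #t = abM #s ∧ ∃ R ≤ psupp t ⊓ alternatingGroup α, ∃ K ≤ psupp (s \ t) ⊓ alternatingGroup α,
      Nat.card R = #t ∧ IsMulCommutative K ∧ Nat.card K = abA #(s \ t) ∧ N = R ⊔ K := by
  obtain ⟨hs, ha⟩ := le_inf_iff.1 hs
  have h2 : ∀ x ∈ s, Nat.card (N ⊓ psupp (porb N x)ᶜ :) ≤ abA (#s - #(porb N x)) := fun x hx =>
    card_sdiff_of_subset (porb_subset hs hx) ▸ card_le_abA (comm_of_le inf_le_left h) (inf_le_left.trans ha) (inf_psupp_le hs _)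
  obtain ⟨x, hx, e⟩ : ∃ x ∈ s, #(porb N x) = abM #s := by
    by_cases h' : #s = 4 ∨ #s = 5 ∨ #s = 8
    · obtain ⟨x, hx, e⟩ : ∃ x ∈ s, 3 ≤ #(porb N x) := by
        by_contra! H
        exact (abA_two h3).not_ge (h1 ▸ card_le_two_pow' h ha hs fun x hx => (H x hx).not_ge)
      have h4 := (pinv_porb (N := N) x).card_eq.trans_le (Nat.mul_le_mul (h2 x hx) (card_res_comm h x).le)
      have := card_le_card (porb_subset hs hx)
      refine ⟨x, hx, ?_⟩
      rw [h1] at h4
      generalize #(porb N x) = d at *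
      rcases h' with h' | h' | h' <;> rw [h'] at h4 this ⊢ <;> interval_cases d <;> simp_all [abA, abM]
    · by_contra! H
      rw [abM, if_neg (by omega), if_neg (by omega)] at H
      exact (abA_sq _ h3 (by omega) (by omega) (by omega)).1.not_ge (h1 ▸ card_sq_le s N h hs H)
  obtain ⟨h4, -, h5, h6, -⟩ := abM_facts h3
  have h7 : Nat.card (N ⊓ psupp (porb N x)ᶜ :) = abA (#s - #(porb N x)) := by
    rw [← h1, (pinv_porb x).card_eq, card_res_comm h, ← e] at h4
    exact Nat.eq_of_mul_eq_mul_right (by omega) h4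
  have h8 := (pinv_porb (N := N) x).eq_sup (by
    obtain ⟨k, hk⟩ := card_dvd_of_le (pinv_porb (N := N) x).inf_le_range
    have := (card_le_abS (comm_range h (pinv_porb x).compl.res) ((le_inf ((pinv_porb x).compl.range_res_le_of_le hs)
      (pinv_porb x).compl.range_res_le).trans (inf_psupp_le le_rfl _))).trans_lt (abS_lt _ (by rwa [card_sdiff_of_subset (porb_subset hs hx), e]))
    rw [card_sdiff_of_subset (porb_subset hs hx), ← h7, hk] at this
    have : k ≤ 1 := by by_contra; nlinarith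
    rw [hk]; nlinarith)
  exact ⟨_, porb_subset hs hx, e, _, le_inf (pinv_porb x).range_res_le ((le_sup_left.trans h8.ge).trans ha), _,
    le_inf (inf_psupp_le hs _) (inf_le_left.trans ha), card_res_comm h x, comm_of_le inf_le_left h,
    by rw [h7, card_sdiff_of_subset (porb_subset hs hx)], h8⟩

theorem exists_cj_comm (s : Finset α) : ∀ A B : Subgroup (Perm α), IsMulCommutative A → IsMulCommutative B →
    A ≤ psupp s ⊓ alternatingGroup α → B ≤ psupp s ⊓ alternatingGroup α → Nat.card A = abA #s → Nat.card B = abA #s →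
    ∃ g ∈ psupp s ⊓ alternatingGroup α, cj g A = B := by
  induction s using Finset.strongInduction with
  | H s ih =>
  intro A B hA hB h1 h2 h3 h4
  rcases le_or_gt 3 #s with h | h
  swap
  · rw [psupp_alt_eq_bot (by omega), le_bot_iff] at h1 h2
    exact ⟨1, one_mem _, by rw [h1, h2, cj_bot]⟩
  obtain ⟨t, ht, e, R, hR, K, hK, a1, a2, a3, rfl⟩ := exists_split_comm hA h1 h3 h
  obtain ⟨t', ht', e', R', hR', K', hK', b1, b2, b3, rfl⟩ := exists_split_comm hB h2 h4 h
  obtain ⟨-, -, -, h6, p, hp, -, h5⟩ := abM_facts h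
  have := Fact.mk hp
  rw [← e', ← card_psupp_alt (e' ▸ h6), Nat.mul_div_cancel_left _ two_pos] at h5
  refine exists_cj_sup le_rfl ht ht' (e.trans e'.symm) (e ▸ h6) (hR.trans inf_le_left) (hK.trans inf_le_left) (hK'.trans inf_le_left)
    (fun g _ h => (syl_of_card (le_inf h (cj_le_alt (hR.trans inf_le_right))) (by rw [card_cj, a1, e, ← e', ← h5])).exists_conj
      (syl_of_card hR' (b1.trans h5))) fun g _ h => ih _ (sdiff_ssubset ht' (card_pos.1 (by omega))) _ _ inferInstance b2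
      (le_inf h (cj_le_alt (hK.trans inf_le_right))) hK' ?_ b3
  rw [card_cj, a3, card_sdiff_of_subset ht, card_sdiff_of_subset ht', e, e']

theorem isGreatest_abS (α : Type*) [Fintype α] [DecidableEq α] :
    IsGreatest {c | ∃ A : Subgroup (Perm α), IsMulCommutative A ∧ Nat.card A = c} (abS (Fintype.card α)) :=
  ⟨let ⟨N, _, h⟩ := exists_comm_perm (univ : Finset α); ⟨N, h⟩, by rintro _ ⟨A, h, rfl⟩; exact card_le_abS h (le_top.trans psupp_univ.ge)⟩

theorem isGreatest_abA (α : Type*) [Fintype α] [DecidableEq α] :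
    IsGreatest {c | ∃ A : Subgroup (alternatingGroup α), IsMulCommutative A ∧ Nat.card A = c} (abA (Fintype.card α)) := by
  constructor
  · obtain ⟨N, h1, h2, h3⟩ := exists_comm_alt (univ : Finset α)
    exact ⟨N.subgroupOf _, inferInstance, (Nat.card_congr (subgroupOfEquivOfLe (h1.trans inf_le_right)).toEquiv).trans h3⟩
  rintro _ ⟨A, h, rfl⟩
  exact (card_subtype _ A).ge.trans (card_le_abA inferInstance (map_subtype_le A) (le_top.trans psupp_univ.ge))

end Cfsg.Lib.Linear
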