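import Cfsg.Agent.Lib.Linear.AltCover
import Cfsg.Agent.Lib.Linear.PSL2Small
import Cfsg.Agent.Lib.Linear.MultA
import Cfsg.Agent.Lib.Mult.Prod
import Cfsg.Prelude.Def_SporadicB

/-! The triple covers of `A₆` and `A₇`. -/

set_option autoImplicit false

namespace Cfsg.Lib.Linear

open Subgroup Equiv alternatingGroup Cfsg.Lib.Mult
open scoped commutatorElement

universe u

/-- Codes of permutations of 126 points generating `3.A₇`. -/
def a7codes : List ℕ := [31718879818330372209175767799093378911494423444514241795744712007781535792162409405088993454487554829069867694287504738470748703525097786954075462900152978555164253869440530057749790788654371991907537823077103443287059115509600906232714161036324254555768747984963328, 29466911153972007299323533434867960202126215607669316481462241593618800940778395726625967399933988360359564262060582518925102709613743009542906925259122856695954065685102204370524976746770422569802616839068962153768824032075349805665245459597541885162510686598842240,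 20817975922486248066271749780002831598530600627181267894062173890330254645525071933568528915146480721293388433453892356237585303066311046888081520843321957722920502414805992993764975518126426415725840539982282178601023770343098500328161074847661422120289757936519168, 31676938868173049923521004917636717183547515614452119692755409093011528981940206319668355797490149241064549260627585720575857235897026527941192625998786238205056477707870846750840359673613842031093295764438087971225932438343081336761532008457052232805023025800953858, 31639838536823711477890460604542073319284695309737327684357671057316774584820715409867245846794979435724171136705897179896108758480464370573238612340366843393350816729196724356533268977973116143295824558068822880659105679754603987926428712393875269991077863892650116, 24371828071440830676269286330795243775111830334995836450206178209037283812087460067773401191035931277910513297007115329191741916179322211685167729252531482494395039288412168636505390352346054417425567174566822250239119907601421048494507965791757729126743737769281798]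

/-- The permutations as functions on numbers. -/
def a7fn (k i : ℕ) : ℕ := Nat.mod (Nat.mod (Nat.shiftRight (a7codes.getD k 0) (Nat.mul 7 i)) 128) 126

/-- The permutations as functions on `Fin 126`. -/
def a7f (k : ℕ) (i : Fin 126) : Fin 126 := ⟨a7fn k i, Nat.mod_lt _ (by decide)⟩

theorem a7f_cube : ∀ k : Fin 6, ∀ i, a7f k (a7f k (a7f k i)) = i := by decide +kernel

/-- The generators of `3.A₇`. -/
def a7p (k : Fin 6) : Perm (Fin 126) := ⟨a7f k, fun i => a7f k (a7f k i), a7f_cube k, a7f_cube k⟩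

theorem a7p_cube (k : Fin 6) : a7p k ^ 3 = 1 := by
  ext1 i; exact a7f_cube k i

theorem a7p_comm (k : Fin 6) : a7p k * a7p 5 = a7p 5 * a7p k := by
  ext1 i
  have : ∀ k : Fin 6, ∀ i, a7f k (a7f 5 i) = a7f 5 (a7f k i) := by decide +kernel
  exact this k i

/-- The tails of the relations. -/
def a7c (k l : Fin 6) : ℕ := ([[0, 0, 0, 0, 0], [0, 0, 0, 2, 1], [0, 0, 0, 1, 2], [0, 2, 1, 0, 0], [0, 1, 2, 0, 0]].getD k []).getD l 0

theorem a7p_sq (k l : Fin 6) (h : k ≠ l) (hk : k ≠ 5) (hl : l ≠ 5) : (a7p k * a7p l) ^ 2 = a7p 5 ^ a7c k l := by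
  ext1 i
  have : ∀ k l : Fin 6, k ≠ l → k ≠ 5 → l ≠ 5 → ∀ i, a7f k (a7f l (a7f k (a7f l i))) = (a7f 5)^[a7c k l] i := by
    decide +kernel
  rw [Perm.coe_pow]
  exact this k l h hk hl i

theorem a7p_ne : a7p 5 ≠ 1 := fun h => by
  have : a7f 5 0 = 0 := congrArg (fun f : Perm (Fin 126) => f 0) h
  revert this; decide +kernel

theorem three_dvd_mult_alt {n : ℕ} (hn : n = 6 ∨ n = 7) {A : Type*} [CommGroup A]
    (hA : HasSchurMultiplier (alternatingGroup (Fin n)) A) : 3 ∣ Nat.card A := by
  have := finite_mult hA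
  obtain ⟨m, rfl⟩ : ∃ m, n = m + 6 := ⟨n - 6, by omega⟩
  have hab : (0 : Fin (m + 6)) ≠ 1 := by simp
  let ix : {i : Fin (m + 6) // i ≠ 0 ∧ i ≠ 1} → Fin 6 := fun i => ⟨i.1.1 - 2, by have := i.1.2; omega⟩
  have hv : ∀ i : {i : Fin (m + 6) // i ≠ 0 ∧ i ≠ 1}, 2 ≤ i.1.1 := fun i => by
    have h1 : i.1.1 ≠ 0 := Fin.val_ne_of_ne i.2.1
    have h2 : i.1.1 ≠ 1 := Fin.val_ne_of_ne i.2.2
    omega
  have ix5 : ∀ i, ix i ≠ 5 := fun i h => by
    have := congrArg Fin.val h; have := i.1.2; simp [ix] at *; omega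
  have ixi : ∀ i j, i ≠ j → ix i ≠ ix j := fun i j h e => h (by
    have := congrArg Fin.val e; have := hv i; have := hv j
    ext; simp [ix] at *; omega)
  let W : _ → Perm (Fin 126) × alternatingGroup (Fin (m + 6)) := fun i => (a7p (ix i), altCyc hab i)
  let Γ := closure (Set.range W)
  let X : _ → Γ := fun i => ⟨W i, subset_closure ⟨i, rfl⟩⟩
  have hX : closure (Set.range X) = ⊤ := closure_range_eq_top_of_le X le_rfl
  let π : Γ →* alternatingGroup (Fin (m + 6)) := (MonoidHom.snd _ _).comp Γ.subtype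
  have hπ : ∀ i, π (X i) = altCyc hab i := fun i => rfl
  have hs : Function.Surjective π := by
    rw [← MonoidHom.range_eq_top, MonoidHom.range_eq_map, ← hX, MonoidHom.map_closure, ← Set.range_comp,
      show π ∘ X = altCyc hab from funext hπ, closure_altCyc]
  have hsq : ∀ i j, i ≠ j → (((X i * X j) ^ 2 : Γ) : Perm (Fin 126) × alternatingGroup (Fin (m + 6))) =
      (a7p 5, 1) ^ a7c (ix i) (ix j) := fun i j h =>
    Prod.ext (a7p_sq _ _ (ixi i j h) (ix5 i) (ix5 j)) (by
      simpa using (carm_altCyc hab).sq i trivial j trivial h)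
  let e : Fin 4 → {i : Fin (m + 6) // i ≠ 0 ∧ i ≠ 1} := fun k => ⟨⟨k + 2, by omega⟩,
    Fin.ne_of_val_ne (show k.1 + 2 ≠ 0 by omega), Fin.ne_of_val_ne (show k.1 + 2 ≠ 1 by omega)⟩
  have he : ∀ k l, k ≠ l → e k ≠ e l := fun k l h q => h (by simpa [e, Fin.ext_iff] using q)
  let t : Γ := (X (e 2) * X (e 3)) ^ 2
  have ht : (t : Perm (Fin 126) × alternatingGroup (Fin (m + 6))) = (a7p 5, 1) := by
    rw [hsq _ _ (he 2 3 (by decide))]; exact pow_one _
  have hq : ∀ i j, i ≠ j → (X i * X j) ^ 2 = t ^ a7c (ix i) (ix j) := fun i j h =>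
    Subtype.ext (by rw [hsq i j h, SubgroupClass.coe_pow, ht])
  have htc : t ∈ center Γ := by
    rw [mem_center_iff]; intro g
    have : g ∈ centralizer {t} := by
      refine (closure_le _).2 ?_ (hX ▸ mem_top g : g ∈ closure (Set.range X))
      rintro _ ⟨i, rfl⟩
      simp only [SetLike.mem_coe, mem_centralizer_singleton_iff]
      refine Subtype.ext ?_
      rw [coe_mul, coe_mul, ht]
      exact Prod.ext (a7p_comm _) (by simp)
    exact mem_centralizer_singleton_iff.1 this
  have : (zpowers t).Normal := normal_of_le_center (zpowers_le_of_mem htc)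
  have hk : π.ker ≤ zpowers t := fun g hg => mem_of_carm hab π hπ _ (fun i => by
      have : X i ^ 3 = 1 := Subtype.ext (Prod.ext (a7p_cube _) ((carm_altCyc hab).cube i trivial))
      exact this ▸ one_mem _) (fun i j h => hq i j h ▸ pow_mem (mem_zpowers t) _) (hX ▸ mem_top g) hg
  obtain ⟨f, hf⟩ := mult_surj_central hA hs (hk.trans (zpowers_le_of_mem htc))
  have h1 : t ∈ π.ker := show Prod.snd (t : Perm (Fin 126) × alternatingGroup (Fin (m + 6))) = 1 by rw [ht]
  have h2 : t ∈ commutator Γ := by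
    rw [← Abelianization.ker_of, MonoidHom.mem_ker]
    have a1 := congrArg Abelianization.of (hq _ _ (he 0 1 (by decide)))
    have a2 := congrArg Abelianization.of (hq _ _ (he 2 3 (by decide)))
    have a3 := congrArg Abelianization.of (hq _ _ (he 0 2 (by decide)))
    have a4 := congrArg Abelianization.of (hq _ _ (he 1 3 (by decide)))
    rw [show a7c (ix (e 0)) (ix (e 1)) = 0 from rfl] at a1
    rw [show a7c (ix (e 2)) (ix (e 3)) = 1 from rfl] at a2
    rw [show a7c (ix (e 0)) (ix (e 2)) = 0 from rfl] at a3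
    rw [show a7c (ix (e 1)) (ix (e 3)) = 2 from rfl] at a4
    simp only [map_pow, map_mul, pow_zero, pow_one, map_one] at a1 a2 a3 a4
    have : Abelianization.of t * Abelianization.of t = Abelianization.of t := by
      rw [← sq, ← a4, ← one_mul (_ ^ 2), ← a3, ← mul_pow, mul_mul_mul_comm, mul_pow, a1, one_mul, a2]
    exact mul_eq_left.1 this
  have h3 : orderOf (⟨t, h1, h2⟩ : ↥(π.ker ⊓ commutator Γ)) = 3 := by
    refine orderOf_eq_prime (p := 3) (Subtype.ext (Subtype.ext ?_)) fun h => a7p_ne ?_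
    · rw [SubgroupClass.coe_pow, SubgroupClass.coe_pow, ht]; exact Prod.ext (a7p_cube 5) (by simp)
    · have : t = 1 := congrArg Subtype.val h
      exact congrArg Prod.fst (ht.symm.trans (congrArg Subtype.val this))
  exact (h3 ▸ _root_.orderOf_dvd_natCard (⟨t, h1, h2⟩ : ↥(π.ker ⊓ commutator Γ))).trans (card_dvd_of_surjective f hf)

theorem two_dvd_mult_alt {n : ℕ} (hn : 4 ≤ n) {A : Type*} [CommGroup A]
    (hA : HasSchurMultiplier (alternatingGroup (Fin n)) A) : 2 ∣ Nat.card A := by
  have := finite_mult hA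
  obtain ⟨Γ, _, _, π, z, hs, hk, hz, ho, hc⟩ := exists_alt_cover (Fin n) (by simpa using hn)
  obtain ⟨f, hf⟩ := surj_of_stem hA (σ := π) ⟨hs, hk ▸ zpowers_le_of_mem hz, hk ▸ zpowers_le_of_mem hc⟩
  have := card_dvd_of_surjective f hf
  rwa [hk, Nat.card_zpowers, ho] at this

/-- The commutator subgroup of a central extension of a group of order `p²`. -/
theorem exists_comm_le_of_card_sq {Γ Q : Type*} [Group Γ] [Group Q] [Finite Q] {σ : Γ →* Q} (hs : Function.Surjective σ)
    (hc : σ.ker ≤ center Γ) {p : ℕ} [hp : Fact p.Prime] {P : Subgroup Q} (hP : Nat.card P = p ^ 2) :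
    ∃ c ∈ σ.ker, c ^ p = 1 ∧ ⁅P.comap σ, P.comap σ⁆ ≤ zpowers c := by
  obtain ⟨a, ha⟩ := exists_prime_orderOf_dvd_card' (G := P) p (by rw [hP]; exact dvd_pow_self _ two_ne_zero)
  have h1 : zpowers a ≠ ⊤ := fun h => by
    have := Nat.card_zpowers a
    rw [h, card_top, hP, ha] at this
    nlinarith [hp.out.two_le]
  obtain ⟨b, hb⟩ : ∃ b, b ∉ zpowers a := by
    by_contra! h; exact h1 (eq_top_iff.2 fun x _ => h x)
  have h2 : closure {a, b} = ⊤ := by
    have hd := card_subgroup_dvd_card (closure {a, b})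
    have hle : zpowers a ≤ closure {a, b} := zpowers_le_of_mem (subset_closure (by simp))
    have hlt : Nat.card (zpowers a) < Nat.card (closure {a, b}) :=
      lt_of_not_ge fun h => hb (eq_of_le_of_card_ge hle h ▸ subset_closure (by simp))
    rw [Nat.card_zpowers, ha] at hlt
    rw [hP, Nat.dvd_prime_pow hp.out] at hd
    obtain ⟨k, hk, e⟩ := hd
    refine eq_top_of_card_eq _ ?_
    rw [e, hP]; rw [e] at hlt
    interval_cases k
    · have := hp.out.two_le; rw [pow_zero] at hlt; omega
    · simp at hlt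
    · rfl
  have hab : a * b = b * a := (IsPGroup.isMulCommutative_of_card_eq_prime_sq hP).1.1 a b
  obtain ⟨x, hx⟩ := hs a
  obtain ⟨y, hy⟩ := hs b
  have hk : ⁅x, y⁆ ∈ σ.ker := by
    rw [MonoidHom.mem_ker, map_commutatorElement, hx, hy, commutatorElement_eq_one_iff_mul_comm]
    exact congrArg Subtype.val hab
  have hxp : x ^ p ∈ center Γ := hc (by
    rw [MonoidHom.mem_ker, map_pow, hx, ← SubgroupClass.coe_pow, ← ha, pow_orderOf_eq_one, coe_one])
  refine ⟨⁅x, y⁆, hk, ?_, ?_⟩
  · have : ∀ k : ℕ, x ^ k * y = ⁅x, y⁆ ^ k * (y * x ^ k) := fun k => by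
      induction k with
      | zero => simp
      | succ k ih =>
        have e := mem_center_iff.1 (pow_mem (hc hk) k) x
        rw [pow_succ' x, mul_assoc, ih, ← mul_assoc, e, pow_succ, commutatorElement_def]; group
    have e := this p
    rw [← mem_center_iff.1 hxp y] at e
    exact (mul_eq_right.1 e.symm)
  · have : (zpowers ⁅x, y⁆).Normal := normal_of_le_center (zpowers_le_of_mem (hc hk))
    have hle : P.comap σ ≤ closure ({x, y} ∪ center Γ) := fun g hg => by
      have : σ g ∈ (closure {x, y}).map σ := by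
        rw [MonoidHom.map_closure, Set.image_pair, hx, hy]
        have := mem_map_of_mem P.subtype (h2 ▸ mem_top (⟨σ g, hg⟩ : P) : _ ∈ closure {a, b})
        rwa [MonoidHom.map_closure, Set.image_pair] at this
      obtain ⟨k, hk, e⟩ := this
      have : g = k * (k⁻¹ * g) := by simp
      rw [this]
      exact mul_mem (closure_mono Set.subset_union_left hk) (subset_closure (.inr (hc (by simp [e]))))
    refine (commutator_mono hle hle).trans (commutator_le.2 fun g hg h hh => ?_)
    rw [← QuotientGroup.eq_one_iff]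
    change QuotientGroup.mk' _ _ = 1
    rw [map_commutatorElement, commutatorElement_eq_one_iff_mul_comm]
    have hxy : QuotientGroup.mk' (zpowers ⁅x, y⁆) x * QuotientGroup.mk' _ y = QuotientGroup.mk' _ y * QuotientGroup.mk' _ x := by
      rw [← commutatorElement_eq_one_iff_mul_comm, ← map_commutatorElement]
      exact (QuotientGroup.eq_one_iff _).2 (mem_zpowers _)
    have hcm := Subgroup.isMulCommutative_closure (k := QuotientGroup.mk' (zpowers ⁅x, y⁆) '' ({x, y} ∪ center Γ)) (by
      rintro _ ⟨u, hu, rfl⟩ _ ⟨v, hv, rfl⟩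
      rcases hu with (rfl | rfl) | hu
      · rcases hv with (rfl | rfl) | hv
        exacts [rfl, hxy, by rw [← map_mul, ← map_mul, mem_center_iff.1 hv]]
      · rcases hv with (rfl | rfl) | hv
        exacts [hxy.symm, rfl, by rw [← map_mul, ← map_mul, mem_center_iff.1 hv]]
      · rw [← map_mul, ← map_mul, mem_center_iff.1 hu])
    rw [← MonoidHom.map_closure] at hcm
    exact congrArg Subtype.val (hcm.1.1 ⟨_, mem_map_of_mem _ hg⟩ ⟨_, mem_map_of_mem _ hh⟩)

theorem card_ker_dvd_six {n : ℕ} (hn : n = 6 ∨ n = 7) {Γ : Type*} [Group Γ] [Finite Γ] {σ : Γ →* alternatingGroup (Fin n)}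
    (h : IsStemExtension σ) : Nat.card σ.ker ∣ 6 := by
  have : Fact (Nat.Prime 3) := ⟨by norm_num⟩
  obtain ⟨P⟩ : Nonempty (Sylow 3 (alternatingGroup (Fin n))) := inferInstance
  have : Nontrivial (Fin n) := Fin.nontrivial_iff_two_le.2 (by omega)
  have hP : Nat.card P = 3 ^ 2 := by
    rw [P.card_eq_multiplicity, nat_card_alternatingGroup, Nat.card_eq_fintype_card, Fintype.card_fin]
    rcases hn with rfl | rfl <;> decide +kernel
  obtain ⟨c, hc, c3, hle⟩ := exists_comm_le_of_card_sq h.1 h.2.1 hP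
  have hi : ((P : Subgroup _).comap σ).index.Coprime 9 := by
    rw [index_comap_of_surjective _ h.1]
    exact (Nat.Coprime.pow_right 2 ((Nat.Prime.coprime_iff_not_dvd Nat.prime_three).2 P.not_dvd_index).symm)
  have hT : ∀ k ∈ σ.ker, k ^ 9 = 1 → k ∈ zpowers c := fun k hk e => by
    have h1 := hle (pow_index_mem_commutator (h.2.1 hk) (h.2.2 hk))
    obtain ⟨m, hm⟩ := exists_pow_eq_self_of_coprime (x := k) (hi.of_dvd_right (orderOf_dvd_of_pow_eq_one e))
    exact hm ▸ pow_mem h1 m
  have hcc := h.2.1 hc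
  have : (zpowers c).Normal := normal_of_le_center (zpowers_le_of_mem hcc)
  let τ := QuotientGroup.lift (zpowers c) σ fun x hx => zpowers_le_of_mem hc hx
  have hτ : ∀ x : Γ, τ x = σ x := fun x => rfl
  have hts : Function.Surjective τ := fun q => by obtain ⟨x, rfl⟩ := h.1 q; exact ⟨x, rfl⟩
  have htc : τ.ker ≤ center _ := fun x hx => by
    obtain ⟨x, rfl⟩ := QuotientGroup.mk_surjective x
    refine mem_center_iff.2 fun y => ?_
    obtain ⟨y, rfl⟩ := QuotientGroup.mk_surjective y
    rw [← QuotientGroup.mk_mul, mem_center_iff.1 (h.2.1 hx) y, QuotientGroup.mk_mul]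
  have htd : τ.ker ≤ commutator _ := fun x hx => by
    obtain ⟨x, rfl⟩ := QuotientGroup.mk_surjective x
    have := mem_map_of_mem (QuotientGroup.mk' (zpowers c)) (h.2.2 hx)
    rw [_root_.commutator_def, map_commutator] at this
    exact commutator_mono le_top le_top this
  have h3 : ∀ k ∈ τ.ker, k ^ 3 = 1 → k = 1 := fun k hk e => by
    obtain ⟨k, rfl⟩ := QuotientGroup.mk_surjective k
    obtain ⟨j, hj⟩ := (QuotientGroup.eq_one_iff (k ^ 3)).1 e
    refine (QuotientGroup.eq_one_iff _).2 (hT k hk ?_)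
    rw [show 9 = 3 * 3 from rfl, pow_mul, ← hj]
    change (c ^ j) ^ 3 = 1
    rw [← zpow_natCast, ← zpow_mul, mul_comm, zpow_mul, zpow_natCast, c3, one_zpow]
  have hm : ∀ x, ∀ k ∈ τ.ker, (x * k) ^ 3 = x ^ 3 * k ^ 3 := fun x k hk =>
    Commute.mul_pow (mem_center_iff.1 (htc hk) x) 3
  obtain ⟨a, b, hab⟩ := exists_pair_ne (Fin n)
  have h2 := card_ker_le_two_of_good hab τ (by simp; omega) hts htc htd (fun x => x ^ 3 = 1)
    (fun x g e => by rw [conj_pow, e]; simp) (fun x e => by rw [inv_pow, e, inv_one]) (fun x e => e)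
    (fun i => by
      obtain ⟨x, hx⟩ := hts (altCyc hab i)
      have hx3 : x ^ 3 ∈ τ.ker := by rw [MonoidHom.mem_ker, map_pow, hx]; exact (carm_altCyc hab).cube i trivial
      have hinj : Function.Injective fun k : τ.ker => k ^ 3 := fun k l e => Subtype.ext (by
        have e' : (k : Γ ⧸ zpowers c) ^ 3 = (l : Γ ⧸ zpowers c) ^ 3 := congrArg Subtype.val e
        have := h3 (k * (l : Γ ⧸ zpowers c)⁻¹) (mul_mem k.2 (inv_mem l.2)) (by rw [hm _ _ (inv_mem l.2), e', inv_pow, mul_inv_cancel])
        exact mul_inv_eq_one.1 this)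
      obtain ⟨k, hk⟩ := Finite.surjective_of_injective hinj ⟨_, hx3⟩
      have hk' : (k : Γ ⧸ zpowers c) ^ 3 = x ^ 3 := congrArg Subtype.val hk
      exact ⟨x * (k : Γ ⧸ zpowers c)⁻¹, by rw [hm _ _ (inv_mem k.2), inv_pow, hk', mul_inv_cancel], by
        rw [map_mul, map_inv, k.2, hx]; simp⟩)
    (fun i x y hx hy ex ey => by
      have hk : x⁻¹ * y ∈ τ.ker := by simp [ex, ey]
      have := hm x _ hk
      rw [mul_inv_cancel_left, hy, hx, one_mul] at this
      exact inv_mul_eq_one.1 (h3 _ hk this.symm))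
  have e1 := σ.ker.card_mul_index
  have e2 := τ.ker.card_mul_index
  have e3 := (zpowers c).card_eq_card_quotient_mul_card_subgroup
  rw [index_ker, MonoidHom.range_eq_top.2 h.1] at e1
  rw [index_ker, MonoidHom.range_eq_top.2 hts] at e2
  have e4 : Nat.card σ.ker = Nat.card τ.ker * Nat.card (zpowers c) :=
    Nat.eq_of_mul_eq_mul_right (Nat.card_pos (α := (⊤ : Subgroup (alternatingGroup (Fin n))))) (by
      rw [e1, e3, ← e2]; ring)
  rw [e4, Nat.card_zpowers]
  refine Nat.mul_dvd_mul (b := 2) (d := 3) ?_ (orderOf_dvd_of_pow_eq_one c3)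
  have := Nat.card_pos (α := τ.ker)
  interval_cases Nat.card τ.ker <;> simp

theorem nonempty_equiv_zmod_six {A : Type*} [CommGroup A] (h : Nat.card A = 6) : Nonempty (A ≃* Multiplicative (ZMod 6)) := by
  have : Finite A := Nat.finite_of_card_ne_zero (by omega)
  have : Fact (Nat.Prime 3) := ⟨by norm_num⟩
  obtain ⟨a, ha⟩ := exists_prime_orderOf_dvd_card' (G := A) 2 (by rw [h]; norm_num)
  obtain ⟨b, hb⟩ := exists_prime_orderOf_dvd_card' (G := A) 3 (by rw [h]; norm_num)
  have : IsCyclic A := isCyclic_of_orderOf_eq_card (a * b) (by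
    rw [(Commute.all a b).orderOf_mul_eq_mul_orderOf_of_coprime (by rw [ha, hb]; norm_num), ha, hb, h])
  exact ⟨mulEquivOfCyclicCardEq (by simp [h])⟩

/-- The Schur multipliers of `A₆` and `A₇`. -/
theorem mult_alt_six_seven {n : ℕ} (hn : n = 6 ∨ n = 7) : HasCyclicSchurMultiplier (alternatingGroup (Fin n)) 6 := by
  have hA := exists_mult (alternatingGroup (Fin n))
  obtain ⟨Γ, _, _, σ, hσ, ⟨e⟩⟩ := hA.1
  have h1 := card_ker_dvd_six hn hσ
  rw [Nat.card_congr e.toEquiv] at h1
  obtain ⟨f⟩ := nonempty_equiv_zmod_six (Nat.dvd_antisymm h1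
    (Nat.Coprime.mul_dvd_of_dvd_of_dvd (m := 2) (n := 3) (by norm_num) (two_dvd_mult_alt (by omega) hA) (three_dvd_mult_alt hn hA)))
  exact mult_congr hA f

theorem card_ker_comp {X Y Q : Type*} [Group X] [Group Y] [Group Q] [Finite X] {τ : X →* Y} {π : Y →* Q}
    (h1 : Function.Surjective τ) (h2 : Function.Surjective π) :
    Nat.card (π.comp τ).ker = Nat.card π.ker * Nat.card τ.ker := by
  have := Finite.of_surjective τ h1
  have := Finite.of_surjective π h2
  have e1 := τ.ker.card_mul_index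
  have e2 := π.ker.card_mul_index
  have e3 := (π.comp τ).ker.card_mul_index
  rw [index_ker, MonoidHom.range_eq_top.2 h1, card_top] at e1
  rw [index_ker, MonoidHom.range_eq_top.2 h2, card_top] at e2
  rw [index_ker, (MonoidHom.range_eq_top (f := π.comp τ)).2 (h2.comp h1), card_top] at e3
  exact Nat.eq_of_mul_eq_mul_right (Nat.card_pos (α := Q)) (by rw [e3, ← e1, ← e2]; ring)

/-- The Schur multiplier of `SL₂(9)`. -/
theorem mult_SL29 {F : Type u} [Field F] [Finite F] (hF : Nat.card F = 9) :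
    HasCyclicSchurMultiplier (Matrix.SpecialLinearGroup (Fin 2) F) 3 := by
  obtain ⟨e⟩ := psl2_nine_equiv hF
  have hQ := mult_congr_left (mult_alt_six_seven (.inl rfl)) e.symm
  have hp : Group.IsPerfect (Matrix.SpecialLinearGroup (Fin 2) F) := sl_fin_isPerfect fun _ => by omega
  let τ : Matrix.SpecialLinearGroup (Fin 2) F →* PSL2 F := QuotientGroup.mk' _
  have hτ : IsStemExtension τ := stem_of_perfect hp (QuotientGroup.mk'_surjective _) (QuotientGroup.ker_mk' _).le
  have h2 : Nat.card τ.ker = 2 := by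
    rw [QuotientGroup.ker_mk', card_center_SL, hF]; simp
  obtain ⟨C, _, _, σ, -, -, hσ, ⟨f⟩, β, hβ, hc⟩ := exists_cover_over (pres_surj (PSL2 F)) hτ
  obtain ⟨g⟩ := mult_unique hQ (exists_mult _)
  have h6 : Nat.card σ.ker = 6 := by rw [← Nat.card_congr (g.trans f).toEquiv]; simp
  have hk : β.ker ≤ σ.ker := fun x hx => by rw [← hc, MonoidHom.mem_ker, MonoidHom.comp_apply, hx, map_one]
  refine mult_cyclic_of (σ := β) ⟨hβ, hk.trans hσ.2.1, hk.trans hσ.2.2⟩ ?_ fun Γ _ _ ρ hρ => ?_
  · have := card_ker_comp hβ hτ.1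
    rw [hc, h6, h2] at this; omega
  · have hΓ := perfect_of_stem hρ hp
    obtain ⟨π, hπ⟩ := surj_of_stem hQ (stem_of_perfect hΓ (σ := τ.comp ρ) (hτ.1.comp hρ.1) (comp_ker_le_center hΓ hρ.2.1 hτ.2.1))
    have h3 := card_dvd_of_surjective π hπ
    rw [card_ker_comp hρ.1 hτ.1, h2, show Nat.card (Multiplicative (ZMod 6)) = 2 * 3 by simp] at h3
    have h3 := Nat.dvd_of_mul_dvd_mul_left two_pos h3
    have : Fact (Nat.Prime 3) := ⟨by norm_num⟩
    obtain ⟨z, hz⟩ := (isCyclic_of_card_dvd_prime h3).exists_generator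
    refine ⟨z, z.2, congrArg Subtype.val (orderOf_dvd_iff_pow_eq_one.1 ((_root_.orderOf_dvd_natCard z).trans h3)), fun x hx => ?_⟩
    obtain ⟨k, hk⟩ := hz ⟨x, hx⟩
    exact ⟨k, congrArg Subtype.val hk⟩

theorem cycleType_of_sq {α : Type*} [Fintype α] [DecidableEq α] (h7 : Fintype.card α ≤ 7) {g : alternatingGroup α}
    (h1 : g ≠ 1) (h2 : g ^ 2 = 1) : (g : Perm α).cycleType = {2, 2} := by
  have ho : orderOf (g : Perm α) = 2 := by rw [orderOf_coe]; exact orderOf_eq_prime h2 h1
  obtain ⟨k, hk⟩ := Perm.cycleType_prime_order (σ := (g : Perm α)) (ho ▸ Nat.prime_two)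
  have h3 := Perm.sum_cycleType_le (g : Perm α)
  have h4 := Perm.sign_of_cycleType (g : Perm α)
  rw [Perm.mem_alternatingGroup.1 g.2] at h4
  rw [hk, ho] at h3 h4 ⊢
  simp only [Multiset.sum_replicate, smul_eq_mul, Multiset.card_replicate] at h3 h4
  have : k ≤ 2 := by omega
  interval_cases k
  · exact absurd h4 (by decide)
  · rfl
  · exact absurd h4 (by decide)

theorem mem_center_of_nonsplit {n : ℕ} (hn : n ≤ 7) {H : Type*} [Group H]
    (h : IsNonsplitDoubleCover H (alternatingGroup (Fin n))) {x : H} (hx : x ^ 2 = 1) : x ∈ center H := by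
  obtain ⟨h2, ⟨e⟩, hL⟩ := h
  let π : H →* alternatingGroup (Fin n) := e.toMonoidHom.comp (QuotientGroup.mk' _)
  have hs : Function.Surjective π := e.surjective.comp (QuotientGroup.mk'_surjective _)
  have hk : ∀ g, π g = 1 ↔ g ∈ center H := fun g => by simp [π]
  have hz : ∀ z ∈ center H, z ^ 2 = 1 := fun z hz => congrArg Subtype.val (h2 ▸ pow_card_eq_one' (x := (⟨z, hz⟩ : center H)))
  by_contra hc
  have h7 : Fintype.card (Fin n) ≤ 7 := by simpa
  have c1 := cycleType_of_sq h7 (mt (hk x).1 hc) (by rw [← map_pow, hx, map_one])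
  have h4 : 4 ≤ n := by simpa [c1] using Perm.sum_cycleType_le (π x : Perm (Fin n))
  have : Nontrivial (Fin n) := Fin.nontrivial_iff_two_le.2 (by omega)
  obtain ⟨a, b, hab⟩ := exists_pair_ne (Fin n)
  choose Y hY using fun i => hs (altCyc hab i)
  have hX : ∀ i, π (Y i ^ 4) = altCyc hab i := fun i => by
    rw [map_pow, hY, pow_succ, (carm_altCyc hab).cube i trivial, one_mul]
  have h3 : ∀ i, (Y i ^ 4) ^ 3 ∈ (⊥ : Subgroup H) := fun i => by
    rw [mem_bot, ← pow_mul, show 4 * 3 = 3 * 2 * 2 from rfl, pow_mul, pow_mul,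
      hz (Y i ^ 3) ((hk _).1 (by rw [map_pow, hY, (carm_altCyc hab).cube i trivial])), one_pow]
  have h5 : ∀ i j, i ≠ j → (Y i ^ 4 * Y j ^ 4) ^ 2 ∈ (⊥ : Subgroup H) := fun i j hij => by
    have := Subtype.coe_ne_coe.2 hij
    have := i.2; have := j.2
    have c2 := cycleType_of_sq h7 (g := altCyc hab i * altCyc hab j) (fun h => by
      have := congrArg (fun f : alternatingGroup (Fin n) => (f : Perm (Fin n)) a) h
      simp only [altCyc, cyc3, coe_mul, Perm.mul_apply, swap_apply_def, coe_one, Perm.one_apply] at this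
      grind) ((carm_altCyc hab).sq i trivial j trivial hij)
    obtain ⟨s, hs'⟩ := isConj_iff.1 (Perm.isConj_iff_cycleType_eq.2 (c1.trans c2.symm))
    obtain ⟨t, ht⟩ : ∃ t : alternatingGroup (Fin n), t * π x * t⁻¹ = altCyc hab i * altCyc hab j := by
      rcases Int.units_eq_one_or (Perm.sign s) with h | h
      · exact ⟨⟨s, h⟩, Subtype.ext hs'⟩
      · refine ⟨⟨swap a i * s, by simp [h, Perm.sign_swap (Ne.symm i.2.1)]⟩, Subtype.ext ?_⟩
        change swap a i * s * π x * (swap a i * s)⁻¹ = _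
        rw [show swap a i * s * π x * (swap a i * s)⁻¹ = swap a i * (s * π x * s⁻¹) * (swap a i)⁻¹ by group, hs',
          mul_inv_eq_iff_eq_mul]
        ext y
        simp only [altCyc, cyc3, coe_mul, Perm.mul_apply, swap_apply_def]
        grind
    obtain ⟨t, rfl⟩ := hs t
    have hc : (t * x * t⁻¹)⁻¹ * (Y i ^ 4 * Y j ^ 4) ∈ center H := (hk _).1 (by
      rw [map_mul, map_inv, map_mul, map_mul, map_inv, ht, map_mul, hX, hX, inv_mul_cancel])
    rw [mem_bot, ← mul_inv_cancel_left (t * x * t⁻¹) (Y i ^ 4 * Y j ^ 4), Commute.mul_pow (mem_center_iff.1 hc _), hz _ hc,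
      conj_pow, hx]
    simp
  refine hL (closure (Set.range fun i => Y i ^ 4)) (isComplement'_of_disjoint_and_mul_eq_univ ?_ ?_)
  · exact disjoint_def.2 fun {g} h1 h2 => mem_of_carm hab π hX ⊥ h3 h5 h2 ((hk g).2 h1)
  · refine Set.eq_univ_of_forall fun g => ?_
    have : π g ∈ (closure (Set.range fun i => Y i ^ 4)).map π := by
      rw [MonoidHom.map_closure, ← Set.range_comp, show π ∘ _ = altCyc hab from funext hX, closure_altCyc]; trivial
    obtain ⟨k, hk', e⟩ := this
    exact ⟨g * k⁻¹, (hk _).1 (by simp [e]), k, hk', by simp⟩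

theorem exists_cover_alt_eight : ∃ (H : Type) (_ : Group H) (_ : Finite H),
    IsNonsplitDoubleCover H (alternatingGroup (Fin 8)) ∧ ∃ x y : H, x ≠ y ∧ orderOf x = 2 ∧ orderOf y = 2 := by
  obtain ⟨Γ, _, _, π, z, hs, hk, hz, ho, hc⟩ := exists_alt_cover (Fin 8) (by simp)
  have hZ : center Γ = π.ker := le_antisymm (fun g hg => by
    rw [MonoidHom.mem_ker, ← mem_bot, ← alternatingGroup.center_eq_bot (by simp), mem_center_iff]
    intro y; obtain ⟨y, rfl⟩ := hs y
    rw [← map_mul, mem_center_iff.1 hg, map_mul]) (hk ▸ zpowers_le_of_mem hz)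
  have h2 : Nat.card (center Γ) = 2 := by rw [hZ, hk, Nat.card_zpowers, ho]
  have hz1 : z ≠ 1 := fun h => by simp [h] at ho
  refine ⟨Γ, inferInstance, inferInstance, ⟨h2, ⟨(QuotientGroup.quotientMulEquivOfEq hZ).trans
    (QuotientGroup.quotientKerEquivOfSurjective π hs)⟩, fun L hL => hz1 ?_⟩, ?_⟩
  · refine disjoint_def.1 hL.disjoint hz (commutator_le.2 (fun g _ h _ => ?_) hc)
    obtain ⟨⟨⟨u, hu⟩, ⟨g, hg⟩⟩, rfl⟩ := hL.2 g
    obtain ⟨⟨⟨v, hv⟩, ⟨h, hh⟩⟩, rfl⟩ := hL.2 h
    simp only
    rw [← mem_center_iff.1 hu, ← mem_center_iff.1 hv, commutatorElement_mul_center hu hv]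
    exact mul_mem (mul_mem (mul_mem hg hh) (inv_mem hg)) (inv_mem hh)
  obtain ⟨p, hp⟩ := hs ⟨swap 0 1 * swap 1 2, sign_swap_mul_swap (by decide) (by decide)⟩
  obtain ⟨q, hq⟩ := hs ⟨swap 0 1 * swap 2 3, sign_swap_mul_swap (by decide) (by decide)⟩
  obtain ⟨g, hg⟩ := hs (⟨swap 0 4 * swap 1 5, sign_swap_mul_swap (by decide) (by decide)⟩ *
    ⟨swap 2 6 * swap 3 7, sign_swap_mul_swap (by decide) (by decide)⟩)
  have hsq : ∀ z ∈ center Γ, z ^ 2 = 1 := fun z hz => congrArg Subtype.val (h2 ▸ pow_card_eq_one' (x := (⟨z, hz⟩ : center Γ)))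
  have a1 : ⁅p, q⁆ ^ 2 ∈ center Γ := by
    rw [hZ, MonoidHom.mem_ker, map_pow, map_commutatorElement, hp, hq]; decide +kernel
  have a2 : p⁻¹ * ((g * ⁅p, q⁆ * g⁻¹) * p * (g * ⁅p, q⁆ * g⁻¹)⁻¹) ∈ center Γ := by
    rw [hZ, MonoidHom.mem_ker]; simp only [map_mul, map_inv, map_commutatorElement, hp, hq, hg]; decide +kernel
  have a3 : q⁻¹ * ((g * ⁅p, q⁆ * g⁻¹) * q * (g * ⁅p, q⁆ * g⁻¹)⁻¹) ∈ center Γ := by
    rw [hZ, MonoidHom.mem_ker]; simp only [map_mul, map_inv, map_commutatorElement, hp, hq, hg]; decide +kernel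
  have a4 : π (⁅p, q⁆ * (g * ⁅p, q⁆ * g⁻¹)) ≠ 1 := by
    simp only [map_mul, map_inv, map_commutatorElement, hp, hq, hg]; decide +kernel
  have a5 := commutatorElement_mul_center (a := p) (b := q) a2 a3
  rw [mul_inv_cancel_left, mul_inv_cancel_left, ← conjugate_commutatorElement, mul_inv_eq_iff_eq_mul] at a5
  refine ⟨⁅p, q⁆ * (g * ⁅p, q⁆ * g⁻¹), z, fun h => a4 (by rw [h, ← MonoidHom.mem_ker, hk]; exact mem_zpowers z),
    orderOf_eq_prime ?_ fun h => a4 (by rw [h, map_one]), ho⟩
  rw [Commute.mul_pow a5.symm, conj_pow, mem_center_iff.1 a1 g, mul_inv_cancel_right, ← sq, hsq _ a1]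

end Cfsg.Lib.Linear
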