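import Cfsg.Agent.Lib.Known.SimilarMat

set_option autoImplicit false

namespace Cfsg.Lib.Linear

open Polynomial Finset

variable {F : Type*} [Field F]

/-- Tuples of monic polynomials parametrising the classes of `GL_n` with Jordan blocks of size at most `j`. -/
def Adm (j n : ℕ) (u : ℕ → F[X]) : Prop :=
  (∀ i, (u i).Monic ∧ (u i).coeff 0 ≠ 0) ∧ (∀ i, i = 0 ∨ j < i → u i = 1) ∧
    ∑ i ∈ range (j + 1), i * (u i).natDegree = n

variable (F) in
/-- Monic polynomials of degree `k` with nonzero constant term. -/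
def MonS (k : ℕ) : Set F[X] := {f | f.Monic ∧ f.natDegree = k ∧ f.coeff 0 ≠ 0}

theorem adm_subset (j n : ℕ) : {u : ℕ → F[X] | Adm (j + 1) n u} ⊆ ⋃ k ∈ range (n / (j + 1) + 1),
    (fun p => Function.update p.2 (j + 1) p.1) '' (MonS F k ×ˢ {u | Adm j (n - (j + 1) * k) u}) := by
  rintro u ⟨h1, h2, h3⟩
  rw [sum_range_succ] at h3
  refine Set.mem_biUnion (x := (u (j + 1)).natDegree) ?_ ⟨(u (j + 1), Function.update u (j + 1) 1),
    ⟨⟨(h1 _).1, rfl, (h1 _).2⟩, fun i => ?_, fun i hi => ?_, ?_⟩, by simp⟩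
  · exact mem_range.2 (Nat.lt_succ_of_le ((Nat.le_div_iff_mul_le j.succ_pos).2 (by rw [← h3, mul_comm]; exact le_add_self)))
  · by_cases h : i = j + 1 <;> simp [h, h1]
  · by_cases h : i = j + 1
    · simp [h]
    · simp [h, h2 i (by omega)]
  · rw [← h3, add_tsub_cancel_right]
    exact sum_congr rfl fun i hi => by simp [(mem_range.1 hi).ne]

theorem adm_zero (n : ℕ) (u : ℕ → F[X]) (h : Adm 0 n u) : n = 0 ∧ u = fun _ => 1 :=
  ⟨by simpa using h.2.2.symm, funext fun i => h.2.1 i (by omega)⟩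

theorem monS_zero : MonS F 0 = {1} := by
  ext f; exact ⟨fun h => h.1.natDegree_eq_zero.1 h.2.1, by rintro rfl; simp [MonS]⟩

variable [Fintype F]

local notation "q" => Fintype.card F

theorem two_le_q : 2 ≤ q := Fintype.one_lt_card

theorem ncard_monS (k : ℕ) : (MonS F (k + 1)).ncard = (q - 1) * q ^ k := by
  classical
  have := Known.card_monic_coeff_zero (F := F) k (· ≠ 0)
  rw [Nat.card_eq_fintype_card (α := F), Nat.card_eq_fintype_card (α := {c : F // c ≠ 0})] at this
  exact (Nat.card_coe_set_eq _).symm.trans (this.trans (by simp))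

theorem finite_monS (k : ℕ) : (MonS F k).Finite := by
  rcases k with _ | k
  · simp [monS_zero]
  · have := two_le_q (F := F)
    exact Set.finite_of_ncard_pos (by rw [ncard_monS]; exact mul_pos (by omega) (by positivity))

theorem finite_adm (j : ℕ) : ∀ n, {u : ℕ → F[X] | Adm j n u}.Finite := by
  induction j with
  | zero => exact fun n => (Set.finite_singleton _).subset fun u h => (adm_zero n u h).2
  | succ j ih => exact fun n => (Set.Finite.biUnion (finite_toSet _) fun k _ => ((finite_monS k).prod (ih _)).image _).subset (adm_subset j n)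

variable (F) in
/-- The finite set of admissible tuples. -/
noncomputable def admT (j n : ℕ) : Finset (ℕ → F[X]) := (finite_adm j n).toFinset

theorem mem_admT {j n : ℕ} {u : ℕ → F[X]} : u ∈ admT F j n ↔ Adm j n u := by simp [admT]

theorem card_admT_succ (j n : ℕ) : #(admT F (j + 1) n) ≤ #(admT F j n) +
    (q - 1) * ∑ k ∈ range (n / (j + 1)), q ^ k * #(admT F j (n - (j + 1) * (k + 1))) := by
  simp only [admT, ← Set.ncard_eq_toFinset_card]
  refine (Set.ncard_le_ncard (adm_subset j n) (Set.Finite.biUnion (finite_toSet _) fun k _ =>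
    ((finite_monS k).prod (finite_adm _ _)).image _)).trans ((set_ncard_biUnion_le _ _).trans ((sum_le_sum fun k _ =>
      Set.ncard_image_le ((finite_monS k).prod (finite_adm _ _))).trans_eq ?_))
  rw [sum_range_succ', add_comm, mul_sum]
  simp [Set.ncard_prod, monS_zero, ncard_monS, mul_assoc]

theorem card_admT_zero (n : ℕ) : #(admT F 0 n) ≤ if n = 0 then 1 else 0 := by
  split_ifs with h
  · exact card_le_one.2 fun a ha b hb => (adm_zero n a (mem_admT.1 ha)).2.trans (adm_zero n b (mem_admT.1 hb)).2.symm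
  · exact (card_eq_zero.2 (eq_empty_of_forall_notMem fun a ha => h (adm_zero n a (mem_admT.1 ha)).1)).le

theorem card_admT_le (j : ℕ) : #(admT F j 0) ≤ 1 ∧ ∀ n, n ≠ 0 → #(admT F j n) + q ^ (n - j) ≤ q ^ n := by
  have hq := two_le_q (F := F)
  induction j with
  | zero => exact ⟨card_admT_zero 0, fun n hn => by simpa [hn] using card_admT_zero (F := F) n⟩
  | succ j ih =>
    refine ⟨(card_admT_succ j 0).trans (by simpa using ih.1), fun n hn => ?_⟩
    have key : ∀ K r, ∑ k ∈ range (K + 1), q ^ k * #(admT F j (r + (j + 1) * (K - k))) ≤ q ^ (r + (j + 1) * K) := by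
      intro K r
      induction K with
      | zero =>
        rcases eq_or_ne r 0 with rfl | h
        · simpa using ih.1
        · simpa using le_of_add_le_left (ih.2 r h)
      | succ K ihK =>
        rw [sum_range_succ']
        simp only [pow_succ', mul_assoc, ← mul_sum, Nat.add_sub_add_right, pow_zero, one_mul, tsub_zero]
        have := ih.2 (r + (j + 1) * (K + 1)) (by positivity)
        rw [show r + (j + 1) * (K + 1) - j = r + (j + 1) * K + 1 by rw [mul_add]; omega, pow_succ'] at this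
        nlinarith
    have h1 := card_admT_succ (F := F) j n
    have h2 := ih.2 n hn
    obtain ⟨K, r, hr, rfl⟩ : ∃ K r, r < j + 1 ∧ n = r + (j + 1) * K := ⟨_, _, Nat.mod_lt n j.succ_pos, (Nat.mod_add_div _ _).symm⟩
    rw [Nat.add_mul_div_left _ _ j.succ_pos, Nat.div_eq_of_lt hr, zero_add] at h1
    rcases K with _ | K
    · rw [show r + (j + 1) * 0 - (j + 1) = r + (j + 1) * 0 - j by omega]
      simp at h1 h2 ⊢; omega
    rw [sum_congr rfl fun k hk => by rw [show r + (j + 1) * (K + 1) - (j + 1) * (k + 1) = r + (j + 1) * (K - k) by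
      obtain ⟨c, rfl⟩ := Nat.exists_eq_add_of_le (Nat.le_of_lt_succ (mem_range.1 hk))
      rw [add_tsub_cancel_left, show (j + 1) * (k + c + 1) = (j + 1) * c + (j + 1) * (k + 1) by ring]; omega]] at h1
    rw [show r + (j + 1) * (K + 1) - j = r + (j + 1) * K + 1 by rw [mul_add]; omega, pow_succ'] at h2
    rw [show r + (j + 1) * (K + 1) - (j + 1) = r + (j + 1) * K by rw [mul_add]; omega]
    have := Nat.mul_le_mul_left (q - 1) (key K r)
    have : q * q ^ (r + (j + 1) * K) = (q - 1) * q ^ (r + (j + 1) * K) + q ^ (r + (j + 1) * K) := by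
      rw [← add_one_mul, Nat.sub_add_cancel (by omega)]
    omega

theorem card_admT_le' (j : ℕ) {n : ℕ} (hn : n ≠ 0) : #(admT F j n) ≤ q ^ n - 1 := by
  have := (card_admT_le (F := F) j).2 n hn
  have := Nat.one_le_pow (n - j) q Fintype.card_pos
  omega

theorem card_admT_three (j : ℕ) : #(admT F j 3) + q ≤ q ^ 3 := by
  have hq := two_le_q (F := F)
  obtain ⟨p, hp⟩ : ∃ p, q = p + 1 := ⟨q - 1, by omega⟩
  have h1 := (card_admT_le (F := F) 1).2 3 (by simp)
  have h2 := card_admT_succ (F := F) 1 3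
  have h3 := card_admT_succ (F := F) 2 3
  have h4 := Nat.mul_le_mul_left p (card_admT_le' (F := F) 1 one_ne_zero)
  have h5 := Nat.mul_le_mul_left p (card_admT_le (F := F) 2).1
  simp [hp] at h1 h2 h3 h4 h5
  induction j with
  | zero => have := (card_admT_le (F := F) 0).2 3 (by simp); rw [hp] at *; simp at this; simp [this]; exact Nat.le_self_pow (by simp) _
  | succ j ih =>
    rcases j with _ | _ | _ | j
    · rw [hp]; nlinarith
    · rw [hp]; nlinarith
    · rw [hp]; nlinarith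
    · have := card_admT_succ (F := F) (j + 3) 3
      rw [Nat.div_eq_of_lt (by omega)] at this
      simp only [range_zero, sum_empty, mul_zero, add_zero] at this
      exact (Nat.add_le_add_right this _).trans ih

/-- The determinant attached to a tuple, up to sign. -/
noncomputable def admD (j : ℕ) (u : ℕ → F[X]) : F := ∏ i ∈ range (j + 1), (u i).coeff 0 ^ i

/-- The determinants of the centraliser. -/
def admH (u : ℕ → F[X]) : Subgroup Fˣ := ⨆ (i : ℕ) (_ : (u i).natDegree ≠ 0), (powMonoidHom i : Fˣ →* Fˣ).range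

theorem index_admH_dvd {u : ℕ → F[X]} {i : ℕ} (hi : (u i).natDegree ≠ 0) : (admH u).index ∣ i := by
  have := isCyclic_of_surjective _ (QuotientGroup.mk'_surjective (admH u))
  rw [Subgroup.index, ← IsCyclic.exponent_eq_card]
  refine Monoid.exponent_dvd_of_forall_pow_eq_one fun x => ?_
  obtain ⟨x, rfl⟩ := QuotientGroup.mk_surjective x
  exact (QuotientGroup.eq_one_iff (x ^ i)).2 (Subgroup.mem_iSup_of_mem i (Subgroup.mem_iSup_of_mem hi ⟨x, rfl⟩))

theorem card_mul_index_admH (u : ℕ → F[X]) : Nat.card (admH u) * (admH u).index = q - 1 := by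
  classical rw [Subgroup.card_mul_index, Nat.card_eq_fintype_card, Fintype.card_units]

open Classical in
variable (F) in
/-- Upper bound for the number of classes of `SL_n`. -/
noncomputable def admS (j n : ℕ) (δ : F) : ℕ := ∑ u ∈ admT F j n with admD j u = δ, (admH u).index

theorem admS_le_sq (j n : ℕ) (δ : F) : (q - 1) * admS F j n δ ≤ ∑ u ∈ admT F j n, (admH u).index ^ 2 := by
  classical
  have hch : ∀ (I : Finset ℕ) (a : Fˣ), ∃ c : ℕ → Fˣ, (∃ c : ℕ → Fˣ, ∏ i ∈ I, c i ^ i = a) → ∏ i ∈ I, c i ^ i = a := fun I a => by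
    by_cases h : ∃ c : ℕ → Fˣ, ∏ i ∈ I, c i ^ i = a
    exacts [⟨h.choose, fun _ => h.choose_spec⟩, ⟨1, fun h' => (h h').elim⟩]
  choose ch hch using hch
  let I : (ℕ → F[X]) → Finset ℕ := fun u => (range (j + 1)).filter fun i => (u i).natDegree ≠ 0
  let m : (ℕ → Fˣ) → (ℕ → F[X]) → ℕ → F[X] := fun c u i =>
    if (u i).natDegree = 0 then u i else u i + C ((c i - 1) * (u i).coeff 0)
  have hd : ∀ c u i, (m c u i).natDegree = (u i).natDegree := fun c u i => by
    simp only [m]; split_ifs; exacts [rfl, natDegree_add_C]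
  have h0 : ∀ c u i, (m c u i).coeff 0 = (if (u i).natDegree = 0 then 1 else (c i : F)) * (u i).coeff 0 := fun c u i => by
    simp only [m]; split_ifs
    · simp
    · rw [coeff_add, coeff_C_zero]; ring
  have hA : ∀ c u, Adm j n u → Adm j n (m c u) := fun c u h => ⟨fun i => ⟨by
      simp only [m]; split_ifs with h'
      exacts [(h.1 i).1, (h.1 i).1.add_of_left (degree_C_le.trans_lt (natDegree_pos_iff_degree_pos.1 (Nat.pos_of_ne_zero h')))],
    by rw [h0]; exact mul_ne_zero (by split_ifs <;> simp) (h.1 i).2⟩, fun i hi => by simp [m, h.2.1 i hi], by simpa only [hd] using h.2.2⟩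
  have hH : ∀ c u, admH (m c u) = admH u := fun c u => by simp only [admH, hd]
  have hD : ∀ c u, admD j (m c u) = (∏ i ∈ I u, c i ^ i : Fˣ) * admD j u := fun c u => by
    simp only [admD, h0, mul_pow, prod_mul_distrib, I, prod_filter, Units.coe_prod]
    congr 1
    exact prod_congr rfl fun i _ => by split_ifs <;> simp_all
  have hc : ∀ u, Adm j n u → ∀ a ∈ admH u, ∏ i ∈ I u, ch (I u) a i ^ i = a := fun u hu a ha => hch _ _ <| by
    let Φ : (ℕ → Fˣ) →* Fˣ := ∏ i ∈ I u, (powMonoidHom i).comp (Pi.evalMonoidHom _ i)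
    have : admH u ≤ Φ.range := iSup₂_le fun i hi => by
      rintro _ ⟨x, rfl⟩
      have : i ∈ I u := mem_filter.2 ⟨mem_range.2 (by by_contra h; exact hi (by simp [hu.2.1 i (by omega)])), hi⟩
      exact ⟨Pi.mulSingle i x, by
        simp only [Φ, MonoidHom.finsetProd_apply]
        rw [prod_eq_single_of_mem i this fun k _ hk => by simp [hk]]; simp⟩
    obtain ⟨c, rfl⟩ := this ha
    exact ⟨c, by simp [Φ]⟩
  let P := (admT F j n ×ˢ (univ : Finset Fˣ)).filter fun p => admD j p.1 = δ ∧ p.2 ∈ admH p.1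
  have h1 : (q - 1) * admS F j n δ = ∑ p ∈ P, (admH p.1).index ^ 2 := by
    rw [admS, sum_filter, sum_filter, sum_product, mul_sum]
    refine sum_congr rfl fun u _ => ?_
    split_ifs with h
    · simp only [h, true_and, ← sum_filter, sum_const, smul_eq_mul]
      rw [← card_mul_index_admH u, sq, mul_assoc, Nat.card_eq_fintype_card, Fintype.card_subtype]
    · simp [h]
  rw [h1, ← sum_congr rfl fun (p : (ℕ → F[X]) × Fˣ) _ => congrArg (fun H : Subgroup Fˣ => H.index ^ 2) (hH (ch (I p.1) p.2) p.1),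
    ← sum_image (g := fun p : (ℕ → F[X]) × Fˣ => m (ch (I p.1) p.2) p.1) (f := fun u => (admH u).index ^ 2)]
  · refine sum_le_sum_of_subset fun u hu => ?_
    obtain ⟨p, hp, rfl⟩ := mem_image.1 hu
    exact mem_admT.2 (hA _ _ (mem_admT.1 (mem_product.1 (mem_filter.1 hp).1).1))
  rintro ⟨u, a⟩ hu ⟨v, b⟩ hv h
  simp only [P, coe_filter, mem_product, mem_univ, and_true, Set.mem_ofPred_eq, mem_admT] at hu hv h
  have h2 : ∀ i, (u i).natDegree = (v i).natDegree := fun i => by rw [← hd (ch (I u) a), h, hd]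
  have h3 : I u = I v := by simp only [I, h2]
  have h4 := congrArg (admD j) h
  rw [hD, hD, hc u hu.1 a hu.2.2, hc v hv.1 b hv.2.2, hu.2.1, hv.2.1] at h4
  obtain rfl : a = b := Units.ext (mul_right_cancel₀ (hu.2.1 ▸ prod_ne_zero_iff.2 fun i _ => pow_ne_zero _ (hu.1.1 i).2) h4)
  refine Prod.ext (funext fun i => ?_) rfl
  have h5 := congrArg (fun u => (u i).coeff 0) h
  simp only [h0, h2, h3] at h5
  have h6 := congrFun h i
  simp only [m, h2, h3, mul_left_cancel₀ (by split_ifs <;> simp) h5] at h6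
  split_ifs at h6
  exacts [h6, add_right_cancel h6]

theorem sum_sq_le (j n : ℕ) : ∑ u ∈ admT F j n, (admH u).index ^ 2 ≤
    #(admT F j n) + ∑ e ∈ Icc 2 (q - 1) with e ∣ n ∧ e ∣ q - 1, (e ^ 2 - 1) * #(admT F j (n / e)) := by
  classical
  have hq := two_le_q (F := F)
  have h0 : ∀ u : ℕ → F[X], 1 ≤ (admH u).index := fun u => Nat.pos_of_ne_zero Subgroup.index_ne_zero_of_finite
  rw [sum_congr rfl fun u _ => (Nat.add_sub_cancel' (Nat.one_le_pow 2 _ (h0 u))).symm, sum_add_distrib, ← card_eq_sum_ones,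
    ← sum_filter_of_ne (p := fun u => 2 ≤ (admH u).index) fun u _ h => by
      by_contra h'; exact h (by rw [show (admH u).index = 1 by have := h0 u; omega]; rfl),
    ← sum_fiberwise_of_maps_to (g := fun u => (admH u).index) (t := (Icc 2 (q - 1)).filter fun e => e ∣ n ∧ e ∣ q - 1)]
  swap
  · intro u hu
    obtain ⟨hu, h2⟩ := mem_filter.1 hu
    have := Dvd.intro_left _ (card_mul_index_admH u)
    refine mem_filter.2 ⟨mem_Icc.2 ⟨h2, Nat.le_of_dvd (by omega) this⟩, ?_, this⟩
    rw [← (mem_admT.1 hu).2.2]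
    refine dvd_sum fun i _ => ?_
    by_cases h : (u i).natDegree = 0
    exacts [by simp [h], (index_admH_dvd h).mul_right _]
  refine Nat.add_le_add_left (sum_le_sum fun e he => ?_) _
  have he : 0 < e := by have := (mem_Icc.1 (mem_filter.1 he).1).1; omega
  rw [sum_congr rfl fun u hu => by rw [(mem_filter.1 hu).2], sum_const, smul_eq_mul, mul_comm]
  have h1 : ∀ u : ℕ → F[X], Adm j n u → (admH u).index = e → ∀ i, ¬ e ∣ i → u i = 1 := fun u hu h i hi =>
    (hu.1 i).1.natDegree_eq_zero.1 (by by_contra h'; exact hi (h ▸ index_admH_dvd h'))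
  refine Nat.mul_le_mul_left _ (card_le_card_of_injOn (fun u i => u (e * i)) (fun u hu => ?_) fun u hu v hv h => ?_)
  · simp only [coe_filter, mem_filter, mem_admT, Set.mem_ofPred_eq, mem_coe] at hu ⊢
    obtain ⟨⟨hu, -⟩, h⟩ := hu
    refine ⟨fun i => hu.1 _, fun i hi => hu.2.1 _ (hi.imp (by rintro rfl; rfl) fun h => by nlinarith), ?_⟩
    refine (Nat.div_eq_of_eq_mul_right he ?_).symm
    rw [← hu.2.2, mul_sum, sum_congr rfl fun i _ => (mul_assoc e i _).symm, ← sum_image (g := (e * ·))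
      (f := fun i => i * (u i).natDegree) fun a _ b _ h => Nat.eq_of_mul_eq_mul_left he h]
    refine sum_congr_of_eq_on_inter (fun i h2 h3 => ?_) (fun i _ h3 => ?_) fun _ _ _ => rfl
    · rw [h1 u hu h i]
      · simp
      rintro ⟨k, rfl⟩
      exact h3 (mem_image_of_mem _ (mem_range.2 (by have := mem_range.1 h2; nlinarith)))
    · simp [hu.2.1 i (by simp at h3; omega)]
  · simp only [coe_filter, mem_filter, mem_admT, Set.mem_ofPred_eq, mem_coe] at hu hv
    funext i
    by_cases hi : e ∣ i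
    · obtain ⟨k, rfl⟩ := hi; exact congrFun h k
    · rw [h1 u hu.1.1 hu.2 i hi, h1 v hv.1.1 hv.2 i hi]

theorem admS_le (j : ℕ) {n : ℕ} (hn : n ≠ 0) (δ : F) : (q - 1) * admS F j n δ ≤
    #(admT F j n) + ∑ e ∈ Icc 2 (q - 1) with e ∣ n ∧ e ∣ q - 1, (e ^ 2 - 1) * (q ^ (n / e) - 1) :=
  (admS_le_sq j n δ).trans ((sum_sq_le j n).trans (Nat.add_le_add_left (sum_le_sum fun e he => Nat.mul_le_mul_left _
    (card_admT_le' j (Nat.div_pos (Nat.le_of_dvd (Nat.pos_of_ne_zero hn) (mem_filter.1 he).2.1)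
      (by have := (mem_Icc.1 (mem_filter.1 he).1).1; omega)).ne')) _))

theorem sum_div_le (Q n : ℕ) (hn : n ≠ 0) (s : Finset ℕ) (hs : ∀ e ∈ n.divisors, 2 ≤ e → e < Q → e ∈ s) :
    ∑ e ∈ Icc 2 (Q - 1) with e ∣ n ∧ e ∣ Q - 1, (e ^ 2 - 1) * (Q ^ (n / e) - 1) ≤ ∑ e ∈ s, (e ^ 2 - 1) * (Q ^ (n / e) - 1) :=
  sum_le_sum_of_subset fun e he => by
    simp only [mem_filter, mem_Icc] at he
    exact hs e (Nat.mem_divisors.2 ⟨he.2.1, hn⟩) he.1.1 (by omega)

theorem admS_one (j : ℕ) (δ : F) : admS F j 1 δ ≤ 1 := by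
  have hq := two_le_q (F := F)
  have := (admS_le j one_ne_zero δ).trans (add_le_add (card_admT_le' j one_ne_zero) (sum_div_le _ _ one_ne_zero ∅ (by simp)))
  exact Nat.le_of_mul_le_mul_left (c := q - 1) (by simpa using this) (by omega)

theorem admS_two (j : ℕ) (δ : F) : admS F j 2 δ ≤ q + 4 ∧ 2 * admS F j 2 δ ≤ 5 * q := by
  have hq := two_le_q (F := F)
  have h := (admS_le j two_ne_zero δ).trans (add_le_add (card_admT_le' j two_ne_zero) (sum_div_le _ _ two_ne_zero {2}
    (by simp [Nat.prime_two.divisors])))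
  obtain ⟨p, hp⟩ : ∃ p, q = p + 2 := ⟨q - 2, by omega⟩
  have h1 : admS F j 2 δ ≤ q + 4 := Nat.le_of_mul_le_mul_left (c := q - 1) (h.trans (by
    rw [hp]; simp [show (p + 2) ^ 2 = p * p + 4 * p + 3 + 1 by ring]; nlinarith)) (by omega)
  refine ⟨h1, ?_⟩
  rcases p with _ | p
  · have := (admS_le j two_ne_zero δ).trans (add_le_add_left (card_admT_le' j two_ne_zero) _)
    simp [hp] at this ⊢; omega
  · omega

theorem admS_three_le (j : ℕ) {n : ℕ} (hn : 3 ≤ n) (δ : F) : admS F j n δ ≤ q ^ (n - 1) + 3 * q ^ (n - 2) := by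
  have hq := two_le_q (F := F)
  have h := admS_le j (by omega : n ≠ 0) δ
  have h0 := card_admT_le' (F := F) j (by omega : n ≠ 0)
  have h3 := card_admT_three (F := F) j
  refine Nat.le_of_mul_le_mul_left (c := q - 1) (h.trans ?_) (by omega)
  clear h
  generalize q = Q at *
  obtain ⟨m, rfl⟩ := Nat.exists_eq_add_of_le' hn
  have e : (Q - 1) * (Q ^ (m + 3 - 1) + 3 * Q ^ (m + 3 - 2)) + 3 * Q ^ (m + 1) = Q ^ (m + 3) + 2 * Q ^ (m + 2) := by
    obtain ⟨p, rfl⟩ := Nat.exists_eq_add_of_le' hq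
    simp [pow_succ]; ring
  have h1 := Nat.one_le_pow (m + 3) Q (by omega)
  rcases hq.eq_or_lt with rfl | hq
  · simp [pow_succ] at h0 ⊢; omega
  by_cases hm : m < 4
  · by_cases hQ : Q < 5
    · interval_cases m <;> interval_cases Q <;> simp [sum_filter, sum_Icc_succ_top] at * <;> omega
    obtain ⟨p, rfl⟩ := Nat.exists_eq_add_of_le' (not_lt.1 hQ)
    refine (Nat.add_le_add_left (sum_div_le _ _ (by omega) ((m + 3).divisors.erase 1) fun e h h' _ => mem_erase.2 ⟨by omega, h⟩) _).trans ?_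
    have : ∀ k, (p + 5) ^ k - 1 ≤ (p + 5) ^ k := fun k => Nat.sub_le _ _
    refine (Nat.add_le_add_left (sum_le_sum fun e _ => Nat.mul_le_mul_left _ (this _)) _).trans ?_
    have e4 : (Nat.divisors 3).erase 1 = {3} ∧ (Nat.divisors 4).erase 1 = {2, 4} ∧ (Nat.divisors 5).erase 1 = {5} ∧
      (Nat.divisors 6).erase 1 = {2, 3, 6} := by decide
    interval_cases m <;> simp [e4] at e h0 h1 h3 ⊢ <;> ring_nf at e h0 h1 h3 ⊢ <;> omega
  · have : ∑ e ∈ Icc 2 (Q - 1) with e ∣ m + 3 ∧ e ∣ Q - 1, (e ^ 2 - 1) * (Q ^ ((m + 3) / e) - 1) ≤ Q * (Q ^ 2 * Q ^ (m - 1)) := by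
      refine (sum_le_card_nsmul _ _ _ fun e he => ?_).trans (Nat.mul_le_mul_right _ ((card_filter_le _ _).trans (by simp; omega)))
      have := mem_Icc.1 (mem_filter.1 he).1
      refine Nat.mul_le_mul ((Nat.sub_le _ _).trans (Nat.pow_le_pow_left (by omega) _)) ((Nat.sub_le _ _).trans
        (Nat.pow_le_pow_right (by omega) ((Nat.div_le_div_left this.1 two_pos).trans (by omega))))
    rw [← pow_add, ← pow_succ', show 2 + (m - 1) + 1 = m + 2 by omega] at this
    have : 3 * Q ^ (m + 1) ≤ Q ^ (m + 2) := by rw [pow_succ' _ (m + 1)]; exact Nat.mul_le_mul_right _ hq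
    omega

end Cfsg.Lib.Linear
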