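import Cfsg.Agent.Lib.Forms.Herm
import Cfsg.Agent.Lib.Forms.Symp

/-!
Generation of symplectic and unitary groups: criteria for a subgroup to contain all Eichler
elements.
-/

namespace Cfsg.Lib.Linear.EG

open Cfsg.Lib.Forms Cfsg.Lib.Forms.Form Module

variable {F : Type*} [Field F] {σ : F →+* F} {K : Kind σ} {V : Type*} [AddCommGroup V]
  [Module F V] {D : Form K V} {H : Subgroup D.isom}

/-- The Eichler element with data `e, z, d` exists and lies in `H`. -/
def In (H : Subgroup D.isom) (e z : V) (d : F) : Prop := ∃ h, D.eich e z d h ∈ H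

theorem In.congr {e e' z z' : V} {d d' : F} (h : In H e z d) (he : e = e') (hz : z = z')
    (hd : d = d') : In H e' z' d' := by subst he hz hd; exact h

theorem In.mul {e z z' : V} {d d' : F} (h : In H e z d) (h' : In H e z' d') :
    In H e (z + z') (d + d' + D.B z z') :=
  ⟨h.1.add h'.1, by rw [← eich_mul _ h.1 h'.1]; exact H.mul_mem h.2 h'.2⟩

theorem In.inv {e z : V} {d : F} (h : In H e z d) : In H e (-z) (K.ε * σ d) :=
  ⟨h.1.neg, by rw [← eich_inv _ h.1]; exact H.inv_mem h.2⟩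

theorem In.map {e z : V} {d : F} (h : In H e z d) {g : D.isom} (hg : g ∈ H) :
    In H (g.1 e) (g.1 z) d :=
  ⟨h.1.isom g, by rw [← conj_eich _ g h.1]; exact H.mul_mem (H.mul_mem hg h.2) (H.inv_mem hg)⟩

theorem In.zero {e : V} (he : D.Q e = 0) : In H e 0 0 :=
  ⟨⟨he, by simp, by simp⟩, by rw [eich_zero]; exact H.one_mem⟩

theorem In.of_smul {e z : V} {d c : F} (hc : c ≠ 0) (h : In H (c • e) z d) :
    In H e (σ c • z) (c * σ c * d) := by
  obtain ⟨h, hm⟩ := h
  have h1 : D.IsEich e z d := by simpa [smul_smul, hc] using h.smul_left c⁻¹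
  have h2 : D.IsEich e (σ c • z) (c * σ c * d) := by
    simpa [K.σσ, mul_comm] using h1.smul (σ c)
  exact ⟨h2, by rw [← eich_smul_left _ c h2 h]; exact hm⟩

theorem In.smul {e z : V} {d c : F} (hc : c ≠ 0) (h : In H e (σ c • z) (c * σ c * d)) :
    In H (c • e) z d := by
  obtain ⟨h, hm⟩ := h
  have hc' : σ c ≠ 0 := (map_ne_zero σ).2 hc
  have h1 : D.IsEich e z d := by
    have := h.smul (σ c)⁻¹
    rw [smul_smul, inv_mul_cancel₀ hc', one_smul, map_inv₀, K.σσ] at this
    convert this using 1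
    field_simp
  exact ⟨h1.smul_left c, by rw [eich_smul_left _ c h]; exact hm⟩

theorem In.add_smul {e z : V} {d : F} (c : F) (h : In H e z d) :
    In H e (z + c • e) (d - c + K.ε * σ c) := by
  obtain ⟨h, hm⟩ := h
  have h1 : D.IsEich e (z + c • e) (d - c + K.ε * σ c) := by
    have := h.add_smul c
    refine ⟨this.Q_e, this.B_ez, ?_⟩
    rw [← this.tr_d, map_add, map_sub, K.tr_conj]; ring
  exact ⟨h1, by rw [eich_add_smul _ c h]; exact hm⟩

theorem In.conj_eq {x : V} {d : F} (h : In H x 0 d) : K.ε * σ d = -d := by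
  have := h.1.B_zz
  rw [D.B_zero_left] at this
  linear_combination -this

theorem In.neg {x : V} {d : F} (h : In H x 0 d) : In H x 0 (-d) :=
  h.inv.congr rfl neg_zero h.conj_eq

theorem In.add {x : V} {d d' : F} (h : In H x 0 d) (h' : In H x 0 d') : In H x 0 (d + d') :=
  (h.mul h').congr rfl (add_zero _) (by simp)

theorem In.sub_left {x e : V} {d : F} (he : D.Q e = 0) (hB : D.B e x = 0)
    (h : In H (x + e) 0 d) (h' : In H x 0 d) : In H e (d • x) d := by
  have hc := h'.conj_eq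
  obtain ⟨h, hm⟩ := h
  obtain ⟨h', hm'⟩ := h'
  have h1 : D.IsEich e (d • x) d :=
    ⟨he, by rw [D.B_smul_right, hB, mul_zero], by
      rw [D.Q_smul_of_Q h'.Q_e, h'.tr_d, D.Q_zero]⟩
  refine ⟨h1, ?_⟩
  have h2 := K.ε_mul
  have h3 : σ d = -(K.ε * d) := by linear_combination K.ε * hc - σ d * h2
  have : D.eich (x + e) 0 d h = D.eich e (d • x) d h1 * D.eich x 0 d h' := by
    refine isom_ext fun y => ?_
    simp only [isom_mul_apply, eich_apply, D.B_lin, hB, h'.B_ee, h3]
    module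
  rw [this] at hm
  exact (H.mul_mem_cancel_right hm').1 hm

/-- All Eichler elements with centre `x` lie in `H`. -/
def Full (H : Subgroup D.isom) (x : V) : Prop := ∀ z d, D.IsEich x z d → In H x z d

theorem Full.map {x : V} (hx : Full H x) {g : D.isom} (hg : g ∈ H) : Full H (g.1 x) := by
  intro z d h
  have h' : D.IsEich x ((g⁻¹).1 z) d := by simpa using h.isom g⁻¹
  simpa using (hx _ _ h').map hg

theorem Full.smul {x : V} (hx : Full H x) {c : F} (hc : c ≠ 0) : Full H (c • x) := by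
  intro z d h
  have h1 : D.IsEich x z d := by simpa [smul_smul, hc] using h.smul_left c⁻¹
  refine In.smul hc (hx _ _ ?_)
  simpa [K.σσ, mul_comm] using h1.smul (σ c)

theorem Full.trans {t x y : V} (ht : Full H t) (hx : Full H x) (hQt : D.Q t = 0)
    (hQx : D.Q x = 0) (hQy : D.Q y = 0) (h1 : D.B t x ≠ 0) (h2 : D.B t y ≠ 0) : Full H y := by
  set c := D.B t x / D.B t y with hc
  have hc0 : c ≠ 0 := div_ne_zero h1 h2
  obtain ⟨d, h, hm⟩ := D.exists_eich_map (e := t) (x := x) (y := c • y) hQt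
    (by rw [D.B_smul_right, hc, div_mul_cancel₀ _ h2]) h1 (by rw [hQx, D.Q_smul_of_Q hQy])
  have := (hx.map (ht _ _ h).2).smul (inv_ne_zero hc0)
  rwa [hm, smul_smul, inv_mul_cancel₀ hc0, one_smul] at this

theorem E_le_of_full [FiniteDimensional F V] (hD : D.Nondeg) (hR : D.Rich 3) {e f : V}
    (hQe : D.Q e = 0) (hQf : D.Q f = 0) (he : Full H e) (hf : Full H f) (hB : D.B e f ≠ 0) :
    D.E ≤ H := by
  refine E_le fun s z d h => ?_
  by_cases hs : s = 0
  · subst hs
    have : D.eich 0 z d h = 1 := isom_ext fun y => by simp [eich_apply, isom_one_apply]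
    rw [this]; exact H.one_mem
  have he0 : e ≠ 0 := by rintro rfl; simp at hB
  obtain ⟨t, hQt, h1, h2⟩ := hD.exists_B_ne_zero hR hQe he0 h.Q_e hs
  have ht : Full H t := he.trans hf hQe hQf hQt hB (D.ne_zero_symm h1)
  exact ((ht.trans he hQt hQe h.Q_e h1 h2) z d h).2

/-- The vectors `z` occurring in an Eichler element of `H` with centre `e`. -/
def A (H : Subgroup D.isom) (e : V) (he : D.Q e = 0) : AddSubgroup V where
  carrier := {z | ∃ d, In H e z d}
  zero_mem' := ⟨0, In.zero he⟩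
  add_mem' := fun ⟨_, h⟩ ⟨_, h'⟩ => ⟨_, h.mul h'⟩
  neg_mem' := fun ⟨_, h⟩ => ⟨_, h.inv⟩

theorem mem_A {e z : V} {he : D.Q e = 0} : z ∈ A H e he ↔ ∃ d, In H e z d := Iff.rfl

theorem A_map {e z : V} {he : D.Q e = 0} (hz : z ∈ A H e he) {g : D.isom} (hg : g ∈ H)
    (hge : g.1 e = e) : g.1 z ∈ A H e he :=
  let ⟨d, h⟩ := hz
  ⟨d, (h.map hg).congr hge rfl rfl⟩

theorem A_map_smul {e z : V} {he : D.Q e = 0} (hz : z ∈ A H e he) {g : D.isom} (hg : g ∈ H)
    {t : F} (ht : t ≠ 0) (hge : g.1 e = t • e) : σ t • g.1 z ∈ A H e he :=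
  let ⟨_, h⟩ := hz
  ⟨_, ((h.map hg).congr hge rfl rfl).of_smul ht⟩

theorem smul_mem_A {e : V} {he : D.Q e = 0} (c : F) : c • e ∈ A H e he :=
  ⟨_, ((In.zero he).add_smul c).congr rfl (zero_add _) rfl⟩

theorem A_tv {e z p : V} {he : D.Q e = 0} (hz : z ∈ A H e he) {d : F} (hp : In H p 0 d)
    (hB : D.B p e = 0) : (K.ε * d * D.B p z) • p ∈ A H e he := by
  have h1 := A_map hz hp.2 (by simp [eich_apply, hB])
  have h2 := (A H e he).sub_mem hz h1
  convert h2 using 1
  simp only [eich_apply, D.B_lin]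
  module

theorem eq_top_of_mul {S : AddSubgroup F} {s : F} (hs : s ∈ S) (h0 : s ≠ 0) {M : Set F}
    (hM : ∀ m ∈ M, ∀ x ∈ S, m * x ∈ S) (hgen : ∀ R : Subring F, M ⊆ R → R = ⊤) (x : F) :
    x ∈ S := by
  let R : Subring F :=
    { carrier := {r | ∀ x ∈ S, r * x ∈ S}
      mul_mem' := fun {a b} ha hb x hx => by rw [mul_assoc]; exact ha _ (hb _ hx)
      one_mem' := fun x hx => by rwa [one_mul]
      add_mem' := fun {a b} ha hb x hx => by rw [add_mul]; exact S.add_mem (ha _ hx) (hb _ hx)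
      zero_mem' := fun x _ => by rw [zero_mul]; exact S.zero_mem
      neg_mem' := fun {a} ha x hx => by rw [neg_mul]; exact S.neg_mem (ha _ hx) }
  have hR : R = ⊤ := hgen R hM
  have : x / s ∈ R := hR ▸ Subring.mem_top _
  have := this s hs
  rwa [div_mul_cancel₀ _ h0] at this

/-- `u` is a regular unipotent isometry with Jordan basis `e 0, …, e l`. -/
structure Reg (D : Form K V) (u : D.isom) (l : ℕ) (e : ℕ → V) : Prop where
  u0 : u.1 (e 0) = e 0
  us : ∀ i, i < l → u.1 (e (i + 1)) = e (i + 1) + e i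
  perp : ∀ z, D.B (e 0) z = 0 → z ∈ Submodule.span F (e '' {i | i < l})
  Q0 : D.Q (e 0) = 0

theorem Reg.core {u w : D.isom} {l : ℕ} {e : ℕ → V} (hR : Reg D u (l + 1) e) (hl : 1 ≤ l)
    (hu : u ∈ H) (hw : w ∈ H) {d γ : F} (hT : In H (e 0) 0 d) (hd : d ≠ 0) (hγ : γ ≠ 0)
    (hw1 : w.1 (e 1) = e 0) (hw0 : w.1 (e 0) = γ • e l) (h01 : D.B (e 0) (e 1) = 0)
    (hG : D.B (e l) (e 1) ≠ 0)
    (hgen : ∀ R : Subring F, (∀ j ≤ l, K.ε * d * (γ * σ γ) * D.B (e l) (e j) ∈ R) → R = ⊤)
    (z : V) (hz : D.B (e 0) z = 0) : z ∈ A H (e 0) hR.Q0 := by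
  set B := A H (e 0) hR.Q0
  have h1 : In H (e 1) 0 d := by
    have := hT.map (H.inv_mem hw)
    rwa [← hw1, isom_inv_apply, map_zero] at this
  have hc : In H (γ • e l) 0 d := by
    have := hT.map hw
    rwa [hw0, map_zero] at this
  have hc0 : D.B (γ • e l) (e 0) = 0 := by
    rw [← hw0]; nth_rewrite 2 [← hw1]; rw [B_isom, h01]
  have h2 : d • e 1 ∈ B := by
    have := h1.map hu
    rw [hR.us 0 (by omega), map_zero] at this
    exact ⟨d, In.sub_left hR.Q0 h01 this h1⟩
  have h3 : ∀ (s : F) i, i ≤ l → s • e (i + 1) ∈ B → s • e i ∈ B := fun s i hi h => by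
    have := B.sub_mem (A_map h hu hR.u0) h
    rwa [map_smul, hR.us i (by omega), smul_add, add_sub_cancel_left] at this
  have h4 : ∀ (s : F), s • e l ∈ B → ∀ j ≤ l, s • e j ∈ B := fun s h j hj => by
    induction hj using Nat.decreasingInduction with
    | self => exact h
    | of_succ k hk ih => exact h3 s k hk.le ih
  have h5 : ∀ (s : F) j, s • e j ∈ B →
      (K.ε * d * (γ * σ γ) * D.B (e l) (e j) * s) • e l ∈ B := fun s j h => by
    have := A_tv h hc hc0
    rw [smul_smul, D.B_smul_left, D.B_smul_right] at this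
    convert this using 2
    ring
  let S : AddSubgroup F := B.comap ((LinearMap.toSpanSingleton F V (e l)).toAddMonoidHom)
  have hS : ∀ s, s ∈ S ↔ s • e l ∈ B := fun s => Iff.rfl
  have h6 : ∀ s, s ∈ S := by
    refine eq_top_of_mul ((hS _).2 (h5 _ _ h2)) ?_
      (M := {m | ∃ j ≤ l, m = K.ε * d * (γ * σ γ) * D.B (e l) (e j)}) ?_ ?_
    · exact mul_ne_zero (mul_ne_zero (mul_ne_zero (mul_ne_zero K.ε_ne_zero hd)
        (K.norm_ne_zero hγ)) hG) hd
    · rintro m ⟨j, hj, rfl⟩ x hx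
      exact (hS _).2 (h5 _ _ (h4 _ ((hS _).1 hx) j hj))
    · exact fun R hR' => hgen R fun j hj => hR' ⟨j, hj, rfl⟩
  have h7 : ∀ z ∈ Submodule.span F (e '' {i | i < l + 1}), ∀ s : F, s • z ∈ B := by
    intro z hz
    induction hz using Submodule.span_induction with
    | mem x hx =>
      obtain ⟨j, hj, rfl⟩ := hx
      exact fun s => h4 s ((hS s).1 (h6 s)) j (Nat.lt_succ_iff.1 hj)
    | zero => intro s; rw [smul_zero]; exact B.zero_mem
    | add x y _ _ hx hy => intro s; rw [smul_add]; exact B.add_mem (hx s) (hy s)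
    | smul a x _ hx => intro s; rw [smul_smul]; exact hx _
  simpa using h7 z (hR.perp z hz) 1

theorem In.comm {e z z' : V} {d d' : F} (h : In H e z d) (h' : In H e z' d') :
    In H e 0 (D.B z z' - D.B z' z) := by
  refine (((h.mul h').mul h.inv).mul h'.inv).congr rfl (by abel) ?_
  have h1 := h.1.B_zz
  have h2 := h'.1.B_zz
  simp only [D.B_lin]
  linear_combination -h1 - h2

theorem full_of {e : V} {he : D.Q e = 0} (hA : ∀ z, D.B e z = 0 → z ∈ A H e he)
    (hZ : ∀ d, K.tr d = 0 → In H e 0 d) : Full H e := by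
  intro z d h
  obtain ⟨δ, hδ⟩ := hA z h.B_ez
  refine (hδ.mul (hZ (d - δ) ?_)).congr rfl (add_zero _) (by simp)
  rw [map_sub, h.tr_d, hδ.1.tr_d, sub_self]

theorem In.add_smul_left [FiniteDimensional F V] (hD : D.Nondeg) {p x : V} {d : F}
    (hA : ∀ z, D.B p z = 0 → ∃ δ, In H p z δ) (hx : In H x 0 d) (hB : D.B p x = 0)
    (hp : x ∉ F ∙ p) (t : F) : In H (x + t • p) 0 d := by
  obtain ⟨z, hz, ht⟩ := hD.exists_perp_B_eq hp t
  obtain ⟨δ, h, hm⟩ := hA z (D.mem_perp_span_singleton.1 hz)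
  have := hx.map hm
  rwa [eich_apply_of_perp _ h hB, ht, map_zero] at this

theorem exists_sq_sub_sq [Finite F] (x : F) : ∃ a b : F, x = a ^ 2 - b ^ 2 := by
  by_cases h2 : (2 : F) = 0
  · have : Function.Injective fun a : F => a ^ 2 := fun a b h => by
      have h' : (a - b) ^ 2 = 0 := by
        simp only at h
        linear_combination h + (b ^ 2 - a * b) * h2
      exact sub_eq_zero.1 (pow_eq_zero_iff (by norm_num) |>.1 h')
    obtain ⟨a, ha⟩ := Finite.injective_iff_surjective.1 this x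
    exact ⟨a, 0, by simp [← ha]⟩
  · exact ⟨(x + 1) / 2, (x - 1) / 2, by field_simp; ring⟩

theorem symp_top [Finite F] [FiniteDimensional F V] {D : Form (altKind F) V} {H : Subgroup D.isom}
    (hD : D.Nondeg) {e : V} {d : F} (hT : In H e 0 d) (hd : d ≠ 0)
    (hA : ∀ z, D.B e z = 0 → ∃ δ, In H e z δ) {w g : D.isom} (hw : w ∈ H) (hg : g ∈ H)
    (hc : D.B e (w.1 e) = 0) (hc' : w.1 e ∉ F ∙ e) (hB : D.B e (g.1 e) ≠ 0) : H = ⊤ := by
  set c := w.1 e with hce
  have he0 : e ≠ 0 := by rintro rfl; simp at hB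
  have hAc : ∀ z, D.B c z = 0 → ∃ δ, In H c z δ := fun z hz => by
    obtain ⟨δ, h⟩ := hA ((w⁻¹).1 z) (by rwa [← B_isom_left])
    exact ⟨δ, by simpa using h.map hw⟩
  have he' : e ∉ F ∙ c := fun h => by
    obtain ⟨a, ha⟩ := Submodule.mem_span_singleton.1 h
    have ha0 : a ≠ 0 := by rintro rfl; exact he0 (by simpa using ha.symm)
    exact hc' (Submodule.mem_span_singleton.2
      ⟨a⁻¹, by rw [← ha, smul_smul, inv_mul_cancel₀ ha0, one_smul]⟩)
  have h1 : ∀ t : F, In H c 0 (t ^ 2 * d) := fun t => by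
    by_cases ht : t = 0
    · exact (In.zero (alt_Q D c)).congr rfl rfl (by simp [ht])
    have h2 := In.add_smul_left hD hAc hT (D.eq_zero_symm hc) he' t
    have h3 := In.add_smul_left hD hA h2
      (by rw [D.B_add_right, D.B_smul_right, hc, Symp.B_self]; simp) (fun h => by
        have h4 := Submodule.sub_mem _ h (Submodule.mem_span_singleton_self e)
        rw [add_sub_cancel_left] at h4
        exact hc' ((Submodule.smul_mem_iff _ ht).1 h4)) (-1)
    have h4 : In H (t • c) 0 d := h3.congr (by module) rfl rfl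
    exact (h4.of_smul ht).congr rfl (smul_zero _) (by rw [RingHom.id_apply]; ring)
  have h2 : ∀ s : F, In H e 0 s := fun s => by
    obtain ⟨a, b, h⟩ := exists_sq_sub_sq (s / d)
    have h3 := ((h1 a).add (h1 b).neg).map (H.inv_mem hw)
    rw [hce, isom_inv_apply, map_zero] at h3
    refine h3.congr rfl rfl ?_
    rw [← sub_eq_add_neg, ← sub_mul, ← h, div_mul_cancel₀ _ hd]
  have hf : Full H e := full_of (he := alt_Q D e) hA fun d _ => h2 d
  rw [eq_top_iff, ← Symp.E_eq_top hD]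
  exact E_le_of_full hD (Symp.rich D 3) (alt_Q D e) (alt_Q D _) hf (hf.map hg) hB

theorem herm_le [FiniteDimensional F V] {q : ℕ} {h : IsConj σ q} {D : Form h.kind V}
    {H : Subgroup D.isom} (hD : D.Nondeg) (hn : 3 ≤ finrank F V) {e : V} (he : D.Q e = 0)
    (hA : ∀ z, D.B e z = 0 → ∃ δ, In H e z δ) {x y : V} (hx : D.B e x = 0) (hy : D.B e y = 0)
    (hxy : D.B x y ≠ 0) {g : D.isom} (hg : g ∈ H) (hB : D.B e (g.1 e) ≠ 0) :
    D.det.ker ≤ H := by
  have hf : Full H e := full_of (he := he) hA fun d hd => by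
    obtain ⟨b, hb⟩ := h.exists_trace_eq (a := 1) (map_one σ)
    obtain ⟨δ, h1⟩ := hA x hx
    obtain ⟨δ', h2⟩ := hA ((d * b / D.B x y) • y) (by rw [D.B_smul_right, hy, mul_zero])
    refine (h1.comm h2).congr rfl rfl ?_
    rw [← herm_symm D x, D.B_smul_right, div_mul_cancel₀ _ hxy, map_mul]
    rw [hermKind_tr] at hd
    linear_combination d * hb - σ b * hd
  rw [← Herm.E_eq hD hn]
  exact E_le_of_full hD (Herm.rich D 3) he (by simpa using he) hf (hf.map hg) hB

end Cfsg.Lib.Linear.EG
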