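import Cfsg.Agent.Lib.Stein.St
import Cfsg.Prelude.Def_LinearParabolics

/-! Double cosets of standard parabolic subgroups of `GL_n` and of Young subgroups. -/

set_option autoImplicit false

namespace Cfsg.Lib.Linear

open Cfsg Cfsg.Lib.Char Cfsg.Lib.Stein Finset Matrix Equiv

theorem inner_fix_eq_card {G S M : Type*} [Group G] [Fintype G] (H K : Subgroup G) (ρ : S → G) (φ : S → M)
    (h1 : ∀ g, ∃ s, ∃ u ∈ K, ∃ v ∈ H, g = u * ρ s * v)
    (h2 : ∀ s t, φ s = φ t ↔ ∃ u ∈ K, ∃ v ∈ H, ρ t = u * ρ s * v) :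
    classInner (fixedPointCharacter H) (fixedPointCharacter K) = Nat.card (Set.range φ) := by
  rw [inner_fix K (isCharacter_fix H).isClassFunction, avg_fix, Nat.cast_inj, eq_comm]
  have key : ∀ x y : G, (Quotient.mk'' (x : G ⧸ H) : MulAction.orbitRel.Quotient K (G ⧸ H)) = Quotient.mk'' (y : G ⧸ H) ↔
      ∃ u ∈ K, ∃ v ∈ H, x = u * y * v := fun x y => by
    rw [Quotient.eq'', MulAction.orbitRel_apply]
    refine ⟨fun ⟨u, e⟩ => ⟨u, u.2, _, QuotientGroup.eq.1 e, by simp [Subgroup.smul_def, mul_assoc]⟩, ?_⟩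
    rintro ⟨u, hu, v, hv, rfl⟩
    exact ⟨⟨u, hu⟩, QuotientGroup.eq.2 (by simpa [Subgroup.smul_def, mul_assoc] using hv)⟩
  refine Nat.card_eq_of_bijective (fun m => Quotient.mk'' (ρ m.2.choose : G ⧸ H)) ⟨fun m m' e => ?_, fun c => ?_⟩
  · exact Subtype.ext (m.2.choose_spec.symm.trans (((h2 _ _).2 ((key _ _).1 e)).symm.trans m'.2.choose_spec))
  · obtain ⟨c, rfl⟩ := Quotient.mk''_surjective c
    obtain ⟨g, rfl⟩ := QuotientGroup.mk_surjective c
    obtain ⟨s, h⟩ := h1 g
    exact ⟨⟨_, s, rfl⟩, ((key _ _).2 ((h2 _ _).1 (Exists.choose_spec (⟨s, rfl⟩ : ∃ t, φ t = φ s)).symm)).trans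
      ((key _ _).2 h).symm⟩

theorem exists_equiv_of_card {ι ι' κ : Type*} [Fintype ι] [Fintype ι'] [DecidableEq κ] {f : ι → κ} {g : ι' → κ}
    (h : ∀ c, #{i | f i = c} = #{i | g i = c}) : ∃ e : ι ≃ ι', ∀ i, g (e i) = f i :=
  ⟨_, ofFiberEquiv_map fun c => Fintype.equivOfCardEq (by simpa [Fintype.card_subtype] using h c)⟩

variable {n : ℕ}

/-- `a` is the block labelling of the composition `μ`. -/
structure IsLab (μ : Fin n → ℕ) (a : Fin n → Fin n) : Prop where
  eq : ∀ i, compLabel μ i = a i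
  mono : Monotone a
  card : ∀ s, #{i | a i = s} = μ s

theorem exists_isLab {μ : Fin n → ℕ} (hμ : ∑ i, μ i = n) : ∃ a, IsLab μ a := by
  set S : Fin n → ℕ := fun j => ∑ k with k ≤ j, μ k with hS
  have h1 : Monotone S := fun j j' h => sum_le_sum_of_subset fun k => by simpa using fun h' => h'.trans h
  have h2 : ∀ (i : Fin n) (s : Fin n), compLabel μ i ≤ s ↔ i < S s := fun i s => by
    change #{j | S j ≤ i} ≤ s ↔ _
    refine ⟨fun h => lt_of_not_ge fun h' => ?_, fun h => ?_⟩
    · have := card_le_card (show Iic s ⊆ univ.filter (S · ≤ i) from fun j hj => by simpa using (h1 (mem_Iic.1 hj)).trans h')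
      rw [Fin.card_Iic] at this; omega
    · rw [← Fin.card_Iio s]
      exact card_le_card fun j hj => mem_Iio.2 (lt_of_not_ge fun h' => by have := h1 h'; simp at hj; omega)
  have h3 : ∀ i, compLabel μ i < n := fun i => by
    have := (h2 i ⟨n - 1, by have := i.2; omega⟩).2 (by
      rw [hS]; dsimp only; rw [filter_true_of_mem fun k _ => Fin.le_def.2 (by have := k.2; simp; omega), hμ]; exact i.2)
    have := i.2; dsimp only at *; omega
  have h4 : ∀ s : Fin n, #{i : Fin n | compLabel μ i ≤ s} = S s := fun s => by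
    simp only [h2]
    rw [Fin.card_filter_val_lt, min_eq_right (hμ ▸ sum_le_sum_of_subset (subset_univ _))]
  refine ⟨fun i => ⟨_, h3 i⟩, fun _ => rfl, fun i j h => Fin.le_def.2 (card_le_card
    (show univ.filter (S · ≤ i) ⊆ univ.filter (S · ≤ j) from fun k => by simpa using fun h' => h'.trans h)), fun s => ?_⟩
  induction s using WellFoundedLT.induction with
  | ind s ih =>
  have h5 := card_eq_sum_card_fiberwise (s := univ.filter fun i : Fin n => compLabel μ i ≤ s) (t := univ.filter (· ≤ s))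
    (f := fun i => (⟨_, h3 i⟩ : Fin n)) fun i hi => mem_coe.2 (mem_filter.2 ⟨mem_univ _, (mem_filter.1 hi).2⟩)
  rw [h4, hS] at h5
  have h6 : s ∈ ({k | k ≤ s} : Finset (Fin n)) := by simp
  dsimp only at h5
  rw [← add_sum_erase _ _ h6, ← add_sum_erase _ _ h6, sum_congr rfl fun k hk => (ih k (by simpa [lt_iff_le_and_ne, and_comm] using hk)).symm,
    sum_congr rfl fun k hk => show #{i ∈ ({i : Fin n | compLabel μ i ≤ s} : Finset _) | (⟨_, h3 i⟩ : Fin n) = k} =
      #{i | (⟨_, h3 i⟩ : Fin n) = k} from ?_, add_left_inj] at h5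
  · rw [h5, filter_filter]; exact congrArg _ (filter_congr fun i _ => by simp +contextual [Fin.ext_iff])
  · rw [filter_filter]; refine congrArg _ (filter_congr fun i _ => and_iff_right_of_imp ?_)
    rintro rfl; simpa [Fin.le_def] using (mem_filter.1 (mem_of_mem_erase hk)).2

variable {F : Type*} [Field F] {α β : Fin n → ℕ} {a b : Fin n → Fin n}

theorem IsLab.mem_par (h : IsLab α a) {g : GL (Fin n) F} : g ∈ parabolicGL n F α ↔ ∀ i j, a j < a i → g i j = 0 :=
  forall₂_congr fun i j => by rw [h.eq, h.eq]; rfl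

theorem IsLab.mem_young (h : IsLab α a) {g : Perm (Fin n)} : g ∈ youngSubgroup α ↔ ∀ i, a (g i) = a i :=
  forall_congr' fun i => by rw [h.eq, h.eq, Fin.val_inj]

/-- Bruhat decomposition. -/
theorem exists_bruhat (g : GL (Fin n) F) :
    ∃ σ : Perm (Fin n), ∃ v ∈ upperTriangularGL n F, ∀ i j, σ j < i → (g * v) i j = 0 := by
  classical
  have ex : ∃ N, ∃ p : Fin n → ℕ, ∑ j, p j = N ∧ ∃ v ∈ upperTriangularGL n F, ∀ (i : Fin n) j, p j ≤ i → (g * v) i j = 0 :=
    ⟨_, fun _ => n, rfl, 1, one_mem _, fun i _ h => absurd i.2 h.not_gt⟩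
  obtain ⟨p, hp, v, hv, h⟩ := Nat.find_spec ex
  have hm : ∀ j m, ∀ w ∈ upperTriangularGL n F, (∀ (i : Fin n) k, Function.update p j m k ≤ i → (g * w) i k = 0) → p j ≤ m :=
    fun j m w hw h' => by
      have := Nat.find_min' ex ⟨_, rfl, w, hw, h'⟩
      rw [← hp, sum_update_of_mem (mem_univ _), ← add_sum_erase _ _ (mem_univ j), sdiff_singleton_eq_erase] at this
      omega
  have h1 : ∀ j, ∃ i : Fin n, p j = i + 1 ∧ (g * v) i j ≠ 0 := fun j => by
    by_contra! H
    have h0 : p j ≠ 0 := fun h0 => (g * v).det_ne_zero (det_eq_zero_of_column_eq_zero j fun i => h i j (by omega))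
    have := hm j (p j - 1) v hv fun i k hk => ?_
    · omega
    rcases eq_or_ne k j with rfl | hkj
    · rw [Function.update_self] at hk
      exact (em (p k = i + 1)).elim (H i) fun _ => h i k (by omega)
    · exact h i k (by rwa [Function.update_of_ne hkj] at hk)
  choose σ h1 h2 using h1
  have h3 : ∀ j k, j < k → σ j ≠ σ k := fun j k hjk e => by
    have := hm k (σ k) (v * (SpecialLinearGroup.transvection hjk.ne (-((g * v) (σ k) k / (g * v) (σ j) j))).toGL)
      (mul_mem hv (show BlockTriangular (transvection j k _) id from blockTriangular_transvection hjk.le _)) fun i l hl => ?_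
    · have := h1 k; omega
    rw [← mul_assoc]
    change (((g * v : GL (Fin n) F) : Matrix _ _ F) * transvection j k _ : Matrix _ _ F) i l = 0
    rcases eq_or_ne l k with rfl | hkj
    · rw [Function.update_self] at hl
      rw [mul_transvection_apply_same]
      rcases (Fin.le_def.2 hl).eq_or_lt with rfl | h4
      · have := h2 j; rw [e] at this ⊢; field_simp; simp
      · rw [h i l (h1 l ▸ h4), h i j (h1 j ▸ e ▸ h4)]; simp
    · rw [mul_transvection_apply_of_ne _ _ _ _ hkj]
      exact h i l (by rwa [Function.update_of_ne hkj] at hl)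
  refine ⟨ofBijective σ (Finite.injective_iff_bijective.1 fun j k e => ?_), v, hv, fun i j h' => h i j (h1 j ▸ h')⟩
  rcases lt_trichotomy j k with h | h | h
  exacts [absurd e (h3 _ _ h), h, absurd e.symm (h3 _ _ h)]

variable (F) in
/-- Permutation matrices. -/
def permGL : Perm (Fin n) →* GL (Fin n) F := (permMatrixHom (R := F)).toHomUnits

theorem permGL_apply (σ : Perm (Fin n)) (i j : Fin n) : permGL F σ i j = if i = σ j then 1 else 0 := by
  simp [permGL, PEquiv.toMatrix_apply, Perm.inv_def, symm_apply_eq]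

theorem mul_permGL_apply (g : GL (Fin n) F) (σ : Perm (Fin n)) (i j : Fin n) : (g * permGL F σ) i j = g i (σ j) := by
  simp [mul_apply, permGL_apply]

theorem IsLab.upper_le (h : IsLab α a) : upperTriangularGL n F ≤ parabolicGL n F α :=
  fun _ hg => h.mem_par.2 fun _ _ h' => hg (h.mono.reflect_lt h')

theorem exists_bruhat_par (ha : IsLab α a) (hb : IsLab β b) (g : GL (Fin n) F) :
    ∃ σ, ∃ u ∈ parabolicGL n F α, ∃ v ∈ parabolicGL n F β, g = u * permGL F σ * v :=
  let ⟨σ, v, hv, h⟩ := exists_bruhat g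
  ⟨σ, g * v * permGL F σ⁻¹, ha.upper_le fun i j h' => (mul_permGL_apply _ _ _ _).trans (h _ _ (by simpa using h')),
    v⁻¹, hb.upper_le (inv_mem hv), by simp⟩

/-- The matrices of natural numbers with prescribed row and column sums. -/
noncomputable def Tab (α β : Fin n → ℕ) : Finset (Fin n → Fin n →₀ ℕ) :=
  (Fintype.piFinset fun t => finsuppAntidiag univ (β t)).filter fun m => ∑ t, m t = Finsupp.equivFunOnFinite.symm α

theorem mem_Tab {m : Fin n → Fin n →₀ ℕ} : m ∈ Tab α β ↔ (∀ t, ∑ s, m t s = β t) ∧ ∀ s, ∑ t, m t s = α s := by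
  simp [Tab, Finsupp.ext_iff, Finsupp.finsetSum_apply]

/-- The intersection matrix of two labellings in relative position `σ`. -/
noncomputable def cnt (a b : Fin n → Fin n) (σ : Perm (Fin n)) : Fin n → Fin n →₀ ℕ :=
  fun t => Finsupp.equivFunOnFinite.symm fun s => #{j | b j = t ∧ a (σ j) = s}

theorem cnt_eq_iff {σ τ : Perm (Fin n)} :
    cnt a b σ = cnt a b τ ↔ ∀ t s, #{j | b j = t ∧ a (σ j) = s} = #{j | b j = t ∧ a (τ j) = s} := by
  simp [cnt, funext_iff]

theorem range_cnt (ha : IsLab α a) (hb : IsLab β b) : Set.range (cnt a b) = Tab α β := by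
  ext m
  rw [mem_coe, mem_Tab]
  constructor
  · rintro ⟨σ, rfl⟩
    refine ⟨fun t => ?_, fun s => ?_⟩
    · rw [← hb.card, card_eq_sum_card_fiberwise (f := fun j => a (σ j)) (t := univ) (by simp)]
      simp [cnt, filter_filter]
    · rw [← ha.card, ← card_equiv σ (s := univ.filter fun j => a (σ j) = s) (by simp),
        card_eq_sum_card_fiberwise (f := b) (t := univ) (by simp)]
      simp [cnt, filter_filter, and_comm]
  rintro ⟨h1, h2⟩
  have h3 : ∀ t s, #{x : Σ p : Fin n × Fin n, Fin (m p.1 p.2) | x.1.1 = t ∧ x.1.2 = s} = m t s := fun t s => by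
    simp only [card_filter, Fintype.sum_sigma, Fintype.sum_prod_type, ite_and]; simp [apply_ite card]
  obtain ⟨e, he⟩ := exists_equiv_of_card (f := b) (g := fun x : Σ p : Fin n × Fin n, Fin (m p.1 p.2) => x.1.1) fun t => by
    rw [hb.card, ← h1, card_eq_sum_card_fiberwise (f := fun x => x.1.2) (t := univ) (by simp)]
    simp [filter_filter, h3]
  obtain ⟨e', he'⟩ := exists_equiv_of_card (g := a) (f := fun x : Σ p : Fin n × Fin n, Fin (m p.1 p.2) => x.1.2) fun t => by
    rw [ha.card, ← h2, card_eq_sum_card_fiberwise (f := fun x => x.1.1) (t := univ) (by simp)]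
    simp [filter_filter, and_comm, ← h3]
  refine ⟨e.trans e', funext fun t => Finsupp.ext fun s => ?_⟩
  rw [← h3]
  simp only [cnt, Finsupp.equivFunOnFinite_symm_apply_apply]
  exact card_equiv e fun j => by simp [he, he']

theorem cnt_eq_iff_young (ha : IsLab α a) (hb : IsLab β b) (σ τ : Perm (Fin n)) :
    cnt a b σ = cnt a b τ ↔ ∃ u ∈ youngSubgroup α, ∃ v ∈ youngSubgroup β, τ = u * σ * v := by
  rw [cnt_eq_iff]
  refine ⟨fun h => ?_, ?_⟩
  · obtain ⟨v, hv⟩ := exists_equiv_of_card (g := fun j => (b j, a (σ j))) (f := fun j => (b j, a (τ j))) fun c => by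
      simpa [Prod.ext_iff] using (h c.1 c.2).symm
    simp only [Prod.ext_iff] at hv
    refine ⟨τ * (σ * v)⁻¹, ha.mem_young.2 fun i => ?_, v, hb.mem_young.2 fun j => (hv j).1, by group⟩
    obtain ⟨j, rfl⟩ := (σ * v : Perm _).surjective i
    simpa using (hv j).2.symm
  · rintro ⟨u, hu, v, hv, rfl⟩ t s
    exact (card_equiv v (by simp [ha.mem_young.1 hu, hb.mem_young.1 hv])).symm

theorem rank_le_par (ha : IsLab α a) (hb : IsLab β b) (s t : ℕ) {u v : GL (Fin n) F} (hu : u ∈ parabolicGL n F α)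
    (hv : v ∈ parabolicGL n F β) (g : GL (Fin n) F) :
    (diagonal (fun i => if s ≤ a i then (1 : F) else 0) * (u * g * v : GL (Fin n) F).1 *
      diagonal fun j => if b j < t then (1 : F) else 0).rank ≤
    (diagonal (fun i => if s ≤ a i then (1 : F) else 0) * g.1 * diagonal fun j => if b j < t then (1 : F) else 0).rank := by
  set D := diagonal fun i => if s ≤ a i then (1 : F) else 0
  set E := diagonal fun j => if b j < t then (1 : F) else 0
  have h1 : D * u.1 = D * u.1 * D := by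
    ext i j
    simp only [D, mul_diagonal, diagonal_mul]
    split_ifs <;> simp
    exact ha.mem_par.1 hu i j (by omega)
  have h2 : v.1 * E = E * (v.1 * E) := by
    ext i j
    simp only [E, mul_diagonal, diagonal_mul]
    split_ifs <;> simp
    exact hb.mem_par.1 hv i j (by omega)
  rw [Units.val_mul, Units.val_mul, ← mul_assoc, ← mul_assoc, mul_assoc _ v.1, h1, h2,
    show D * u.1 * D * g.1 * (E * (v.1 * E)) = D * u.1 * (D * g.1 * E * (v.1 * E)) by simp only [mul_assoc]]
  exact (rank_mul_le_right _ _).trans (rank_mul_le_left _ _)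

theorem rank_perm (s t : ℕ) (σ : Perm (Fin n)) :
    (diagonal (fun i => if s ≤ a i then (1 : F) else 0) * (permGL F σ).1 * diagonal fun j => if b j < t then (1 : F) else 0).rank =
      ∑ j, if b j < t ∧ s ≤ a (σ j) then 1 else 0 := by
  classical
  have : (diagonal (fun i => if s ≤ a i then (1 : F) else 0) * (permGL F σ).1 * diagonal fun j => if b j < t then (1 : F) else 0) =
      (permGL F σ).1 * diagonal fun j => if b j < t ∧ s ≤ a (σ j) then (1 : F) else 0 := by
    ext i j
    simp only [mul_diagonal, diagonal_mul, permGL_apply]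
    grind
  rw [this, rank_mul_eq_right_of_isUnit_det _ _ (permGL F σ).det_ne_zero.isUnit, rank_diagonal]
  simp [Fintype.card_subtype]

theorem cnt_eq_iff_par (ha : IsLab α a) (hb : IsLab β b) (σ τ : Perm (Fin n)) :
    cnt a b σ = cnt a b τ ↔ ∃ u ∈ parabolicGL n F α, ∃ v ∈ parabolicGL n F β, permGL F τ = u * permGL F σ * v := by
  refine ⟨fun h => ?_, fun ⟨u, hu, v, hv, e⟩ => cnt_eq_iff.2 fun t s => ?_⟩
  · obtain ⟨u, hu, v, hv, rfl⟩ := (cnt_eq_iff_young ha hb σ τ).1 h
    refine ⟨_, ha.mem_par.2 fun i j h => ?_, _, hb.mem_par.2 fun i j h => ?_, by rw [map_mul, map_mul]⟩ <;>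
      rw [permGL_apply, if_neg] <;> rintro rfl
    exacts [h.ne' (ha.mem_young.1 hu j), h.ne' (hb.mem_young.1 hv j)]
  have h1 : ∀ s t : ℕ, (∑ j, if b j < t ∧ s ≤ a (σ j) then 1 else 0) = ∑ j, if b j < t ∧ s ≤ a (τ j) then 1 else 0 := fun s t => by
    rw [← rank_perm (F := F), ← rank_perm (F := F)]
    refine le_antisymm ?_ (e ▸ rank_le_par ha hb s t hu hv _)
    rw [show permGL F σ = u⁻¹ * permGL F τ * v⁻¹ by simp [e, mul_assoc]]
    exact rank_le_par ha hb s t (inv_mem hu) (inv_mem hv) _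
  have h2 : ∀ σ : Perm (Fin n), #{j | b j = t ∧ a (σ j) = s} + (∑ j, if (b j : ℕ) < t + 1 ∧ (s : ℕ) + 1 ≤ a (σ j) then 1 else 0) +
      (∑ j, if (b j : ℕ) < t ∧ (s : ℕ) ≤ a (σ j) then 1 else 0) = (∑ j, if (b j : ℕ) < t + 1 ∧ (s : ℕ) ≤ a (σ j) then 1 else 0) +
      (∑ j, if (b j : ℕ) < t ∧ (s : ℕ) + 1 ≤ a (σ j) then 1 else 0) := fun σ => by
    simp only [card_filter, ← sum_add_distrib, Fin.ext_iff]
    exact sum_congr rfl fun j _ => by grind
  have := h2 σ
  have := h2 τ
  simp only [h1] at *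
  omega

theorem inner_par [Fintype (GL (Fin n) F)] (hα : ∑ i, α i = n) (hβ : ∑ i, β i = n) :
    classInner (fixedPointCharacter (parabolicGL n F β)) (fixedPointCharacter (parabolicGL n F α)) = #(Tab α β) := by
  obtain ⟨a, ha⟩ := exists_isLab hα
  obtain ⟨b, hb⟩ := exists_isLab hβ
  rw [inner_fix_eq_card _ _ _ _ (exists_bruhat_par ha hb) (cnt_eq_iff_par ha hb), range_cnt ha hb]
  simp

theorem inner_young (hα : ∑ i, α i = n) (hβ : ∑ i, β i = n) :
    classInner (fixedPointCharacter (youngSubgroup β)) (fixedPointCharacter (youngSubgroup α)) = #(Tab α β) := by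
  obtain ⟨a, ha⟩ := exists_isLab hα
  obtain ⟨b, hb⟩ := exists_isLab hβ
  rw [inner_fix_eq_card _ _ id _ (fun g => ⟨g, 1, one_mem _, 1, one_mem _, by simp⟩) (cnt_eq_iff_young ha hb), range_cnt ha hb]
  simp

end Cfsg.Lib.Linear
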