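import Cfsg.Agent.Lib.PGrp.TwoMax
import Cfsg.Agent.Lib.HH.Num

/-! Half-transitive `p`-groups of automorphisms (Isaacs–Passman). -/

set_option autoImplicit false

namespace Cfsg.Lib.Linear.Half

open Subgroup MulAction Cfsg.Lib.PGrp
open scoped commutatorElement

variable {G V : Type*} [Group G] [AddCommGroup V] [DistribMulAction G V] {p : ℕ}

/-- The norm map of a cyclic subgroup. -/
def nm (p : ℕ) (g : G) (v : V) : V := ∑ j ∈ Finset.range p, g ^ j • v

theorem nm_add (g : G) (v w : V) : nm p g (v + w) = nm p g v + nm p g w := by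
  simp [nm, Finset.sum_add_distrib]

theorem nm_fix {g : G} {v : V} (h : g • v = v) : nm p g v = p • v := by
  have : ∀ j : ℕ, g ^ j • v = v := fun j => (stabilizer G v).pow_mem h j
  simp [nm, this]

theorem smul_nm (h g : G) (v : V) : h • nm p g v = nm p (h * g * h⁻¹) (h • v) := by
  simp [nm, Finset.smul_sum, smul_smul]

theorem nm_sub {g : G} (hg : g ^ p = 1) (v : V) : nm p g (g • v - v) = 0 := by
  have := Finset.sum_range_sub (fun j => g ^ j • v) p
  simp only [hg, pow_zero, sub_self] at this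
  simpa [nm, smul_sub, smul_smul, pow_succ] using this

theorem fix_nm {g : G} (hg : g ^ p = 1) (v : V) : g • nm p g v = nm p g v := by
  have := nm_add (p := p) g (g • v - v) v
  rw [nm_sub hg, zero_add, sub_add_cancel] at this
  rw [smul_nm, mul_inv_cancel_right, this]

/-- Fixed points. -/
def fx (V : Type*) [AddCommGroup V] [DistribMulAction G V] (g : G) : AddSubgroup V where
  carrier := {v | g • v = v}
  add_mem' ha hb := by simp_all
  zero_mem' := smul_zero g
  neg_mem' h := by simp_all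

theorem card_fx_conj (h g : G) : Nat.card (fx V (h * g * h⁻¹)) = Nat.card (fx V g) :=
  Nat.card_congr
    { toFun := fun v => ⟨h⁻¹ • v, by
        have : (h * g * h⁻¹) • v.1 = v.1 := v.2
        change g • _ = _
        rw [eq_inv_smul_iff, smul_smul, smul_smul, this]⟩
      invFun := fun v => ⟨h • v, by
        have : g • v.1 = v.1 := v.2
        change (h * g * h⁻¹) • _ = _
        rw [smul_smul, inv_mul_cancel_right, mul_smul, this]⟩
      left_inv := fun v => by simp
      right_inv := fun v => by simp }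

theorem card_split [Finite V] (h2 : ∀ v : V, 2 • v = 0 → v = 0) {t z : G} (ht : t * t = 1)
    (hz : ∀ v : V, z • v = -v) : Nat.card V = Nat.card (fx V t) * Nat.card (fx V (z * t)) := by
  rw [← Nat.card_prod]
  refine le_antisymm (Nat.card_le_card_of_injective (fun v : V => ((⟨v + t • v, ?_⟩, ⟨v - t • v, ?_⟩) :
    fx V t × fx V (z * t))) fun v w h => ?_)
    (Nat.card_le_card_of_injective (fun x : fx V t × fx V (z * t) => x.1.1 + x.2.1) fun x y h => ?_)
  · change t • _ = _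
    rw [smul_add, smul_smul, ht, one_smul, add_comm]
  · change (z * t) • _ = _
    rw [mul_smul, smul_sub, smul_smul, ht, one_smul, hz, neg_sub]
  · simp only [Prod.mk.injEq, Subtype.mk.injEq] at h
    exact sub_eq_zero.1 (h2 _ (by rw [two_smul]; linear_combination (norm := abel1) h.1 + h.2))
  · have a1 : t • x.1.1 = x.1.1 := x.1.2
    have a2 : t • y.1.1 = y.1.1 := y.1.2
    have a3 : (z * t) • x.2.1 = x.2.1 := x.2.2
    have a4 : (z * t) • y.2.1 = y.2.1 := y.2.2
    rw [mul_smul, hz, neg_eq_iff_eq_neg] at a3 a4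
    have h' := congrArg (t • ·) h
    simp only [smul_add, a1, a2, a3, a4] at h h'
    have h1 : x.1.1 = y.1.1 := sub_eq_zero.1 (h2 _ (by rw [two_smul]; linear_combination (norm := abel1) h + h'))
    exact Prod.ext (Subtype.ext h1) (Subtype.ext (by rwa [h1, add_right_inj] at h))

variable (G V p) in
/-- The standing hypotheses. -/
structure HT : Prop where
  hf : ∀ g : G, (∀ v : V, g • v = v) → g = 1
  hs : ∀ v w : V, v ≠ 0 → w ≠ 0 → Nat.card (stabilizer G v) = Nat.card (stabilizer G w)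
  hp : ∀ v : V, p • v = 0 → v = 0
  pg : IsPGroup p G

namespace HT
variable [Finite G] (H : HT G V p)
include H

theorem ge {v w : V} (hv : v ≠ 0) (hw : w ≠ 0) (h : ∀ g : G, g • v = v → g • w = w) {g : G} (hg : g • w = w) :
    g • v = v :=
  (eq_of_le_of_card_ge (H := stabilizer G v) (K := stabilizer G w) h (H.hs w v hw hv).le).ge hg

omit [Finite G] in
theorem cancel {v w : V} (h : p • v = p • w) : v = w := sub_eq_zero.1 (H.hp _ (by rw [smul_sub, h, sub_self]))

theorem central' {z : G} (hz : z ∈ center G) (h1 : z ^ p = 1) (h0 : z ≠ 1) {u : V} (hu : z • u = u) : u = 0 := by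
  by_contra u0
  obtain ⟨v, hv⟩ := not_forall.1 fun h => h0 (H.hf z h)
  have h2 : nm p z (u + (z • v - v)) = p • u := by rw [nm_add, nm_sub h1, nm_fix hu, add_zero]
  have h3 := H.ge (v := u + (z • v - v)) (fun h => u0 (H.hp _ (by rw [← h2, h]; simp [nm]))) u0
    (fun g hg => H.cancel (by
      rw [smul_comm, ← h2, smul_nm, hg, mem_center_iff.1 hz g, mul_inv_cancel_right])) hu
  rw [smul_add, hu, add_right_inj] at h3
  exact hv (sub_eq_zero.1 (H.hp _ (by rw [← nm_fix h3, nm_sub h1])))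

variable [Fact p.Prime]

theorem central {z : G} (hz : z ∈ center G) (h0 : z ≠ 1) {u : V} (hu : z • u = u) : u = 0 := by
  obtain ⟨y, hy, h⟩ := exists_mem_orderOf_eq H.pg (H := zpowers z) (by simpa using h0)
  exact H.central' (zpowers_le.2 hz hy) (h ▸ pow_orderOf_eq_one y)
    (fun h1 => (Fact.out : p.Prime).ne_one (by rw [← h, h1, orderOf_one])) (zpowers_le (H := stabilizer G u).2 hu hy)

theorem nm_zero {e y : G} (he : e ^ p = 1) (hy : y ∈ center G) (h0 : y ≠ 1) {v : V} (hv : (e * y) • v = v) :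
    nm p e v = 0 := by
  refine H.central hy h0 ?_
  have h1 : (e * y) • nm p e v = nm p e v := by
    rw [smul_nm, hv, mem_center_iff.1 hy, mul_assoc y, mul_assoc y, ← mem_center_iff.1 hy]; simp
  rwa [mem_center_iff.1 hy, mul_smul, fix_nm he] at h1

theorem exists_fix [Nontrivial V] {e z : G} (hz : z ∈ center G) (h1 : orderOf z = p) (he : e ^ p = 1) :
    ∃ i : ℕ, ∃ v : V, v ≠ 0 ∧ (e * z ^ i) • v = v := by
  by_contra h; push Not at h
  obtain ⟨v, hv⟩ := exists_ne (0 : V)
  have hc : Commute e z := mem_center_iff.1 hz e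
  have h2 : ∀ i : ℕ, nm p (e * z ^ i) v = 0 := fun i => by
    by_contra h2
    refine h i _ h2 (fix_nm ?_ v)
    rw [(hc.pow_right i).mul_pow, he, ← pow_mul, mul_comm i, pow_mul, ← h1, pow_orderOf_eq_one]
    simp
  have h3 : ∑ i ∈ Finset.range p, nm p (e * z ^ i) v = ∑ j ∈ Finset.range p, e ^ j • nm p (z ^ j) v := by
    simp only [nm, Finset.smul_sum]
    rw [Finset.sum_comm]
    refine Finset.sum_congr rfl fun j _ => Finset.sum_congr rfl fun i _ => ?_
    rw [(hc.pow_right i).mul_pow, smul_smul, ← pow_mul, ← pow_mul, mul_comm i]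
  rw [Finset.sum_eq_zero fun i _ => h2 i, Finset.sum_eq_single 0 (fun j hj j0 => ?_)
    (fun h => absurd (Finset.mem_range.2 (Fact.out : p.Prime).pos) h)] at h3
  · rw [pow_zero, pow_zero, one_smul, nm_fix (one_smul _ _)] at h3
    exact hv (H.hp _ h3.symm)
  · rw [H.central (pow_mem hz j) (pow_ne_one_of_lt_orderOf j0 (h1 ▸ Finset.mem_range.1 hj))
      (fix_nm (by rw [← pow_mul, mul_comm, pow_mul, ← h1, pow_orderOf_eq_one, one_pow]) v), smul_zero]

theorem swap_aux {e y h : G} (hy : y ∈ center G) (y0 : y ≠ 1) (he : e ^ p = 1) {u w : V} (u0 : u ≠ 0)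
    (hu : e • u = u) (hw : (e * y) • w = w) (hh : h • (u + w) = u + w) (h1 : e⁻¹ * (h * e * h⁻¹) ∈ center G) :
    (h * e * h⁻¹ = e ∧ h • u = u) ∨ (h * e * h⁻¹ = e * y ∧ h • u = w) := by
  have h2 : p • h • u = nm p (h * e * h⁻¹) u + nm p (h * e * h⁻¹) w := by
    rw [← nm_add, smul_comm, ← hh, ← smul_nm, nm_add, nm_fix hu, H.nm_zero he hy y0 hw, add_zero]
  have h3 : (h * e * h⁻¹) ^ p = 1 := by rw [conj_pow, he]; simp
  by_cases a1 : h * e * h⁻¹ = e
  · rw [a1, nm_fix hu, H.nm_zero he hy y0 hw, add_zero] at h2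
    exact .inl ⟨a1, H.cancel h2⟩
  have h4 : nm p (h * e * h⁻¹) u = 0 := H.nm_zero h3 (inv_mem h1) (fun h => a1 (by
    rw [inv_eq_one, inv_mul_eq_one] at h; exact h.symm)) (by simpa [mul_assoc] using hu)
  by_cases a2 : h * e * h⁻¹ = e * y
  · rw [h4, a2, nm_fix hw, zero_add] at h2
    exact .inr ⟨a2, H.cancel h2⟩
  rw [h4, H.nm_zero h3 (mul_mem (inv_mem h1) hy) (fun h => a2 (by
    rw [inv_mul_eq_one, inv_mul_eq_iff_eq_mul] at h; exact h)) (by simpa [mul_assoc] using hw), add_zero] at h2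
  exact absurd ((smul_eq_zero_iff_eq h).1 (H.hp _ h2)) u0

theorem swap {e y : G} (hy : y ∈ center G) (y0 : y ≠ 1) (he : e ^ p = 1)
    (h1 : ∀ h, e⁻¹ * (h * e * h⁻¹) ∈ center G) {u w : V} (u0 : u ≠ 0) (w0 : w ≠ 0) (hu : e • u = u)
    (hw : (e * y) • w = w) : ∃ h : G, h * e * h⁻¹ = e * y ∧ h • u = w ∧ h • w = u := by
  by_contra h; push Not at h
  have h2 : u + w ≠ 0 := fun h2 => by
    rw [eq_neg_of_add_eq_zero_right h2, smul_neg, neg_inj, mem_center_iff.1 hy, mul_smul, hu] at hw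
    exact u0 (H.central hy y0 hw)
  have h3 := H.ge h2 u0 (fun g hg => (H.swap_aux hy y0 he u0 hu hw hg (h1 g)).elim And.right fun ⟨a, b⟩ =>
    absurd (by rwa [smul_add, b, add_comm, add_left_inj] at hg) (h g a b)) hu
  rw [smul_add, hu, add_right_inj] at h3
  rw [mem_center_iff.1 hy, mul_smul, h3] at hw
  exact w0 (H.central hy y0 hw)

theorem setup [Nontrivial V] {E : Subgroup G} [E.Normal] (h1 : IsElementaryAbelian p E) (h2 : Nat.card E = p ^ 2) :
    p = 2 ∧ ∃ e z : G, ∃ u : V, z ∈ center G ∧ z ≠ 1 ∧ z * z = 1 ∧ e * e = 1 ∧ u ≠ 0 ∧ e • u = u ∧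
      (∀ h, h * e * h⁻¹ = e ∨ h * e * h⁻¹ = e * z) ∧ ∃ h, h * e * h⁻¹ = e * z := by
  have hp : p.Prime := Fact.out
  obtain ⟨z, zE, hz, ho⟩ := exists_central_orderOf_eq H.pg E (by
    rintro rfl; rw [card_bot] at h2; exact (one_lt_pow₀ hp.one_lt two_ne_zero).ne h2)
  have : (zpowers z).Normal := normal_of_le_center (zpowers_le.2 hz)
  obtain ⟨e', eE, e1, -, e2⟩ := exists_mem_central_mod H.pg (zpowers z) E fun h => by
    have := card_le_of_le h
    rw [h2, Nat.card_zpowers, ho] at this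
    nlinarith [hp.one_lt]
  obtain ⟨i, u, u0, hu⟩ := H.exists_fix hz ho (h1.2 e' eE)
  set e := e' * z ^ i with he
  have e3 : ∀ h, e⁻¹ * (h * e * h⁻¹) ∈ zpowers z := fun h => by
    have h3 := this.conj_mem _ (inv_mem (e2 h)) e'⁻¹
    have h4 : e⁻¹ * (h * e * h⁻¹) = e'⁻¹ * ⁅e', h⁆⁻¹ * e'⁻¹⁻¹ := by
      have h5 := mem_center_iff.1 (pow_mem hz i)
      rw [he, mul_assoc h, mul_assoc e', ← h5 h⁻¹, h5 e', commutatorElement_def]
      simp only [mul_inv_rev, mul_assoc, inv_inv, inv_mul_cancel, mul_one]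
      rw [h5 h⁻¹, ← mul_assoc e' (z ^ i), h5 e', mul_assoc, ← mul_assoc h, h5 h]
      simp [mul_assoc]
    rwa [h4]
  have e4 : e ^ p = 1 := h1.2 _ (mul_mem eE (pow_mem zE i))
  have e5 : ∀ h, e⁻¹ * (h * e * h⁻¹) ∈ center G := fun h => zpowers_le.2 hz (e3 h)
  obtain ⟨g, hg⟩ : ∃ g, g * e ≠ e * g := by
    by_contra h; push Not at h
    refine u0 (H.central (mem_center_iff.2 h) (fun h => e1 ?_) hu)
    rw [eq_inv_of_mul_eq_one_left h]; exact inv_mem (npow_mem_zpowers z i)
  have y0 : e⁻¹ * (g * e * g⁻¹) ≠ 1 := fun h => hg (by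
    rw [inv_mul_eq_one, eq_mul_inv_iff_mul_eq] at h; exact h.symm)
  have hw : (e * (e⁻¹ * (g * e * g⁻¹))) • g • u = g • u := by
    rw [mul_inv_cancel_left, smul_smul, inv_mul_cancel_right, mul_smul, hu]
  have w0 : g • u ≠ 0 := by rwa [Ne, smul_eq_zero_iff_eq]
  obtain ⟨h, a1, a2, a3⟩ := H.swap (e5 g) y0 e4 e5 u0 w0 hu hw
  set y := e⁻¹ * (g * e * g⁻¹)
  have yy : y * y = 1 := by
    by_contra yy
    refine u0 (H.central (mul_mem (e5 g) (e5 g)) yy ?_)
    have h3 : (h * (e * y) * h⁻¹) • u = u := by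
      conv_lhs => rw [← a3, smul_smul, inv_mul_cancel_right, mul_smul, hw, a3]
    rwa [mem_center_iff.1 (e5 g) e, ← mul_assoc, mem_center_iff.1 (e5 g) h, mul_assoc, mul_assoc, ← mul_assoc h, a1,
      mem_center_iff.1 (e5 g) e, ← mul_assoc, mul_smul, hu] at h3
  obtain rfl : p = 2 := by
    have h3 : orderOf y = 2 := orderOf_eq_prime (by rw [sq, yy]) y0
    have h4 := orderOf_dvd_of_mem_zpowers (e3 g)
    rw [h3, ho] at h4
    exact ((Nat.prime_dvd_prime_iff_eq Nat.prime_two hp).1 h4).symm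
  have key : ∀ x ∈ zpowers z, x = 1 ∨ x = z := fun x hx => by
    classical
    rw [mem_zpowers_iff_mem_range_orderOf, ho] at hx
    obtain ⟨j, hj, rfl⟩ := Finset.mem_image.1 hx
    rw [Finset.mem_range] at hj
    interval_cases j <;> simp
  have yz : y = z := (key y (e3 g)).resolve_left y0
  refine ⟨rfl, e, z, u, hz, yz ▸ y0, yz ▸ yy, by rwa [← sq], u0, hu, fun k => (key _ (e3 k)).imp (fun h => ?_)
    fun h => ?_, h, yz ▸ a1⟩
  · rw [inv_mul_eq_one] at h; exact h.symm
  · rwa [inv_mul_eq_iff_eq_mul] at h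

end HT

end Cfsg.Lib.Linear.Half
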