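import Cfsg.Agent.Lib.Linear.HalfA

/-! Half-transitive `2`-groups. -/

set_option autoImplicit false

namespace Cfsg.Lib.Linear.Half

open Subgroup MulAction Cfsg.Lib.PGrp

variable {G V : Type*} [Group G] [AddCommGroup V] [DistribMulAction G V]

namespace HT
variable [Finite G] (H : HT G V 2)
include H

theorem neg {z : G} (hz : z ∈ center G) (h0 : z ≠ 1) (h1 : z * z = 1) (v : V) : z • v = -v :=
  eq_neg_of_add_eq_zero_left (H.central hz h0 (by rw [smul_add, smul_smul, h1, one_smul, add_comm]))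

section
variable {a b : G} {m : ℕ} (M : Max2 a b m)
include M

omit [Finite G] H in
theorem z_ne : a ^ 2 ^ (m + 1) ≠ 1 := fun h => by simpa [h] using M.orderOf_z

theorem cyc {g : G} (hg : g ∈ zpowers a) {v : V} (v0 : v ≠ 0) (hv : g • v = v) : g = 1 := by
  by_contra h
  obtain ⟨y, hy, ho⟩ := exists_mem_orderOf_eq H.pg (H := zpowers g) (by simpa using h)
  obtain ⟨k, rfl⟩ := zpowers_le.2 hg hy
  have h1 : (a ^ k) ^ (2 : ℤ) = 1 := by exact_mod_cast ho ▸ pow_orderOf_eq_one (a ^ k)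
  rw [← zpow_mul, zpow_eq_one_iff_of_orderOf M.ord, pow_succ, mul_dvd_mul_iff_right two_ne_zero] at h1
  obtain ⟨c, rfl⟩ := h1
  refine v0 (H.central (z := a ^ (2 ^ (m + 1) * c : ℤ)) ?_ (fun h => by simp [h] at ho)
    (zpowers_le (H := stabilizer G v).2 hv hy))
  rw [zpow_mul]
  exact zpow_mem (by exact_mod_cast M.z_mem_center) c

omit [Finite G] H in
theorem out {g : G} (hg : g ∉ zpowers a) : ∃ x ∈ zpowers a, g = x * b :=
  ⟨g * b⁻¹, (mul_mem_iff_of_index_two M.index).2 (by simp [hg, M.not_mem]), by simp⟩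

theorem quat (h1 : b ^ 2 = a ^ 2 ^ (m + 1)) (h2 : b * a * b⁻¹ = a⁻¹) {v : V} (v0 : v ≠ 0) {g : G} (hv : g • v = v) :
    g = 1 := by
  by_contra h
  obtain ⟨_, ⟨k, rfl⟩, rfl⟩ := out M fun hg => h (H.cyc M hg v0 hv)
  have h3 : a ^ k * b * (a ^ k * b) = a ^ 2 ^ (m + 1) := by
    have : b * a ^ k * b⁻¹ = (a ^ k)⁻¹ := by rw [← conj_zpow, h2, inv_zpow]
    rw [← h1, sq, mul_assoc, ← mul_assoc b, mul_inv_eq_iff_eq_mul.1 this]; simp [mul_assoc]
  exact z_ne M (H.cyc M (npow_mem_zpowers ..) v0 (by rw [← h3, mul_smul, hv, hv]))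

theorem dih [Finite V] [Nontrivial V] {c d : ℕ} (hc : 2 ≤ c) (hd : m + 2 = c + d) (h1 : b ^ 2 = 1)
    (h2 : b * a * b⁻¹ = a ^ (2 ^ c - 1)) : ∃ r, 1 < r ∧ Nat.card V = r * r ∧ r + 1 = 2 ^ c := by
  classical
  have := Fintype.ofFinite G
  have := Fintype.ofFinite V
  have h3 : ∀ x ∈ zpowers a, b * x * b⁻¹ * x = x ^ 2 ^ c := by
    rintro _ ⟨k, rfl⟩
    rw [← conj_zpow, h2, ← zpow_natCast, ← zpow_natCast, ← zpow_mul, ← zpow_mul, ← zpow_add]
    push_cast [Nat.one_le_two_pow]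
    ring_nf
  have zz : a ^ 2 ^ (m + 1) * a ^ 2 ^ (m + 1) = 1 := by
    rw [← sq, ← orderOf_dvd_iff_pow_eq_one, M.orderOf_z]
  have h4 : ∀ t ∉ zpowers a, t * t = 1 → Nat.card V = Nat.card (fx V t) * Nat.card (fx V t) := fun t ht tt => by
    obtain ⟨x, hx, rfl⟩ := out M ht
    have u1 : a ^ 2 ^ m * a ^ 2 ^ m = a ^ 2 ^ (m + 1) := by rw [← pow_add, pow_succ 2, mul_two]
    have u2 : b * a ^ 2 ^ m * b⁻¹ * a ^ 2 ^ m = 1 := by
      obtain ⟨j, rfl⟩ := Nat.exists_eq_add_of_le hc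
      rw [h3 _ (npow_mem_zpowers ..), ← pow_mul, ← orderOf_dvd_iff_pow_eq_one, M.ord, ← pow_add]
      exact pow_dvd_pow 2 (by omega)
    have u3 : Commute x (a ^ 2 ^ m) := by
      obtain ⟨k, rfl⟩ := hx
      exact ((Commute.refl a).zpow_left k).pow_right _
    have u4 : a ^ 2 ^ (m + 1) * (x * b) = a ^ 2 ^ m * (x * b) * (a ^ 2 ^ m)⁻¹ := by
      rw [← u1, mul_assoc, mul_assoc, mul_right_inj, ← mul_assoc, ← u3.eq, mul_assoc, mul_assoc, mul_right_inj,
        eq_mul_inv_iff_mul_eq, ← mul_inv_eq_one, ← mul_left_inj (a ^ 2 ^ m), one_mul, mul_assoc, mul_assoc,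
        mul_assoc, ← mul_assoc b, ← mul_assoc _ b⁻¹, u2, mul_one]
    rw [card_split H.hp tt (H.neg M.z_mem_center (z_ne M) zz), u4, card_fx_conj]
  have bb : b * b = 1 := by rwa [← sq]
  have h5 : 1 < Nat.card (fx V b) := by
    have := h4 b M.not_mem bb
    have h6 := Finite.one_lt_card (α := V)
    by_contra h; push Not at h
    nlinarith
  have h6 : ∀ v : V, v ≠ 0 → ∃ t ∉ zpowers a, t * t = 1 ∧ t • v = v := fun v v0 => by
    have := Finite.one_lt_card_iff_nontrivial.1 h5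
    obtain ⟨⟨w, hw⟩, w0⟩ := exists_ne (0 : fx V b)
    have h7 : stabilizer G v ≠ ⊥ := fun h => M.not_mem (by
      have := H.hs w v (fun h => w0 (Subtype.ext h)) v0
      rw [h, card_bot, card_eq_one] at this
      exact (mem_bot.1 (this.le hw)).symm ▸ one_mem _)
    obtain ⟨⟨t, ht⟩, t1⟩ := ne_bot_iff_exists_ne_one.1 h7
    exact ⟨t, fun h => t1 (Subtype.ext (H.cyc M h v0 ht)), H.cyc M (mul_self_mem_of_index_two M.index t) v0
      (mul_mem ht ht), ht⟩
  have h7 := Finset.card_mul_eq_card_mul (s := Finset.univ.filter fun t : G => t ∉ zpowers a ∧ t * t = 1)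
    (t := Finset.univ.erase (0 : V)) (fun t v => t • v = v) (m := Nat.card (fx V b) - 1) (n := 1) (fun t ht => by
      rw [Finset.mem_filter] at ht
      have e1 : Nat.card (fx V t) = Nat.card (fx V b) :=
        Nat.mul_self_inj.1 ((h4 t ht.2.1 ht.2.2).symm.trans (h4 b M.not_mem bb))
      rw [← e1, Nat.card_eq_fintype_card, Fintype.card_subtype, ← Finset.card_erase_of_mem (a := 0) (by simp)]
      congr 1; ext v
      simp [fx]) (fun v hv => by
      have v0 := Finset.ne_of_mem_erase hv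
      obtain ⟨t, t1, t2, t3⟩ := h6 v v0
      refine Finset.card_eq_one.2 ⟨t, Finset.eq_singleton_iff_unique_mem.2 ⟨by simp [t1, t2, t3], fun s hs => ?_⟩⟩
      simp only [Finset.mem_bipartiteBelow, Finset.mem_filter, Finset.mem_univ, true_and] at hs
      have := H.cyc M (g := s * t) ((mul_mem_iff_of_index_two M.index).2 (by simp [hs.1.1, t1])) v0
        (by rw [mul_smul, t3, hs.2])
      rwa [← t2, mul_left_inj] at this)
  have h8 : (Finset.univ.filter fun t : G => t ∉ zpowers a ∧ t * t = 1).card = 2 ^ c := by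
    have e1 : orderOf (a ^ 2 ^ d) = 2 ^ c := by
      rw [orderOf_pow_of_dvd (by positivity) (by rw [M.ord, hd]; exact pow_dvd_pow 2 (by omega)), M.ord, hd, pow_add,
        Nat.mul_div_cancel _ (by positivity)]
    have e2 : ∀ x ∈ zpowers a, x * b * (x * b) = x ^ 2 ^ c := fun x hx => by
      have := congrArg (fun y => x * y * x⁻¹) (h3 x hx)
      simp only [← conj_pow, mul_inv_cancel_right, inv_eq_of_mul_eq_one_right bb, ← mul_assoc] at this ⊢
      exact this
    rw [← e1, ← Nat.card_zpowers, Nat.card_eq_fintype_card, Fintype.card_subtype]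
    refine (Finset.card_bij (fun x _ => x * b) (fun x hx => ?_) (fun _ _ _ _ h => mul_right_cancel h)
      fun t ht => ?_).symm
    · simp only [Finset.mem_filter, Finset.mem_univ, true_and] at hx ⊢
      have hx' := zpowers_le.2 (npow_mem_zpowers a _) hx
      refine ⟨fun h => M.not_mem ((mul_mem_cancel_left hx').1 h), ?_⟩
      rw [e2 x hx', ← e1, ← orderOf_dvd_iff_pow_eq_one]
      exact orderOf_dvd_of_mem_zpowers hx
    · simp only [Finset.mem_filter, Finset.mem_univ, true_and] at ht ⊢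
      obtain ⟨_, ⟨k, rfl⟩, rfl⟩ := out M ht.1
      have := ht.2
      rw [e2 _ ⟨k, rfl⟩, ← zpow_natCast, ← zpow_mul, zpow_eq_one_iff_of_orderOf M.ord, hd, pow_add, mul_comm] at this
      push_cast at this
      obtain ⟨j, rfl⟩ := (mul_dvd_mul_iff_right (by positivity)).1 this
      exact ⟨_, ⟨j, by simp only [← zpow_natCast, ← zpow_mul]; push_cast; rfl⟩, rfl⟩
  rw [h8, Finset.card_erase_of_mem (Finset.mem_univ _), Finset.card_univ, ← Nat.card_eq_fintype_card,
    h4 b M.not_mem bb] at h7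
  refine ⟨_, h5, h4 b M.not_mem bb, ?_⟩
  obtain ⟨r, hr⟩ := Nat.exists_eq_add_of_lt h5
  rw [hr] at h7 ⊢
  have e1 : (1 + r + 1) * (1 + r + 1) - 1 = (1 + r + 1 + 1) * (r + 1) := by
    rw [Nat.sub_eq_iff_eq_add (by nlinarith)]; ring
  rw [e1, mul_one, show 1 + r + 1 - 1 = r + 1 by omega] at h7
  exact (Nat.eq_of_mul_eq_mul_right r.succ_pos h7).symm

end

section
variable {e z : G} {u : V} (hz : z ∈ center G) (z1 : z ≠ 1) (zz : z * z = 1) (ee : e * e = 1) (u0 : u ≠ 0)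
  (hu : e • u = u) (he : ∀ h, h * e * h⁻¹ = e ∨ h * e * h⁻¹ = e * z)
include hz z1 ee he

theorem swap2 {u w : V} (u0 : u ≠ 0) (w0 : w ≠ 0) (hu : e • u = u) (hw : (e * z) • w = w) :
    ∃ h : G, h * e * h⁻¹ = e * z ∧ h • u = w ∧ h • w = u :=
  H.swap hz z1 (by rwa [sq]) (fun h => by rcases he h with h | h <;> simp [h, hz]) u0 w0 hu hw

include zz u0 hu

theorem card_fx [Finite V] {g : G} (hg : g * e * g⁻¹ = e * z) :
    Nat.card V = Nat.card (fx V e) * Nat.card (fx V e) ∧ ∃ n, Nat.card (fx V e) = 2 ^ n + 1 := by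
  refine ⟨by rw [card_split H.hp ee (H.neg hz z1 zz), ← mem_center_iff.1 hz, ← hg, card_fx_conj], ?_⟩
  obtain ⟨n, hn⟩ := (H.pg.to_subgroup (centralizer {e})).card_orbit u
  refine ⟨n, ?_⟩
  have w0 : g • u ≠ 0 := by rwa [Ne, smul_eq_zero_iff_eq]
  have hw : (e * z) • g • u = g • u := by rw [← hg, smul_smul, inv_mul_cancel_right, mul_smul, hu]
  have : orbit (centralizer {e}) u = (fx V e : Set V) \ {0} := by
    ext v
    refine ⟨?_, fun ⟨hv, v0⟩ => ?_⟩
    · rintro ⟨⟨k, hk⟩, rfl⟩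
      refine ⟨?_, fun h => u0 ((smul_eq_zero_iff_eq k).1 h)⟩
      change e • k • u = k • u
      rw [smul_smul, ← mem_centralizer_singleton_iff.1 hk, mul_smul, hu]
    · obtain ⟨h, a1, -, a3⟩ := H.swap2 hz z1 ee he v0 w0 hv hw
      refine ⟨⟨h * g, mem_centralizer_singleton_iff.2 ?_⟩, by rw [← a3, ← mul_smul]; rfl⟩
      rw [mul_assoc, mul_inv_eq_iff_eq_mul.1 hg, ← mul_assoc, ← mul_assoc, mul_inv_eq_iff_eq_mul.1 a1, mul_assoc _ h,
        mem_center_iff.1 hz h, ← mul_assoc, mul_assoc e, zz, mul_one, mul_assoc]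
  rw [← hn, this]
  exact (Set.ncard_sdiff_singleton_add_one (s := (fx V e : Set V)) (zero_mem _)).symm

theorem stab_two {w : V} (w0 : w ≠ 0) (hw : (e * z) • w = w) (hV : ∀ g : G, g • u = u → g • w = w → g = 1)
    {k : G} (hk : k • u = u) : k = 1 ∨ k = e := by
  obtain ⟨h, -, a2, a3⟩ := H.swap2 hz z1 ee he u0 w0 hu hw
  have e1 : e ≠ 1 := fun h => w0 (H.central hz z1 (by simpa [h] using hw))
  have h2 : u + w ≠ 0 := fun h2 => by
    rw [eq_neg_of_add_eq_zero_right h2, smul_neg, neg_inj, mem_center_iff.1 hz, mul_smul, hu] at hw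
    exact u0 (H.central hz z1 hw)
  have h3 : (stabilizer G (u + w) : Set G) ⊆ {1, h} := fun g hg => by
    replace hg : g • (u + w) = u + w := hg
    rcases H.swap_aux hz z1 (by rwa [sq]) u0 hu hw hg (by rcases he g with h | h <;> simp [h, hz]) with
      ⟨-, b⟩ | ⟨-, b⟩
    · exact .inl (hV g b (by rwa [smul_add, b, add_right_inj] at hg))
    · rw [smul_add, b, add_comm, add_left_inj] at hg
      exact .inr (inv_mul_eq_one.1 (hV _ (by rw [mul_smul, b, inv_smul_eq_iff, a2])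
        (by rw [mul_smul, hg, inv_smul_eq_iff, a3]))).symm
  by_contra h4; push Not at h4
  have h5 : ({1, e, k} : Set G) ⊆ stabilizer G u := by
    rintro _ (rfl | rfl | rfl)
    exacts [one_mem _, hu, hk]
  have h6 := Set.ncard_le_ncard h5
  rw [Set.ncard_eq_three.2 ⟨1, e, k, e1.symm, h4.1.symm, h4.2.symm, rfl⟩] at h6
  have h7 := (Set.ncard_le_ncard h3).trans (Set.ncard_insert_le ..)
  rw [Set.ncard_singleton] at h7
  have h8 : (stabilizer G u : Set G).ncard = (stabilizer G (u + w) : Set G).ncard := H.hs _ _ u0 h2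
  omega

end

end HT

end Cfsg.Lib.Linear.Half
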