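import Mathlib

/-! Small prime divisors of binomial coefficients (Ecklund's theorem in the form needed for Hall subgroups of `S_n`). -/

set_option autoImplicit false

namespace Cfsg.Lib.Linear

open Finset Nat

theorem dvd_choose_of_carry {p n k i : ℕ} (hp : p.Prime) (hi : 1 ≤ i) (h : p ^ i ≤ k % p ^ i + n % p ^ i) :
    p ∣ (n + k).choose k := by
  refine Nat.dvd_of_factorization_pos ?_
  rw [Nat.factorization_choose' hp (b := log p (n + k) + 1) (lt_succ_self _)]
  refine card_ne_zero.2 ⟨i, mem_filter.2 ⟨mem_Ico.2 ⟨hi, lt_succ_of_le (Nat.le_log_of_pow_le hp.one_lt ?_)⟩, h⟩⟩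
  have := Nat.mod_le k (p ^ i); have := Nat.mod_le n (p ^ i); omega

theorem factorial_dvd_two_pow_mul (a : ℕ) {j k : ℕ} (h : j ≤ k + 1) : j ! ∣ 2 ^ k * ∏ i ∈ range j, (a + 2 * i) := by
  rcases eq_or_ne j 0 with rfl | hj
  · simp
  obtain ⟨v, M, hM, e⟩ := Nat.exists_eq_two_pow_mul_odd (factorial_ne_zero j)
  have hv : v ≤ k := by
    have := padicValNat_factorial_lt_of_ne_zero (p := 2) hj
    have := (padicValNat_dvd_iff_le (p := 2) (factorial_ne_zero j)).1 (Dvd.intro _ e.symm)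
    omega
  rw [e]
  refine Nat.mul_dvd_mul (pow_dvd_pow 2 hv) ?_
  obtain ⟨c, rfl⟩ := hM
  have h1 : ∏ i ∈ range j, (a + 2 * i) ≡ ∏ i ∈ range j, (2 * (a * (c + 1) + i)) [MOD 2 * c + 1] :=
    Nat.ModEq.prod fun i _ => (Nat.modEq_iff_dvd' (by nlinarith)).2 ⟨a, by
      rw [Nat.sub_eq_iff_eq_add (by nlinarith)]; ring⟩
  refine (h1.dvd_iff dvd_rfl).2 ?_
  rw [prod_mul_distrib, ← ascFactorial_eq_prod_range]
  exact ((Dvd.intro_left _ e.symm).trans (factorial_dvd_ascFactorial _ _)).mul_left _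

theorem prod_range_two_mul (a k : ℕ) :
    ∏ i ∈ range (2 * k), (a + i) = (∏ i ∈ range k, (a + 2 * i)) * ∏ i ∈ range k, (a + 1 + 2 * i) := by
  induction k with
  | zero => simp
  | succ k ih => rw [mul_add, mul_one, prod_range_succ, prod_range_succ, ih, prod_range_succ, prod_range_succ]; ring

theorem prod_even (u k : ℕ) : ∏ i ∈ range k, (2 * u + 2 + 2 * i) = 2 ^ k * (k ! * (u + k).choose k) := by
  rw [← ascFactorial_eq_factorial_mul_choose, ascFactorial_eq_prod_range, ← card_range k, ← prod_const, card_range,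
    ← prod_mul_distrib]
  exact prod_congr rfl fun i _ => by ring

theorem choose_le_of_large {m j k u a : ℕ} (hj : j ≤ k + 1) (hu : u + k ≤ m)
    (e : ∏ i ∈ range (j + k), (m + 1 + i) = (∏ i ∈ range j, (a + 2 * i)) * ∏ i ∈ range k, (2 * u + 2 + 2 * i))
    (h : ∀ r, r.Prime → r ∣ (m + (j + k)).choose (j + k) → m < r) : (u + k).choose k ≤ (j + k).choose k := by
  obtain ⟨Z, hZ⟩ := factorial_dvd_two_pow_mul a hj
  rw [← ascFactorial_eq_prod_range, ascFactorial_eq_factorial_mul_choose, prod_even,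
    ← Nat.add_choose_mul_factorial_mul_factorial, ← mul_assoc _ (2 ^ k), mul_comm _ (2 ^ k), hZ] at e
  have e2 : (m + (j + k)).choose (j + k) * (j + k).choose k = Z * (u + k).choose k :=
    Nat.eq_of_mul_eq_mul_left (mul_pos (factorial_pos j) (factorial_pos k)) (by linear_combination e)
  have hc : ((u + k).choose k).Coprime ((m + (j + k)).choose (j + k)) := Nat.coprime_of_dvd fun r hr h1 h2 => by
    have := h r hr h2
    have := hr.dvd_factorial.1 (h1.trans ((Dvd.intro _ (mul_assoc _ _ _).symm).trans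
      (Nat.add_choose_mul_factorial_mul_factorial u k).dvd))
    omega
  exact Nat.le_of_dvd (choose_pos (by omega)) (hc.dvd_of_dvd_mul_left (Dvd.intro_left _ e2.symm))

theorem prime_of_large {m b : ℕ} (h1 : 1 ≤ b) (hb : b ≤ m) (hm : 1 ≤ m) (h : ∀ r, r.Prime → r ∣ (m + b).choose b → m < r) :
    (m + b).Prime := by
  by_contra hp
  obtain ⟨b, rfl⟩ : ∃ c, b = c + 1 := ⟨b - 1, by omega⟩
  have hc : (m + b + 1).Coprime ((m + b + 1).choose (b + 1)) := Nat.coprime_of_dvd fun r hr h1 h2 => by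
    have := h r hr h2
    obtain ⟨c, hc⟩ := h1
    rcases c with _ | _ | c
    · omega
    · exact hp (by rwa [← add_assoc, hc, zero_add, mul_one])
    · nlinarith
  have := Nat.le_of_dvd (succ_pos b) (hc.dvd_of_dvd_mul_left (Dvd.intro _ (add_one_mul_choose_eq (m + b) b)))
  omega

/-- A binomial coefficient `(m + b choose b)`, `2 ≤ b < m`, has a prime factor `≤ m`, except `(7 choose 3)`. -/
theorem eq_of_large {m b : ℕ} (h2 : 2 ≤ b) (hb : b < m) (h : ∀ r, r.Prime → r ∣ (m + b).choose b → m < r) :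
    m = 4 ∧ b = 3 := by
  have hodd := (prime_of_large (by omega) hb.le (by omega) h).eq_two_or_odd.resolve_left (by omega)
  have hlt : ∀ w k, 1 ≤ k → k ≤ b → w.choose k ≤ b.choose k → w ≤ b := fun w k h1 h2 h3 => by
    by_contra! h4
    obtain ⟨k, rfl⟩ : ∃ c, k = c + 1 := ⟨k - 1, by omega⟩
    have := choose_le_choose (k + 1) (show b + 1 ≤ w from h4)
    have := choose_pos (show k ≤ b by omega)
    rw [choose_succ_succ'] at *
    omega
  obtain rfl : m = b + 1 := by
    obtain ⟨k, rfl | rfl⟩ := Nat.even_or_odd' b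
    · obtain ⟨u, rfl⟩ : ∃ u, m = 2 * u + 1 := ⟨m / 2, by omega⟩
      rw [two_mul k] at h
      have := hlt (u + k) k (by omega) (by omega) (two_mul k ▸ choose_le_of_large (a := 2 * u + 3) (by omega) (by omega)
        (by rw [← two_mul, prod_range_two_mul, mul_comm]) h)
      omega
    · obtain ⟨u, rfl⟩ : ∃ u, m = 2 * u := ⟨m / 2, by omega⟩
      rw [show 2 * k + 1 = k + 1 + k by ring] at h hlt
      have := hlt (u + k) k (by omega) (by omega) (choose_le_of_large (a := 2 * u + 1) le_rfl (by omega)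
        (by rw [show k + 1 + k = 2 * k + 1 by ring, prod_range_succ, prod_range_two_mul, prod_range_succ]; ring) h)
      omega
  have hc : ∀ p i, p.Prime → p ≤ b + 1 → 1 ≤ i → b % p ^ i + (b + 1) % p ^ i < p ^ i := fun p i hp h1 hi =>
    lt_of_not_ge fun e => (h p hp (dvd_choose_of_carry hp hi e)).not_ge h1
  obtain ⟨e, he⟩ : ∃ e, b + 1 = 2 ^ e := ⟨log 2 (b + 1), by
    have h1 := Nat.lt_pow_succ_log_self one_lt_two (b + 1)
    have h3 := Nat.pow_log_le_self 2 (succ_ne_zero b)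
    have := hc 2 _ prime_two (by omega) (Nat.succ_pos (log 2 (b + 1)))
    rw [Nat.mod_eq_of_lt h1, Nat.mod_eq_of_lt (by omega), pow_succ] at this
    simp only [succ_eq_add_one] at h3
    omega⟩
  have h3 : ¬ 3 ∣ b + 1 := fun h => by
    have := (prime_dvd_prime_iff_eq prime_three prime_two).1 (prime_three.dvd_of_dvd_pow (he ▸ h)); omega
  have h5 : ¬ 5 ∣ b + 1 := fun h => by
    have := (prime_dvd_prime_iff_eq prime_five prime_two).1 (prime_five.dvd_of_dvd_pow (he ▸ h)); omega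
  have c3 := hc 3 1 prime_three (by omega) le_rfl
  have c9 := hc 3 2 prime_three (by omega) one_le_two
  clear he
  rw [pow_one] at c3
  have b3 : b % 3 = 0 := by clear c9; omega
  obtain ⟨t, ht⟩ : ∃ t, 2 * b = 3 * t + 3 := ⟨(2 * b - 3) / 3, by omega⟩
  by_contra hne
  obtain ⟨r, hr, c, rfl⟩ := Nat.exists_prime_and_dvd (show t ≠ 1 by omega)
  have r7 : 7 ≤ r := by
    by_contra! h7
    have := hr.two_le
    interval_cases r <;> first | omega | exact absurd hr (by norm_num)
  have hc0 : 1 ≤ c := Nat.pos_of_ne_zero (by rintro rfl; omega)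
  obtain ⟨s, hs⟩ : ∃ s, 3 * c = 2 * s + 1 := ⟨3 * c / 2, by
    have : ¬ 2 ∣ c := fun ⟨d, hd⟩ => by rw [hd, mul_left_comm r] at ht; omega
    omega⟩
  obtain ⟨d, rfl⟩ : ∃ d, r = 2 * d + 1 := hr.odd_of_ne_two (by omega)
  have hb' : b = d + 2 + (2 * d + 1) * s := by nlinarith
  have := hc _ 1 hr (by nlinarith) le_rfl
  rw [pow_one, hb', add_right_comm _ _ 1, Nat.add_mul_mod_self_left, Nat.add_mul_mod_self_left, Nat.mod_eq_of_lt (by omega),
    Nat.mod_eq_of_lt (by omega)] at this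
  omega

end Cfsg.Lib.Linear
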