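import Cfsg.Agent.Lib.Linear.HallNum
import Cfsg.Agent.Lib.Linear.AutAlt
import Cfsg.Agent.Lib.Hall.HallThm

/-! Hall subgroups of symmetric and alternating groups. -/

set_option autoImplicit false

namespace Cfsg.Lib.Linear

open Equiv Subgroup MulAction Finset
open scoped Pointwise

variable {α : Type*} [Fintype α] [DecidableEq α]

/-- `L` contains a conjugate of every `r`-subgroup of `A`. -/
def Absorb (A L : Subgroup (Perm α)) (r : ℕ) : Prop :=
  ∀ Q ≤ A, IsPGroup r Q → ∃ g : Perm α, ∀ q ∈ Q, g * q * g⁻¹ ∈ L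

omit [DecidableEq α] in
theorem absorb_of_not_dvd {A L : Subgroup (Perm α)} {r : ℕ} (hr : r.Prime) (h : ¬ r ∣ L.relIndex A) : Absorb A L r := by
  intro Q hQ hp
  have : Fact r.Prime := ⟨hr⟩
  obtain ⟨P⟩ : Nonempty (Sylow r (L.subgroupOf A)) := inferInstance
  have h1 : ¬ r ∣ ((P : Subgroup _).map (L.subgroupOf A).subtype).index := by
    rw [index_map_subtype]
    exact fun e => (hr.dvd_mul.1 e).elim P.not_dvd_index h
  obtain ⟨P', hP'⟩ := (hp.comap_subtype (K := A)).exists_le_sylow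
  obtain ⟨g, hg⟩ := exists_smul_eq A P' ((P.2.map _).toSylow h1)
  refine ⟨g, fun q hq => ?_⟩
  have : g * ⟨q, hQ hq⟩ * g⁻¹ ∈ g • P' := Subgroup.smul_mem_pointwise_smul _ (MulAut.conj g) _ (hP' hq)
  rw [hg] at this
  exact map_subtype_le (H := L.subgroupOf A) P.1 this

/-- `t` acts as `τ` on the image of `j` and fixes everything else. -/
def Mv {β : Type*} (t : Perm α) (j : β → α) (τ : β → β) : Prop :=
  (∀ b, t (j b) = j (τ b)) ∧ ∀ x, x ∉ Set.range j → t x = x

theorem exists_blocks {β : Type} [Fintype β] [DecidableEq β] [Nonempty β] {r : ℕ} (hr : r.Prime) (P : Subgroup (Perm β))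
    (hP : IsPGroup r P) {A L : Subgroup (Perm α)} (hA : alternatingGroup α ≤ A) (h : Absorb A L r) :
    ∃ (k : ℕ) (ι : Fin k × β ↪ α), Fintype.card α < k * Fintype.card β + Fintype.card β ∧
      ∀ i, ∀ τ ∈ P, (Perm.sign τ = 1 ∨ A = ⊤) → ∃ t ∈ L, Mv t (fun b => ι (i, b)) τ := by
  have : Fact r.Prime := ⟨hr⟩
  have hb : 0 < Fintype.card β := Fintype.card_pos
  let e : (Fin (Fintype.card α / Fintype.card β) × β) ⊕ Fin (Fintype.card α % Fintype.card β) ≃ α :=
    Fintype.equivOfCardEq (by simp [Nat.div_add_mod'])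
  let ρ : (Fin (Fintype.card α / Fintype.card β) → Perm β) →* Perm α :=
    { toFun f := e.permCongr ((Equiv.prodCongrRight f).sumCongr 1)
      map_one' := by ext x; obtain ⟨⟨i, x⟩ | x, rfl⟩ := e.surjective x <;> simp
      map_mul' f g := by ext x; obtain ⟨⟨i, x⟩ | x, rfl⟩ := e.surjective x <;> simp }
  obtain ⟨a, ha⟩ := IsPGroup.iff_card.1 hP
  obtain ⟨g, hg⟩ := h (((Subgroup.pi Set.univ fun _ => P).map ρ) ⊓ A) inf_le_right (by
    rintro ⟨_, ⟨f, hf, rfl⟩, -⟩
    refine ⟨a, Subtype.ext ?_⟩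
    change ρ f ^ _ = 1
    rw [← map_pow, show f ^ r ^ a = 1 from funext fun i =>
      congrArg Subtype.val (ha ▸ pow_card_eq_one' (x := (⟨f i, hf i trivial⟩ : P))), map_one])
  refine ⟨_, ⟨fun x => g (e (.inl x)), g.injective.comp (e.injective.comp Sum.inl_injective)⟩,
    by have := Nat.div_add_mod' (Fintype.card α) (Fintype.card β); have := Nat.mod_lt (Fintype.card α) hb; omega,
    fun i τ hτ hs => ⟨_, hg (ρ (Pi.mulSingle i τ)) ⟨⟨_, fun j _ => ?_, rfl⟩, ?_⟩, fun b => by simp [ρ], fun x hx => ?_⟩⟩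
  · rcases eq_or_ne j i with rfl | h
    · simpa
    · simp [h, one_mem]
  · rcases hs with hs | rfl
    · refine hA (Perm.mem_alternatingGroup.2 ?_)
      simp only [ρ, MonoidHom.coe_mk, OneHom.coe_mk, Perm.sign_permCongr, Perm.sign_sumCongr, Perm.sign_prodCongrRight]
      rw [prod_eq_single i (fun j _ h => by simp [h]) (by simp)]
      simp [hs]
    · trivial
  · obtain ⟨x, rfl⟩ := g.surjective x
    obtain ⟨⟨j, b⟩ | x, rfl⟩ := e.surjective x
    · have : j ≠ i := by rintro rfl; exact hx ⟨b, rfl⟩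
      simp [ρ, this]
    · simp [ρ]

theorem exists_cycles {r : ℕ} (hr : r.Prime) {e : ℕ} {A L : Subgroup (Perm α)} (hA : alternatingGroup α ≤ A)
    (h : Absorb A L r) (h2 : r ≠ 2 ∨ A = ⊤) {m : ℕ} [NeZero m] (hm : m = r ^ e) :
    ∃ (k : ℕ) (ι : Fin k × ZMod m ↪ α), Fintype.card α < k * m + m ∧
      ∀ i, ∃ t ∈ L, Mv t (fun b => ι (i, b)) (· + 1) := by
  have h1 : (Equiv.addRight (1 : ZMod m)) ^ m = 1 := by
    ext x; simp [Perm.coe_pow]
  obtain ⟨k, ι, a, b⟩ := exists_blocks hr (zpowers (Equiv.addRight (1 : ZMod m))) (by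
    rintro ⟨_, k, rfl⟩
    exact ⟨e, Subtype.ext (by
      change (_ ^ k) ^ _ = 1
      rw [← hm, ← zpow_natCast, ← zpow_mul, mul_comm, zpow_mul, zpow_natCast, h1, one_zpow])⟩) hA h
  refine ⟨k, ι, by simpa using a, fun i => b i _ (mem_zpowers _) (h2.imp_left fun h2 => ?_)⟩
  have := congrArg Perm.sign h1
  rw [map_pow, map_one] at this
  refine (Int.units_eq_one_or _).resolve_right fun e => ?_
  rw [e, Odd.neg_one_pow (hm ▸ (hr.odd_of_ne_two h2).pow)] at this
  exact absurd this (by decide)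

omit [Fintype α] [DecidableEq α] in
theorem Mv.pow {m : ℕ} {t : Perm α} {j : ZMod m → α} (h : Mv t j (· + 1)) (k : ℕ) : Mv (t ^ k) j (· + k) := by
  induction k with
  | zero => exact ⟨by simp, by simp⟩
  | succ k ih => exact ⟨fun b => by rw [pow_succ', Perm.mul_apply, ih.1, h.1]; simp [add_assoc],
      fun x hx => by rw [pow_succ', Perm.mul_apply, ih.2 x hx, h.2 x hx]⟩

/-- The permutations preserving a relation. -/
def eqvStab (E : α → α → Prop) : Subgroup (Perm α) where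
  carrier := {g | ∀ x y, E (g x) (g y) ↔ E x y}
  mul_mem' ha hb x y := (ha _ _).trans (hb x y)
  one_mem' _ _ := Iff.rfl
  inv_mem' {g} hg x y := by simpa using (hg (g⁻¹ x) (g⁻¹ y)).symm

omit [Fintype α] [DecidableEq α] in
theorem Mv.rel_of_fix {m : ℕ} [NeZero m] {t : Perm α} {j : ZMod m → α} (h : Mv t j (· + 1)) {E : α → α → Prop}
    (hE : Equivalence E) (ht : t ∈ eqvStab E) {b : ZMod m} {y : α} (hy : E (j b) y) (hy' : y ∉ Set.range j) (c : ZMod m) :
    E (j b) (j c) := by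
  have := (pow_mem ht (c - b).val _ _).2 hy
  rw [(h.pow _).1, (h.pow _).2 y hy'] at this
  simpa using hE.trans hy (hE.symm this)

omit [Fintype α] [DecidableEq α] in
theorem rel_of_range {r : ℕ} (hr : r.Prime) {t : Perm α} {j : ZMod r → α} (h : ∀ b, t (j b) = j (b + 1)) {E : α → α → Prop}
    (hE : Equivalence E) (ht : t ∈ eqvStab E) {b d : ZMod r} (hy : E (j b) (j d)) (hd : d ≠ b) (c : ZMod r) :
    E (j b) (j c) := by
  have : Fact r.Prime := ⟨hr⟩
  have h1 : ∀ (k : ℕ) b, (t ^ k) (j b) = j (b + k) := fun k b => by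
    induction k with
    | zero => simp
    | succ k ih => rw [pow_succ', Perm.mul_apply, ih, h]; simp [add_assoc]
  have h2 : ∀ k : ℕ, E (j b) (j (b + k * (d - b))) := fun k => by
    induction k with
    | zero => simpa using hE.refl _
    | succ k ih =>
      have := (pow_mem ht (k * (d - b)).val _ _).2 hy
      rw [h1, h1] at this
      convert hE.trans ih (by simpa using this) using 2
      push_cast; ring
  convert h2 ((c - b) / (d - b)).val
  simp [div_mul_cancel₀ _ (sub_ne_zero.2 hd)]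

omit [Fintype α] [DecidableEq α] in
theorem Mv.rel_of_prime {r : ℕ} (hr : r.Prime) {t : Perm α} {j : ZMod r → α} (h : Mv t j (· + 1)) {E : α → α → Prop}
    (hE : Equivalence E) (ht : t ∈ eqvStab E) {b : ZMod r} {y : α} (hy : E (j b) y) (hy' : y ≠ j b) (c : ZMod r) :
    E (j b) (j c) := by
  have : Fact r.Prime := ⟨hr⟩
  by_cases h1 : y ∈ Set.range j
  · obtain ⟨d, rfl⟩ := h1
    exact rel_of_range hr h.1 hE ht hy (fun e => hy' (e ▸ rfl)) c
  · exact h.rel_of_fix hE ht hy h1 c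

omit [DecidableEq α] in
theorem three_dvd_of_orbit {H : Subgroup (Perm α)} {g : Perm α} (hg : g ∈ H) {x : α} (h1 : g x ≠ x) (h3 : g (g (g x)) = x) :
    3 ∣ Nat.card H := by
  refine Dvd.dvd.trans ?_ (H.orderOf_dvd_natCard hg)
  have : Fact (Nat.Prime 3) := ⟨Nat.prime_three⟩
  rw [← Function.minimalPeriod_eq_prime (f := g) (p := 3) (x := x) h3 h1]
  refine Function.IsPeriodicPt.minimalPeriod_dvd ?_
  change (g : α → α)^[orderOf g] x = x
  rw [← Perm.coe_pow, pow_orderOf_eq_one]; rfl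

omit [DecidableEq α] in
theorem two_dvd_of_orbit {H : Subgroup (Perm α)} {g : Perm α} (hg : g ∈ H) {x : α} (h1 : g x ≠ x) (h3 : g (g x) = x) :
    2 ∣ Nat.card H := by
  refine Dvd.dvd.trans ?_ (H.orderOf_dvd_natCard hg)
  rw [← Function.minimalPeriod_eq_prime (f := g) (p := 2) (x := x) h3 h1]
  refine Function.IsPeriodicPt.minimalPeriod_dvd ?_
  change (g : α → α)^[orderOf g] x = x
  rw [← Perm.coe_pow, pow_orderOf_eq_one]; rfl

theorem choose_eq_relIndex {U B : Finset α} (hB : B ⊆ U) :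
    U.card.choose B.card = (stabilizer (Perm α) B).relIndex (stabilizer (Perm α) U) := by
  rw [← card_powersetCard, ← Set.ncard_coe_finset]
  refine Eq.trans ?_ (index_stabilizer (stabilizer (Perm α) U) B).symm
  congr 1
  ext C
  simp only [mem_coe, mem_powersetCard, mem_orbit_iff]
  refine ⟨fun ⟨a, b⟩ => ?_, ?_⟩
  · obtain ⟨σ, hσ⟩ := Perm.exists_map_finset_eq (B.subtype (· ∈ U)) (C.subtype (· ∈ U)) (by
      rw [card_subtype, card_subtype, filter_true_of_mem hB, filter_true_of_mem a, b])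
    have h3 : ∀ S ⊆ U, Perm.ofSubtype σ • S = ((S.subtype (· ∈ U)).map σ.toEmbedding).map (Function.Embedding.subtype _) :=
      fun S hS => by
        ext x
        simp only [mem_smul_finset, Finset.mem_map, mem_subtype, Perm.smul_def]
        exact ⟨fun ⟨y, hy, e⟩ => ⟨_, ⟨⟨y, hS hy⟩, hy, rfl⟩, e ▸ (Perm.ofSubtype_apply_of_mem σ (hS hy)).symm⟩,
          fun ⟨_, ⟨y, hy, rfl⟩, e⟩ => ⟨y, hy, e ▸ Perm.ofSubtype_apply_coe σ y⟩⟩
    refine ⟨⟨Perm.ofSubtype σ, ?_⟩, ?_⟩
    · rw [mem_stabilizer_iff, h3 U subset_rfl, subtype_eq_univ.2 fun _ => id, map_univ_equiv, ← subtype_eq_univ.2 fun _ => id,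
        subtype_map_of_mem fun _ => id]
    · change Perm.ofSubtype σ • B = C
      rw [h3 B hB, hσ, subtype_map_of_mem a]
  · rintro ⟨⟨g, hg⟩, rfl⟩
    exact ⟨(smul_finset_subset_smul_finset hB).trans (le_of_eq hg), card_smul_finset _ _⟩

theorem choose_dvd_index {L : Subgroup (Perm α)} {U B : Finset α} (hB : B ⊆ U) (h1 : L ≤ stabilizer _ U)
    (h2 : L ≤ stabilizer _ B) : U.card.choose B.card ∣ L.index := by
  refine Dvd.dvd.trans ?_ (index_dvd_of_le (le_inf h2 h1))
  refine Dvd.dvd.trans (dvd_of_eq ?_) (Dvd.intro _ (relIndex_mul_index inf_le_right))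
  rw [inf_relIndex_right, choose_eq_relIndex hB]

theorem exists_eq_block {β γ : Type*} [Fintype β] [Fintype γ] {k : ℕ} (ι : Fin k × β ↪ α)
    (h : Fintype.card α < k * Fintype.card β + Fintype.card γ) {j : γ → α} (hj : Function.Injective j) :
    ∃ c i b, j c = ι (i, b) := by
  by_contra! hc
  have := Fintype.card_le_of_injective (Sum.elim j ι) (hj.sumElim ι.injective fun c b => hc c b.1 b.2)
  simp at this; omega

theorem false_of_blocks {H : Subgroup (Perm α)} (S : Finset α → Prop) (h1 : ∀ B C x, S B → S C → x ∈ B → x ∈ C → B = C)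
    (h2 : ∀ g ∈ H, ∀ B, S B → S (g • B)) {r : ℕ} (hr : r.Prime) (h3 : ∀ B, S B → 1 < B.card ∧ B.card < r) {t : Perm α}
    (ht : t ∈ H) {j : ZMod r → α} (hj : Function.Injective j) (hm : Mv t j (· + 1)) {B : Finset α} (hB : S B) {b : ZMod r}
    (hb : j b ∈ B) : False := by
  have : Fact r.Prime := ⟨hr⟩
  let E : α → α → Prop := fun x y => x = y ∨ ∃ B, S B ∧ x ∈ B ∧ y ∈ B
  have hE : Equivalence E := ⟨fun _ => .inl rfl, fun h => h.imp Eq.symm fun ⟨B, a, b, c⟩ => ⟨B, a, c, b⟩, by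
    rintro x y z (rfl | ⟨B, a, b, c⟩) h
    · exact h
    · rcases h with rfl | ⟨C, a', b', c'⟩
      exacts [.inr ⟨B, a, b, c⟩, .inr ⟨B, a, b, h1 B C y a a' c b' ▸ c'⟩]⟩
  have hH : ∀ g ∈ H, ∀ x y, E x y → E (g x) (g y) := fun g hg x y h => h.imp (congrArg g) fun ⟨B, a, b, c⟩ =>
    ⟨_, h2 g hg B a, smul_mem_smul_finset b, smul_mem_smul_finset c⟩
  obtain ⟨y, hy, hy'⟩ := exists_mem_ne (h3 B hB).1 (j b)
  have := card_le_card_of_injOn (s := univ) (t := B) j (fun c _ => by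
    rcases hm.rel_of_prime hr hE (fun x y => ⟨fun h => by simpa using hH _ (inv_mem ht) _ _ h, hH t ht x y⟩)
      (.inr ⟨B, hB, hb, hy⟩) hy' c with h | ⟨C, a, b', c'⟩
    exacts [h ▸ hb, h1 B C _ hB a hb b' ▸ c']) hj.injOn
  have := (h3 B hB).2
  simp at *; omega

theorem three_dvd_of_two {H : Subgroup (Perm α)} (h2 : Absorb (alternatingGroup α) H 2) {p : ℕ} (hp : p.Prime) (h5 : 4 < p)
    (hn : p ≤ Fintype.card α) (h : Absorb (alternatingGroup α) H p) : 3 ∣ Nat.card H := by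
  by_contra h3
  have : NeZero p := ⟨hp.ne_zero⟩
  let V : Subgroup (Perm (Fin 4)) := ⟨⟨⟨{τ | τ ^ 2 = 1 ∧ Perm.sign τ = 1}, fun {a b} => by revert a b; decide +kernel⟩, by decide⟩,
    fun {a} => by revert a; decide +kernel⟩
  obtain ⟨k, ι, a1, a2⟩ := exists_blocks Nat.prime_two V (fun x => ⟨1, Subtype.ext x.2.1⟩) le_rfl h2
  obtain ⟨l, κ, b1, b2⟩ := exists_cycles hp (e := 1) le_rfl h (.inl (by omega)) (pow_one p).symm
  have hl : 0 < l := Nat.pos_of_ne_zero (by rintro rfl; omega)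
  obtain ⟨t, ht, hm⟩ := b2 ⟨0, hl⟩
  have hj : Function.Injective fun b => κ (⟨0, hl⟩, b) := κ.injective.comp (Prod.mk_right_injective _)
  obtain ⟨c, i, b, e⟩ := exists_eq_block ι (by simp at a1 ⊢; omega) hj
  refine false_of_blocks (H := H) (fun B => B.card = 4 ∧ ∀ x ∈ B, ∀ y ∈ B, ∃ t ∈ H, t x = y ∧ t y = x ∧ ∀ z ∉ B, t z = z)
    (fun B C x hB hC hx hx' => ?_) (fun g hg B hB => ⟨by rw [card_smul_finset, hB.1], ?_⟩) hp (fun B hB => by omega) ht hj hm
    (B := univ.image fun b => ι (i, b)) ⟨(card_image_of_injective _ (ι.injective.comp (Prod.mk_right_injective _))).trans (by simp), ?_⟩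
    (b := c) (mem_image.2 ⟨b, mem_univ _, e.symm⟩)
  · by_contra hne
    obtain ⟨w, w1, w2⟩ := not_subset.1 fun h => hne (eq_of_subset_of_card_le h (by omega))
    obtain ⟨u, u1, u2⟩ := not_subset.1 fun h => hne (eq_of_subset_of_card_le h (by omega)).symm
    obtain ⟨t, ht, t1, t2, t3⟩ := hB.2 x hx w w1
    obtain ⟨s, hs, s1, s2, s3⟩ := hC.2 x hx' u u1
    exact h3 (three_dvd_of_orbit (mul_mem ht hs) (x := x) (by simp only [Perm.mul_apply, s1, t3 u u2]; rintro rfl; exact u2 hx)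
      (by simp only [Perm.mul_apply, s1, t3 u u2, s2, t1, s3 w w2, t2]))
  · simp only [mem_smul_finset]
    rintro _ ⟨x, hx, rfl⟩ _ ⟨y, hy, rfl⟩
    obtain ⟨t, ht, t1, t2, t3⟩ := hB.2 x hx y hy
    refine ⟨g * t * g⁻¹, mul_mem (mul_mem hg ht) (inv_mem hg), by simp [t1], by simp [t2], fun z hz => ?_⟩
    rw [Perm.mul_apply, Perm.mul_apply, t3 (g⁻¹ z) fun h => hz ⟨_, h, by simp⟩]; simp
  · simp only [mem_image, mem_univ, true_and]
    rintro _ ⟨x, rfl⟩ _ ⟨y, rfl⟩
    obtain ⟨τ, hτ, t1, t2⟩ : ∃ τ : Perm (Fin 4), (τ ^ 2 = 1 ∧ Perm.sign τ = 1) ∧ τ x = y ∧ τ y = x := by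
      revert x y; decide +kernel
    obtain ⟨t, ht, hm⟩ := a2 i τ hτ (.inl hτ.2)
    exact ⟨t, ht, t1 ▸ hm.1 x, t2 ▸ hm.1 y, hm.2⟩

theorem two_dvd_of_overlap {H : Subgroup (Perm α)} {p : ℕ} [NeZero p] {t s : Perm α} (ht : t ∈ H) (hs : s ∈ H)
    {j k : ZMod p → α} (hj : Function.Injective j) (h1 : Mv t j (· + 1)) (h2 : Mv s k (· + 1)) {a b c : ZMod p}
    (hab : j a = k b) (hc : k c ∉ Set.range j) : 2 ∣ Nat.card H := by
  by_contra hodd
  let U : Set α := Set.range j ∪ Set.range k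
  let T := H ⊓ fixingSubgroup (Perm α) Uᶜ ⊓ stabilizer (Perm α) (k c)
  have hT : ∀ g, g ∈ T ↔ (g ∈ H ∧ ∀ x, x ∉ U → g x = x) ∧ g (k c) = k c := fun g => by
    simp only [T, Subgroup.mem_inf, mem_fixingSubgroup_iff, mem_stabilizer_iff]; rfl
  obtain ⟨g, hg, g1, g2⟩ : ∃ g ∈ H, g (j a) = k c ∧ ∀ x, x ∉ U → g x = x :=
    ⟨s ^ (c - b).val, pow_mem hs _, by rw [hab, (h2.pow _).1]; simp, fun x hx => (h2.pow _).2 x fun h => hx (.inr h)⟩
  have hne : j a ≠ k c := fun h => hc ⟨a, h⟩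
  have hU : ∀ g : Perm α, (∀ x, x ∉ U → g x = x) → ∀ x ∈ U, g x ∈ U := fun g h x hx => by
    by_contra e; exact e ((g.injective (h _ e)).symm ▸ hx)
  have ho : ∀ y ∈ U, y ≠ k c → orbit T y ⊆ U \ {k c} := by
    rintro y hy hy' _ ⟨⟨f, hf⟩, rfl⟩
    rw [hT] at hf
    exact ⟨hU f hf.1.2 y hy, fun h => hy' (f.injective (h.trans hf.2.symm))⟩
  have hd : Disjoint (orbit T (j a)) (orbit T (g (k c))) := by
    refine Set.disjoint_left.2 fun y a1 a2 => ?_
    obtain ⟨⟨f, hf⟩, e⟩ := (orbit_eq_iff.2 a2).le ((orbit_eq_iff.2 a1).ge (mem_orbit_self _))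
    rw [hT] at hf
    change f (g (k c)) = j a at e
    exact hodd (two_dvd_of_orbit (mul_mem hf.1.1 hg) (x := k c) (by rw [Perm.mul_apply, e]; exact hne)
      (by simp only [Perm.mul_apply, e, g1, hf.2]))
  have c1 : p ≤ (orbit T (j a)).ncard := by
    have : Set.range j ⊆ orbit T (j a) := by
      rintro _ ⟨d, rfl⟩
      exact ⟨⟨t ^ (d - a).val, (hT _).2 ⟨⟨pow_mem ht _, fun x hx => (h1.pow _).2 x fun h => hx (.inl h)⟩, (h1.pow _).2 _ hc⟩⟩,
        ((h1.pow _).1 a).trans (by simp)⟩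
    simpa [Set.ncard_range_of_injective hj] using Set.ncard_le_ncard this
  have c2 : (orbit T (j a)).ncard ≤ (orbit T (g (k c))).ncard := by
    have e1 := (stabilizer T (j a)).card_mul_index
    have e2 := (stabilizer T (g (k c))).card_mul_index
    rw [index_stabilizer] at e1 e2
    have : Nat.card (stabilizer T (g (k c))) ≤ Nat.card (stabilizer T (j a)) := by
      refine Nat.card_le_card_of_injective (fun f => ⟨⟨g⁻¹ * f.1.1 * g, (hT _).2 ⟨⟨mul_mem (mul_mem (inv_mem hg)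
        ((hT _).1 f.1.2).1.1) hg, fun x hx => ?_⟩, ?_⟩⟩, ?_⟩) fun f f' h => Subtype.ext (Subtype.ext (by simpa using h))
      · simp only [Perm.mul_apply, g2 x hx, ((hT _).1 f.1.2).1.2 x hx]
        exact Perm.inv_eq_iff_eq.2 (g2 x hx).symm
      · have : f.1.1 (g (k c)) = g (k c) := f.2
        simp [this]
      · change (g⁻¹ * f.1.1 * g) (j a) = j a
        simp only [Perm.mul_apply, g1, ((hT _).1 f.1.2).2]
        exact Perm.inv_eq_iff_eq.2 g1.symm
    exact Nat.le_of_mul_le_mul_left (c := Nat.card (stabilizer T (j a))) (e1.trans_le (e2.symm.trans_le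
      (Nat.mul_le_mul_right _ this))) Nat.card_pos
  have c3 := Set.ncard_le_ncard (Set.union_subset (ho (j a) (.inl ⟨a, rfl⟩) hne)
    (ho _ (hU g g2 _ (.inr ⟨c, rfl⟩)) fun h => hne (g.injective (g1.trans h.symm))))
  rw [Set.ncard_union_eq hd] at c3
  have c4 := Set.ncard_sdiff_singleton_lt_of_mem (s := U) (.inr ⟨c, rfl⟩)
  have c5 := Set.ncard_union_le (Set.range j) (Set.range k)
  have c6 : ∀ f : ZMod p → α, (Set.range f).ncard ≤ p := fun f => by
    simpa using Set.ncard_image_le (f := f) (s := Set.univ)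
  have := c6 j; have := c6 k
  change U.ncard ≤ _ at c5
  omega

theorem two_dvd_of_odd {H : Subgroup (Perm α)} {p r : ℕ} (hp : p.Prime) (hr : r.Prime) (h2 : p ≠ 2) (hpr : p < r)
    (hn : r ≤ Fintype.card α) (h : Absorb (alternatingGroup α) H p) (h' : Absorb (alternatingGroup α) H r) : 2 ∣ Nat.card H := by
  by_contra h3
  have : NeZero p := ⟨hp.ne_zero⟩
  have : NeZero r := ⟨hr.ne_zero⟩
  have := hp.two_le
  obtain ⟨k, ι, a1, a2⟩ := exists_cycles hp (e := 1) le_rfl h (.inl h2) (pow_one p).symm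
  obtain ⟨l, κ, b1, b2⟩ := exists_cycles hr (e := 1) le_rfl h' (.inl (by omega)) (pow_one r).symm
  have hl : 0 < l := Nat.pos_of_ne_zero (by rintro rfl; omega)
  obtain ⟨t, ht, hm⟩ := b2 ⟨0, hl⟩
  have hj : Function.Injective fun b => κ (⟨0, hl⟩, b) := κ.injective.comp (Prod.mk_right_injective _)
  obtain ⟨c, i, b, e⟩ := exists_eq_block ι (by simp; omega) hj
  obtain ⟨s, hs, hm'⟩ := a2 i
  refine false_of_blocks (H := H) (fun B => ∃ t ∈ H, ∃ j : ZMod p → α, Function.Injective j ∧ Mv t j (· + 1) ∧ B = univ.image j)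
    ?_ ?_ hr ?_ ht hj hm ⟨s, hs, _, ι.injective.comp (Prod.mk_right_injective _), hm', rfl⟩
    (b := c) (mem_image.2 ⟨b, mem_univ _, e.symm⟩)
  · rintro _ _ x ⟨t, ht, j, hj, m1, rfl⟩ ⟨s, hs, k, hk, m2, rfl⟩ hx hx'
    obtain ⟨a, -, rfl⟩ := mem_image.1 hx
    obtain ⟨b, -, e⟩ := mem_image.1 hx'
    refine (eq_of_subset_of_card_le (image_subset_iff.2 fun c _ => ?_) (by simp [card_image_of_injective, hj, hk])).symm
    by_contra hc
    exact h3 (two_dvd_of_overlap ht hs hj m1 m2 e.symm (c := c) (by simpa using hc))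
  · rintro g hg _ ⟨t, ht, j, hj, m1, rfl⟩
    refine ⟨g * t * g⁻¹, mul_mem (mul_mem hg ht) (inv_mem hg), g ∘ j, g.injective.comp hj, ⟨fun b => by simp [m1.1],
      fun x hx => ?_⟩, (image_image (g := g)).symm ▸ rfl⟩
    rw [Perm.mul_apply, Perm.mul_apply, m1.2 (g⁻¹ x) fun ⟨b, h⟩ => hx ⟨b, by simp [h]⟩]; simp
  · rintro _ ⟨t, ht, j, hj, m1, rfl⟩
    simp [card_image_of_injective _ hj]; omega

omit [Fintype α] in
theorem cyc3_mem_hub {H : Subgroup (Perm α)} {x a a' b b' : α} (h1 : cyc3 x a a' ∈ H) (h2 : cyc3 x b b' ∈ H) (a1 : x ≠ a)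
    (a2 : x ≠ a') (a3 : a ≠ a') (b1 : x ≠ b) (b2 : x ≠ b') (b3 : b ≠ b') (hab : a ≠ b) : cyc3 x a b ∈ H := by
  rcases eq_or_ne b a' with rfl | c1
  · exact h1
  rcases eq_or_ne a b' with rfl | c2
  · convert inv_mem h2 using 1
    ext y; simp only [cyc3, mul_inv_rev, swap_inv, Perm.mul_apply, swap_apply_def]; grind
  rcases eq_or_ne a' b' with rfl | c3
  · convert inv_mem (mul_mem (mul_mem h2 h1) (inv_mem h2)) using 1
    ext y; simp only [cyc3, mul_inv_rev, swap_inv, Perm.mul_apply, swap_apply_def]; grind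
  · convert mul_mem h1 (inv_mem (mul_mem (mul_mem h2 h1) (inv_mem h2))) using 1
    ext y; simp only [cyc3, mul_inv_rev, swap_inv, Perm.mul_apply, swap_apply_def]; grind

/-- Points joined by a three-cycle of `H`. -/
def rel3 (H : Subgroup (Perm α)) (x y : α) : Prop := x = y ∨ ∃ z, x ≠ y ∧ x ≠ z ∧ y ≠ z ∧ cyc3 x y z ∈ H

omit [Fintype α] in
theorem rel3_equiv (H : Subgroup (Perm α)) : Equivalence (rel3 H) := by
  have hs : ∀ {x y}, rel3 H x y → rel3 H y x := fun {x y} h => h.imp Eq.symm fun ⟨z, a, b, c, d⟩ => ⟨z, a.symm, c, b, by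
    convert inv_mem d using 1
    ext y; simp only [cyc3, mul_inv_rev, swap_inv, Perm.mul_apply, swap_apply_def]; grind⟩
  refine ⟨fun _ => .inl rfl, hs, fun {x y u} h1 h2 => ?_⟩
  rcases hs h1 with rfl | ⟨z, a, b, c, d⟩
  · exact h2
  rcases h2 with rfl | ⟨v, a', b', c', d'⟩
  · exact h1
  refine (eq_or_ne x u).imp_right fun h => ⟨y, h, a.symm, a'.symm, ?_⟩
  convert cyc3_mem_hub d d' a b c a' b' c' h using 1
  ext y; simp only [cyc3, Perm.mul_apply, swap_apply_def]; grind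

theorem le_eqvStab_rel3 (H : Subgroup (Perm α)) : H ≤ eqvStab (rel3 H) := by
  have : ∀ g ∈ H, ∀ x y, rel3 H x y → rel3 H (g x) (g y) := fun g hg x y h => h.imp (congrArg g) fun ⟨z, a, b, c, d⟩ =>
    ⟨g z, g.injective.ne a, g.injective.ne b, g.injective.ne c, conj_cyc3 g x y z ▸ mul_mem (mul_mem hg d) (inv_mem hg)⟩
  exact fun g hg x y => ⟨fun h => by simpa using this _ (inv_mem hg) _ _ h, this g hg x y⟩

open scoped Classical in
/-- The class of a point. -/
noncomputable def cls (E : α → α → Prop) (x : α) : Finset α := univ.filter (E x)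

omit [DecidableEq α] in
theorem mem_cls {E : α → α → Prop} {x y : α} : y ∈ cls E x ↔ E x y := by simp [cls]

omit [DecidableEq α] in
theorem cls_eq {E : α → α → Prop} (hE : Equivalence E) {x y : α} (h : E x y) : cls E x = cls E y :=
  Finset.ext fun _ => by rw [mem_cls, mem_cls]; exact ⟨hE.trans (hE.symm h), hE.trans h⟩

theorem smul_cls {E : α → α → Prop} {g : Perm α} (hg : g ∈ eqvStab E) (x : α) : g • cls E x = cls E (g x) := by
  ext y
  obtain ⟨y, rfl⟩ := g.surjective y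
  rw [mem_cls, hg]
  exact smul_mem_smul_finset_iff g |>.trans mem_cls

theorem disjoint_cls {E : α → α → Prop} (hE : Equivalence E) {x y : α} (h : ¬ E x y) : Disjoint (cls E x) (cls E y) :=
  disjoint_left.2 fun _ a b => h (hE.trans (mem_cls.1 a) (hE.symm (mem_cls.1 b)))

theorem dvd_card_of_le_cls {H : Subgroup (Perm α)} {x : α} {r : ℕ} (hr : r.Prime) (h2 : r ≠ 2)
    (h : r ≤ (cls (rel3 H) x).card) : r ∣ Nat.card H := by
  have hE := rel3_equiv H
  have h1 : (alternatingGroup {y // y ∈ cls (rel3 H) x}).map Perm.ofSubtype ≤ H := by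
    rw [map_le_iff_le_comap, ← Perm.closure_three_cycles_eq_alternating, closure_le]
    intro σ hσ
    obtain ⟨a, ha⟩ : ∃ a, σ a ≠ a := by
      by_contra! h; exact hσ.ne_one (Equiv.ext h)
    obtain ⟨b, c, h1, h2, h3, rfl⟩ := exists_cyc3 hσ ha
    rw [SetLike.mem_coe, mem_comap, cyc3, map_mul, Perm.ofSubtype_swap_eq, Perm.ofSubtype_swap_eq]
    obtain ⟨z, a1, a2, a3, a4⟩ := (hE.trans (hE.symm (mem_cls.1 a.2)) (mem_cls.1 b.2)).resolve_left (Subtype.coe_ne_coe.2 h1)
    obtain ⟨w, b1, b2, b3, b4⟩ := (hE.trans (hE.symm (mem_cls.1 a.2)) (mem_cls.1 c.2)).resolve_left (Subtype.coe_ne_coe.2 h2)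
    exact cyc3_mem_hub a4 b4 a1 a2 a3 b1 b2 b3 (Subtype.coe_ne_coe.2 h3)
  refine Dvd.dvd.trans ?_ (card_dvd_of_le h1)
  rw [card_map_of_injective Perm.ofSubtype_injective]
  have : Nontrivial {y // y ∈ cls (rel3 H) x} := Fintype.one_lt_card_iff_nontrivial.1 (by simpa using hr.one_lt.trans_le h)
  refine ((Nat.coprime_primes hr Nat.prime_two).2 h2).dvd_of_dvd_mul_left ?_
  rw [two_mul_nat_card_alternatingGroup, Nat.card_perm]
  exact hr.dvd_factorial.2 (by simpa using h)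

theorem index_dvd_relIndex {H N : Subgroup (Perm α)} (h : H ≤ N) {x y : α} (hxy : x ≠ y) (hs : swap x y ∈ N) :
    N.index ∣ H.relIndex (alternatingGroup α) := by
  have : Nontrivial α := ⟨x, y, hxy⟩
  refine Dvd.dvd.trans (dvd_of_eq ?_) (relIndex_dvd_of_le_left _ h)
  have e1 := relIndex_mul_index (inf_le_right : N ⊓ alternatingGroup α ≤ _)
  have e2 := relIndex_mul_index (inf_le_left : N ⊓ alternatingGroup α ≤ _)
  rw [inf_relIndex_right, alternatingGroup.index_eq_two] at e1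
  have e3 : (alternatingGroup α).relIndex N = 2 := ((Nat.dvd_prime Nat.prime_two).1 (alternatingGroup.index_eq_two (α := α) ▸
    relIndex_dvd_index_of_normal _ N)).resolve_left fun e => by simpa [hxy] using relIndex_eq_one.1 e hs
  rw [inf_relIndex_left, e3] at e2
  omega

omit [Fintype α] in
theorem swap_mem_eqvStab {E : α → α → Prop} (hE : Equivalence E) {x y : α} (h : E x y) : swap x y ∈ eqvStab E := by
  have : ∀ z, E (swap x y z) z := fun z => by
    rw [swap_apply_def]; split_ifs with a b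
    exacts [a ▸ hE.symm h, b ▸ h, hE.refl _]
  exact fun a b => ⟨fun e => hE.trans (hE.symm (this a)) (hE.trans e (this b)),
    fun e => hE.trans (this a) (hE.trans e (hE.symm (this b)))⟩

/-- The stabiliser of the partition `{B, Bᶜ}`. -/
def biStab (B : Finset α) : Subgroup (Perm α) := eqvStab fun x y => x ∈ B ↔ y ∈ B

theorem mem_biStab {B : Finset α} {g : Perm α} : g ∈ biStab B ↔ g • B = B ∨ g • B = Bᶜ := by
  have h1 : ∀ C : Finset α, g • B = C ↔ ∀ x, g x ∈ C ↔ x ∈ B := fun C => by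
    rw [Finset.ext_iff, g.surjective.forall]
    exact forall_congr' fun x => by
      rw [show g x ∈ g • B ↔ x ∈ B from smul_mem_smul_finset_iff g]; exact Iff.comm
  rw [h1, h1]
  refine ⟨fun h => ?_, fun h x y => by rcases h with h | h <;> have := h x <;> have := h y <;> simp only [mem_compl] at * <;> tauto⟩
  by_contra! hc
  obtain ⟨⟨x, hx⟩, y, hy⟩ := hc
  have := h x y
  simp only [mem_compl] at hy
  tauto

theorem hall_structure {H : Subgroup (Perm α)} {π : Set ℕ} (h1 : ∀ r : ℕ, r.Prime → r ∣ Nat.card H → r ∈ π)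
    (h2 : ∀ r : ℕ, r.Prime → r ∈ π → ¬ r ∣ H.relIndex (alternatingGroup α))
    (hpq : ∃ r s : ℕ, r.Prime ∧ s.Prime ∧ r ≠ s ∧ r ∈ π ∧ s ∈ π ∧ r ≤ Fintype.card α ∧ s ≤ Fintype.card α)
    (hns : ∃ r : ℕ, r.Prime ∧ r ≤ Fintype.card α ∧ r ∉ π) :
    ∃ B : Finset α, H ≤ biStab B ∧ (∀ r : ℕ, r.Prime → r ≤ Fintype.card α → (r ∈ π ↔ r ≤ B.card)) ∧
      (((Fintype.card α).Prime ∧ B.card + 1 = Fintype.card α) ∨ (Fintype.card α = 7 ∨ Fintype.card α = 8) ∧ B.card = 4) := by
  have ab : ∀ r : ℕ, r.Prime → r ∈ π → Absorb (alternatingGroup α) H r := fun r hr h => absorb_of_not_dvd hr (h2 r hr h)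
  obtain ⟨p, q, hp, hq, hlt, p1, q1, hqn⟩ : ∃ r s : ℕ, r.Prime ∧ s.Prime ∧ r < s ∧ r ∈ π ∧ s ∈ π ∧ s ≤ Fintype.card α := by
    obtain ⟨r, s, a, b, c, d, e, f, g⟩ := hpq
    rcases c.lt_or_gt with h | h
    exacts [⟨r, s, a, b, h, d, e, g⟩, ⟨s, r, b, a, h, e, d, f⟩]
  have two : 2 ∈ π := by
    rcases eq_or_ne p 2 with rfl | h
    exacts [p1, h1 2 Nat.prime_two (two_dvd_of_odd hp hq h hlt hqn (ab p hp p1) (ab q hq q1))]
  have three : 3 ∈ π := by
    rcases eq_or_ne q 3 with rfl | h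
    · exact q1
    have := hp.two_le
    exact h1 3 Nat.prime_three (three_dvd_of_two (ab 2 Nat.prime_two two) hq (by
      have : q ≠ 4 := by rintro rfl; exact absurd hq (by norm_num)
      omega) hqn (ab q hq q1))
  obtain ⟨s, hs, hsn, hs'⟩ := hns
  have h5 : 5 ≤ s := by
    by_contra! h
    interval_cases s <;> first | exact hs' ‹_› | exact absurd hs (by norm_num)
  have hE := rel3_equiv H
  have hH := le_eqvStab_rel3 H
  set E := rel3 H
  obtain ⟨k, ι, a1, a2⟩ := exists_cycles Nat.prime_three (e := 1) le_rfl (ab 3 Nat.prime_three three) (.inl (by norm_num))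
    (m := 3) rfl
  have hι : ∀ i b c, b ≠ c → ι (i, b) ≠ ι (i, c) := fun i b c h e => h (Prod.ext_iff.1 (ι.injective e)).2
  have a3 : ∀ i b c, E (ι (i, b)) (ι (i, c)) := fun i b c => by
    obtain ⟨t, ht, hm⟩ := a2 i
    have e01 := hι i 0 1 (by decide); have e02 := hι i 0 2 (by decide); have e12 := hι i 1 2 (by decide)
    have : E (ι (i, 0)) (ι (i, 1)) := .inr ⟨ι (i, 2), e01, e02, e12, by
      convert ht using 1
      ext x
      rw [cyc3_apply e01 e02 e12]
      split_ifs with c0 c1 c2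
      exacts [c0 ▸ (hm.1 0).symm, c1 ▸ (hm.1 1).symm, c2 ▸ (hm.1 2).symm, (hm.2 x (by
        rintro ⟨b, rfl⟩; fin_cases b; exacts [c0 rfl, c1 rfl, c2 rfl])).symm]⟩
    have := rel_of_range Nat.prime_three hm.1 hE (hH ht) this (by decide)
    exact hE.trans (hE.symm (this b)) (this c)
  have big : ∀ r : ℕ, r.Prime → r ∈ π → r ≠ 2 → r ≤ Fintype.card α → ∃ x, r ≤ (cls E x).card := fun r hr h h2 hn => by
    have : NeZero r := ⟨hr.ne_zero⟩
    obtain ⟨l, κ, b1, b2⟩ := exists_cycles hr (e := 1) le_rfl (ab r hr h) (.inl h2) (pow_one r).symm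
    have hl : 0 < l := Nat.pos_of_ne_zero (by rintro rfl; omega)
    obtain ⟨t, ht, hm⟩ := b2 ⟨0, hl⟩
    have hj : Function.Injective fun b => κ (⟨0, hl⟩, b) := κ.injective.comp (Prod.mk_right_injective _)
    obtain ⟨c, i, b, e⟩ := exists_eq_block ι (by have := hr.two_le; simp; omega) hj
    refine ⟨κ (⟨0, hl⟩, c), ?_⟩
    simpa using card_le_card_of_injOn (s := univ) _ (fun d _ => mem_cls.2 (hm.rel_of_prime hr hE (hH ht)
      (e ▸ a3 i b (b + 1)) (e ▸ hι i _ _ ((by decide : ∀ b : ZMod 3, b + 1 ≠ b) b)) d)) hj.injOn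
  have small : ∀ x, ∀ r : ℕ, r.Prime → r ≤ (cls E x).card → r ∈ π := fun x r hr h => by
    rcases eq_or_ne r 2 with rfl | h2
    exacts [two, h1 r hr (dvd_card_of_le_cls hr h2 h)]
  have hk : 0 < k := by omega
  have hN : ∀ r : ℕ, r.Prime → r ∈ π → ¬ r ∣ (eqvStab E).index := fun r hr h e => h2 r hr h (e.trans
    (index_dvd_relIndex hH (hι ⟨0, hk⟩ 0 1 (by decide)) (swap_mem_eqvStab hE (a3 _ 0 1))))
  have unc : ∀ x, ¬ 3 ∣ (cls E x).card → ∃ u ∈ univ \ univ.map ι, E x u := fun x hx => by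
    by_contra! hc
    classical
    refine hx ⟨(univ.filter fun i => E x (ι (i, 0))).card, ?_⟩
    rw [show cls E x = ((univ.filter fun i => E x (ι (i, 0))) ×ˢ univ).map ι from Finset.ext fun y => ?_]
    · simp [mul_comm]
    simp only [mem_cls, Finset.mem_map, mem_product, mem_filter, mem_univ, true_and, and_true]
    refine ⟨fun h => ?_, fun ⟨b, h, e⟩ => e ▸ hE.trans h (a3 _ _ _)⟩
    obtain ⟨b, -, rfl⟩ := Finset.mem_map.1 (not_not.1 fun e => hc y (mem_sdiff.2 ⟨mem_univ _, e⟩) h)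
    exact ⟨b, hE.trans h (a3 _ _ _), rfl⟩
  have hU : (univ \ univ.map ι).card ≤ 2 := by
    rw [card_sdiff_of_subset (subset_univ _)]; simp; omega
  have l1 := Nat.pow_log_le_self 2 (show Fintype.card α ≠ 0 by omega)
  have l2 := Nat.lt_pow_succ_log_self one_lt_two (Fintype.card α)
  rw [pow_succ] at l2
  generalize Nat.log 2 (Fintype.card α) = e at l1 l2
  obtain ⟨l, κ, b1, b2⟩ := exists_cycles Nat.prime_two (e := e) (L := eqvStab E) le_top (absorb_of_not_dvd Nat.prime_two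
    (by rw [relIndex_top_right]; exact hN 2 Nat.prime_two two)) (.inr rfl) rfl
  have hl : 0 < l := Nat.pos_of_ne_zero (by rintro rfl; omega)
  obtain ⟨t, ht, hm⟩ := b2 ⟨0, hl⟩
  have hj : Function.Injective fun b => κ (⟨0, hl⟩, b) := κ.injective.comp (Prod.mk_right_injective _)
  generalize (fun b => κ (⟨0, hl⟩, b)) = j at hm hj
  by_cases hA : ∃ x, 2 ^ e ≤ (cls E x).card
  · obtain ⟨x, hx⟩ := hA
    have hb : ∀ y, ¬ E x y → (cls E x).card + (cls E y).card ≤ Fintype.card α := fun y h =>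
      card_union_of_disjoint (disjoint_cls hE h) ▸ card_le_univ _
    have hst : eqvStab E ≤ stabilizer _ (cls E x) := fun g hg => by
      rw [mem_stabilizer_iff, smul_cls hg]
      by_contra h
      have := hb (g x) fun e => h (cls_eq hE e).symm
      rw [← smul_cls hg, card_smul_finset] at this
      omega
    have hπ : ∀ r : ℕ, r.Prime → r ≤ Fintype.card α → (r ∈ π ↔ r ≤ (cls E x).card) := fun r hr hn =>
      ⟨fun h => by
        obtain ⟨y, hy⟩ : ∃ y, r ≤ (cls E y).card := by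
          rcases eq_or_ne r 2 with rfl | h2
          exacts [(big 3 Nat.prime_three three (by norm_num) (by omega)).imp fun _ h => by omega, big r hr h h2 hn]
        by_cases e : E x y
        · rwa [cls_eq hE e]
        · have := hb y e; omega, small x r hr⟩
    refine ⟨cls E x, fun g hg => mem_biStab.2 (.inl (hst (hH hg))), hπ, ?_⟩
    have hd := choose_dvd_index (subset_univ _) (fun g _ => smul_finset_univ) hst
    obtain ⟨b, hb⟩ := Nat.exists_eq_add_of_le (card_le_univ (cls E x))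
    rw [card_univ, hb, Nat.choose_symm_add] at hd
    have := (hπ s hs hsn).not.1 hs'
    generalize (cls E x).card = m at *
    have hd' : ∀ r, r.Prime → r ∣ (m + b).choose b → m < r := fun r hr h =>
      lt_of_not_ge fun e => hN r hr ((hπ r hr (by omega)).2 e) (h.trans hd)
    rcases lt_or_ge b 2 with h | h
    · exact .inl ⟨hb ▸ prime_of_large (by omega) (by omega) (by omega) hd', by omega⟩
    · have := eq_of_large h (by omega) hd'
      exact .inr ⟨.inl (by omega), this.1⟩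
  push Not at hA
  have hS : (univ.image j).card = 2 ^ e := by rw [card_image_of_injective _ hj]; simp
  have hsub : ∀ b, cls E (j b) ⊆ univ.image j := fun b y hy => by
    by_contra h
    refine (hA (j b)).not_ge (hS ▸ card_le_card (image_subset_iff.2 fun c _ => mem_cls.2 ?_))
    exact hm.rel_of_fix hE ht (mem_cls.1 hy) (by simpa using h) c
  have hc : ∀ b, (cls E (j b)).card = (cls E (j 0)).card := fun b => by
    rw [← card_smul_finset (t ^ b.val) (cls E (j 0)), smul_cls (pow_mem ht _), (hm.pow _).1]; simp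
  have hdvd : (cls E (j 0)).card ∣ 2 ^ e := by
    refine Dvd.dvd.trans (dvd_sum fun C hC => ?_) (dvd_of_eq ((card_eq_sum_card_image (cls E) _).symm.trans hS))
    obtain ⟨_, h, rfl⟩ := mem_image.1 hC
    obtain ⟨b, -, rfl⟩ := mem_image.1 h
    refine dvd_of_eq ((hc b).symm.trans (congrArg card (Finset.ext fun y => ?_)))
    rw [mem_filter]
    exact ⟨fun h => ⟨hsub b h, (cls_eq hE (mem_cls.1 h)).symm⟩, fun h => h.2 ▸ mem_cls.2 (hE.refl _)⟩
  have h3 : ¬ 3 ∣ (cls E (j 0)).card := fun h => by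
    simpa using (Nat.prime_dvd_prime_iff_eq Nat.prime_three Nat.prime_two).1 (Nat.prime_three.dvd_of_dvd_pow (h.trans hdvd))
  obtain ⟨_, h, hy⟩ := exists_mem_notMem_of_card_lt_card ((hA (j 0)).trans_eq hS.symm)
  obtain ⟨y, -, rfl⟩ := mem_image.1 h
  rw [mem_cls] at hy
  have two' : ∀ z, (cls E z).card = (cls E (j 0)).card → E (j 0) z ∨ E (j y) z := fun z hz => by
    by_contra! h
    obtain ⟨u, u1, u2⟩ := unc _ h3
    obtain ⟨v, v1, v2⟩ := unc (j y) (hc y ▸ h3)
    obtain ⟨w, w1, w2⟩ := unc z (hz ▸ h3)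
    exact (two_lt_card.2 ⟨u, u1, v, v1, w, w1, fun e => hy (hE.trans u2 (hE.symm (e ▸ v2))),
      fun e => h.1 (hE.trans u2 (hE.symm (e ▸ w2))), fun e => h.2 (hE.trans v2 (hE.symm (e ▸ w2)))⟩).not_ge hU
  have hu : univ.image j = cls E (j 0) ∪ cls E (j y) := Subset.antisymm (image_subset_iff.2 fun c _ => by
    simpa only [mem_union, mem_cls] using two' _ (hc c)) (union_subset (hsub _) (hsub _))
  have hcard : 2 * (cls E (j 0)).card = 2 ^ e := by
    refine Eq.trans ?_ hS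
    rw [hu, card_union_of_disjoint (disjoint_cls hE hy), hc y, two_mul]
  have hmv : ∀ g ∈ eqvStab E, ∀ b, g • cls E (j b) = cls E (j 0) ∨ g • cls E (j b) = cls E (j y) := fun g hg b => by
    rw [smul_cls hg]
    exact (two' _ (by rw [← smul_cls hg, card_smul_finset, hc])).imp (fun h => (cls_eq hE h).symm) fun h => (cls_eq hE h).symm
  have hst : eqvStab E ≤ stabilizer _ (univ.image j) := fun g hg => by
    refine eq_of_subset_of_card_le ?_ (card_smul_finset _ _).ge
    rw [hu, smul_finset_union]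
    refine union_subset ?_ ?_
    · rcases hmv g hg 0 with h | h <;> simp [h]
    · rcases hmv g hg y with h | h <;> simp [h]
  have hd := choose_dvd_index (subset_univ _) (fun g _ => smul_finset_univ) hst
  have hd2 := choose_dvd_index (hsub 0) (inf_le_left.trans hst) (inf_le_right (a := eqvStab E))
  have hi : (stabilizer (Perm α) (cls E (j 0))).relIndex (eqvStab E) ∣ 2 := by
    have h1 : (orbit (eqvStab E) (cls E (j 0))).ncard ≤ 2 :=
      (Set.ncard_le_ncard (t := {cls E (j 0), cls E (j y)}) (by rintro _ ⟨⟨g, hg⟩, rfl⟩; exact hmv g hg 0)).trans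
        ((Set.ncard_insert_le _ _).trans (by simp))
    rw [← index_stabilizer] at h1
    have h2 := (stabilizer (eqvStab E) (cls E (j 0))).index_ne_zero_of_finite
    change (stabilizer (eqvStab E) (cls E (j 0))).index ∣ 2
    interval_cases (stabilizer (eqvStab E) (cls E (j 0))).index <;> simp_all
  rw [← relIndex_mul_index inf_le_left, inf_relIndex_left, hS.trans hcard.symm] at hd2
  replace hd2 := hd2.trans (Nat.mul_dvd_mul_right hi _)
  have hc3 : 3 ≤ (cls E (j 0)).card := by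
    have h4 : 4 ≤ 2 ^ e := by
      rcases e with _ | _ | e
      · omega
      · omega
      · rw [pow_add, pow_add]; have := Nat.two_pow_pos e; omega
    obtain ⟨z, z1, z2⟩ := exists_mem_ne (show 1 < (cls E (j 0)).card by omega) (j 0)
    obtain ⟨w, w1, w2, w3, w4⟩ := (mem_cls.1 z1).resolve_left z2.symm
    exact two_lt_card.2 ⟨j 0, mem_cls.2 (hE.refl _), z, z1, w, mem_cls.2 (.inr ⟨z, w2, w1, w3.symm, by
      convert inv_mem w4 using 1
      ext y; simp only [cyc3, mul_inv_rev, swap_inv, Perm.mul_apply, swap_apply_def]; grind⟩), w1, w2, w3⟩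
  obtain ⟨b, hb⟩ : ∃ b, (cls E (j 0)).card = b + 1 := ⟨_, (Nat.sub_add_cancel (by omega)).symm⟩
  have h4 : b + 1 = 4 := (eq_of_large (b := b) (by omega) (by omega) fun r hr h => lt_of_not_ge fun e =>
    hN r hr (small (j 0) r hr (hb ▸ e)) (h.trans (Nat.dvd_of_mul_dvd_mul_left two_pos (Dvd.dvd.trans (dvd_of_eq ?_) hd2)))).1
  swap
  · rw [hb, show 2 * (b + 1) = 2 * b + 1 + 1 by ring, show b + 1 + b = 2 * b + 1 by ring, Nat.choose_succ_succ', two_mul ((2 * b + 1).choose b), Nat.choose_symm_half]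
  rw [h4] at hb
  rw [hS.trans hcard.symm, hb, card_univ] at hd
  have h8 : Fintype.card α = 8 := by
    have := mt (fun h => Dvd.dvd.trans h hd) (hN 3 Nat.prime_three three)
    have h9 : Fintype.card α < 16 := by omega
    have h9 : 8 ≤ Fintype.card α := by omega
    interval_cases Fintype.card α <;> first | rfl | exact absurd (by decide) this
  have hy' : cls E (j y) = (cls E (j 0))ᶜ := eq_of_subset_of_card_le
    (fun z hz => mem_compl.2 (disjoint_right.1 (disjoint_cls hE hy) hz)) (by rw [card_compl, hc y]; omega)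
  refine ⟨cls E (j 0), fun g hg => mem_biStab.2 (hy' ▸ hmv g (hH hg) 0), fun r hr hn => ⟨fun h => ?_, small _ r hr⟩,
    .inr ⟨.inr h8, hb⟩⟩
  rcases eq_or_ne r 2 with rfl | h2
  · omega
  obtain ⟨z, hz⟩ := big r hr h h2 hn
  by_cases e : E (j 0) z
  · rwa [cls_eq hE e]
  · rwa [← hc y, cls_eq hE (mem_cls.1 (hy' ▸ mem_compl.2 (mt mem_cls.1 e)))]

end Cfsg.Lib.Linear
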