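import Cfsg.Agent.Lib.Linear.HallSym
import Cfsg.Prelude.Def_HallClasses

/-! Hall subgroups of symmetric and alternating groups: existence and conjugacy. -/

set_option autoImplicit false

namespace Cfsg.Lib.Linear

open Equiv Subgroup MulAction Finset Cfsg.Lib.Hall
open scoped Pointwise

section general
variable {G : Type*} [Group G] [Finite G] {π : Set ℕ}

/-- At most one prime of `π` divides the order. -/
def OnePrime (π : Set ℕ) (n : ℕ) : Prop := ∀ r s : ℕ, r.Prime → s.Prime → r ∈ π → s ∈ π → r ∣ n → s ∣ n → r = s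

theorem OnePrime.exists_prime (h : OnePrime π (Nat.card G)) : ∃ r : ℕ, r.Prime ∧
    (∀ K : Subgroup G, IsPiSubgroup π K → IsPGroup r K) ∧ ∀ (_ : Fact r.Prime) (P : Sylow r G), IsPiHall π (P : Subgroup G) := by
  obtain ⟨r, hr, h1, h2⟩ : ∃ r : ℕ, r.Prime ∧ (∀ s : ℕ, s.Prime → s ∈ π → s ∣ Nat.card G → s = r) ∧ (r ∣ Nat.card G → r ∈ π) := by
    by_cases e : ∃ s : ℕ, s.Prime ∧ s ∈ π ∧ s ∣ Nat.card G
    · obtain ⟨s, a, b, c⟩ := e
      exact ⟨s, a, fun t a' b' c' => h t s a' a b' b c' c, fun _ => b⟩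
    · obtain ⟨r, a, b⟩ := Nat.exists_infinite_primes (Nat.card G + 1)
      exact ⟨r, b, fun s a b c => (e ⟨s, a, b, c⟩).elim, fun h => absurd (Nat.le_of_dvd Nat.card_pos h) (by omega)⟩
  have : Fact r.Prime := ⟨hr⟩
  refine ⟨r, hr, fun K hK => IsPGroup.of_card (Nat.eq_prime_pow_of_unique_prime_dvd Nat.card_pos.ne' fun {d} a b =>
    h1 d a (hK d a b) (b.trans K.card_subgroup_dvd_card)), fun _ P => ⟨fun s a b => ?_, fun s a b c => ?_⟩⟩
  · obtain ⟨k, hk⟩ := P.2.exists_card_eq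
    obtain rfl := (Nat.prime_dvd_prime_iff_eq a hr).1 (a.dvd_of_dvd_pow (hk ▸ b))
    exact h2 (b.trans (card_subgroup_dvd_card _))
  · exact P.not_dvd_index (h1 s a b (c.trans (index_dvd_card _)) ▸ c)

theorem IsPiHall.eq_of_le {H K : Subgroup G} (hH : IsPiHall π H) (hK : IsPiSubgroup π K) (h : H ≤ K) : H = K :=
  eq_of_le_of_card_ge h (Nat.le_of_dvd Nat.card_pos ((Nat.coprime_of_dvd fun r a b => hH.2 r a (hK r a b)).dvd_of_dvd_mul_right
    (H.card_mul_index ▸ K.card_subgroup_dvd_card)))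

theorem OnePrime.exists_le (h : OnePrime π (Nat.card G)) {K : Subgroup G} (hK : IsPiSubgroup π K) :
    ∃ H, IsPiHall π H ∧ K ≤ H := by
  obtain ⟨r, hr, h1, h2⟩ := h.exists_prime
  obtain ⟨P, hP⟩ := (h1 K hK).exists_le_sylow
  exact ⟨P, h2 ⟨hr⟩ P, hP⟩

theorem OnePrime.conj (h : OnePrime π (Nat.card G)) {H K : Subgroup G} (hH : IsPiHall π H) (hK : IsPiHall π K) :
    ∃ g : G, K = H.map (MulAut.conj g).toMonoidHom := by
  obtain ⟨r, hr, h1, h2⟩ := h.exists_prime
  have : Fact r.Prime := ⟨hr⟩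
  obtain ⟨P, hP⟩ := (h1 H hH.1).exists_le_sylow
  obtain ⟨Q, hQ⟩ := (h1 K hK.1).exists_le_sylow
  obtain ⟨g, rfl⟩ := exists_smul_eq G P Q
  exact ⟨g, by rw [IsPiHall.eq_of_le hH (h2 this P).1 hP, IsPiHall.eq_of_le hK (h2 this _).1 hQ]; rfl⟩

omit [Finite G] in
theorem isPiHall_top (h : ∀ r : ℕ, r.Prime → r ∣ Nat.card G → r ∈ π) : IsPiHall π (⊤ : Subgroup G) :=
  ⟨by simpa using h, fun r a _ c => a.not_dvd_one (by simpa using c)⟩

theorem IsPiHall.eq_top (h : ∀ r : ℕ, r.Prime → r ∣ Nat.card G → r ∈ π) {H : Subgroup G} (hH : IsPiHall π H) : H = ⊤ :=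
  IsPiHall.eq_of_le hH (isPiHall_top h).1 le_top

theorem exists_hall_of_isDPi (h : IsDPiGroup π G) {K : Subgroup G} (hK : IsPiSubgroup π K) : ∃ H, IsPiHall π H ∧ K ≤ H := by
  obtain ⟨M, h1, h2⟩ := Finite.exists_le_maximal hK
  refine ⟨M, ⟨h2.1, fun r hr a b => ?_⟩, h1⟩
  have : Fact r.Prime := ⟨hr⟩
  obtain ⟨P⟩ : Nonempty (Sylow r G) := inferInstance
  obtain ⟨M', h3, h4⟩ := Finite.exists_le_maximal (p := IsPiSubgroup π) (a := (P : Subgroup G)) fun s hs e => by
    obtain ⟨k, hk⟩ := P.2.exists_card_eq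
    exact (Nat.prime_dvd_prime_iff_eq hs hr).1 (hs.dvd_of_dvd_pow (hk ▸ e)) ▸ a
  obtain ⟨g, rfl⟩ := h M M' h2 h4
  refine P.not_dvd_index (Dvd.dvd.trans ?_ (index_dvd_of_le h3))
  rwa [index_map_of_bijective (MulAut.conj g).bijective]

end general

variable {α : Type*} [Fintype α] [DecidableEq α] {π : Set ℕ}

omit [DecidableEq α] in
theorem not_dvd_card_eqvStab {E : α → α → Prop} (hE : Equivalence E) {ι : Type*} [Fintype ι] (f : α → ι)
    (hf : ∀ x y, f x = f y → E x y) {s : ℕ} (hs : s.Prime) (h1 : Fintype.card ι < s) (h2 : ∀ x, (cls E x).card < s) :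
    ¬ s ∣ Nat.card (eqvStab E) := fun h => by
  have : Fact s.Prime := ⟨hs⟩
  obtain ⟨⟨g, hg⟩, ho⟩ := exists_prime_orderOf_dvd_card' s h
  rw [orderOf_mk] at ho
  obtain ⟨x, hx⟩ : ∃ x, g x ≠ x := by
    by_contra! e
    rw [show g = 1 from Equiv.ext e, orderOf_one] at ho
    exact hs.one_lt.ne ho
  let j : ZMod s → α := fun b => (g ^ b.val) x
  have hj : ∀ b, g (j b) = j (b + 1) := fun b => by
    simp only [j]
    rw [← Perm.mul_apply, ← pow_succ', ZMod.val_add, ZMod.val_one, ← pow_mod_orderOf, ho]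
  have hi : Function.Injective j := fun b d e => by
    by_contra hne
    have := rel_of_range hs hj eq_equivalence (fun _ _ => g.injective.eq_iff) e (Ne.symm hne)
    exact hx (by simpa [j, ZMod.val_one] using (this 1).symm.trans (this 0))
  obtain ⟨b, d, hne, e⟩ := Fintype.exists_ne_map_eq_of_card_lt (f ∘ j) (by simpa using h1)
  classical
  refine (h2 (j b)).not_ge ?_
  simpa using card_le_card_of_injOn (s := univ) _ (fun c _ => mem_cls.2 (rel_of_range hs hj hE hg (hf _ _ e) hne.symm c)) hi.injOn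

theorem not_dvd_card_biStab {B : Finset α} {s : ℕ} (hs : s.Prime) (h1 : 2 < s) (h2 : B.card < s) (h3 : Bᶜ.card < s) :
    ¬ s ∣ Nat.card (biStab B) :=
  not_dvd_card_eqvStab (E := fun x y => x ∈ B ↔ y ∈ B) ⟨fun _ => Iff.rfl, Iff.symm, Iff.trans⟩ (fun x : α => x ∈ B) (fun _ _ => Iff.of_eq) hs (by simpa) fun x => by
    by_cases h : x ∈ B
    · exact (card_le_card fun y hy => (mem_cls.1 hy).1 h).trans_lt h2
    · exact (card_le_card fun y hy => mem_compl.2 (mt (mem_cls.1 hy).2 h)).trans_lt h3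

theorem le_of_dvd_card {H : Subgroup (Perm α)} {r : ℕ} (hr : r.Prime) (h : r ∣ Nat.card H) : r ≤ Fintype.card α := by
  have := h.trans H.card_subgroup_dvd_card
  rwa [Nat.card_perm, hr.dvd_factorial, Nat.card_eq_fintype_card] at this

/-- The data of a non-standard Hall subgroup. -/
def HallType (π : Set ℕ) (n m : ℕ) : Prop :=
  (∀ r : ℕ, r.Prime → r ≤ n → (r ∈ π ↔ r ≤ m)) ∧ ((n.Prime ∧ m + 1 = n) ∨ (n = 7 ∨ n = 8) ∧ m = 4)

theorem HallType.unique {n m m' : ℕ} (h : HallType π n m) (h' : HallType π n m') : m = m' := by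
  have h8 : ¬ Nat.Prime 8 := by norm_num
  have := h.1 5 Nat.prime_five; have := h'.1 5 Nat.prime_five
  rcases h.2 with ⟨a, b⟩ | ⟨rfl | rfl, b⟩ <;> rcases h'.2 with ⟨c, d⟩ | ⟨c | c, d⟩ <;> grind

theorem isPiHall_biStab {B : Finset α} (h : HallType π (Fintype.card α) B.card) (h2 : 2 ≤ B.card) : IsPiHall π (biStab B) := by
  have h1 : IsPiSubgroup π (biStab B) := fun r hr e => (h.1 r hr (le_of_dvd_card hr e)).2 (le_of_not_gt fun a =>
    not_dvd_card_biStab hr (by omega) a (by rw [card_compl]; have := h.2; omega) e)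
  refine ⟨h1, fun r hr a e => ?_⟩
  have hle : stabilizer (Perm α) B ≤ biStab B := fun g hg => mem_biStab.2 (.inl hg)
  have hi := relIndex_mul_index hle
  rw [← relIndex_top_right (stabilizer _ B), ← show stabilizer (Perm α) (univ : Finset α) = ⊤ from eq_top_iff.2 fun _ _ => smul_finset_univ,
    ← choose_eq_relIndex (subset_univ B), card_univ] at hi
  have e' := e.trans (Dvd.intro_left _ hi)
  have hn : ∀ r : ℕ, r.Prime → r ∈ π → r ≤ Fintype.card α → r ≤ B.card := fun r hr a b => (h.1 r hr b).1 a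
  rcases h.2 with ⟨b, c⟩ | ⟨b, c⟩
  · rw [← c, Nat.choose_succ_self_right, c, Nat.prime_dvd_prime_iff_eq hr b] at e'
    have := hn r hr a e'.le; omega
  have h70 : (Fintype.card α).choose B.card ∣ 2 * 5 * 7 := by rcases b with b | b <;> rw [b, c] <;> decide
  have : ∀ r : ℕ, r.Prime → r ∈ π → r ∣ 2 * 5 * 7 → r = 2 := fun r hr a e => by
    rcases (hr.dvd_mul.1 e).imp hr.dvd_mul.1 id with (e | e) | e
    · exact (Nat.prime_dvd_prime_iff_eq hr Nat.prime_two).1 e
    · obtain rfl := (Nat.prime_dvd_prime_iff_eq hr Nat.prime_five).1 e; have := hn 5 hr a; omega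
    · obtain rfl := (Nat.prime_dvd_prime_iff_eq hr (by norm_num)).1 e; have := hn 7 hr a; omega
  obtain rfl := this r hr a (e'.trans h70)
  rcases b with b | b
  · rw [b, c] at e'; exact absurd e' (by decide)
  obtain ⟨g, hg⟩ := Perm.exists_map_finset_eq B Bᶜ (by rw [card_compl]; omega)
  have hg' : g • B = Bᶜ := by rw [← hg, map_eq_image]; rfl
  obtain ⟨s, hs, e2⟩ := Nat.exists_prime_and_dvd (n := (stabilizer (Perm α) B).relIndex (biStab B)) fun e => by
    obtain ⟨x, hx⟩ := card_pos.1 (show 0 < B.card by omega)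
    exact mem_compl.1 (hg' ▸ (relIndex_eq_one.1 e (mem_biStab.2 (.inr hg')) : g • B = B).symm ▸ hx) hx
  obtain rfl := this s hs (h1 s hs (e2.trans (relIndex_dvd_card _ _))) (e2.trans ((Dvd.intro _ hi).trans h70))
  exact absurd ((hi ▸ Nat.mul_dvd_mul e2 e).trans h70) (by decide)

theorem biStab_smul (g : Perm α) (B : Finset α) : biStab (g • B) = (biStab B).map (MulAut.conj g).toMonoidHom := by
  ext h
  rw [Subgroup.mem_map_equiv]
  change (∀ x y, _) ↔ ∀ x y, _
  simp only [← inv_smul_mem_iff]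
  exact ⟨fun a x y => by simpa using a (g x) (g y), fun a x y => by simpa using a (g⁻¹ x) (g⁻¹ y)⟩

theorem exists_alt_smul {B C : Finset α} (h : B.card = C.card) (h2 : 2 ≤ B.card) : ∃ g ∈ alternatingGroup α, g • B = C := by
  obtain ⟨g, hg⟩ := Perm.exists_map_finset_eq B C h
  have hg' : g • B = C := by rw [← hg, map_eq_image]; rfl
  rcases Int.units_eq_one_or (Perm.sign g) with e | e
  · exact ⟨g, e, hg'⟩
  obtain ⟨x, hx, y, hy, hxy⟩ := one_lt_card.1 h2
  refine ⟨g * swap x y, by simp [e, hxy], by rw [mul_smul, ← hg']; congr 1; ext z; simp [← inv_smul_mem_iff, swap_apply_def]; grind⟩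

/-- The three cases. -/
theorem hall_cases (π : Set ℕ) (α : Type*) [Fintype α] [DecidableEq α] : OnePrime π (Nat.card (Perm α)) ∨
    (∀ r : ℕ, r.Prime → r ∣ Nat.card (Perm α) → r ∈ π) ∨ ∀ H : Subgroup (Perm α), IsPiSubgroup π H →
      (∀ r : ℕ, r.Prime → r ∈ π → ¬ r ∣ H.relIndex (alternatingGroup α)) →
        ∃ B : Finset α, H ≤ biStab B ∧ HallType π (Fintype.card α) B.card ∧ 2 ≤ B.card := by
  simp only [OnePrime, Fintype.card_perm, Nat.card_eq_fintype_card]
  by_contra! h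
  obtain ⟨⟨r, s, a, b, c, d, e, f, g⟩, ⟨t, t1, t2, t3⟩, H, h1, h2, h3⟩ := h
  rw [a.dvd_factorial] at e; rw [b.dvd_factorial] at f
  obtain ⟨B, b1, b2, b3⟩ := hall_structure h1 h2 ⟨r, s, a, b, g, c, d, e, f⟩ ⟨t, t1, t1.dvd_factorial.1 t2, t3⟩
  exact (h3 B b1 ⟨b2, b3⟩).not_ge (a.two_le.trans ((b2 r a e).1 c))

theorem exists_hall_perm {M : Subgroup (alternatingGroup α)} (hM : IsPiHall π M) :
    ∃ M₀ : Subgroup (Perm α), IsPiHall π M₀ ∧ M = M₀.subgroupOf (alternatingGroup α) := by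
  have hc : IsPiSubgroup π (M.map (alternatingGroup α).subtype) := fun r a b => hM.1 r a (by
    rwa [card_map_of_injective (subtype_injective _)] at b)
  suffices ∃ M₀, IsPiHall π M₀ ∧ M.map (alternatingGroup α).subtype ≤ M₀ from this.imp fun M₀ h =>
    ⟨h.1, IsPiHall.eq_of_le hM (isPiHall_subgroupOf_normal h.1 _).1 (map_le_iff_le_comap.1 h.2)⟩
  rcases hall_cases π α with h | h | h
  · exact h.exists_le hc
  · exact ⟨⊤, isPiHall_top h, le_top⟩
  · obtain ⟨B, a, b, c⟩ := h _ hc (by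
      rw [relIndex, subgroupOf, comap_map_eq_self_of_injective (subtype_injective _)]; exact hM.2)
    exact ⟨_, isPiHall_biStab b c, a⟩

theorem hall_perm_conj {H K : Subgroup (Perm α)} (hH : IsPiHall π H) (hK : IsPiHall π K) :
    OnePrime π (Nat.card (Perm α)) ∨ ∃ g ∈ alternatingGroup α, K = H.map (MulAut.conj g).toMonoidHom := by
  rcases hall_cases π α with h | h | h
  · exact .inl h
  · exact .inr ⟨1, one_mem _, by rw [IsPiHall.eq_top h hH, IsPiHall.eq_top h hK]; simp⟩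
  · obtain ⟨B, a, b, c⟩ := h H hH.1 (isPiHall_subgroupOf_normal hH _).2
    obtain ⟨C, a', b', c'⟩ := h K hK.1 (isPiHall_subgroupOf_normal hK _).2
    obtain ⟨g, hg, rfl⟩ := exists_alt_smul (b.unique b') c
    exact .inr ⟨g, hg, by rw [IsPiHall.eq_of_le hH (isPiHall_biStab b c).1 a, IsPiHall.eq_of_le hK (isPiHall_biStab b' c').1 a',
      biStab_smul]⟩

end Cfsg.Lib.Linear
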