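import Cfsg.Agent.Lib.Linear.ScnC
import Mathlib.RepresentationTheory.Basic
import Mathlib.LinearAlgebra.Transvection.Basic
import Mathlib.Tactic.Module
import Mathlib.Tactic.LinearCombination

/-! An element of order three with a small commutator space on an `F₃`-module, normalising a four-group. -/

namespace Cfsg.Lib.Linear.Jb3

open Subgroup Cfsg.Lib
open scoped commutatorElement

variable {G : Type*} [Group G] {E : Type*} [AddCommGroup E] [Module (ZMod 3) E]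
  {ρ : Representation (ZMod 3) G E} {b u v : G} {e : E}

theorem h3 (x : E) : x + x + x = 0 := by
  have : (1 + 1 + 1 : ZMod 3) • x = 0 := by
    rw [show (1 + 1 + 1 : ZMod 3) = 0 by decide, zero_smul]
  simpa [add_smul] using this

theorem zero_of_neg {x : E} (h : x = -x) : x = 0 := by
  linear_combination (norm := module) h3 x - h

theorem ap (ρ : Representation (ZMod 3) G E) (g h : G) (x : E) : ρ (g * h) x = ρ g (ρ h x) := by
  rw [map_mul]; rfl

theorem ap1 (ρ : Representation (ZMod 3) G E) (x : E) : ρ 1 x = x := by rw [map_one]; rfl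

theorem apc {g h : G} (hc : g * h = h * g) (x : E) : ρ g (ρ h x) = ρ h (ρ g x) := by
  rw [← ap, hc, ap]

theorem api (ρ : Representation (ZMod 3) G E) (g : G) (x : E) : ρ g⁻¹ (ρ g x) = x := by
  rw [← ap, inv_mul_cancel, ap1]

theorem api' (ρ : Representation (ZMod 3) G E) (g : G) (x : E) : ρ g (ρ g⁻¹ x) = x := by
  rw [← ap, mul_inv_cancel, ap1]

theorem ap0 {g : G} {x : E} (h : ρ g x = 0) : x = 0 := by rw [← api ρ g x, h, map_zero]

theorem eq_of_ap (hf : Function.Injective ρ) {g h : G} (H : ∀ x, ρ g x = ρ h x) : g = h :=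
  hf (LinearMap.ext H)

theorem sc (a : ZMod 3) : a = 0 ∨ a = 1 ∨ a = -1 := by revert a; decide

/-- `{1, u, v, u v}` is a four-group whose involutions are permuted by `b`. -/
structure Trip (b u v : G) : Prop where
  u2 : u * u = 1
  ne : u ≠ 1
  bu : b * u = v * b
  bv : b * v = u * v * b
  uv : u * v = v * u
  b3 : b * b * b = 1

namespace Trip

variable (h : Trip b u v)
include h

theorem v2 : v * v = 1 := by
  have : v = b * u * b⁻¹ := by rw [h.bu]; group
  rw [this]; calc b * u * b⁻¹ * (b * u * b⁻¹) = b * (u * u) * b⁻¹ := by group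
    _ = 1 := by rw [h.u2]; group

theorem bw : b * (u * v) = u * b := by
  calc b * (u * v) = v * (b * v) := by rw [← mul_assoc, h.bu, mul_assoc]
    _ = v * u * v * b := by rw [h.bv]; group
    _ = u * (v * v) * b := by rw [← h.uv]; group
    _ = u * b := by rw [h.v2, mul_one]

theorem uu (x : E) : ρ u (ρ u x) = x := by rw [← ap, h.u2, ap1]
theorem vv (x : E) : ρ v (ρ v x) = x := by rw [← ap, h.v2, ap1]
theorem vu (x : E) : ρ v (ρ u x) = ρ u (ρ v x) := apc h.uv.symm x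
theorem bbb (x : E) : ρ b (ρ b (ρ b x)) = x := by rw [← ap, ← ap, h.b3, ap1]
theorem vb (x : E) : ρ v (ρ b x) = ρ b (ρ u x) := by rw [← ap, ← h.bu, ap]
theorem ub (x : E) : ρ u (ρ b x) = ρ b (ρ u (ρ v x)) := by rw [← ap, ← h.bw, ap, ap]

theorem nb : b * u ≠ u * b := fun hc => by
  have h1 : v = u := mul_right_cancel (h.bu.symm.trans hc)
  have h2 := h.bv
  rw [h1, h.u2, one_mul] at h2
  exact h.ne (mul_left_cancel (h2.trans (mul_one b).symm))

theorem shift : Trip b v (u * v) where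
  u2 := h.v2
  ne := fun hv => h.ne (by have := h.bu; rw [hv, one_mul] at this; exact mul_left_cancel (this.trans (mul_one b).symm))
  bu := h.bv
  bv := by rw [h.bw, ← mul_assoc, ← h.uv, mul_assoc u v v, h.v2, mul_one]
  uv := by rw [← mul_assoc, ← h.uv]
  b3 := h.b3

/-- The four common eigenspaces are independent. -/
theorem ind {y x z t : E} (y1 : ρ u y = y) (y2 : ρ v y = y) (x1 : ρ u x = x) (x2 : ρ v x = -x)
    (z1 : ρ u z = -z) (z2 : ρ v z = z) (t1 : ρ u t = -t) (t2 : ρ v t = -t) (H : y + x + z + t = 0) :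
    y = 0 ∧ x = 0 ∧ z = 0 ∧ t = 0 := by
  have a := congrArg (ρ u) H
  have c := congrArg (ρ v) H
  simp only [map_add, map_zero, y1, y2, x1, x2, z1, z2, t1, t2] at a c
  have d := congrArg (ρ u) c
  simp only [map_add, map_neg, map_zero, y1, x1, z1, t1] at d
  refine ⟨?_, ?_, ?_, ?_⟩
  · linear_combination (norm := module) H + a + c + d - h3 y
  · linear_combination (norm := module) H + a - c - d - h3 x
  · linear_combination (norm := module) H - a + c - d - h3 z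
  · linear_combination (norm := module) H - a - c + d - h3 t

theorem dec0 (w : E) : ∃ y x z t : E, ρ u y = y ∧ ρ v y = y ∧ ρ u x = x ∧ ρ v x = -x ∧
    ρ u z = -z ∧ ρ v z = z ∧ ρ u t = -t ∧ ρ v t = -t ∧ w = y + x + z + t := by
  refine ⟨w + ρ u w + ρ v w + ρ u (ρ v w), w + ρ u w - ρ v w - ρ u (ρ v w), w - ρ u w + ρ v w - ρ u (ρ v w),
    w - ρ u w - ρ v w + ρ u (ρ v w), ?_, ?_, ?_, ?_, ?_, ?_, ?_, ?_, ?_⟩ <;>
    try (simp only [map_add, map_sub, h.uu, h.vu, h.vv]; abel)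
  linear_combination (norm := module) -h3 w

end Trip

/-- The eigenspaces of the four-group are lines permuted by `b`. -/
structure Fr (ρ : Representation (ZMod 3) G E) (b u v : G) (e : E) : Prop extends Trip b u v where
  e0 : e ≠ 0
  ue : ρ u e = e
  ve : ρ v e = -e
  line : ∀ x, ρ u x = x → ρ v x = -x → ∃ a : ZMod 3, x = a • e
  fix : ∀ x, ρ u x = x → ρ v x = x → ρ b x = x
  W : ∀ x, ∃ a c : ZMod 3, ρ b x - x = a • (ρ b e - e) + c • (ρ b (ρ b e) - ρ b e)

theorem Trip.fr [Finite E] (h : Trip b u v) (hf : Function.Injective ρ)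
    (hW : Module.finrank (ZMod 3) (LinearMap.range (ρ b - 1)) ≤ 2) : ∃ e, Fr ρ b u v e := by
  obtain ⟨e, e1, e2, e0⟩ : ∃ e, ρ u e = e ∧ ρ v e = -e ∧ e ≠ 0 := by
    by_contra hn
    push Not at hn
    refine h.ne (eq_of_ap hf fun w => ?_)
    obtain ⟨y, x, z, t, y1, y2, x1, x2, z1, z2, t1, t2, H⟩ := h.dec0 (ρ := ρ) w
    have hx := hn x x1 x2
    have hz : z = 0 := ap0 (ap0 (hn (ρ b (ρ b z)) (by simp [h.ub, h.vb, z1, z2]) (by simp [h.ub, h.vb, z1, z2])))
    have ht : t = 0 := ap0 (hn (ρ b t) (by simp [h.ub, h.vb, t1, t2]) (by simp [h.ub, h.vb, t1, t2]))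
    rw [H, hx, hz, ht, ap1]; simpa using y1
  have key : ∀ (y x : E) (a c : ZMod 3), ρ u y = y → ρ v y = y → ρ u x = x → ρ v x = -x →
      y + (ρ b x - x) = a • (ρ b e - e) + c • (ρ b (ρ b e) - ρ b e) → y = 0 ∧ x = a • e ∧ c = 0 := by
    intro y x a c y1 y2 x1 x2 H
    obtain ⟨r0, r1, -, r3⟩ := h.ind (ρ := ρ) (y := y) (x := a • e - x) (z := ρ b x - a • ρ b e + c • ρ b e)
      (t := -(c • ρ b (ρ b e))) y1 y2 (by simp [x1, e1]) (by simp [x2, e2]; abel)
      (by simp [h.ub, x1, x2, e1, e2]; abel) (by simp [h.vb, x1, e1])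
      (by simp [h.ub, h.vb, e1, e2]) (by simp [h.ub, h.vb, e1, e2])
      (by linear_combination (norm := module) H)
    refine ⟨r0, (sub_eq_zero.1 r1).symm, ?_⟩
    rcases smul_eq_zero.1 (neg_eq_zero.1 r3) with r | r
    · exact r
    · exact absurd (ap0 (ap0 r)) e0
  have li : LinearIndependent (ZMod 3) ![ρ b e - e, ρ b (ρ b e) - ρ b e] := by
    rw [LinearIndependent.pair_iff]
    intro a c H
    obtain ⟨-, r1, r2⟩ := key 0 0 a c (by simp) (by simp) (by simp) (by simp) (by simp [H])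
    exact ⟨(smul_eq_zero.1 r1.symm).resolve_right e0, r2⟩
  have hle : Submodule.span (ZMod 3) (Set.range ![ρ b e - e, ρ b (ρ b e) - ρ b e]) ≤ LinearMap.range (ρ b - 1) := by
    rw [Submodule.span_le]
    rintro _ ⟨i, rfl⟩
    fin_cases i
    · exact ⟨e, rfl⟩
    · exact ⟨ρ b e, rfl⟩
  have heq := Submodule.eq_of_le_of_finrank_le hle (by rw [finrank_span_eq_card li]; simpa using hW)
  have hWW : ∀ x, ∃ a c : ZMod 3, ρ b x - x = a • (ρ b e - e) + c • (ρ b (ρ b e) - ρ b e) := fun x => by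
    have : ρ b x - x ∈ LinearMap.range (ρ b - 1) := ⟨x, rfl⟩
    rw [← heq, Matrix.range_cons, Matrix.range_cons, Matrix.range_empty, Set.union_empty, Set.singleton_union,
      Submodule.mem_span_pair] at this
    obtain ⟨a, c, H⟩ := this
    exact ⟨a, c, H.symm⟩
  refine ⟨e, h, e0, e1, e2, fun x x1 x2 => ?_, fun x x1 x2 => ?_, hWW⟩
  · obtain ⟨a, c, H⟩ := hWW x
    exact ⟨a, (key 0 x a c (by simp) (by simp) x1 x2 (by simp [H])).2.1⟩
  · obtain ⟨a, c, H⟩ := hWW x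
    exact sub_eq_zero.1 (key (ρ b x - x) 0 a c (by simp [h.ub, x1, x2]) (by simp [h.vb, x1, x2])
      (by simp) (by simp) (by simp [H])).1

namespace Fr

variable (h : Fr ρ b u v e)
include h

theorem u2e : ρ u (ρ b e) = -ρ b e := by simp [h.toTrip.ub, h.ue, h.ve]
theorem v2e : ρ v (ρ b e) = ρ b e := by simp [h.toTrip.vb, h.ue]
theorem u3e : ρ u (ρ b (ρ b e)) = -ρ b (ρ b e) := by rw [h.toTrip.ub, h.v2e, h.u2e, map_neg]
theorem v3e : ρ v (ρ b (ρ b e)) = -ρ b (ρ b e) := by rw [h.toTrip.vb, h.u2e, map_neg]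

theorem line2 (x : E) (x1 : ρ u x = -x) (x2 : ρ v x = x) : ∃ a : ZMod 3, x = a • ρ b e := by
  obtain ⟨a, H⟩ := h.line (ρ b (ρ b x)) (by simp [h.toTrip.ub, h.toTrip.vb, x1, x2])
    (by simp [h.toTrip.ub, h.toTrip.vb, x1, x2])
  exact ⟨a, by rw [← map_smul, ← H, h.toTrip.bbb]⟩

theorem line3 (x : E) (x1 : ρ u x = -x) (x2 : ρ v x = -x) : ∃ a : ZMod 3, x = a • ρ b (ρ b e) := by
  obtain ⟨a, H⟩ := h.line (ρ b x) (by simp [h.toTrip.ub, x1, x2]) (by simp [h.toTrip.vb, x1])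
  exact ⟨a, by rw [← map_smul, ← map_smul, ← H, h.toTrip.bbb]⟩

theorem dec (w : E) : ∃ (y : E) (a c d : ZMod 3), ρ u y = y ∧ ρ v y = y ∧
    w = y + a • e + c • ρ b e + d • ρ b (ρ b e) := by
  obtain ⟨y, x, z, t, y1, y2, x1, x2, z1, z2, t1, t2, H⟩ := h.toTrip.dec0 (ρ := ρ) w
  obtain ⟨a, rfl⟩ := h.line x x1 x2
  obtain ⟨c, rfl⟩ := h.line2 z z1 z2
  obtain ⟨d, rfl⟩ := h.line3 t t1 t2
  exact ⟨y, a, c, d, y1, y2, H⟩

theorem ext (hf : Function.Injective ρ) {g k : G} (h0 : ∀ y, ρ u y = y → ρ v y = y → ρ g y = ρ k y)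
    (h1 : ρ g e = ρ k e) (h2 : ρ g (ρ b e) = ρ k (ρ b e)) (h3 : ρ g (ρ b (ρ b e)) = ρ k (ρ b (ρ b e))) :
    g = k := eq_of_ap hf fun w => by
  obtain ⟨y, a, c, d, y1, y2, rfl⟩ := h.dec w
  simp only [map_add, map_smul, h0 y y1 y2, h1, h2, h3]

theorem sgn {g : G} {x : E} (x0 : x ≠ 0) (H : ∃ a : ZMod 3, ρ g x = a • x) : ρ g x = x ∨ ρ g x = -x := by
  obtain ⟨a, H⟩ := H
  rcases sc a with rfl | rfl | rfl
  · exact absurd (ap0 (H.trans (zero_smul _ _))) x0
  · exact Or.inl (H.trans (one_smul _ _))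
  · exact Or.inr (H.trans (neg_one_smul _ _))

/-- Elements centralising the four-group act by signs on the three lines. -/
theorem signs {g : G} (gu : g * u = u * g) (gv : g * v = v * g) :
    (ρ g e = e ∨ ρ g e = -e) ∧ (ρ g (ρ b e) = ρ b e ∨ ρ g (ρ b e) = -ρ b e) ∧
      (ρ g (ρ b (ρ b e)) = ρ b (ρ b e) ∨ ρ g (ρ b (ρ b e)) = -ρ b (ρ b e)) :=
  ⟨h.sgn h.e0 (h.line _ (by rw [← apc gu, h.ue]) (by rw [← apc gv, h.ve, map_neg])),
    h.sgn (fun r => h.e0 (ap0 r)) (h.line2 _ (by rw [← apc gu, h.u2e, map_neg]) (by rw [← apc gv, h.v2e])),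
    h.sgn (fun r => h.e0 (ap0 (ap0 r)))
      (h.line3 _ (by rw [← apc gu, h.u3e, map_neg]) (by rw [← apc gv, h.v3e, map_neg]))⟩

theorem binv (x : E) : ρ b⁻¹ x = ρ b (ρ b x) := by
  rw [← h.toTrip.bbb (ρ := ρ) (ρ b⁻¹ x), api']

/-- If `g` centralises the four-group then `⁅g, b⁆` lies in it. -/
theorem comm (hf : Function.Injective ρ) {g : G} (gu : g * u = u * g) (gv : g * v = v * g) :
    ⁅g, b⁆ = 1 ∨ ⁅g, b⁆ = u ∨ ⁅g, b⁆ = v ∨ ⁅g, b⁆ = u * v := by
  have gu' : g⁻¹ * u = u * g⁻¹ := (Commute.inv_left gu).eq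
  have gv' : g⁻¹ * v = v * g⁻¹ := (Commute.inv_left gv).eq
  have c0 : ∀ y, ρ u y = y → ρ v y = y → ρ ⁅g, b⁆ y = y := fun y y1 y2 => by
    rw [commutatorElement_def, ap, ap, ap, h.binv, h.fix y y1 y2, h.fix y y1 y2,
      h.fix _ (by rw [← apc gu', y1]) (by rw [← apc gv', y2]), api']
  have inv : ∀ {x : E}, (ρ g x = x → ρ g⁻¹ x = x) ∧ (ρ g x = -x → ρ g⁻¹ x = -x) := fun {x} =>
    ⟨fun r => by conv_lhs => rw [← r, api], fun r => by
      have := api ρ g x
      rw [r, map_neg] at this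
      exact neg_eq_iff_eq_neg.1 this⟩
  have b3 := h.toTrip.bbb (ρ := ρ)
  obtain ⟨s1 | s1, s2 | s2, s3 | s3⟩ := h.signs gu gv
  all_goals
    first | have i1 := inv.1 s1 | have i1 := inv.2 s1
    first | have i2 := inv.1 s2 | have i2 := inv.2 s2
    first | have i3 := inv.1 s3 | have i3 := inv.2 s3
    first
    | (left; refine h.ext hf (fun y y1 y2 => by rw [c0 y y1 y2, ap1]) ?_ ?_ ?_ <;>
        (simp only [commutatorElement_def, ap, ap1, h.binv, b3, s1, s2, s3, i1, i2, i3, map_neg, neg_neg]; done))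
    | (right; left; refine h.ext hf (fun y y1 y2 => by rw [c0 y y1 y2, y1]) ?_ ?_ ?_ <;>
        (simp only [commutatorElement_def, ap, h.binv, b3, s1, s2, s3, i1, i2, i3, map_neg, neg_neg, h.ue, h.u2e,
          h.u3e]; done))
    | (right; right; left; refine h.ext hf (fun y y1 y2 => by rw [c0 y y1 y2, y2]) ?_ ?_ ?_ <;>
        (simp only [commutatorElement_def, ap, h.binv, b3, s1, s2, s3, i1, i2, i3, map_neg, neg_neg, h.ve, h.v2e,
          h.v3e]; done))
    | (right; right; right; refine h.ext hf (fun y y1 y2 => by rw [c0 y y1 y2, ap, y2, y1]) ?_ ?_ ?_ <;>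
        (simp only [commutatorElement_def, ap, h.binv, b3, s1, s2, s3, i1, i2, i3, map_neg, neg_neg, h.ve, h.v2e,
          h.v3e, h.ue, h.u2e, h.u3e]; done))

end Fr

end Cfsg.Lib.Linear.Jb3
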