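import Cfsg.Agent.Lib.Linear.Jb3A
import Cfsg.Agent.Lib.Hall.Product
import Cfsg.Agent.Lib.Coprime.Sylow
import Cfsg.Agent.Lib.PGrp.Critical
import Cfsg.Agent.Lib.Core.Fitting
import Mathlib.LinearAlgebra.Matrix.GeneralLinearGroup.Card

/-! The element of order three centralises the invariant subgroups of odd order. -/

namespace Cfsg.Lib.Linear.Jb3

open Subgroup Cfsg.Lib
open scoped commutatorElement

variable {G : Type*} [Group G] {E : Type*} [AddCommGroup E] [Module (ZMod 3) E]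
  {ρ : Representation (ZMod 3) G E} {b u v : G} {e : E}

/-- The elements whose commutator space lies in `M`. -/
def St (ρ : Representation (ZMod 3) G E) (M : Submodule (ZMod 3) E) : Subgroup G where
  carrier := {g | ∀ x, ρ g x - x ∈ M}
  one_mem' := fun x => by rw [ap1, sub_self]; exact M.zero_mem
  mul_mem' := fun {g h} hg hh x => by
    have := M.add_mem (hg (ρ h x)) (hh x)
    rwa [sub_add_sub_cancel, ← ap] at this
  inv_mem' := fun {g} hg x => by
    have := M.neg_mem (hg (ρ g⁻¹ x))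
    rwa [api', neg_sub] at this

theorem St_mono {M N : Submodule (ZMod 3) E} (h : M ≤ N) : St ρ M ≤ St ρ N := fun _ hg x => h (hg x)

theorem card_dvd [Finite G] [Finite E] (hf : Function.Injective ρ) {Y : Subgroup G} (hY : (Nat.card Y).Coprime 3)
    {M : Submodule (ZMod 3) E} (hM : Y ≤ St ρ M) :
    Nat.card Y ∣ ∏ i : Fin (Module.finrank (ZMod 3) M),
      (3 ^ Module.finrank (ZMod 3) M - 3 ^ (i : ℕ)) := by
  haveI : Fact (Nat.Prime 3) := ⟨Nat.prime_three⟩
  have inv : ∀ y : Y, ∀ x ∈ M, ρ y x ∈ M := fun y x hx => by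
    have := M.add_mem (hM y.2 x) hx
    rwa [sub_add_cancel] at this
  let φ : Y →* Module.End (ZMod 3) M :=
    { toFun := fun y => (ρ y).restrict (inv y)
      map_one' := by ext x; simp
      map_mul' := fun g h => by ext x; simp }
  have hφ : Function.Injective φ.toHomUnits := by
    rw [injective_iff_map_eq_one]
    intro y hy
    have h1 : ∀ x ∈ M, ρ y x = x := fun x hx => by
      have := congrArg (fun f : (Module.End (ZMod 3) M)ˣ => ((f : Module.End (ZMod 3) M) ⟨x, hx⟩ : E)) hy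
      simpa [φ] using this
    have h2 : (y : G) ^ 3 = 1 := eq_of_ap hf fun x => by
      have a := h1 _ (hM y.2 x)
      have a' := congrArg (ρ y) a
      rw [map_sub] at a a'
      rw [map_sub] at a'
      rw [pow_succ, pow_two, ap, ap, ap1]
      linear_combination (norm := module) a' + 2 • a + h3 (ρ y x) - h3 x
    have h4 : orderOf (y : G) ∣ 1 := by
      rw [← (Core.coprime_orderOf_of_mem hY y.2).gcd_eq_one]
      exact Nat.dvd_gcd dvd_rfl (orderOf_dvd_of_pow_eq_one h2)
    exact Subtype.ext (orderOf_eq_one_iff.1 (Nat.dvd_one.1 h4))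
  have h5 := card_dvd_of_injective _ hφ
  have h6 := Nat.card_congr (Units.mapEquiv
    (LinearMap.toMatrixAlgEquiv (Module.finBasis (ZMod 3) M)).toMulEquiv).toEquiv
  have h7 := Matrix.card_GL_field (𝔽 := ZMod 3) (Module.finrank (ZMod 3) M)
  rw [ZMod.card] at h7
  rwa [h6, h7] at h5

theorem card4 [Finite G] [Finite E] (hf : Function.Injective ρ) {Y : Subgroup G} (hY : (Nat.card Y).Coprime 3)
    {M : Submodule (ZMod 3) E} (hM : Y ≤ St ρ M) (hd : Module.finrank (ZMod 3) M ≤ 4) :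
    Nat.card Y ∣ 2 ^ 9 * 5 * 13 := by
  have h := card_dvd hf hY hM
  refine (hY.pow_right 6).dvd_of_dvd_mul_left (h.trans ?_)
  generalize Module.finrank (ZMod 3) M = n at hd
  interval_cases n <;> decide +kernel

theorem card5 [Finite G] [Finite E] (hf : Function.Injective ρ) {Y : Subgroup G} (hY : (Nat.card Y).Coprime 3)
    {M : Submodule (ZMod 3) E} (hM : Y ≤ St ρ M) (hd : Module.finrank (ZMod 3) M ≤ 5) :
    Nat.card Y ∣ 2 ^ 10 * 5 * 11 ^ 2 * 13 := by
  have h := card_dvd hf hY hM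
  refine (hY.pow_right 10).dvd_of_dvd_mul_left (h.trans ?_)
  generalize Module.finrank (ZMod 3) M = n at hd
  interval_cases n <;> decide +kernel

theorem num13 {p n a : ℕ} (hp : p.Prime) (h : p ^ n ∣ 2 ^ 10 * 5 * 11 ^ 2 * 13) (ha : a ≤ n)
    (hm : p ^ n ≡ p ^ a [MOD 13]) : a = n := by
  rcases Nat.eq_zero_or_pos n with rfl | hn
  · omega
  have h1 : p ∣ 2 ^ 10 * 5 * 11 ^ 2 * 13 := (dvd_pow_self p hn.ne').trans h
  have h2 : p = 2 ∨ p = 5 ∨ p = 11 ∨ p = 13 := by
    rcases (Nat.Prime.dvd_mul hp).1 h1 with h1 | h1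
    · rcases (Nat.Prime.dvd_mul hp).1 h1 with h1 | h1
      · rcases (Nat.Prime.dvd_mul hp).1 h1 with h1 | h1
        · exact Or.inl ((Nat.prime_dvd_prime_iff_eq hp Nat.prime_two).1 (hp.dvd_of_dvd_pow h1))
        · exact Or.inr (Or.inl ((Nat.prime_dvd_prime_iff_eq hp Nat.prime_five).1 h1))
      · exact Or.inr (Or.inr (Or.inl ((Nat.prime_dvd_prime_iff_eq hp (by norm_num)).1 (hp.dvd_of_dvd_pow h1))))
    · exact Or.inr (Or.inr (Or.inr ((Nat.prime_dvd_prime_iff_eq hp (by norm_num)).1 h1)))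
  have h3 : n ≤ 10 := by
    by_contra hc
    have := (pow_dvd_pow p (show 11 ≤ n by omega)).trans h
    rcases h2 with rfl | rfl | rfl | rfl <;> revert this <;> decide +kernel
  unfold Nat.ModEq at hm
  rcases h2 with rfl | rfl | rfl | rfl <;> interval_cases n <;> (try (exfalso; revert h; decide +kernel)) <;>
    interval_cases a <;> first | rfl | (exfalso; revert hm; decide +kernel)

theorem num4 {q k : ℕ} (hp : q.Prime) (h2 : q ≠ 2) (h : q ^ k ∣ 2 ^ 9 * 5 * 13) :
    q ^ k = 1 ∨ q ^ k = 5 ∨ q ^ k = 13 := by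
  have h1 : q ^ k ∣ 65 := (((Nat.coprime_primes hp Nat.prime_two).2 h2).pow k 9).dvd_of_dvd_mul_left h
  have h3 : q ^ k ≠ 65 := fun h4 => by
    have a : 5 ∣ q ^ k := h4 ▸ by norm_num
    have c : 13 ∣ q ^ k := h4 ▸ by norm_num
    have a' := (Nat.prime_dvd_prime_iff_eq Nat.prime_five hp).1 (Nat.prime_five.dvd_of_dvd_pow a)
    have c' := (Nat.prime_dvd_prime_iff_eq (by norm_num) hp).1 ((by norm_num : Nat.Prime 13).dvd_of_dvd_pow c)
    omega
  generalize q ^ k = m at h1 h3
  have := Nat.le_of_dvd (by norm_num) h1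
  interval_cases m <;> first | omega | (exfalso; revert h1; decide)

/-- A subgroup of order `13` of a small solvable group is normal. -/
theorem normal13 {Y : Type*} [Group Y] [Finite Y] [Group.IsSolvable Y] (hY : Nat.card Y ∣ 2 ^ 10 * 5 * 11 ^ 2 * 13)
    {K : Subgroup Y} (hK : Nat.card K = 13) : K.Normal := by
  haveI : Fact (Nat.Prime 13) := ⟨by norm_num⟩
  have hp : IsPGroup 13 K := IsPGroup.of_card (n := 1) (by simpa using hK)
  have h1 : fittingSubgroup Y ≤ centralizer (K : Set Y) := Core.fitting_le_of_forall_pCore_le fun p hp' => by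
    haveI : Fact p.Prime := ⟨hp'⟩
    haveI := Core.pCore_characteristic p Y
    have h2 := PGrp.card_modEq_card_inf_centralizer (H := pCore p Y) hp (by rw [normalizer_eq_top]; exact le_top)
    obtain ⟨n, hn⟩ := (Core.isPGroup_pCore p Y).exists_card_eq
    obtain ⟨a, ha, h4⟩ := (Nat.dvd_prime_pow hp').1
      (hn ▸ card_dvd_of_le (inf_le_left : pCore p Y ⊓ centralizer (K : Set Y) ≤ _))
    rw [hn, h4] at h2
    have := num13 hp' (hn ▸ (card_subgroup_dvd_card _).trans hY) ha h2
    exact inf_eq_left.1 (eq_of_le_of_card_ge inf_le_left (by rw [hn, h4, this]))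
  have h2 : K ≤ pCore 13 Y := Core.le_pCore_of_le_fitting Fact.out hp
    ((le_centralizer_iff.1 h1).trans Core.centralizer_fitting_le)
  obtain ⟨n, hn⟩ := (Core.isPGroup_pCore 13 Y).exists_card_eq
  have h3 : n ≤ 1 := by
    by_contra hc
    have := ((pow_dvd_pow 13 (show 2 ≤ n by omega)).trans (hn ▸ card_subgroup_dvd_card (pCore 13 Y))).trans hY
    revert this; decide +kernel
  have h4 : K = pCore 13 Y := eq_of_le_of_card_ge h2 (by
    rw [hn, hK]; exact (Nat.pow_le_pow_right (by norm_num) h3).trans (by norm_num))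
  haveI := Core.pCore_characteristic 13 Y
  rw [h4]; infer_instance

theorem comm_cyc {c g h : G} (hg' : g⁻¹ * c * g ∈ zpowers c)
    (hh' : h⁻¹ * c * h ∈ zpowers c) : c * ⁅g, h⁆ = ⁅g, h⁆ * c := by
  obtain ⟨s, hs⟩ := mem_zpowers_iff.1 hg'
  obtain ⟨t, ht⟩ := mem_zpowers_iff.1 hh'
  have a : ∀ (x : G) (n : ℤ), x⁻¹ * c ^ n * x = (x⁻¹ * c * x) ^ n := fun x n => by
    simpa using (conj_zpow (a := x⁻¹) (b := c) (i := n)).symm
  have k : (g * h)⁻¹ * c * (g * h) = (h * g)⁻¹ * c * (h * g) := by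
    calc (g * h)⁻¹ * c * (g * h) = h⁻¹ * (g⁻¹ * c * g) * h := by group
      _ = (c ^ t) ^ s := by rw [← hs, a, ht]
      _ = (c ^ s) ^ t := by rw [← zpow_mul, ← zpow_mul, mul_comm]
      _ = g⁻¹ * (h⁻¹ * c * h) * g := by rw [← ht, a, hs]
      _ = _ := by group
  calc c * ⁅g, h⁆ = (g * h) * ((g * h)⁻¹ * c * (g * h)) * (h * g)⁻¹ := by rw [commutatorElement_def]; group
    _ = _ := by rw [k, commutatorElement_def]; group

end Cfsg.Lib.Linear.Jb3
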