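import Cfsg.Agent.Lib.Linear.Jb3B

/-! The commutator of the `3'`-group with the element of order three is a `2`-group. -/

namespace Cfsg.Lib.Linear.Jb3

open Subgroup Cfsg.Lib
open scoped commutatorElement

variable {G : Type*} [Group G] [Finite G] {E : Type*} [AddCommGroup E] [Module (ZMod 3) E] [Finite E]
  {ρ : Representation (ZMod 3) G E} {b u v : G} {e : E}

omit [Finite G] [Finite E] in
theorem conj_St {M : Submodule (ZMod 3) E} {g : G} (hg : g ∈ St ρ M) (x : G) :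
    x * g * x⁻¹ ∈ St ρ (M.map (ρ x)) := fun y =>
  ⟨_, hg (ρ x⁻¹ y), by rw [map_sub, api', ap, ap]⟩

theorem norm_of_conj {K : Subgroup G} {g : G} (h : ∀ k ∈ K, g * k * g⁻¹ ∈ K) : g ∈ normalizer (K : Set G) :=
  mem_normalizer_fintype h

theorem cent_odd [Group.IsSolvable G] (hf : Function.Injective ρ) (h : Fr ρ b u v e)
    (hW : Module.finrank (ZMod 3) (LinearMap.range (ρ b - 1)) ≤ 2) {H T : Subgroup G}
    (hH : (Nat.card H).Coprime 3) (hb : b ∈ normalizer (H : Set G)) (hu : u ∈ H) (hv : v ∈ H) (hT : T ≤ H) {q : ℕ}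
    (hq : q.Prime) (h2 : q ≠ 2) (hp : IsPGroup q T) (hbT : b ∈ normalizer (T : Set G)) {x : G} (hx : x ∈ T) :
    x * b = b * x := by
  haveI : Fact q.Prime := ⟨hq⟩
  haveI : Fact (Nat.Prime 3) := ⟨Nat.prime_three⟩
  have b3 : b ^ 3 = 1 := by rw [pow_succ, pow_two, h.b3]
  set W := LinearMap.range (ρ b - 1) with hWd
  have bW : b ∈ St ρ W := fun y => ⟨y, rfl⟩
  have hW' : Module.finrank (ZMod 3) (W.map (ρ x)) ≤ 2 := (Submodule.finrank_map_le _ _).trans hW
  set K := St ρ (W ⊔ W.map (ρ x)) ⊓ T with hK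
  have bM : b ∈ St ρ (W ⊔ W.map (ρ x)) := St_mono le_sup_left bW
  have cT : ⁅x, b⁆ ∈ T := by
    have := T.mul_mem hx ((mem_normalizer_iff.1 hbT _).1 (T.inv_mem hx))
    rwa [← mul_assoc, ← mul_assoc, ← commutatorElement_def] at this
  have cK : ⁅x, b⁆ ∈ K := mem_inf.2 ⟨mul_mem (St_mono le_sup_right (conj_St bW x)) (inv_mem bM), cT⟩
  have bK : b ∈ normalizer (K : Set G) := norm_of_conj fun k hk =>
    mem_inf.2 ⟨mul_mem (mul_mem bM (mem_inf.1 hk).1) (inv_mem bM), (mem_normalizer_iff.1 hbT _).1 hk.2⟩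
  have KH : K ≤ H := inf_le_right.trans hT
  obtain ⟨k, hk⟩ := (hp.to_le (inf_le_right : K ≤ T)).exists_card_eq
  have h4 := card4 hf (Core.coprime_of_le hH KH) (inf_le_left : K ≤ _)
    ((Submodule.finrank_add_le_finrank_add_finrank _ _).trans (by omega))
  -- it suffices that `b` centralises `K`
  have fin : (∀ c ∈ K, c * b = b * c) → x * b = b * x := fun hc => by
    have c3 : ⁅x, b⁆ ^ 3 = 1 := by
      have a : (⁅x, b⁆ * b) ^ 3 = 1 := by
        rw [commutatorElement_def, inv_mul_cancel_right, conj_pow, b3]; group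
      rwa [Commute.mul_pow (hc _ cK), b3, mul_one] at a
    have h5 : orderOf ⁅x, b⁆ ∣ 1 := by
      rw [← (Core.coprime_orderOf_of_mem hH (hT cT)).gcd_eq_one]
      exact Nat.dvd_gcd dvd_rfl (orderOf_dvd_of_pow_eq_one c3)
    exact commutatorElement_eq_one_iff_mul_comm.1 (orderOf_eq_one_iff.1 (Nat.dvd_one.1 h5))
  rw [hk] at h4
  rcases num4 hq h2 h4 with h5 | h5 | h5 <;> rw [← hk] at h5
  · exact fin fun c hc => by rw [mem_bot.1 ((card_eq_one.1 h5).le hc), one_mul, mul_one]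
  · have a := PGrp.card_modEq_card_inf_centralizer (H := K)
      (Core.isPGroup_zpowers_of_pow_eq_one (p := 3) (k := 1) (x := b) (by simpa using b3)) (zpowers_le.2 bK)
    have c := card_dvd_of_le (inf_le_left : K ⊓ centralizer (zpowers b : Set G) ≤ _)
    rw [h5] at a c
    have d : Nat.card ↥(K ⊓ centralizer (zpowers b : Set G)) = 5 :=
      ((Nat.dvd_prime Nat.prime_five).1 c).resolve_left fun d => by rw [d] at a; revert a; decide
    have := inf_eq_left.1 (eq_of_le_of_card_ge (inf_le_left : K ⊓ centralizer (zpowers b : Set G) ≤ _) (by rw [d, h5]))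
    exact fin fun c hc => (mem_centralizer_iff.1 (this hc) b (mem_zpowers b)).symm
  refine fin fun c hc => ?_
  by_cases c1 : c = 1
  · rw [c1, one_mul, mul_one]
  set U := Submodule.span (ZMod 3) (Set.range ![e, ρ b e, ρ b (ρ b e)]) with hU
  have e1 : e ∈ U := Submodule.subset_span ⟨0, rfl⟩
  have e2 : ρ b e ∈ U := Submodule.subset_span ⟨1, rfl⟩
  have e3 : ρ b (ρ b e) ∈ U := Submodule.subset_span ⟨2, rfl⟩
  have hUd : Module.finrank (ZMod 3) U ≤ 3 :=
    (finrank_range_le_card (R := ZMod 3) ![e, ρ b e, ρ b (ρ b e)]).trans (by simp)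
  have WU : W ≤ U := by
    rintro _ ⟨y, rfl⟩
    obtain ⟨a, c, H⟩ := h.W y
    have : (ρ b - 1) y = ρ b y - y := rfl
    rw [this, H]
    exact add_mem (U.smul_mem _ (sub_mem e2 e1)) (U.smul_mem _ (sub_mem e3 e2))
  have uU : u ∈ St ρ U := fun w => by
    obtain ⟨y, a, c, d, y1, y2, rfl⟩ := h.dec w
    have : ρ u (y + a • e + c • ρ b e + d • ρ b (ρ b e)) - (y + a • e + c • ρ b e + d • ρ b (ρ b e)) =
        (-2 * c) • ρ b e + (-2 * d) • ρ b (ρ b e) := by
      simp only [map_add, map_smul, y1, h.ue, h.u2e, h.u3e]; module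
    rw [this]; exact add_mem (U.smul_mem _ e2) (U.smul_mem _ e3)
  have bU : b ∈ St ρ U := St_mono WU bW
  have vU : v ∈ St ρ U := by
    have : v = b * u * b⁻¹ := by rw [h.bu]; group
    rw [this]; exact mul_mem (mul_mem bU uU) (inv_mem bU)
  set Y := St ρ (U ⊔ W.map (ρ x)) ⊓ H with hY
  have KY : K ≤ Y := inf_le_inf (St_mono (sup_le_sup_right WU _)) hT
  have hN : (K.subgroupOf Y).Normal := normal13
    (card5 hf (Core.coprime_of_le hH inf_le_right) (inf_le_left : Y ≤ _)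
      ((Submodule.finrank_add_le_finrank_add_finrank _ _).trans (by omega)))
    (by rw [Nat.card_congr (subgroupOfEquivOfLe KY).toEquiv, h5])
  have hN' := (normal_subgroupOf_iff_le_normalizer KY).1 hN
  have uK := hN' (⟨St_mono le_sup_left uU, hu⟩ : u ∈ Y)
  have vK := hN' (⟨St_mono le_sup_left vU, hv⟩ : v ∈ Y)
  have hz : zpowers c = K := eq_of_le_of_card_ge (zpowers_le.2 hc) (by
    have a := card_dvd_of_le (zpowers_le.2 hc)
    rw [h5] at a ⊢
    exact (((Nat.dvd_prime (by norm_num)).1 a).resolve_left fun d => c1 (zpowers_eq_bot.1 (card_eq_one.1 d))).ge)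
  have nc : ∀ g ∈ normalizer (K : Set G), g⁻¹ * c * g ∈ zpowers c := fun g hg => by
    rw [hz]; simpa using (mem_normalizer_iff.1 (inv_mem hg) c).1 hc
  have vi : v⁻¹ = v := inv_eq_of_mul_eq_one_right h.toTrip.v2
  have ui : u⁻¹ = u := inv_eq_of_mul_eq_one_right h.u2
  have eu : ⁅v, b⁆ = u := by
    rw [commutatorElement_def, vi, mul_assoc v b v, h.bv, ← mul_assoc, ← mul_assoc, ← h.uv, mul_assoc u v v,
      h.toTrip.v2]; group
  have ev : ⁅u * v, b⁆ = v := by
    rw [commutatorElement_def, mul_inv_rev, ui, vi, ← h.uv, mul_assoc _ b, h.toTrip.bw, h.uv, ← mul_assoc,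
      mul_assoc v u u, h.u2]; group
  have cu := comm_cyc (nc v vK) (nc b bK)
  have cv := comm_cyc (nc _ (mul_mem uK vK)) (nc b bK)
  rw [eu] at cu
  rw [ev] at cv
  have d2 : ⁅c, b⁆ ^ 2 = 1 := by
    rcases h.comm hf cu cv with r | r | r | r <;> rw [r, sq]
    · exact mul_one 1
    · exact h.u2
    · exact h.toTrip.v2
    · exact h.toTrip.shift.v2
  have dK : ⁅c, b⁆ ∈ K := by
    have := K.mul_mem hc ((mem_normalizer_iff.1 bK _).1 (K.inv_mem hc))
    rwa [← mul_assoc, ← mul_assoc, ← commutatorElement_def] at this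
  have d13 : orderOf ⁅c, b⁆ ∣ 13 := h5 ▸ orderOf_dvd_natCard K dK
  exact commutatorElement_eq_one_iff_mul_comm.1 (orderOf_eq_one_iff.1
    (Nat.eq_one_of_dvd_coprimes (by norm_num : Nat.Coprime 2 13) (orderOf_dvd_of_pow_eq_one d2) d13))

theorem two_group [Group.IsSolvable G] (hf : Function.Injective ρ) (h : Fr ρ b u v e)
    (hW : Module.finrank (ZMod 3) (LinearMap.range (ρ b - 1)) ≤ 2) {H : Subgroup G}
    (hH : (Nat.card H).Coprime 3) (hb : zpowers b ≤ normalizer (H : Set G)) (hB : Nat.card (zpowers b) = 3)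
    (hu : u ∈ H) (hv : v ∈ H) : IsPGroup 2 ↥⁅H, zpowers b⁆ := by
  haveI : Fact (Nat.Prime 2) := ⟨Nat.prime_two⟩
  have hc : (Nat.card (zpowers b)).Coprime (Nat.card H) := hB ▸ hH.symm
  obtain ⟨T, hT, hBT⟩ := Coprime.exists_invariant_sylowIn hb hc (Or.inr inferInstance) 2
  have hcop : (T.subgroupOf H).index.Coprime ((centralizer (zpowers b : Set G)).subgroupOf H).index := by
    refine Nat.Coprime.symm (Nat.coprime_of_dvd fun q hq q1 q2 => ?_)
    haveI : Fact q.Prime := ⟨hq⟩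
    have h2 : q ≠ 2 := fun h2 => hT.3 (h2 ▸ q2)
    obtain ⟨Q, hQ, hBQ⟩ := Coprime.exists_invariant_sylowIn hb hc (Or.inr inferInstance) q
    have : Q ≤ centralizer (zpowers b : Set G) := fun x hx => by
      have a : Commute x b := cent_odd hf h hW hH (hb (mem_zpowers b)) hu hv hQ.1 hq h2 hQ.2 (hBQ (mem_zpowers b)) hx
      rintro _ ⟨n, rfl⟩
      exact (a.zpow_right n).eq.symm
    exact hQ.3 (q1.trans (relIndex_dvd_of_le_left H this))
  refine hT.2.to_le (commutator_le.2 fun x hx β hβ => ?_)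
  obtain ⟨t, ht, c, hc, H⟩ := Hall.factor_of_coprime_index hcop ⟨x, hx⟩
  have H' : x = t * c := congrArg Subtype.val H
  have a : β * c = c * β := mem_centralizer_iff.1 (mem_subgroupOf.1 hc) β hβ
  have : ⁅x, β⁆ = t * (β * (t : G)⁻¹ * β⁻¹) := by
    rw [H', commutatorElement_def, mul_assoc (t : G) c β, ← a]; group
  rw [this]
  exact T.mul_mem ht ((mem_normalizer_iff.1 (hBT hβ) _).1 (T.inv_mem ht))

end Cfsg.Lib.Linear.Jb3
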