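import Cfsg.Agent.Lib.Linear.Jb3C
import Cfsg.Agent.Lib.PGrp.Extra

/-! The `2`-group extended by the element of order three: generalities and the four-group case. -/

namespace Cfsg.Lib.Linear.Jb3

open Subgroup Cfsg.Lib
open scoped commutatorElement

variable {G : Type*} [Group G] [Finite G] {E : Type*} [AddCommGroup E] [Module (ZMod 3) E] [Finite E]
  {ρ : Representation (ZMod 3) G E} {b u v z : G} {e : E} {P : Subgroup G}

structure Ctx (ρ : Representation (ZMod 3) G E) (P : Subgroup G) (b : G) : Prop where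
  hf : Function.Injective ρ
  hW : Module.finrank (ZMod 3) (LinearMap.range (ρ b - 1)) ≤ 2
  nor : P.Normal
  two : IsPGroup 2 P
  gen : ∀ N : Subgroup G, N.Normal → (∀ p ∈ P, ⁅p, b⁆ ∈ N) → P ≤ N
  top : ∀ g, ∃ p ∈ P, ∃ n : ℕ, g = p * b ^ n
  b3 : b * b * b = 1

/-- The conclusion. -/
def Concl (ρ : Representation (ZMod 3) G E) (P : Subgroup G) : Prop :=
  ((IsElementaryAbelian 2 P ∧ Nat.card P = 4) ∨ (IsExtraspecial 2 P ∧ Nat.card P = 32 ∧
    ∃ A : Subgroup G, A ≤ P ∧ IsElementaryAbelian 2 A ∧ Nat.card A = 8)) ∧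
  ∃ F₀ F₁ : Submodule (ZMod 3) E, F₀ ⊓ F₁ = ⊥ ∧ F₀ ⊔ F₁ = ⊤ ∧ (∀ g, ∀ x ∈ F₁, ρ g x = x) ∧
    (∀ g, ∀ x ∈ F₀, ρ g x ∈ F₀) ∧ ∀ N : Submodule (ZMod 3) E, N ≤ F₀ → (∀ g, ∀ x ∈ N, ρ g x ∈ N) → N = ⊥ ∨ N = F₀

omit [Finite G] in
theorem elem_of_sq {A : Subgroup G} (h : ∀ a ∈ A, a * a = 1) : IsElementaryAbelian 2 A := by
  refine ⟨⟨⟨fun x y => Subtype.ext ?_⟩⟩, fun a ha => by rw [sq, h a ha]⟩
  have i : ∀ a ∈ A, a⁻¹ = a := fun a ha => inv_eq_of_mul_eq_one_right (h a ha)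
  have := i _ (A.mul_mem x.2 y.2)
  rw [mul_inv_rev, i _ x.2, i _ y.2] at this
  exact this.symm

namespace Ctx

variable (c : Ctx ρ P b)
include c

theorem le {S : Subgroup G} (hP : P ≤ S) (hb : b ∈ S) (g : G) : g ∈ S := by
  obtain ⟨p, hp, n, rfl⟩ := c.top g
  exact S.mul_mem (hP hp) (S.pow_mem hb n)

theorem normal {L : Subgroup G} (hP : ∀ p ∈ P, ∀ x ∈ L, p * x * p⁻¹ ∈ L) (hb : ∀ x ∈ L, b * x * b⁻¹ ∈ L) :
    L.Normal :=
  normalizer_eq_top_iff.1 (eq_top_iff.2 fun g _ => c.le (fun p hp => norm_of_conj (hP p hp)) (norm_of_conj hb) g)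

theorem cen {a : G} (hP : ∀ p ∈ P, p * a = a * p) (hb : b * a = a * b) (g : G) : g * a = a * g :=
  mem_centralizer_singleton_iff.1 (c.le (S := centralizer {a})
    (fun p hp => mem_centralizer_singleton_iff.2 (hP p hp)) (mem_centralizer_singleton_iff.2 hb) g)

theorem gen' (N : Subgroup G) (hN : N.Normal) (hb : b ∈ N) (g : G) : g ∈ N :=
  c.le (c.gen N hN fun p _ => N.mul_mem (hN.conj_mem b hb p) (N.inv_mem hb)) hb g

theorem inv {F : Submodule (ZMod 3) E} (hP : ∀ p ∈ P, ∀ x ∈ F, ρ p x ∈ F) (hb : ∀ x ∈ F, ρ b x ∈ F) (g : G) :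
    ∀ x ∈ F, ρ g x ∈ F := by
  obtain ⟨p, hp, n, rfl⟩ := c.top g
  intro x hx
  rw [ap]
  refine hP p hp _ ?_
  induction n with
  | zero => rwa [pow_zero, ap1]
  | succ n ih => rw [pow_succ', ap]; exact hb _ ih

theorem triv {F : E → Prop} (hF : ∀ g x, F x → F (ρ g x)) (hb : ∀ x, F x → ρ b x = x) (g : G) :
    ∀ x, F x → ρ g x = x :=
  c.gen' { carrier := {g | ∀ x, F x → ρ g x = x}
           one_mem' := fun x _ => ap1 ρ x
           mul_mem' := fun {g h} hg hh x hx => by rw [ap, hh x hx, hg x hx]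
           inv_mem' := fun {g} hg x hx => by conv_lhs => rw [← hg x hx, api] }
    ⟨fun n hn g x hx => by rw [ap, ap, hn _ (hF _ x hx), api']⟩ hb g

theorem det {p : G} (hp : p ∈ P) : LinearMap.det (ρ p) = 1 := by
  have := c.gen (LinearMap.det.comp ρ).toHomUnits.ker inferInstance (fun p _ => by
    rw [MonoidHom.mem_ker, map_commutatorElement]
    exact commutatorElement_eq_one_iff_mul_comm.2 (mul_comm _ _)) hp
  simpa using congrArg Units.val (MonoidHom.mem_ker.1 this)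

theorem conj {p : G} (hp : p ∈ P) (g : G) : g * p * g⁻¹ ∈ P := c.nor.conj_mem p hp g

theorem conj' {p : G} (hp : p ∈ P) (g : G) : g⁻¹ * p * g ∈ P := c.nor.conj_mem' p hp g

end Ctx

omit [Finite G] in
theorem Trip.ve (h : Trip b u v) : v = b * u * b⁻¹ := by rw [h.bu]; group

/-- The four-group. -/
def Trip.Q (h : Trip b u v) : Subgroup G where
  carrier := {x | x = 1 ∨ x = u ∨ x = v ∨ x = u * v}
  one_mem' := Or.inl rfl
  mul_mem' := by
    have a1 : ∀ x, u * (u * x) = x := fun x => by rw [← mul_assoc, h.u2, one_mul]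
    have a2 : ∀ x, v * (v * x) = x := fun x => by rw [← mul_assoc, h.v2, one_mul]
    have a3 : ∀ x, v * (u * x) = u * (v * x) := fun x => by rw [← mul_assoc, ← h.uv, mul_assoc]
    rintro x y (hx | hx | hx | hx) (hy | hy | hy | hy) <;> rw [hx, hy] <;>
      simp [mul_assoc, a1, a2, a3, h.u2, h.v2, h.uv.symm]
  inv_mem' := by
    rintro x (hx | hx | hx | hx) <;> rw [hx]
    · exact Or.inl inv_one
    · exact Or.inr (Or.inl (inv_eq_of_mul_eq_one_right h.u2))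
    · exact Or.inr (Or.inr (Or.inl (inv_eq_of_mul_eq_one_right h.v2)))
    · exact Or.inr (Or.inr (Or.inr (inv_eq_of_mul_eq_one_right h.shift.v2)))

namespace Trip

variable (h : Trip b u v)

omit [Finite G] in
theorem uQ : u ∈ h.Q := Or.inr (Or.inl rfl)
omit [Finite G] in
theorem vQ : v ∈ h.Q := Or.inr (Or.inr (Or.inl rfl))

omit [Finite G] in
theorem Qsq : ∀ q ∈ h.Q, q * q = 1 := by
  rintro x (hx | hx | hx | hx) <;> rw [hx]
  exacts [mul_one 1, h.u2, h.v2, h.shift.v2]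

omit [Finite G] in
theorem Qle {S : Subgroup G} (hu : u ∈ S) (hv : v ∈ S) : h.Q ≤ S := by
  rintro x (hx | hx | hx | hx) <;> rw [hx]
  exacts [S.one_mem, hu, hv, S.mul_mem hu hv]

omit [Finite G] in
theorem Qb : ∀ q ∈ h.Q, b * q * b⁻¹ ∈ h.Q := by
  rintro x (hx | hx | hx | hx) <;> rw [hx]
  · simpa using h.Q.one_mem
  · rw [← h.ve]; exact h.vQ
  · rw [← h.shift.ve]; exact h.Q.mul_mem h.uQ h.vQ
  · rw [h.bw, mul_inv_cancel_right]; exact h.uQ

omit [Finite G] in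
theorem Qnb : ∀ q ∈ h.Q, b * q = q * b → q = 1 := by
  rintro x (hx | hx | hx | hx) hc
  · exact hx
  · exact absurd (hx ▸ hc) h.nb
  · exact absurd (hx ▸ hc) h.shift.nb
  · exact absurd (hx ▸ hc) h.shift.shift.nb

theorem Qcard : Nat.card h.Q = 4 := by
  haveI : Fact (Nat.Prime 2) := ⟨Nat.prime_two⟩
  have u2 : u ^ 2 = 1 := by rw [sq, h.u2]
  have e1 : h.Q = zpowers u ⊔ zpowers v := le_antisymm
    (h.Qle (mem_sup_left (mem_zpowers u)) (mem_sup_right (mem_zpowers v)))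
    (sup_le (zpowers_le.2 h.uQ) (zpowers_le.2 h.vQ))
  rw [e1, PGrp.card_sup_zpowers_of_mem_normalizer (p := 2), Scn.card_zpowers_two u2 h.ne]
  · refine norm_of_conj fun k hk => ?_
    rcases Scn.mem_zpowers_two u2 hk with r | r <;> rw [r]
    · simp
    · rw [← h.uv]; simp
  · intro hv
    rcases Scn.mem_zpowers_two u2 hv with r | r
    · exact h.shift.ne r
    · exact h.nb (by rw [h.bu, r])
  · rw [sq, h.v2]; exact one_mem _

end Trip

omit [Finite G] [Finite E] in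
theorem Fr.irr (h : Fr ρ b u v e) {N : Submodule (ZMod 3) E} (hN : ∀ g, ∀ x ∈ N, ρ g x ∈ N) (h0 : N ≠ ⊥) :
    e ∈ N ∨ ∃ y ∈ N, y ≠ 0 ∧ ρ u y = y ∧ ρ v y = y := by
  obtain ⟨w, hw, w0⟩ := (Submodule.ne_bot_iff N).1 h0
  obtain ⟨y, a, c, d, y1, y2, H⟩ := h.dec w
  have k : ∀ {s : ZMod 3} {x : E}, s • x ∈ N → s ≠ 0 → x ∈ N := fun hs s0 => (N.smul_mem_iff s0).1 hs
  have a1 := hN u w hw
  have a2 := hN v w hw
  have a3 := hN u _ a2
  rw [H] at hw a1 a2 a3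
  simp only [map_add, map_smul, map_neg, y1, y2, h.ue, h.ve, h.u2e, h.v2e, h.u3e, h.v3e] at a1 a2 a3
  by_cases ha : a = 0
  · by_cases hc : c = 0
    · by_cases hd : d = 0
      · exact Or.inr ⟨y, by simpa [ha, hc, hd] using hw, by simpa [ha, hc, hd, H] using w0, y1, y2⟩
      · have : d • ρ b (ρ b e) ∈ N := by
          convert add_mem (sub_mem (sub_mem hw a1) a2) a3 using 1
          linear_combination (norm := module) -h3 (d • ρ b (ρ b e))
        exact Or.inl (h.toTrip.bbb (ρ := ρ) e ▸ hN b _ (k this hd))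
    · have : c • ρ b e ∈ N := by
        convert sub_mem (add_mem (sub_mem hw a1) a2) a3 using 1
        linear_combination (norm := module) -h3 (c • ρ b e)
      exact Or.inl (h.toTrip.bbb (ρ := ρ) e ▸ hN b _ (hN b _ (k this hc)))
  · have : a • e ∈ N := by
      convert sub_mem (sub_mem (add_mem hw a1) a2) a3 using 1
      linear_combination (norm := module) -h3 (a • e)
    exact Or.inl (k this ha)

theorem caseA (c : Ctx ρ P b) (t : Trip b u v) (hu : u ∈ P) (hc : ∀ p ∈ P, p * u = u * p) : Concl ρ P := by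
  obtain ⟨e, h⟩ := t.fr c.hf c.hW
  have hv : v ∈ P := t.ve ▸ c.conj hu b
  have hc' : ∀ p ∈ P, p * v = v * p := fun p hp => by
    have := hc _ (c.conj' hp b)
    rw [t.ve]
    calc p * (b * u * b⁻¹) = b * (b⁻¹ * p * b * u) * b⁻¹ := by group
      _ = _ := by rw [this]; group
  have hQ : P = t.Q := le_antisymm (c.gen _ (c.normal (fun p hp x hx => by
    have : x ∈ centralizer {p} := t.Qle (mem_centralizer_singleton_iff.2 (hc p hp).symm)
      (mem_centralizer_singleton_iff.2 (hc' p hp).symm) hx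
    rwa [← mem_centralizer_singleton_iff.1 this, mul_inv_cancel_right]) t.Qb)
    fun p hp => h.comm c.hf (hc p hp) (hc' p hp)) (t.Qle hu hv)
  let F₀ : Submodule (ZMod 3) E := LinearMap.ker (1 + ρ u + ρ v + ρ u * ρ v)
  have m0 : ∀ x, x ∈ F₀ ↔ x + ρ u x + ρ v x + ρ u (ρ v x) = 0 := fun x => Iff.rfl
  let F₁ : Submodule (ZMod 3) E := LinearMap.ker (ρ u - 1) ⊓ LinearMap.ker (ρ v - 1)
  have m1 : ∀ x, x ∈ F₁ ↔ ρ u x = x ∧ ρ v x = x := fun x => and_congr sub_eq_zero sub_eq_zero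
  have d0 : ∀ y ∈ F₀, ρ u y = y → ρ v y = y → y = 0 := fun y hy y1 y2 => by
    rw [m0, y2, y1] at hy
    linear_combination (norm := module) hy - h3 y
  have i0 : ∀ g, ∀ x ∈ F₀, ρ g x ∈ F₀ := c.inv (fun p hp x hx => by
    rw [m0] at hx ⊢
    simp only [← apc (hc p hp), ← apc (hc' p hp), ← map_add, hx, map_zero]) fun x hx => by
    rw [m0] at hx ⊢
    rw [t.vb, t.ub, t.ub, t.vu, t.uu, ← map_add, ← map_add, ← map_add, ← map_zero (ρ b), ← hx]
    congr 1; abel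
  have e0 : e ∈ F₀ := by rw [m0]; simp [h.ue, h.ve]
  have U : ∀ {N : Submodule (ZMod 3) E}, (∀ g, ∀ x ∈ N, ρ g x ∈ N) → e ∈ N → ∀ a c d : ZMod 3,
      a • e + c • ρ b e + d • ρ b (ρ b e) ∈ N := fun {N} hN he a c d =>
    add_mem (add_mem (N.smul_mem _ he) (N.smul_mem _ (hN b _ he))) (N.smul_mem _ (hN b _ (hN b _ he)))
  refine ⟨Or.inl ⟨hQ ▸ elem_of_sq t.Qsq, hQ ▸ t.Qcard⟩, F₀, F₁, ?_, ?_, ?_, i0, fun N hN hN' => ?_⟩
  · exact eq_bot_iff.2 fun x hx => d0 x hx.1 ((m1 x).1 hx.2).1 ((m1 x).1 hx.2).2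
  · refine eq_top_iff.2 fun w _ => ?_
    obtain ⟨y, a, c, d, y1, y2, H⟩ := h.dec w
    refine Submodule.mem_sup.2 ⟨_, U i0 e0 a c d, y, (m1 y).2 ⟨y1, y2⟩, ?_⟩
    rw [H]; abel
  · have i1 : ∀ g, ∀ x ∈ F₁, ρ g x ∈ F₁ := c.inv (fun p hp x hx => by
      rw [m1] at hx ⊢
      rw [← apc (hc p hp), ← apc (hc' p hp), hx.1, hx.2]; exact ⟨rfl, rfl⟩) fun x hx => by
      rwa [h.fix x ((m1 x).1 hx).1 ((m1 x).1 hx).2]
    exact fun g => c.triv i1 (fun x hx => h.fix x ((m1 x).1 hx).1 ((m1 x).1 hx).2) g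
  · by_cases h0 : N = ⊥
    · exact Or.inl h0
    rcases h.irr hN' h0 with he | ⟨y, hy, y0, y1, y2⟩
    · refine Or.inr (le_antisymm hN fun w hw => ?_)
      obtain ⟨y, a, c, d, y1, y2, H⟩ := h.dec w
      have : y = 0 := d0 y (by convert sub_mem hw (U i0 e0 a c d) using 1; rw [H]; abel) y1 y2
      rw [H, this, zero_add]; exact U hN' he a c d
    · exact absurd (d0 y (hN hy) y1 y2) y0

end Cfsg.Lib.Linear.Jb3
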