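import Cfsg.Agent.Lib.Linear.Jb3D

/-! The case of a central involution: a four-group that is central modulo the involution. -/

namespace Cfsg.Lib.Linear.Jb3

open Subgroup Cfsg.Lib
open scoped commutatorElement

variable {G : Type*} [Group G] [Finite G] {E : Type*} [AddCommGroup E] [Module (ZMod 3) E] [Finite E]
  {ρ : Representation (ZMod 3) G E} {b u v z : G} {e : E} {P : Subgroup G}

omit [Finite G] [Finite E] in
theorem zdec (hz : z * z = 1) (x : E) : ∃ y t, ρ z y = y ∧ ρ z t = -t ∧ x = y + t ∧ t = -(x - ρ z x) := by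
  have zz : ρ z (ρ z x) = x := by rw [← ap, hz, ap1]
  refine ⟨-(x + ρ z x), -(x - ρ z x), ?_, ?_, ?_, rfl⟩
  · simp only [map_neg, map_add, zz]; abel
  · simp only [map_neg, map_sub, zz]; abel
  · linear_combination (norm := module) h3 x

theorem Ctx.zneg (c : Ctx ρ P b) (h : Fr ρ b u v e) (hz : ∀ g, g * z = z * g) (z2 : z * z = 1) (z1 : z ≠ 1) :
    ρ z e = -e ∧ ∀ g x, ρ z x = x → ρ g x = x := by
  have key : ∀ s : ZMod 3, s = 1 ∨ s = -1 → ρ z e = s • e → ∀ g x, ρ z x = -(s • x) → ρ g x = x := by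
    intro s hs he g
    refine c.triv (F := fun x => ρ z x = -(s • x)) (fun g x hx => by rw [← apc (hz g), hx, map_neg, map_smul])
      (fun x hx => ?_) g
    obtain ⟨a, d, H⟩ := h.W x
    have a1 : ρ z (ρ b x - x) = s • (ρ b x - x) := by
      rw [H]; simp only [map_add, map_smul, map_sub, ← apc (hz b), he]; module
    have a2 : ρ z (ρ b x - x) = -(s • (ρ b x - x)) := by
      simp only [map_sub, ← apc (hz b), hx, map_neg, map_smul]; module
    have := zero_of_neg (a1.symm.trans a2)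
    rcases hs with rfl | rfl
    · rwa [one_smul, sub_eq_zero] at this
    · rwa [neg_one_smul, neg_eq_zero, sub_eq_zero] at this
  rcases (h.signs (hz u).symm (hz v).symm).1 with s | s
  · refine absurd (eq_of_ap c.hf fun x => ?_) z1
    obtain ⟨y, t, y1, t1, H, -⟩ := zdec (ρ := ρ) z2 x
    have := key 1 (Or.inl rfl) (by rw [s, one_smul]) z t (by rw [t1, one_smul])
    rw [H, map_add, y1, this, ap1]
  · exact ⟨s, fun g x hx => key (-1) (Or.inr rfl) (by rw [s, neg_one_smul]) g x (by rw [hx, neg_one_smul, neg_neg])⟩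

theorem Ctx.zuniq (c : Ctx ρ P b) (h : Fr ρ b u v e) (hz : ∀ g, g * z = z * g) (z2 : z * z = 1) (z1 : z ≠ 1)
    {a : G} (ha : ∀ g, g * a = a * g) (a2 : a * a = 1) : a = 1 ∨ a = z := by
  by_cases a1 : a = 1
  · exact Or.inl a1
  refine Or.inr (eq_of_ap c.hf fun x => ?_)
  obtain ⟨y, t, y1, t1, H, -⟩ := zdec (ρ := ρ) z2 x
  have k := (c.zneg h ha a2 a1).2 z (t + ρ a t) (by rw [map_add, ← ap, a2, ap1, add_comm])
  rw [map_add, ← apc (hz a), t1, map_neg, ← neg_add] at k
  have := zero_of_neg k.symm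
  rw [H, map_add, map_add, y1, t1, (c.zneg h hz z2 z1).2 a y y1, eq_neg_of_add_eq_zero_right this]

/-- The central involution, seen as the kernel of `π`. -/
structure Zc {X : Type*} [Group X] (P : Subgroup G) (z : G) (π : G →* X) : Prop where
  zP : z ∈ P
  cen : ∀ g, g * z = z * g
  z2 : z * z = 1
  z1 : z ≠ 1
  ker : ∀ x, π x = 1 ↔ x = 1 ∨ x = z
  su : Function.Surjective π

/-- Good elements. -/
structure Gd {X : Type*} [Group X] (P : Subgroup G) (b : G) (π : G →* X) (i : G) : Prop where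
  mem : i ∈ P
  ne : π i ≠ 1
  com : ∀ p ∈ P, Commute (π i) (π p)
  sq : π (i * i) = 1
  pr : π (i * (b * i * b⁻¹) * (b * (b * i * b⁻¹) * b⁻¹)) = 1

variable {X : Type*} [Group X] {π : G →* X}

omit [Finite G] in
theorem Zc.eq (hz : Zc P z π) {x y : G} (h : π x = π y) : x = y ∨ x = y * z := by
  rcases (hz.ker (y⁻¹ * x)).1 (by rw [map_mul, map_inv, h, inv_mul_cancel]) with r | r
  · exact Or.inl (inv_mul_eq_one.1 r).symm
  · exact Or.inr (by rw [← r]; group)

omit [Finite G] in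
theorem Zc.com (hz : Zc P z π) {x y : G} (h : Commute (π x) (π y)) : y * x = x * y ∨ y * x = x * y * z :=
  hz.eq (by rw [map_mul, map_mul, h.eq])

omit [Finite G] in
theorem Zc.pz (hz : Zc P z π) : π z = 1 := (hz.ker z).2 (Or.inr rfl)

omit [Finite G] in
theorem Zc.cj (hz : Zc P z π) (g : G) : g * z * g⁻¹ = z := by rw [hz.cen, mul_inv_cancel_right]

omit [Finite G] in
theorem cj3 (b3 : b * b * b = 1) (x : G) : b * (b * (b * x * b⁻¹) * b⁻¹) * b⁻¹ = x := by
  calc _ = (b * b * b) * x * (b * b * b)⁻¹ := by group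
    _ = x := by rw [b3]; group

theorem Ctx.gd (c : Ctx ρ P b) (h : Fr ρ b u v e) (hz : Zc P z π) {L : Subgroup G} (hL : L.Normal) (hLP : L ≤ P)
    {l : G} (hl : l ∈ L) (l1 : π l ≠ 1) : ∃ i ∈ L, Gd P b π i := by
  haveI : Fact (Nat.Prime 2) := ⟨Nat.prime_two⟩
  haveI : Finite X := Finite.of_surjective π hz.su
  let S : Set G := {a | a ∈ L ∧ (∀ p ∈ P, Commute (π a) (π p)) ∧ π (a * a) = 1}
  have Sc : ∀ g, ∀ a ∈ S, g * a * g⁻¹ ∈ S := fun g a ha => by
    refine ⟨hL.conj_mem a ha.1 g, fun p hp => ?_, ?_⟩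
    · have := ((ha.2.1 _ (c.conj' hp g)).conj (π g))
      simpa [mul_assoc] using this
    · have : g * a * g⁻¹ * (g * a * g⁻¹) = g * (a * a) * g⁻¹ := by group
      rw [this, map_mul, map_mul, ha.2.2]; simp
  obtain ⟨a, ha, a1⟩ : ∃ a ∈ S, π a ≠ 1 := by
    haveI : (L.map π).Normal := hL.map π hz.su
    obtain ⟨y, hy, y1, y2⟩ := PGrp.exists_central_orderOf_eq (c.two.map π) ((L.map π).subgroupOf (P.map π))
      (fun h0 => l1 (by
        have : (⟨π l, mem_map_of_mem π (hLP hl)⟩ : P.map π) ∈ (L.map π).subgroupOf (P.map π) :=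
          mem_subgroupOf.2 (mem_map_of_mem π hl)
        rw [h0] at this
        exact congrArg Subtype.val (mem_bot.1 this)))
    obtain ⟨a, ha, H⟩ := mem_subgroupOf.1 hy
    refine ⟨a, ⟨ha, fun p hp => ?_, ?_⟩, fun r => ?_⟩
    · rw [H]
      exact (congrArg Subtype.val (mem_center_iff.1 y1 ⟨π p, mem_map_of_mem π hp⟩)).symm
    · rw [map_mul, H, ← sq, ← coe_pow, ← y2, pow_orderOf_eq_one]; rfl
    · have : y = 1 := Subtype.ext (H.symm.trans r)
      rw [this, orderOf_one] at y2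
      exact absurd y2 (by norm_num)
  obtain ⟨s, hs, s1⟩ : ∃ s ∈ S, π (b * s * b⁻¹) ≠ π s := by
    by_contra hn
    push Not at hn
    have hb : b ∈ centralizer S := fun s hs => by
      rcases hz.eq (hn s hs) with r | r
      · rw [← r]; simp only [r]; exact (mul_inv_eq_iff_eq_mul.1 r).symm
      · have k := cj3 c.b3 s
        have q : ∀ x, b * (x * z) * b⁻¹ = b * x * b⁻¹ * z := fun x => by
          rw [mul_assoc b, mul_assoc x, ← hz.cen]; group
        rw [r, q, r, mul_assoc s, hz.z2, mul_one, r] at k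
        exact absurd (mul_eq_left.1 k) hz.z1
    have ac : ∀ g, g * a = a * g := fun g => (c.gen' (centralizer S) ⟨fun n hn g s hs => by
      have := hn _ (Sc g⁻¹ s hs)
      calc s * (g * n * g⁻¹) = g * (g⁻¹ * s * g⁻¹⁻¹ * n) * g⁻¹ := by group
        _ = _ := by rw [this]; group⟩ hb g a ha).symm
    rcases (hz.ker _).1 ha.2.2 with r | r
    · exact a1 ((hz.ker a).2 (c.zuniq h hz.cen hz.z2 hz.z1 ac r))
    · have k := (c.zneg h hz.cen hz.z2 hz.z1).1
      rw [← r, ap] at k
      rcases (h.signs (ac u).symm (ac v).symm).1 with s | s <;> simp only [s, map_neg, neg_neg] at k <;>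
        exact h.e0 (zero_of_neg k)
  have hs' := Sc b s hs
  have hs'' := Sc b _ hs'
  set s' := b * s * b⁻¹ with e1
  set s'' := b * s' * b⁻¹ with e2
  have q0 : π s * π s = 1 := by rw [← map_mul, hs.2.2]
  have q1 : π s' * π s' = 1 := by rw [← map_mul, hs'.2.2]
  have q2 : π s'' * π s'' = 1 := by rw [← map_mul, hs''.2.2]
  refine ⟨s * s', L.mul_mem hs.1 hs'.1, hLP (L.mul_mem hs.1 hs'.1), fun r => s1 ?_, fun p hp => ?_, ?_, ?_⟩
  · rw [map_mul, ← q0] at r; exact mul_left_cancel r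
  · rw [map_mul]; exact (hs.2.1 p hp).mul_left (hs'.2.1 p hp)
  · simp only [map_mul π s, map_mul π (s * s')]
    rw [(hs'.2.1 s (hLP hs.1)).mul_mul_mul_comm, q0, q1, mul_one]
  · have j1 : b * (s * s') * b⁻¹ = s' * s'' := by rw [e2, e1]; group
    have j2 : b * (s' * s'') * b⁻¹ = s'' * s := by
      conv_rhs => rw [← cj3 c.b3 s]
      rw [e2, e1]; group
    rw [j1, j2]
    calc π (s * s' * (s' * s'') * (s'' * s)) = π s * (π s' * π s') * (π s'' * π s'') * π s := by
          simp only [map_mul π (s * s' * (s' * s'')), map_mul π (s * s'), map_mul π s, map_mul π s', map_mul π s'',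
            mul_assoc]
      _ = 1 := by rw [q1, q2, mul_one, mul_one, q0]

omit [Finite G] in
theorem trip_of (b3 : b * b * b = 1) {i : G} (i2 : i * i = 1) (i1 : i ≠ 1)
    (h : i * (b * i * b⁻¹) * (b * (b * i * b⁻¹) * b⁻¹) = 1) : Trip b i (b * i * b⁻¹) := by
  have cj : ∀ x, x * x = 1 → (b * x * b⁻¹) * (b * x * b⁻¹) = 1 := fun x hx => by
    calc _ = b * (x * x) * b⁻¹ := by group
      _ = 1 := by rw [hx]; group
  have j2 := cj i i2
  have k2 := cj _ j2
  set j := b * i * b⁻¹ with e1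
  have k : i * j = b * j * b⁻¹ := mul_right_cancel (h.trans k2.symm)
  refine ⟨i2, i1, by rw [e1]; group, by rw [k]; group, ?_, b3⟩
  rw [← k] at k2
  have := inv_eq_of_mul_eq_one_right k2
  rw [mul_inv_rev, inv_eq_of_mul_eq_one_right i2, inv_eq_of_mul_eq_one_right j2] at this
  exact this.symm

omit [Finite G] in
theorem Gd.trip {i : G} (h : Gd P b π i) (hz : Zc P z π) (b3 : b * b * b = 1) (i2 : i * i = 1) :
    ∃ u v, Trip b u v ∧ u ∈ P ∧ ∀ p ∈ P, Commute (π u) (π p) := by
  rcases (hz.ker _).1 h.pr with r | r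
  · exact ⟨i, _, trip_of b3 i2 (fun q => h.ne (by rw [q, map_one])) r, h.mem, h.com⟩
  · have q : ∀ x, b * (x * z) * b⁻¹ = b * x * b⁻¹ * z := fun x => by
      rw [mul_assoc b, mul_assoc x, ← hz.cen]; group
    have cz : ∀ x, Commute z x := fun x => (hz.cen x).symm
    refine ⟨i * z, _, trip_of b3 ?_ (fun q => h.ne ?_) ?_, P.mul_mem h.mem hz.zP, fun p hp => ?_⟩
    · rw [(cz i).mul_mul_mul_comm, i2, hz.z2, mul_one]
    · simpa [hz.pz] using congrArg π q
    · rw [q, q, (cz _).mul_mul_mul_comm, hz.z2, mul_one, ← mul_assoc, r, hz.z2]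
    · simpa [hz.pz] using h.com p hp

theorem Ctx.trip (c : Ctx ρ P b) (h : Fr ρ b u v e) (hu : u ∈ P) (hz : Zc P z π) :
    ∃ u v, Trip b u v ∧ u ∈ P ∧ ∀ p ∈ P, Commute (π u) (π p) := by
  have uz : u ≠ z := fun r => h.toTrip.nb (r ▸ hz.cen b)
  obtain ⟨i, -, hi⟩ := c.gd h hz c.nor le_rfl hu fun r => ((hz.ker u).1 r).elim h.ne uz
  rcases (hz.ker _).1 hi.sq with i2 | i2
  · exact hi.trip hz c.b3 i2
  have cj : ∀ x, x * x = z → (b * x * b⁻¹) * (b * x * b⁻¹) = z := fun x hx => by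
    calc _ = b * (x * x) * b⁻¹ := by group
      _ = z := by rw [hx, hz.cj]
  have cz : ∀ x, Commute z x := fun x => (hz.cen x).symm
  have j2 := cj i i2
  have k2 := cj _ j2
  have cc : ∀ x, (∀ p ∈ P, Commute (π x) (π p)) → ∀ p ∈ P, Commute (π (b * x * b⁻¹)) (π p) := fun x hx p hp => by
    have := ((hx _ (c.conj' hp b)).conj (π b))
    simpa [mul_assoc] using this
  have jc := cc i hi.com
  have kc := cc _ jc
  have pr := hi.pr
  have k3 := cj3 c.b3 i
  have jP := c.conj hi.mem b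
  set j := b * i * b⁻¹ with e1
  set k := b * j * b⁻¹ with e2
  have pc : ∀ x, Commute x (i * j * k) := fun x => by
    rcases (hz.ker _).1 pr with r | r <;> rw [r]
    exacts [Commute.one_right x, (cz x).symm]
  have ij2 : i * j * (i * j) = z := by
    have a : i * j = i * j * k * k⁻¹ := by group
    have a2 : i * j * k * (i * j * k) = 1 := by
      rcases (hz.ker _).1 pr with r | r <;> rw [r]
      exacts [mul_one 1, hz.z2]
    rw [a, (pc k⁻¹).mul_mul_mul_comm, a2, one_mul, ← mul_inv_rev, k2, inv_eq_of_mul_eq_one_right hz.z2]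
  have nij : ¬ Commute i j := fun r => by
    rw [r.symm.mul_mul_mul_comm, i2, j2, hz.z2] at ij2
    exact hz.z1 ij2.symm
  have ji : j * i = i * j * z := (hz.com (hi.com j jP)).resolve_left fun r => nij r.symm
  let L := P ⊓ (centralizer {i} ⊓ centralizer {j})
  have mL : ∀ x, x ∈ L ↔ x ∈ P ∧ Commute x i ∧ Commute x j := fun x =>
    and_congr Iff.rfl (and_congr mem_centralizer_singleton_iff mem_centralizer_singleton_iff)
  have ck : ∀ x, Commute x i → Commute x j → Commute x k := fun x x1 x2 => by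
    have := (x1.mul_right x2).inv_right.mul_right (pc x)
    rwa [inv_mul_cancel_left] at this
  have hL : L.Normal := c.normal (fun p hp x hx => by
    rw [mL] at hx ⊢
    have w : ∀ y, (∀ p ∈ P, Commute (π y) (π p)) → Commute x y → Commute (p * x * p⁻¹) y := fun y hy hc => by
      have : Commute x (p⁻¹ * y * p) := by
        rcases hz.com (hy p hp) with r | r
        · rwa [mul_assoc, ← r, inv_mul_cancel_left]
        · have : y * p = p * y * z := by rw [r, mul_assoc _ z, hz.z2, mul_one]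
          rw [mul_assoc, this, mul_assoc p, inv_mul_cancel_left]
          exact hc.mul_right (cz x).symm
      simpa [mul_assoc] using this.conj p
    exact ⟨c.conj hx.1 p, w i hi.com hx.2.1, w j jc hx.2.2⟩) fun x hx => by
    rw [mL] at hx ⊢
    exact ⟨c.conj hx.1 b, k3 ▸ (ck x hx.2.1 hx.2.2).conj b, hx.2.1.conj b⟩
  obtain ⟨l, hl, l1⟩ : ∃ l ∈ L, π l ≠ 1 := by
    have w : ∀ d ∈ P, d * d = z → Commute (u * d) i → Commute (u * d) j → ∃ l ∈ L, π l ≠ 1 := fun d hd d2 d3 d4 =>
      ⟨u * d, (mL _).2 ⟨P.mul_mem hu hd, d3, d4⟩, fun r => by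
        have ui := inv_eq_of_mul_eq_one_right h.u2
        rcases (hz.ker _).1 r with r | r
        · rw [← inv_eq_of_mul_eq_one_right r, ui, h.u2] at d2
          exact hz.z1 d2.symm
        · rw [eq_inv_mul_of_mul_eq r, ui, (cz u).mul_mul_mul_comm, h.u2, hz.z2, mul_one] at d2
          exact hz.z1 d2.symm⟩
    have zz : ∀ x, z * (z * x) = x := fun x => by rw [← mul_assoc, hz.z2, one_mul]
    have zl : ∀ x y, x * (z * y) = z * (x * y) := fun x y => by rw [← mul_assoc, hz.cen, mul_assoc]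
    have m : ∀ {x y : G}, x * y = y * x * z → ∀ t, x * (y * t) = z * (y * (x * t)) := fun {x y} r t => by
      rw [← mul_assoc, r, hz.cen]; group
    have m' : ∀ {x y : G}, x * y = y * x → ∀ t, x * (y * t) = y * (x * t) := fun {x y} r t => by
      rw [← mul_assoc, r]; group
    have f : ∀ {x y : G}, x * (y * 1) = y * (x * 1) → Commute x y := fun r => by
      rw [mul_one, mul_one] at r; exact r
    rcases hz.com (hi.com u hu) with r | r <;> rcases hz.com (jc u hu) with r' | r'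
    · exact ⟨u, (mL _).2 ⟨hu, r, r'⟩, fun r => ((hz.ker u).1 r).elim h.ne uz⟩
    · refine w i hi.mem i2 (f ?_) (f ?_) <;>
        simp only [mul_assoc, m' r, m r', m ji, zl _ (_ * _), zz]
    · refine w j jP j2 (f ?_) (f ?_) <;>
        simp only [mul_assoc, m r, m' r', m ji, zl _ (_ * _), zz]
    · refine w (i * j) (P.mul_mem hi.mem jP) ij2 (f ?_) (f ?_) <;>
        simp only [mul_assoc, m r, m r', m ji, zl _ (_ * _), zz]
  obtain ⟨i', iL, hi'⟩ := c.gd h hz hL inf_le_left hl l1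
  rcases (hz.ker _).1 hi'.sq with i2' | i2'
  · exact hi'.trip hz c.b3 i2'
  obtain ⟨-, c1, c2⟩ := (mL _).1 iL
  have sq : i * i' * (i * i') = 1 := by rw [c1.mul_mul_mul_comm, i2, i2', hz.z2]
  refine Gd.trip (i := i * i') ⟨P.mul_mem hi.mem hi'.mem, fun r => nij ?_, fun p hp => ?_, by rw [sq, map_one], ?_⟩
    hz c.b3 sq
  · rcases (hz.ker _).1 r with r | r
    · rw [eq_inv_of_mul_eq_one_left r]; exact c2.inv_left
    · rw [eq_mul_inv_of_mul_eq r]; exact (cz j).mul_left c2.inv_left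
  · rw [map_mul]; exact (hi.com p hp).mul_left (hi'.com p hp)
  · have q : ∀ x y, b * (x * y) * b⁻¹ = b * x * b⁻¹ * (b * y * b⁻¹) := fun x y => by group
    have pr' := hi'.pr
    have jP' := c.conj hi'.mem b
    rw [q, q, ← e1, ← e2]
    generalize b * (b * i' * b⁻¹) * b⁻¹ = k' at pr' ⊢
    generalize b * i' * b⁻¹ = j' at pr' jP' ⊢
    simp only [map_mul π (i * j), map_mul π i, map_mul π (i' * j'), map_mul π i'] at pr pr'
    rw [map_mul, map_mul, map_mul π i, map_mul π j, map_mul π k, (jc _ hi'.mem).symm.mul_mul_mul_comm,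
      ((kc _ hi'.mem).symm.mul_left (kc _ jP').symm).mul_mul_mul_comm, pr, pr', mul_one]

end Cfsg.Lib.Linear.Jb3
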