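import Cfsg.Agent.Lib.Linear.Jb3E

/-! The extraspecial case. -/

namespace Cfsg.Lib.Linear.Jb3

open Subgroup Cfsg.Lib
open scoped commutatorElement

variable {G : Type*} [Group G] [Finite G] {E : Type*} [AddCommGroup E] [Module (ZMod 3) E] [Finite E]
  {ρ : Representation (ZMod 3) G E} {b u v z : G} {e : E} {P : Subgroup G} {X : Type*} [Group X] {π : G →* X}

omit [Finite G] in
theorem comm_aux {g g2 k : G} (hk : Commute k g2) : ⁅g2, g * g2 * k⁆ = ⁅g, g2⁆⁻¹ := by
  have : g2 * (g * g2 * k) * g2⁻¹ = g2 * g * k := by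
    rw [mul_assoc g, ← hk.eq]; group
  rw [commutatorElement_def, this, commutatorElement_def]; group

omit [Finite G] in
theorem trip_of_comm (b3 : b * b * b = 1) {a : G} (a2 : a * a = 1) (ab : b * a ≠ a * b)
    (c1 : a * (b * a * b⁻¹) = (b * a * b⁻¹) * a)
    (c2 : a * (b * (b * a * b⁻¹) * b⁻¹) = (b * (b * a * b⁻¹) * b⁻¹) * a) :
    Trip b (a * (b * a * b⁻¹)) (b * (a * (b * a * b⁻¹)) * b⁻¹) := by
  have cj : ∀ x, x * x = 1 → (b * x * b⁻¹) * (b * x * b⁻¹) = 1 := fun x hx => by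
    calc _ = b * (x * x) * b⁻¹ := by group
      _ = 1 := by rw [hx]; group
  have q : ∀ x y, b * (x * y) * b⁻¹ = b * x * b⁻¹ * (b * y * b⁻¹) := fun x y => by group
  have j2 := cj a a2
  have k2 := cj _ j2
  refine trip_of b3 ?_ (fun r => ab ?_) ?_
  · rw [(Commute.symm c1).mul_mul_mul_comm, a2, j2, mul_one]
  · rw [← a2] at r
    exact mul_inv_eq_iff_eq_mul.1 (mul_left_cancel r)
  · rw [q a, q (b * a * b⁻¹), cj3 b3]
    generalize b * (b * a * b⁻¹) * b⁻¹ = k at k2 ⊢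
    generalize b * a * b⁻¹ = j at j2 ⊢
    calc _ = a * (j * j) * (k * k) * a := by group
      _ = 1 := by rw [j2, k2, mul_one, mul_one, a2]

theorem caseB (c : Ctx ρ P b) (t : Trip b u v) (hu : u ∈ P) (hz : Zc P z π)
    (uc : ∀ p ∈ P, Commute (π u) (π p))
    (hZ : ∀ a ∈ P, a * a = 1 → (∀ p ∈ P, p * a = a * p) → b * a = a * b) : Concl ρ P := by
  haveI : Fact (Nat.Prime 2) := ⟨Nat.prime_two⟩
  obtain ⟨e, h⟩ := t.fr c.hf c.hW
  obtain ⟨ze, zt⟩ := c.zneg h hz.cen hz.z2 hz.z1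
  have hv : v ∈ P := t.ve ▸ c.conj hu b
  have vc : ∀ p ∈ P, Commute (π v) (π p) := fun p hp => by
    have := ((uc _ (c.conj' hp b)).conj (π b))
    rw [t.ve]; simpa [mul_assoc] using this
  have cz : ∀ x, Commute z x := fun x => (hz.cen x).symm
  have zz : ∀ x, z * (z * x) = x := fun x => by rw [← mul_assoc, hz.z2, one_mul]
  have zl : ∀ x y, x * (z * y) = z * (x * y) := fun x y => by rw [← mul_assoc, hz.cen, mul_assoc]
  have m : ∀ {x y : G}, x * y = y * x * z → ∀ t, x * (y * t) = z * (y * (x * t)) := fun {x y} r t => by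
    rw [← mul_assoc, r, hz.cen]; group
  have m' : ∀ {x y : G}, x * y = y * x → ∀ t, x * (y * t) = y * (x * t) := fun {x y} r t => by
    rw [← mul_assoc, r]; group
  have f1 : ∀ {x y : G}, x * 1 = y * 1 → x = y := fun r => by rwa [mul_one, mul_one] at r
  have anti : ∀ {x y : G}, x * y = y * x * z → ¬ x * y = y * x := fun r r' =>
    hz.z1 (mul_eq_left.1 (r.symm.trans r'))
  have ub : ∀ s, u * (b * s) = b * (u * (v * s)) := fun s => by rw [← mul_assoc, ← t.bw]; group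
  have vb : ∀ s, v * (b * s) = b * (u * s) := fun s => by rw [← mul_assoc, ← t.bu]; group
  have wb : ∀ s, b * (v * s) = u * (v * (b * s)) := fun s => by rw [← mul_assoc, t.bv]; group
  have cjb : ∀ {x y : G}, x * y = y * x → b * x * b⁻¹ * (b * y * b⁻¹) = b * y * b⁻¹ * (b * x * b⁻¹) :=
    fun r => (Commute.conj r b).eq
  have cjz : ∀ {x y : G}, x * y = y * x * z → b * x * b⁻¹ * (b * y * b⁻¹) = b * y * b⁻¹ * (b * x * b⁻¹) * z :=
    fun {x y} r => by
      calc _ = b * (x * y) * b⁻¹ := by group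
        _ = b * (y * x) * (z * b⁻¹) := by rw [r]; group
        _ = _ := by rw [← hz.cen]; group
  have eu : b * u * b⁻¹ = v := t.ve.symm
  have ev : b * v * b⁻¹ = u * v := t.shift.ve.symm
  have ew : b * (u * v) * b⁻¹ = u := by rw [t.bw, mul_inv_cancel_right]
  have uv' : ∀ {x : G}, x * v = v * x → x * (u * v) = u * v * x * z → x * u = u * x * z := fun {x} r r' => by
    refine mul_right_cancel (b := v) ?_
    rw [mul_assoc, r', mul_assoc u v, ← r, mul_assoc _ z, ← hz.cen]; group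
  have vw' : ∀ {x : G}, x * (u * v) = u * v * x → x * u = u * x * z → x * v = v * x * z := fun {x} r r' => by
    refine mul_left_cancel (a := u) (f1 ?_)
    rw [show u * (v * x * z) = u * v * x * z by group, ← r]
    simp only [mul_assoc, m r', zl _ (_ * _), zz, zl _ 1]
  obtain ⟨g, gP, gu, gv⟩ : ∃ g ∈ P, g * u = u * g ∧ g * v = v * g * z := by
    obtain ⟨p, hp, p1⟩ : ∃ p ∈ P, ¬ p * u = u * p := by
      by_contra hn
      push Not at hn
      exact t.nb (hZ u hu t.u2 hn)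
    have pu := (hz.com (uc p hp)).resolve_left p1
    rcases hz.com (vc p hp) with r | r
    · have a1 := cjz pu
      have a2 := cjb r
      rw [eu] at a1
      rw [ev] at a2
      have a3 := cjz a1
      have a4 := cjb a2
      rw [ev] at a3
      rw [ew] at a4
      refine ⟨_, c.conj (c.conj hp b) b, a4, mul_left_cancel (a := u) ?_⟩
      rw [← mul_assoc, ← a4, mul_assoc _ u, a3]; group
    · have a1 := cjz pu
      have a2 : p * (u * v) = u * v * p := f1 (by simp only [mul_assoc, m pu, m r, zl _ (_ * _), zz])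
      have a3 := cjb a2
      rw [eu] at a1
      rw [ew] at a3
      exact ⟨_, c.conj hp b, a3, a1⟩
  have g2v := cjb gu
  have g2w := cjz gv
  rw [eu] at g2v
  rw [ev] at g2w
  have g2u := uv' g2v g2w
  have g3w := cjb g2v
  have g3u := cjz g2w
  rw [ev] at g3w
  rw [ew] at g3u
  have g3v := vw' g3w g3u
  have g2P := c.conj gP b
  have g3P := c.conj g2P b
  set g2 := b * g * b⁻¹ with e2
  set g3 := b * g2 * b⁻¹ with e3
  -- the fourth line
  have zc : ∀ s x, ρ z (ρ s x) = ρ s (ρ z x) := fun s x => apc (hz.cen s).symm x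
  have vg : ∀ x, ρ g (ρ v x) = ρ v (ρ g (ρ z x)) := fun x => by rw [← ap, gv, ap, ap]
  set f := ρ g e with hf
  have f0 : f ≠ 0 := fun r => h.e0 (ap0 r)
  have uf : ρ u f = f := by rw [hf, ← apc gu, h.ue]
  have vf : ρ v f = f := by
    have := vg e
    rw [h.ve, ze, map_neg, map_neg] at this
    exact (neg_injective this).symm
  have zf : ρ z f = -f := by rw [hf, zc, ze, map_neg]
  have line0 : ∀ x, ρ u x = x → ρ v x = x → ρ z x = -x → ∃ a : ZMod 3, x = a • f := fun x x1 x2 x3 => by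
    obtain ⟨a, H⟩ := h.line (ρ g⁻¹ x) (by rw [← apc (Commute.inv_left gu).eq, x1]) (by
      rw [← api ρ g (ρ v _), vg, zc, api', x3, map_neg, x2, map_neg])
    exact ⟨a, by rw [hf, ← map_smul, ← H, api']⟩
  have dec : ∀ w, ∃ (y : E) (s a c d : ZMod 3), ρ z y = y ∧
      w = y + s • f + a • e + c • ρ b e + d • ρ b (ρ b e) := fun w => by
    obtain ⟨y, a, c, d, y1, y2, H⟩ := h.dec w
    obtain ⟨y', s, r1, r2, r3, r4⟩ := zdec (ρ := ρ) hz.z2 y
    obtain ⟨a', H'⟩ := line0 s (by rw [r4, map_neg, map_sub, ← zc, y1]) (by rw [r4, map_neg, map_sub, ← zc, y2]) r2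
    exact ⟨y', a', a, c, d, r1, by rw [H, ← H', ← r3]⟩
  have sf : ∀ k, k * u = u * k → k * v = v * k → ρ k f = f ∨ ρ k f = -f := fun k ku kv =>
    h.sgn f0 (line0 _ (by rw [← apc ku, uf]) (by rw [← apc kv, vf]) (by rw [zc, zf, map_neg]))
  have refl : ∀ r ∈ P, r * u = u * r → r * v = v * r → ρ r e = e → ρ r (ρ b e) = ρ b e →
      ρ r (ρ b (ρ b e)) = ρ b (ρ b e) → r = 1 := fun r rP ru rv r1 r2 r3 => by
    rcases sf r ru rv with r0 | r0
    · refine eq_of_ap c.hf fun w => ?_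
      obtain ⟨y, s, a, c, d, y1, rfl⟩ := dec w
      simp only [map_add, map_smul, zt _ y y1, r0, r1, r2, r3, ap1]
    · obtain ⟨φ, hφ⟩ := Module.Projective.exists_dual_eq_one (ZMod 3) f0
      have a1 : ρ r = LinearMap.transvection (φ ∘ₗ (ρ r - 1)) f := LinearMap.ext fun w => by
        obtain ⟨y, s, a, c, d, y1, H⟩ := dec w
        have a2 : ρ r w - w = s • f := by
          rw [H]; simp only [map_add, map_smul, zt _ y y1, r0, r1, r2, r3]
          linear_combination (norm := module) -h3 (s • f)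
        rw [LinearMap.transvection.apply]
        change _ = w + φ (ρ r w - w) • f
        rw [a2, map_smul, hφ, smul_eq_mul, mul_one, ← a2]; abel
      have a3 := c.det rP
      rw [a1, LinearMap.transvection.det] at a3
      change 1 + φ (ρ r f - f) = 1 at a3
      rw [r0, map_sub, map_neg, hφ] at a3
      exact absurd a3 (by decide)
  have z2e : ρ z (ρ b e) = -ρ b e := by rw [zc, ze, map_neg]
  have z3e : ρ z (ρ b (ρ b e)) = -ρ b (ρ b e) := by rw [zc, z2e, map_neg]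
  have Qu : ∀ q ∈ t.Q, q * u = u * q := fun q hq => mem_centralizer_singleton_iff.1
    (t.Qle (S := centralizer {u}) (mem_centralizer_singleton_iff.2 rfl) (mem_centralizer_singleton_iff.2 t.uv.symm) hq)
  have Qv : ∀ q ∈ t.Q, q * v = v * q := fun q hq => mem_centralizer_singleton_iff.1
    (t.Qle (S := centralizer {v}) (mem_centralizer_singleton_iff.2 t.uv) (mem_centralizer_singleton_iff.2 rfl) hq)
  have QP : t.Q ≤ P := t.Qle hu hv
  have kk : ∀ k ∈ P, k * u = u * k → k * v = v * k → ∃ q ∈ t.Q, k = q ∨ k = q * z := fun k kP ku kv => by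
    have w1 : ∀ q ∈ t.Q, ρ k (ρ q e) = e → ρ k (ρ q (ρ b e)) = ρ b e → ρ k (ρ q (ρ b (ρ b e))) = ρ b (ρ b e) →
        ∃ q ∈ t.Q, k = q ∨ k = q * z := fun q hq r1 r2 r3 =>
      ⟨q⁻¹, t.Q.inv_mem hq, Or.inl (eq_inv_of_mul_eq_one_left (refl _ (P.mul_mem kP (QP hq))
        (Commute.mul_left ku (Qu q hq)) (Commute.mul_left kv (Qv q hq)) (by rw [ap, r1]) (by rw [ap, r2])
        (by rw [ap, r3])))⟩
    have w2 : ∀ q ∈ t.Q, ρ k (ρ q e) = -e → ρ k (ρ q (ρ b e)) = -ρ b e → ρ k (ρ q (ρ b (ρ b e))) = -ρ b (ρ b e) →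
        ∃ q ∈ t.Q, k = q ∨ k = q * z := fun q hq r1 r2 r3 => by
      have := refl (k * q * z) (P.mul_mem (P.mul_mem kP (QP hq)) hz.zP)
        (Commute.mul_left (Commute.mul_left ku (Qu q hq)) (cz u)) (Commute.mul_left (Commute.mul_left kv (Qv q hq)) (cz v))
        (by rw [ap, ap, ze, map_neg, map_neg, r1, neg_neg]) (by rw [ap, ap, z2e, map_neg, map_neg, r2, neg_neg])
        (by rw [ap, ap, z3e, map_neg, map_neg, r3, neg_neg])
      refine ⟨q⁻¹, t.Q.inv_mem hq, Or.inr ?_⟩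
      rw [← hz.z2] at this
      rw [hz.cen, ← mul_right_cancel this]; group
    have hw := t.Q.mul_mem t.uQ t.vQ
    obtain ⟨s1 | s1, s2 | s2, s3 | s3⟩ := h.signs ku kv
    · apply w1 1 t.Q.one_mem <;> simp only [ap1, s1, s2, s3]
    · apply w2 _ hw <;> simp only [ap, h.ue, h.ve, h.u2e, h.v2e, h.u3e, h.v3e, map_neg, neg_neg, s1, s2, s3]
    · apply w2 _ t.vQ <;> simp only [ap, h.ue, h.ve, h.u2e, h.v2e, h.u3e, h.v3e, map_neg, neg_neg, s1, s2, s3]
    · apply w1 _ t.uQ <;> simp only [ap, h.ue, h.ve, h.u2e, h.v2e, h.u3e, h.v3e, map_neg, neg_neg, s1, s2, s3]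
    · apply w2 _ t.uQ <;> simp only [ap, h.ue, h.ve, h.u2e, h.v2e, h.u3e, h.v3e, map_neg, neg_neg, s1, s2, s3]
    · apply w1 _ t.vQ <;> simp only [ap, h.ue, h.ve, h.u2e, h.v2e, h.u3e, h.v3e, map_neg, neg_neg, s1, s2, s3]
    · apply w1 _ hw <;> simp only [ap, h.ue, h.ve, h.u2e, h.v2e, h.u3e, h.v3e, map_neg, neg_neg, s1, s2, s3]
    · apply w2 1 t.Q.one_mem <;> simp only [ap1, s1, s2, s3]
  have zQ : z ∉ t.Q := fun r => hz.z1 (t.Qnb z r (hz.cen b))
  have Qc : ∀ q ∈ t.Q, ∀ p ∈ P, Commute (π q) (π p) := fun q hq p hp => by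
    rcases hq with r | r | r | r <;> rw [r]
    · simp
    · exact uc p hp
    · exact vc p hp
    · rw [map_mul]; exact (uc p hp).mul_left (vc p hp)
  have kq : ∀ k ∈ P, k * u = u * k → k * v = v * k → ∃ q ∈ t.Q, π k = π q := fun k kP ku kv => by
    obtain ⟨q, hq, r | r⟩ := kk k kP ku kv
    · exact ⟨q, hq, by rw [r]⟩
    · exact ⟨q, hq, by rw [r, map_mul, hz.pz, mul_one]⟩
  have sp : ∀ p ∈ P, ∀ d ∈ P, (d * p) * u = u * (d * p) → (d * p) * v = v * (d * p) →
      ∃ q ∈ t.Q, π p = (π d)⁻¹ * π q := fun p hp d hd r1 r2 => by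
    obtain ⟨q, hq, r⟩ := kq _ (P.mul_mem hd hp) r1 r2
    exact ⟨q, hq, by rw [← r, map_mul, inv_mul_cancel_left]⟩
  have gg : Commute (π g) (π g2) := by
    have i : ∀ {x y : G}, x * y = y * x * z → x⁻¹ * y = y * x⁻¹ * z := fun {x y} r => by
      calc x⁻¹ * y = x⁻¹ * (y * x * z) * z * x⁻¹ := by
            rw [mul_assoc _ _ z, mul_assoc _ z, hz.z2]; group
        _ = y * (z * x⁻¹) := by rw [← r]; group
        _ = _ := by rw [← hz.cen]; group
    have i' : ∀ {x y : G}, x * y = y * x → x⁻¹ * y = y * x⁻¹ := fun r => (Commute.inv_left r).eq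
    obtain ⟨q, hq, r⟩ := kq ⁅g, g2⁆
      (P.mul_mem (P.mul_mem (P.mul_mem gP g2P) (P.inv_mem gP)) (P.inv_mem g2P))
      (f1 (by simp only [commutatorElement_def, mul_assoc, m' gu, m g2u, m' (i' gu), m (i g2u), zl _ (_ * _), zz]))
      (f1 (by simp only [commutatorElement_def, mul_assoc, m gv, m' g2v, m (i gv), m' (i' g2v), zl _ (_ * _), zz]))
    obtain ⟨q', hq', r'⟩ := sp g3 g3P (g * g2)⁻¹ (P.inv_mem (P.mul_mem gP g2P))
      (f1 (by simp only [mul_inv_rev, mul_assoc, m g3u, m' (i' gu), m (i g2u), zl _ (_ * _), zz]))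
      (f1 (by simp only [mul_inv_rev, mul_assoc, m g3v, m (i gv), m' (i' g2v), zl _ (_ * _), zz]))
    have a1 : b * ⁅g, g2⁆ * b⁻¹ = ⁅g2, g3⁆ := by
      rw [e3, e2]; simp only [commutatorElement_def]; group
    have a2 : π (b * q * b⁻¹ * q) = 1 := by
      rw [map_mul, map_mul, map_mul, ← r, ← map_mul, ← map_mul, a1, map_commutatorElement, map_commutatorElement, r',
        map_inv, inv_inv, map_mul π g g2, comm_aux (Qc q' hq' g2 g2P), inv_mul_cancel]
    have a3 : b * q * b⁻¹ * q = 1 := ((hz.ker _).1 a2).resolve_right fun r =>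
      zQ (r ▸ t.Q.mul_mem (t.Qb q hq) hq)
    have a4 : q = 1 := t.Qnb q hq (by
      rw [← t.Qsq q hq] at a3
      exact mul_inv_eq_iff_eq_mul.1 (mul_right_cancel a3))
    rw [a4, map_one, map_commutatorElement] at r
    exact commutatorElement_eq_one_iff_commute.1 r
  have all : ∀ s ∈ P, Commute (π g) (π s) → Commute (π g2) (π s) → ∀ p ∈ P, Commute (π p) (π s) :=
    fun s hs s1 s2 p hp => by
    have w : ∀ d ∈ P, Commute (π d) (π s) → (d * p) * u = u * (d * p) → (d * p) * v = v * (d * p) →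
        Commute (π p) (π s) := fun d hd d1 r1 r2 => by
      obtain ⟨q, hq, r⟩ := sp p hp d hd r1 r2
      rw [r]; exact d1.inv_left.mul_left (Qc q hq s hs)
    rcases hz.com (uc p hp) with r | r <;> rcases hz.com (vc p hp) with r' | r'
    · exact w 1 P.one_mem (by simp) (by simpa using r) (by simpa using r')
    · refine w g gP s1 (f1 ?_) (f1 ?_) <;> simp only [mul_assoc, m' r, m r', m' gu, m gv, zl _ (_ * _), zz]
    · refine w g2 g2P s2 (f1 ?_) (f1 ?_) <;> simp only [mul_assoc, m r, m' r', m g2u, m' g2v, zl _ (_ * _), zz]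
    · refine w (g * g2) (P.mul_mem gP g2P) (by rw [map_mul]; exact s1.mul_left s2) (f1 ?_) (f1 ?_) <;>
        simp only [mul_assoc, m r, m r', m' gu, m gv, m g2u, m' g2v, zl _ (_ * _), zz]
  have ab : ∀ x ∈ P, ∀ y ∈ P, Commute (π x) (π y) := fun x hx y hy =>
    all y hy (all g gP (Commute.refl _) gg.symm y hy).symm (all g2 g2P gg (Commute.refl _) y hy).symm x hx
  have zp : ∀ x, x = 1 ∨ x = z → x ∈ zpowers z := by
    rintro x (rfl | rfl)
    exacts [one_mem _, mem_zpowers _]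
  have ksq : ∀ k ∈ P, k * u = u * k → k * v = v * k → k * k = 1 := fun k kP ku kv => by
    obtain ⟨q, hq, r | r⟩ := kk k kP ku kv <;> rw [r]
    · exact t.Qsq q hq
    · rw [(cz q).mul_mul_mul_comm, t.Qsq q hq, hz.z2, mul_one]
  have cen : ∀ a ∈ P, (∀ p ∈ P, p * a = a * p) → a ∈ zpowers z := fun a ha hc => by
    have a2 := ksq a ha (hc u hu).symm (hc v hv).symm
    exact zp a (c.zuniq h hz.cen hz.z2 hz.z1 (c.cen hc (hZ a ha a2 hc)) a2)
  have z2 : z ^ 2 = 1 := by rw [sq, hz.z2]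
  have ex : IsExtraspecial 2 P := PGrp.isExtraspecial_of_le_zpowers (orderOf_eq_prime z2 hz.z1) hz.zP
    (le_antisymm (fun a ha => cen a ha.1 ha.2) (zpowers_le.2 ⟨hz.zP, fun p _ => hz.cen p⟩))
    (fun x hx y hy => zp _ ((hz.ker _).1 (by
      rw [map_commutatorElement]; exact commutatorElement_eq_one_iff_commute.2 (ab x hx y hy))))
    (fun x hx => cen _ (P.pow_mem hx 2) fun p hp => by
      rcases hz.com (ab x hx p hp) with r | r
      · exact (Commute.pow_right r 2).eq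
      · refine f1 ?_
        simp only [sq, mul_assoc, m r, zl _ (_ * _), zz])
    (fun r => by
      rcases Scn.mem_zpowers_two z2 (r ▸ hu) with r | r
      · exact t.ne r
      · exact zQ (r ▸ t.uQ))
  have A8 : Nat.card ↥(t.Q ⊔ zpowers z) = 8 := by
    rw [PGrp.card_sup_zpowers_of_mem_normalizer (p := 2) (norm_of_conj fun k hk => by
      rwa [← hz.cen, mul_inv_cancel_right]) zQ (z2 ▸ one_mem _), t.Qcard]
  have AK : t.Q ⊔ zpowers z = centralizer {v} ⊓ (centralizer {u} ⊓ P) := le_antisymm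
    (sup_le (fun q hq => ⟨mem_centralizer_singleton_iff.2 (Qv q hq), mem_centralizer_singleton_iff.2 (Qu q hq), QP hq⟩)
      (zpowers_le.2 ⟨mem_centralizer_singleton_iff.2 (cz v), mem_centralizer_singleton_iff.2 (cz u), hz.zP⟩))
    fun k hk => by
      obtain ⟨q, hq, r | r⟩ := kk k hk.2.2 (mem_centralizer_singleton_iff.1 hk.2.1)
        (mem_centralizer_singleton_iff.1 hk.1) <;> rw [r]
      · exact mem_sup_left hq
      · exact mul_mem (mem_sup_left hq) (mem_sup_right (mem_zpowers z))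
  have hf2 : ∀ s, (∀ p ∈ P, Commute (π s) (π p)) → ∀ R ≤ P, ∀ r ∈ R, r * s = s * r * z →
      Nat.card R = 2 * Nat.card ↥(centralizer {s} ⊓ R) := fun s hs R hR r hr r1 =>
    Scn.half _ R (fun x hx y hy x1 y1 => by
      rw [mem_centralizer_singleton_iff] at x1 y1 ⊢
      have x2 := (hz.com (hs x (hR hx))).resolve_left x1
      have y2 := (hz.com (hs y (hR hy))).resolve_left y1
      refine f1 ?_
      simp only [mul_assoc, m x2, m y2, zl _ (_ * _), zz]) hr fun r2 => anti r1 (mem_centralizer_singleton_iff.1 r2)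
  have c32 : Nat.card P = 32 := by
    rw [hf2 u uc P le_rfl g2 g2P g2u, hf2 v vc _ inf_le_right g ⟨mem_centralizer_singleton_iff.2 gu, gP⟩ gv,
      ← AK, A8]
  let F₀ : Submodule (ZMod 3) E := LinearMap.ker (ρ z + 1)
  have m0 : ∀ x, x ∈ F₀ ↔ ρ z x = -x := fun x => add_eq_zero_iff_eq_neg
  let F₁ : Submodule (ZMod 3) E := LinearMap.ker (ρ z - 1)
  have m1 : ∀ x, x ∈ F₁ ↔ ρ z x = x := fun x => sub_eq_zero
  have i0 : ∀ g, ∀ x ∈ F₀, ρ g x ∈ F₀ := fun g x hx => by rw [m0] at hx ⊢; rw [zc, hx, map_neg]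
  have U : ∀ {N : Submodule (ZMod 3) E}, (∀ g, ∀ x ∈ N, ρ g x ∈ N) → e ∈ N → ∀ s a c d : ZMod 3,
      s • f + a • e + c • ρ b e + d • ρ b (ρ b e) ∈ N := fun {N} hN he s a c d =>
    add_mem (add_mem (add_mem (N.smul_mem _ (hN g _ he)) (N.smul_mem _ he)) (N.smul_mem _ (hN b _ he)))
      (N.smul_mem _ (hN b _ (hN b _ he)))
  refine ⟨Or.inr ⟨ex, c32, _, AK ▸ inf_le_right.trans inf_le_right, elem_of_sq fun a ha => ?_, A8⟩,
    F₀, F₁, ?_, ?_, fun g x hx => zt g x ((m1 x).1 hx), i0, fun N hN hN' => ?_⟩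
  · rw [AK] at ha
    exact ksq a ha.2.2 (mem_centralizer_singleton_iff.1 ha.2.1) (mem_centralizer_singleton_iff.1 ha.1)
  · exact eq_bot_iff.2 fun x hx => zero_of_neg (((m1 x).1 hx.2).symm.trans ((m0 x).1 hx.1))
  · refine eq_top_iff.2 fun w _ => ?_
    obtain ⟨y, s, r1, r2, r3, -⟩ := zdec (ρ := ρ) hz.z2 w
    exact Submodule.mem_sup.2 ⟨s, (m0 s).2 r2, y, (m1 y).2 r1, by rw [r3, add_comm]⟩
  · by_cases h0 : N = ⊥
    · exact Or.inl h0
    have he : e ∈ N := by
      rcases h.irr hN' h0 with he | ⟨y, hy, y0, y1, y2⟩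
      · exact he
      · obtain ⟨a, H⟩ := line0 y y1 y2 ((m0 y).1 (hN hy))
        have : f ∈ N := (N.smul_mem_iff (fun r => y0 (by rw [H, r, zero_smul]))).1 (H ▸ hy)
        exact api ρ g e ▸ hN' g⁻¹ _ this
    refine Or.inr (le_antisymm hN fun w hw => ?_)
    obtain ⟨y, s, a, c, d, y1, H⟩ := dec w
    have : y = 0 := zero_of_neg (y1.symm.trans ((m0 y).1 (by
      convert sub_mem hw (U i0 ((m0 e).2 ze) s a c d) using 1; rw [H]; abel)))
    rw [H, this, zero_add]; exact U hN' he s a c d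

theorem Ctx.concl (c : Ctx ρ P b) (t : Trip b u v) (hu : u ∈ P) : Concl ρ P := by
  haveI : Fact (Nat.Prime 2) := ⟨Nat.prime_two⟩
  by_cases hZ : ∀ a ∈ P, a * a = 1 → (∀ p ∈ P, p * a = a * p) → b * a = a * b
  · haveI : Nontrivial P := ⟨⟨⟨u, hu⟩, 1, fun r => t.ne (congrArg Subtype.val r)⟩⟩
    obtain ⟨z, -, z1, z2⟩ := PGrp.exists_central_orderOf_eq c.two ⊤ top_ne_bot
    have a1 : ∀ p ∈ P, p * z = z * p := fun p hp => congrArg Subtype.val (mem_center_iff.1 z1 ⟨p, hp⟩)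
    have a2 : (z : G) ^ 2 = 1 := by rw [← coe_pow, ← z2, pow_orderOf_eq_one]; rfl
    have a3 := c.cen a1 (hZ z z.2 (by rw [← sq, a2]) a1)
    haveI : (zpowers (z : G)).Normal := ⟨fun n hn g => by
      rcases Scn.mem_zpowers_two a2 hn with r | r <;> rw [r]
      · simp
      · rw [a3]; simp⟩
    have hz : Zc P z (QuotientGroup.mk' (zpowers (z : G))) :=
      ⟨z.2, a3, by rw [← sq, a2], fun r => by
        rw [show z = 1 from Subtype.ext r, orderOf_one] at z2
        exact absurd z2 (by norm_num), fun x => (QuotientGroup.eq_one_iff x).trans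
          ⟨Scn.mem_zpowers_two a2, by rintro (rfl | rfl); exacts [one_mem _, mem_zpowers _]⟩,
        QuotientGroup.mk'_surjective _⟩
    obtain ⟨e, h⟩ := t.fr c.hf c.hW
    obtain ⟨u', v', t', hu', uc⟩ := c.trip h hu hz
    exact caseB c t' hu' hz uc hZ
  · push Not at hZ
    obtain ⟨a, ha, a2, ac, ab⟩ := hZ
    have cc : ∀ x, (∀ p ∈ P, p * x = x * p) → ∀ p ∈ P, p * (b * x * b⁻¹) = (b * x * b⁻¹) * p := fun x hx p hp => by
      have := hx _ (c.conj' hp b)
      calc p * (b * x * b⁻¹) = b * (b⁻¹ * p * b * x) * b⁻¹ := by group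
        _ = _ := by rw [this]; group
    have ha' := c.conj ha b
    exact caseA c (trip_of_comm c.b3 a2 ab (cc a ac a ha) (cc _ (cc a ac) a ha)) (P.mul_mem ha ha')
      fun p hp => Commute.mul_right (ac p hp) (cc a ac p hp)

end Cfsg.Lib.Linear.Jb3
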