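import Cfsg.Agent.S0281
import Cfsg.Agent.Lib.Linear.Simple

/-! Laws in `SL₂`, in alternating groups and in the classical groups. -/

set_option autoImplicit false

open Polynomial Matrix Module

namespace Cfsg.Lib.Linear

attribute [-simp] Nat.card_eq_fintype_card

/-- The word `w` takes only central values in `G`. -/
def LawZ (w : FreeGroup ℕ) (G : Type*) [Group G] : Prop := ∀ f : ℕ → G, FreeGroup.lift f w ∈ Subgroup.center G

theorem map_lift {G H : Type*} [Group G] [Group H] (φ : G →* H) (f : ℕ → G) (w : FreeGroup ℕ) :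
    φ (FreeGroup.lift f w) = FreeGroup.lift (φ ∘ f) w := FreeGroup.lift_unique (φ.comp (FreeGroup.lift f)) (by simp)

theorem LawZ.of_injective {w : FreeGroup ℕ} {G H : Type*} [Group G] [Group H] (h : LawZ w H) {φ : G →* H}
    (hφ : Function.Injective φ) : LawZ w G := fun f => Subgroup.mem_center_iff.mpr fun g => hφ (by
  rw [map_mul, map_mul, map_lift, Subgroup.mem_center_iff.mp (h _)])

theorem lawZ_iff {w : FreeGroup ℕ} {G : Type*} [Group G] :
    LawZ w G ↔ ∀ f : ℕ → G ⧸ Subgroup.center G, FreeGroup.lift f w = 1 := by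
  refine ⟨fun h f => ?_, fun h f => (QuotientGroup.eq_one_iff _).mp ((map_lift (QuotientGroup.mk' _) f w).trans (h _))⟩
  choose g hg using fun i => QuotientGroup.mk'_surjective _ (f i)
  rw [← funext hg]
  exact (map_lift (QuotientGroup.mk' _) g w).symm.trans ((QuotientGroup.eq_one_iff _).mpr (h g))

section
variable {F : Type*} [Field F] (c : ℕ × Bool → F)

/-- The rank one idempotent attached to a letter. -/
def lawR (x : ℕ × Bool) : Matrix (Fin 2) (Fin 2) F := (c (x.1, !x.2) - c x)⁻¹ • vecMulVec ![1, c x] ![c (x.1, !x.2), -1]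

variable {c} (hc : ∀ x : ℕ × Bool, c (x.1, !x.2) ≠ c x)

/-- The element of `SL₂` attached to a letter. -/
def lawA (t : Fˣ) (x : ℕ × Bool) : SpecialLinearGroup (Fin 2) F :=
  ⟨(t : F) • lawR c x + (t⁻¹ : F) • lawR c (x.1, !x.2), by
    have := sub_ne_zero.mpr (hc x)
    have := sub_ne_zero.mpr (hc x).symm
    simp [det_fin_two, lawR, vecMulVec_apply]; field_simp; ring⟩

theorem lawA_inv (t : Fˣ) (i : ℕ) : (lawA hc t (i, true))⁻¹ = lawA hc t (i, false) := by
  have := sub_ne_zero.mpr (hc (i, true))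
  have := sub_ne_zero.mpr (hc (i, true)).symm
  rw [SpecialLinearGroup.SL2_inv_expl]
  ext a b
  fin_cases a <;> fin_cases b <;> simp [lawA, lawR, vecMulVec_apply] at * <;> field_simp <;> ring

theorem exists_law_poly (L : List (ℕ × Bool)) : ∃ P : Matrix (Fin 2) (Fin 2) F[X],
    (∀ t : Fˣ, P.map (eval (t : F)) = (t : F) ^ L.length • ((L.map (lawA hc t)).prod).1) ∧
    ∀ i j, (P i j).natDegree ≤ 2 * L.length ∧ (P i j).coeff (2 * L.length) = (L.map (lawR c)).prod i j := by
  induction L with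
  | nil => exact ⟨1, by simp, fun i j => by by_cases h : i = j <;> simp [h, one_apply]⟩
  | cons x L ih =>
    obtain ⟨P, h1, h2⟩ := ih
    let A : Matrix (Fin 2) (Fin 2) F[X] := of fun i j => C (lawR c x i j) * X ^ 2 + C (lawR c (x.1, !x.2) i j)
    have hA : ∀ i j, (A i j).natDegree ≤ 2 ∧ (A i j).coeff 2 = lawR c x i j := fun i j =>
      ⟨by simp only [A, of_apply]; compute_degree, by simp [A, coeff_C]⟩
    refine ⟨A * P, fun t => ?_, fun i j => ?_⟩
    · rw [← coe_evalRingHom, Matrix.map_mul, coe_evalRingHom, h1, List.map_cons, List.prod_cons, List.length_cons,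
        pow_succ, mul_smul, Matrix.mul_smul]
      congr 1
      change _ = (t : F) • ((lawA hc t x).1 * _)
      rw [← Matrix.smul_mul]
      congr 1
      ext i j
      simp [A, lawA]; field_simp
    · rw [List.length_cons, mul_add, add_comm, mul_one, List.map_cons, List.prod_cons, mul_apply, mul_apply,
        finsetSum_coeff]
      exact ⟨natDegree_sum_le_of_forall_le _ _ fun k _ => natDegree_mul_le.trans (add_le_add (hA i k).1 (h2 k j).1),
        Finset.sum_congr rfl fun k _ => by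
          rw [coeff_mul_add_eq_of_natDegree_le (hA i k).1 (h2 k j).1, (hA i k).2, (h2 k j).2]⟩

include hc in
theorem prod_lawR (x : ℕ × Bool) (L : List (ℕ × Bool)) (hL : FreeGroup.IsReduced (x :: L))
    (h : ∀ y ∈ x :: L, ∀ z ∈ x :: L, c (y.1, !y.2) = c z → (y.1, !y.2) = z) :
    ∃ u ≠ 0, ((x :: L).map (lawR c)).prod = vecMulVec ![1, c x] u := by
  induction L generalizing x with
  | nil =>
    refine ⟨(c (x.1, !x.2) - c x)⁻¹ • ![c (x.1, !x.2), -1], fun h => ?_, by
      rw [List.map_singleton, List.prod_singleton, lawR, vecMulVec_smul]⟩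
    simpa [sub_ne_zero.mpr (hc x)] using congrFun h 1
  | cons y L ih =>
    rw [FreeGroup.isReduced_cons_cons] at hL
    obtain ⟨u, hu, h1⟩ := ih y hL.2 fun a ha b hb => h a (by simp [ha]) b (by simp [hb])
    have h2 : c (x.1, !x.2) - c y ≠ 0 := sub_ne_zero.mpr fun h2 => by
      have h3 := h x (by simp) y (by simp) h2
      have := hL.1 (congrArg Prod.fst h3 :)
      simp [← h3] at this
    refine ⟨((c (x.1, !x.2) - c x)⁻¹ * (c (x.1, !x.2) - c y)) • u,
      smul_ne_zero (mul_ne_zero (inv_ne_zero (sub_ne_zero.mpr (hc x))) h2) hu, ?_⟩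
    rw [List.map_cons, List.prod_cons, h1]
    ext i j
    simp only [lawR, vecMulVec_apply, mul_apply, Fin.sum_univ_two, Matrix.smul_apply, Pi.smul_apply, smul_eq_mul]
    simp; ring

end

universe u

theorem exists_not_lawZ_sl {w : FreeGroup ℕ} (hw : w ≠ 1) : ∃ N : ℕ, ∀ (F : Type u) [Field F] [Finite F],
    N ≤ Nat.card F → ¬ LawZ w (SpecialLinearGroup (Fin 2) F) := by
  obtain ⟨M, hM⟩ := (w.toWord.toFinset.image Prod.fst).exists_nat_subset_range
  obtain ⟨x, L, hL⟩ := List.exists_cons_of_ne_nil (FreeGroup.toWord_eq_nil_iff.not.mpr hw)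
  refine ⟨2 * (M + 1) + 2 * w.toWord.length + 2, fun F _ _ hF H => ?_⟩
  have := Fintype.ofFinite F
  have := Fintype.ofFinite Fˣ
  obtain ⟨e⟩ : Nonempty (Fin (M + 1) × Bool ↪ F) := Function.Embedding.nonempty_of_card_le (by
    rw [← Nat.card_eq_fintype_card (α := F)]; simp; omega)
  let c : ℕ × Bool → F := fun x => e (Fin.ofNat _ x.1, x.2)
  have hc : ∀ x : ℕ × Bool, c (x.1, !x.2) ≠ c x := fun x h => by simpa using e.injective h
  have hM' : ∀ y ∈ w.toWord, y.1 % (M + 1) = y.1 := fun y hy => Nat.mod_eq_of_lt (Nat.lt_succ_of_lt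
    (Finset.mem_range.mp (hM (Finset.mem_image_of_mem _ (List.mem_toFinset.mpr hy)))))
  obtain ⟨u, hu, h1⟩ := prod_lawR hc x L (hL ▸ FreeGroup.isReduced_toWord) fun y hy z hz h => by
    have := e.injective h
    simp only [Prod.mk.injEq, Fin.ext_iff, Fin.val_ofNat, hM' y (hL ▸ hy), hM' z (hL ▸ hz)] at this
    exact Prod.ext this.1 this.2
  obtain ⟨P, h2, h3⟩ := exists_law_poly hc w.toWord
  have h4 : ∀ t : Fˣ, ∃ r, P.map (eval (t : F)) = scalar (Fin 2) r := fun t => by
    obtain ⟨r, -, hr⟩ := Matrix.SpecialLinearGroup.mem_center_iff.mp (H fun i => lawA hc t (i, true))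
    refine ⟨(t : F) ^ w.toWord.length * r, ?_⟩
    rw [h2, map_mul, hr, scalar_apply, ← smul_eq_diagonal_mul]
    congr 2
    conv_rhs => rw [← FreeGroup.mk_toWord (x := w), FreeGroup.lift_mk]
    congr 1
    refine List.map_congr_left fun y _ => ?_
    obtain ⟨i, _ | _⟩ := y <;> simp [lawA_inv]
  have h5 : ∀ Q : F[X], Q.natDegree ≤ 2 * w.toWord.length → (∀ t : Fˣ, Q.eval (t : F) = 0) → Q = 0 := fun Q hQ h =>
    eq_zero_of_natDegree_lt_card_of_eval_eq_zero Q Units.val_injective h (by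
      rw [← Nat.card_eq_fintype_card, Nat.card_units]; omega)
  have h6 := h5 (P 0 1) (h3 _ _).1 fun t => by obtain ⟨r, hr⟩ := h4 t; simpa using congrFun (congrFun hr 0) 1
  have h7 := h5 (P 1 0) (h3 _ _).1 fun t => by obtain ⟨r, hr⟩ := h4 t; simpa using congrFun (congrFun hr 1) 0
  have h8 := h5 (P 0 0 - P 1 1) ((natDegree_sub_le _ _).trans (max_le (h3 _ _).1 (h3 _ _).1)) fun t => by
    obtain ⟨r, hr⟩ := h4 t
    simpa [sub_eq_zero] using (congrFun (congrFun hr 0) 0).trans (congrFun (congrFun hr 1) 1).symm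
  have a1 := (h3 0 1).2
  have a2 := (h3 0 0).2
  have a3 := (h3 1 1).2
  rw [hL] at a1 a2 a3
  rw [h1] at a1 a2 a3
  rw [sub_eq_zero.mp h8, a3] at a2
  simp [h6, vecMulVec_apply] at a1 a2
  exact hu (by ext i; fin_cases i <;> simp [← a1, ← a2])

theorem exists_perm_hom_alt {α : Type*} [Finite α] {n : ℕ} (hn : 2 * Nat.card α ≤ n) :
    ∃ φ : Equiv.Perm α →* alternatingGroup (Fin n), Function.Injective φ := by
  classical
  have := Fintype.ofFinite α
  obtain ⟨e⟩ : Nonempty (α ⊕ α ↪ Fin n) := Function.Embedding.nonempty_of_card_le (by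
    simp [← Nat.card_eq_fintype_card (α := α)]; omega)
  refine ⟨((Equiv.Perm.extendDomainHom e.toEquivRange).comp ((Equiv.Perm.sumCongrHom α α).comp
    ((MonoidHom.id _).prod (MonoidHom.id _)))).codRestrict _ fun g => by
      simp [Equiv.Perm.mem_alternatingGroup], fun g h H => ?_⟩
  exact congrArg Prod.fst (Equiv.Perm.sumCongrHom_injective
    (Equiv.Perm.extendDomainHom_injective _ (congrArg Subtype.val H)))

theorem exists_not_lawZ_alt {w : FreeGroup ℕ} (hw : w ≠ 1) : ∃ N : ℕ, ∀ n, N ≤ n →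
    ¬ LawZ w (alternatingGroup (Fin n)) := by
  obtain ⟨N, hN⟩ := exists_not_lawZ_sl.{0} hw
  obtain ⟨p, h1, hp⟩ := Nat.exists_infinite_primes N
  have := Fact.mk hp
  refine ⟨2 * Nat.card (SpecialLinearGroup (Fin 2) (ZMod p)), fun n hn H => hN (ZMod p) (by simpa) ?_⟩
  obtain ⟨φ, hφ⟩ := exists_perm_hom_alt hn
  exact (H.of_injective hφ).of_injective (φ := MulAction.toPermHom _ _) MulAction.toPerm_injective

theorem LawZ.of_perfect {w : FreeGroup ℕ} {G H : Type*} [Group G] [Group H] {N : Subgroup H} (h : LawZ w N)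
    (hN : commutator H ≤ N) (hG : commutator G = ⊤) {φ : G →* H} (hφ : Function.Injective φ) : LawZ w G :=
  h.of_injective (φ := φ.codRestrict N fun g => hN (Subgroup.commutator_mono le_top le_top
    (Subgroup.map_commutator ⊤ ⊤ φ ▸ Subgroup.mem_map_of_mem φ (show g ∈ commutator G by simp [hG]))))
    fun _ _ h => hφ (congrArg Subtype.val h)

section
variable {F : Type*} [Field F] (W : Type*) [AddCommGroup W] [Module F W] [FiniteDimensional F W]

theorem exists_sl_hom_linAut (h : 2 ≤ finrank F W) :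
    ∃ φ : SpecialLinearGroup (Fin 2) F →* (W ≃ₗ[F] W), Function.Injective φ := by
  let e : ((Fin 2 → F) × (Fin (finrank F W - 2) → F)) ≃ₗ[F] W := LinearEquiv.ofFinrankEq _ _ (by simp; omega)
  refine ⟨MonoidHom.mk' (fun g => (e.symm.trans ((SpecialLinearGroup.toLin' g).prodCongr (.refl _ _))).trans e)
    fun g h => by ext; simp, fun g h H => SpecialLinearGroup.toLin'_injective (LinearEquiv.ext fun x => ?_)⟩
  simpa using LinearEquiv.congr_fun H (e (x, 0))

theorem exists_perm_hom_linAut : ∃ φ : Equiv.Perm (Fin (finrank F W)) →* (W ≃ₗ[F] W), Function.Injective φ :=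
  ⟨MonoidHom.mk' (fun g => (finBasis F W).equiv (finBasis F W) g) fun g h => (finBasis F W).ext' (by simp),
    fun g h H => Equiv.ext fun i => (finBasis F W).injective (by simpa using LinearEquiv.congr_fun H (finBasis F W i))⟩

end

theorem card_GL_le {ι F : Type*} [Fintype ι] [DecidableEq ι] [Field F] [Finite F] {B : ℕ} (h : Fintype.card ι ≤ B)
    (hF : Nat.card F ≤ B) : Nat.card (GL ι F) ≤ B ^ (B * B) := by
  refine (Nat.card_le_card_of_injective _ Units.val_injective).trans ?_
  rw [Matrix, Nat.card_fun, Nat.card_fun, ← pow_mul, Nat.card_eq_fintype_card (α := ι)]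
  exact (Nat.pow_le_pow_left hF _).trans (Nat.pow_le_pow_right (Nat.card_pos.trans_le hF) (Nat.mul_le_mul h h))

theorem exists_lawZ_bound {w : FreeGroup ℕ} (hw : w ≠ 1) : ∃ B : ℕ,
    ∀ (H : Type) [Group H] (N : Subgroup H), LawZ w N → commutator H ≤ N →
      (∀ (F : Type) [Field F] [Finite F] (φ : SpecialLinearGroup (Fin 2) F →* H), Function.Injective φ → Nat.card F ≤ B) ∧
      ∀ n (φ : Equiv.Perm (Fin n) →* H), Function.Injective φ → n ≤ B := by
  obtain ⟨A, hA⟩ := exists_not_lawZ_sl.{0} hw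
  obtain ⟨B, hB⟩ := exists_not_lawZ_alt hw
  refine ⟨A + B + 5, fun H _ N h hN => ⟨fun F _ _ φ hφ => not_lt.mp fun hc => hA F (by omega) (h.of_perfect hN
    (sl_commutator_eq_top (.inr (exists_sq_ne_one_of_four_le_card (by omega)))) hφ),
    fun n φ hφ => not_lt.mp fun hc => hB n (by omega) (h.of_perfect hN (φ := φ.comp (Subgroup.subtype _))
      (commutator_alternatingGroup_eq_top (by rw [Nat.card_fin]; omega)) (hφ.comp Subtype.val_injective))⟩⟩

open Forms in
theorem exists_linAut_hom_isom {F : Type*} [Field F] {σ : F →+* F} {K : Kind σ} {V : Type*} [AddCommGroup V]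
    [Module F V] [FiniteDimensional F V] {D : Form K V} (hD : D.Nondeg) {m : ℕ} (h : D.HasTS m) :
    ∃ W : Submodule F V, finrank F W = m ∧ ∃ φ : (W ≃ₗ[F] W) →* D.isom, Function.Injective φ := by
  obtain ⟨W, h1, h2⟩ := h
  obtain ⟨W', h3⟩ := h2.exists_isDual hD
  exact ⟨W, h1, (Subgroup.subtype _).comp (Form.leviEquiv hD h3).symm.toMonoidHom,
    Subtype.val_injective.comp (Form.leviEquiv hD h3).symm.injective⟩

end Cfsg.Lib.Linear
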