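import Cfsg.Agent.Lib.Known.SimilarMat

/-! The choice of a vector and a hyperplane in Lev's refinement of Sourour's factorisation. -/

set_option autoImplicit false

namespace Cfsg.Lib.Linear.Lev
open Module Submodule

variable {K : Type*} [Field K] {V : Type*} [AddCommGroup V] [Module K V]

/-- at least four elements -/
def Big (K : Type*) : Prop := ∀ a b c : K, ∃ t, t ≠ a ∧ t ≠ b ∧ t ≠ c

theorem one_t (A : Submodule K V) {x1 x0 : V} (h : x1 ∉ A ∨ x0 ∉ A) :
    ∃ c : K, ∀ t : K, x1 + t • x0 ∈ A → t = c := by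
  by_cases hc : ∃ c : K, x1 + c • x0 ∈ A
  · obtain ⟨c, hc⟩ := hc
    refine ⟨c, fun t ht => by_contra fun htc => ?_⟩
    have h0 : x0 ∈ A := by
      have := A.smul_mem (t - c)⁻¹ (A.sub_mem ht hc)
      rwa [add_sub_add_left_eq_sub, ← sub_smul, smul_smul, inv_mul_cancel₀ (sub_ne_zero.2 htc),
        one_smul] at this
    have h1 : x1 ∈ A := by simpa using A.sub_mem hc (A.smul_mem c h0)
    exact h.elim (fun h => h h1) fun h => h h0
  · exact ⟨0, fun t ht => (hc ⟨t, ht⟩).elim⟩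

theorem two_sub {A B : Submodule K V} (hA : A ≠ ⊤) (hB : B ≠ ⊤) : ∃ x, x ∉ A ∧ x ∉ B := by
  obtain ⟨a, -, ha⟩ := SetLike.exists_of_lt hA.lt_top
  obtain ⟨b, -, hb⟩ := SetLike.exists_of_lt hB.lt_top
  by_cases h1 : a ∈ B
  · by_cases h2 : b ∈ A
    · exact ⟨a + b, fun h => ha (by simpa using A.sub_mem h h2), fun h => hb (by simpa using B.sub_mem h h1)⟩
    · exact ⟨b, h2, hb⟩
  · exact ⟨a, ha, h1⟩

theorem three_sub (hK : Big K) {A B C : Submodule K V} (hA : A ≠ ⊤) (hB : B ≠ ⊤) (hC : C ≠ ⊤) :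
    ∃ x, x ∉ A ∧ x ∉ B ∧ x ∉ C := by
  obtain ⟨x1, h1, h2⟩ := two_sub hA hB
  obtain ⟨x0, -, h0⟩ := SetLike.exists_of_lt hC.lt_top
  obtain ⟨a, ha⟩ := one_t A (x0 := x0) (Or.inl h1)
  obtain ⟨b, hb⟩ := one_t B (x0 := x0) (Or.inl h2)
  obtain ⟨c, hc⟩ := one_t C (x1 := x1) (Or.inr h0)
  obtain ⟨t, t1, t2, t3⟩ := hK a b c
  exact ⟨_, fun h => t1 (ha t h), fun h => t2 (hb t h), fun h => t3 (hc t h)⟩

/-- `y` is an eigenvector or zero -/
def Eig (S : End K V) (y : V) : Prop := ∃ c : K, S y = c • y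

theorem exists_not_eig {S : End K V} (h : ¬ ∃ c : K, ∀ y, S y = c • y) : ∃ x, ¬ Eig S x := by
  by_contra hc
  push Not at hc
  obtain ⟨a, ha⟩ := LinearMap.exists_eq_smul_id_of_forall_notLinearIndependent (f := S) fun v hv => by
    obtain ⟨c, hc⟩ := hc v
    have := (LinearIndependent.pair_iff.1 hv (-c) 1 (by rw [hc]; simp)).2
    exact one_ne_zero this
  exact h ⟨a, fun y => by rw [ha]; rfl⟩

theorem indep {S : End K V} {x : V} (hx : ¬ Eig S x) {a b : K} (h : a • x + b • S x = 0) :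
    a = 0 ∧ b = 0 := by
  have hb : b = 0 := by
    by_contra hb
    refine hx ⟨-(a / b), ?_⟩
    have : S x = b⁻¹ • (b • S x) := by rw [smul_smul, inv_mul_cancel₀ hb, one_smul]
    rw [this, eq_neg_of_add_eq_zero_right h, smul_neg, smul_smul, neg_smul, div_eq_inv_mul]
  rw [hb, zero_smul, add_zero] at h
  refine ⟨(smul_eq_zero.1 h).resolve_right fun h0 => hx ⟨0, ?_⟩, hb⟩
  rw [h0]; simp

theorem two_eig {S : End K V} {x0 : V} (h0 : ¬ Eig S x0) (x1 : V) :
    ∃ c1 c2 : K, ∀ t : K, Eig S (x1 + t • x0) → t = c1 ∨ t = c2 := by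
  by_contra hc
  push Not at hc
  obtain ⟨t1, ⟨l1, e1⟩, -⟩ := hc 0 0
  obtain ⟨t2, ⟨l2, e2⟩, n21, -⟩ := hc t1 t1
  obtain ⟨t3, ⟨l3, e3⟩, n31, n32⟩ := hc t1 t2
  simp only [map_add, map_smul] at e1 e2 e3
  have k : ∀ {s t l : K}, S x1 + s • S x0 = l • (x1 + s • x0) → S x1 + t • S x0 = l • (x1 + t • x0) →
      s = t := fun {s t l} a b => by
    have := indep h0 (a := -(l * (s - t))) (b := s - t) (by linear_combination (norm := module) a - b)
    exact sub_eq_zero.1 this.2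
  have d12 : l1 ≠ l2 := fun h => n21 (k e2 (h ▸ e1))
  have d13 : l1 ≠ l3 := fun h => n31 (k e3 (h ▸ e1))
  have d23 : l2 ≠ l3 := fun h => n32 (k e3 (h ▸ e2))
  have := indep h0 (a := (l1 - l3) * (l1 * t1 - l2 * t2) - (l1 - l2) * (l1 * t1 - l3 * t3))
    (b := (l1 - l2) * (t1 - t3) - (l1 - l3) * (t1 - t2))
    (by linear_combination (norm := module) (l1 - l2) • (e1 - e3) - (l1 - l3) • (e1 - e2))
  have h5 : (l1 - l2) * (l1 - l3) * (t3 - t2) = 0 := by linear_combination -this.1 - l1 * this.2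
  simp only [mul_eq_zero, sub_eq_zero] at h5
  rcases h5 with (h | h) | h
  exacts [d12 h, d13 h, n32 h]

/-- `rank (S - 1) ≤ 1` -/
def Rk1 (S : End K V) : Prop := ∃ w, ∀ y, ∃ c : K, S y - y = c • w

theorem exists_x (hK : Big K) [FiniteDimensional K V] {S : End K V} (h1 : ¬ ∃ c : K, ∀ y, S y = c • y)
    (h2 : ¬ Rk1 S) (v : V) {u : V →ₗ[K] K} (hu : u ≠ 0) :
    ∃ x, ¬ Eig S x ∧ u x ≠ 0 ∧ (∀ c : K, S x - x ≠ c • v) ∧
      (3 ≤ finrank K V → ∃ z, ∀ a b : K, S z - z ≠ a • x + b • S x) := by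
  classical
  set A : Submodule K V := (span K {v}).comap (S - 1) with hAd
  have mA : ∀ x, x ∈ A ↔ ∃ c : K, S x - x = c • v := fun x => by
    simp [hAd, mem_span_singleton, eq_comm]
  have hA : A ≠ ⊤ := fun h => h2 ⟨v, fun y => (mA y).1 (h ▸ mem_top)⟩
  have hB : LinearMap.ker u ≠ ⊤ := fun h => hu (LinearMap.ker_eq_top.1 h)
  by_cases hs : LinearMap.range (S - 1) = ⊤
  · have key : ∀ x, 3 ≤ finrank K V → ∃ z, ∀ a b : K, S z - z ≠ a • x + b • S x := fun x h3 => by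
      have : span K {x, S x} ≠ ⊤ := fun h => by
        have := finrank_span_finset_le_card (R := K) ({x, S x} : Finset V)
        have h2 : ({x, S x} : Finset V).card ≤ 2 := Finset.card_le_two
        rw [Set.finrank, Finset.coe_pair, h, finrank_top] at this
        omega
      obtain ⟨y, -, hy⟩ := SetLike.exists_of_lt this.lt_top
      obtain ⟨z, rfl⟩ : y ∈ LinearMap.range (S - 1) := hs ▸ mem_top
      exact ⟨z, fun a b h => hy (mem_span_pair.2 ⟨a, b, h.symm⟩)⟩
    obtain ⟨x0, h0⟩ := exists_not_eig h1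
    obtain ⟨x1, a1, b1⟩ := two_sub hA hB
    obtain ⟨c1, c2, hc⟩ := two_eig h0 x1
    by_cases hA0 : x0 ∈ A
    · obtain ⟨c, hc'⟩ := one_t (LinearMap.ker u) (x0 := x0) (Or.inl b1)
      obtain ⟨t, t1, t2, t3⟩ := hK c1 c2 c
      exact ⟨x1 + t • x0, fun h => (hc t h).elim t1 t2, fun h => t3 (hc' t h),
        fun c h => a1 (by simpa using A.sub_mem ((mA _).2 ⟨c, h⟩) (A.smul_mem t hA0)), key _⟩
    · by_cases hB0 : x0 ∈ LinearMap.ker u
      · obtain ⟨c, hc'⟩ := one_t A (x0 := x0) (Or.inl a1)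
        obtain ⟨t, t1, t2, t3⟩ := hK c1 c2 c
        exact ⟨x1 + t • x0, fun h => (hc t h).elim t1 t2,
          fun h => b1 (by simpa [LinearMap.mem_ker.1 hB0] using h),
          fun c h => t3 (hc' t ((mA _).2 ⟨c, h⟩)), key _⟩
      · exact ⟨x0, h0, hB0, fun c h => hA0 ((mA _).2 ⟨c, h⟩), key _⟩
  · obtain ⟨x, xA, xB, xC⟩ := three_sub hK hA hB hs
    have hx : ∀ {a : K} {y : V}, a • x = S y - y → a = 0 := fun {a y} h => by
      by_contra ha
      refine xC ⟨a⁻¹ • y, ?_⟩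
      rw [map_smul, LinearMap.sub_apply, End.one_apply, ← h, smul_smul, inv_mul_cancel₀ ha, one_smul]
    refine ⟨x, fun ⟨c, hc⟩ => xA ((mA x).2 ⟨0, ?_⟩), xB, fun c h => xA ((mA x).2 ⟨c, h⟩), fun _ => ?_⟩
    · have := hx (a := c - 1) (y := x) (by rw [hc]; module)
      rw [hc, sub_eq_zero.1 this]; simp
    · by_contra hc
      push Not at hc
      refine h2 ⟨S x - x, fun y => ?_⟩
      obtain ⟨a, b, h⟩ := hc y
      have := hx (a := a + b) (y := y - b • x) (by rw [map_sub, map_smul]; linear_combination (norm := module) -h)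
      exact ⟨b, by linear_combination (norm := module) h + this • x⟩

/-- a condition `φ z ≠ c` which can be met -/
def Ok (S : End K V) (x z : V) (c : K) : Prop :=
  (∀ a b : K, z ≠ a • x + b • S x) ∨ ∀ φ : V →ₗ[K] K, φ x = 1 → φ (S x) = 1 → φ z ≠ c

theorem phi_step (hK : Big K) {S : End K V} {x z1 z2 z : V} {c1 c2 c : K} {φ : V →ₗ[K] K}
    (h1 : φ x = 1) (h2 : φ (S x) = 1) (h3 : φ z1 ≠ c1) (h4 : φ z2 ≠ c2) (h : Ok S x z c) :
    ∃ φ : V →ₗ[K] K, φ x = 1 ∧ φ (S x) = 1 ∧ φ z1 ≠ c1 ∧ φ z2 ≠ c2 ∧ φ z ≠ c := by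
  rcases h with h | h
  · obtain ⟨ψ, hz, hψ⟩ := Submodule.exists_le_ker_of_notMem (p := span K {x, S x}) (v := z)
      fun hm => by obtain ⟨a, b, hab⟩ := mem_span_pair.1 hm; exact h a b hab.symm
    have e1 : ψ x = 0 := hψ (subset_span (by simp))
    have e2 : ψ (S x) = 0 := hψ (subset_span (by simp))
    have k : ∀ {a b t : K}, (a ≠ 0 ∨ b ≠ 0) → t ≠ -a / b → a + t * b ≠ 0 := fun {a b t} hab ht h0 => by
      by_cases hb : b = 0
      · rw [hb, mul_zero, add_zero] at h0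
        exact hab.elim (· h0) (· hb)
      · exact ht (by field_simp; linear_combination h0)
    obtain ⟨t, t1, t2, t3⟩ := hK (-(φ z1 - c1) / ψ z1) (-(φ z2 - c2) / ψ z2) (-(φ z - c) / ψ z)
    refine ⟨φ + t • ψ, by simp [h1, e1], by simp [h2, e2], fun h => ?_, fun h => ?_, fun h => ?_⟩
    · exact k (Or.inl (sub_ne_zero.2 h3)) t1 (by simp at h; linear_combination h)
    · exact k (Or.inl (sub_ne_zero.2 h4)) t2 (by simp at h; linear_combination h)
    · exact k (Or.inr hz) t3 (by simp at h; linear_combination h)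
  · exact ⟨φ, h1, h2, h3, h4, h φ h1 h2⟩

theorem exists_phi0 {S : End K V} {x : V} (hx : ¬ Eig S x) :
    ∃ φ : V →ₗ[K] K, φ x = 1 ∧ φ (S x) = 1 := by
  obtain ⟨ψ, hz, hψ⟩ := Submodule.exists_le_ker_of_notMem (p := span K {S x - x}) (v := x)
    fun hm => by
      obtain ⟨a, ha⟩ := mem_span_singleton.1 hm
      have := indep hx (a := -a - 1) (b := a) (by linear_combination (norm := module) ha)
      exact one_ne_zero (α := K) (by linear_combination -this.1 - this.2)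
  have e : ψ (S x - x) = 0 := hψ (subset_span (by simp))
  rw [map_sub, sub_eq_zero] at e
  exact ⟨(ψ x)⁻¹ • ψ, by simp [hz], by simp [e, hz]⟩

theorem exists_phi (hK : Big K) {S : End K V} {x z1 z2 z3 : V} {c1 c2 c3 : K} (hx : ¬ Eig S x)
    (h1 : Ok S x z1 c1) (h2 : Ok S x z2 c2) (h3 : Ok S x z3 c3) :
    ∃ φ : V →ₗ[K] K, φ x = 1 ∧ φ (S x) = 1 ∧ φ z1 ≠ c1 ∧ φ z2 ≠ c2 ∧ φ z3 ≠ c3 := by
  obtain ⟨φ, a1, a2⟩ := exists_phi0 hx
  have a0 : φ x ≠ 0 := by rw [a1]; exact one_ne_zero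
  obtain ⟨φ, a1, a2, a0, -, a3⟩ := phi_step hK a1 a2 a0 a0 h1
  obtain ⟨φ, a1, a2, -, a3, a4⟩ := phi_step hK a1 a2 a0 a3 h2
  exact phi_step hK a1 a2 a3 a4 h3

theorem ok_zero {S : End K V} {x w : V} (h : ∀ c : K, w ≠ c • (S x - x)) : Ok S x w 0 := by
  by_cases h1 : ∀ a b : K, w ≠ a • x + b • S x
  · exact Or.inl h1
  · push Not at h1
    obtain ⟨a, b, rfl⟩ := h1
    refine Or.inr fun φ h1 h2 h3 => h b ?_
    simp only [map_add, map_smul, h1, h2, smul_eq_mul, mul_one] at h3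
    linear_combination (norm := module) h3 • x

theorem ok_triv (S : End K V) (x : V) : Ok S x x 0 := Or.inr fun φ h _ => by rw [h]; exact one_ne_zero

/-- the Schur complement -/
def sch (S : End K V) (x : V) (φ : V →ₗ[K] K) : End K V := S - (φ ∘ₗ S).smulRight (S x)

theorem sch_apply (S : End K V) (x : V) (φ : V →ₗ[K] K) (y : V) :
    sch S x φ y = S y - φ (S y) • S x := rfl

theorem choice (hK : Big K) [FiniteDimensional K V] {S : End K V} (hi : ∀ y, S y = 0 → y = 0)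
    (h1 : ¬ ∃ c : K, ∀ y, S y = c • y) (h2 : ¬ Rk1 S) {v : V} (hv : v ≠ 0) {u : V →ₗ[K] K}
    (hu : u ≠ 0) : ∃ (x : V) (φ : V →ₗ[K] K), φ x = 1 ∧ φ (S x) = 1 ∧ φ v ≠ 0 ∧ u x ≠ 0 ∧
      S x - x ≠ 0 ∧ (∃ y, φ y = 0 ∧ φ (S y) ≠ 0) ∧ (3 ≤ finrank K V →
        (¬ ∃ c : K, ∀ y, φ y = 0 → sch S x φ y = c • y) ∧
        ¬ ∀ y, φ y = 0 → sch S x φ (sch S x φ y - y) = sch S x φ y - y) := by
  obtain ⟨x, hx, hux, hxv, hz⟩ := exists_x hK h1 h2 v hu
  have hT : S x - x ≠ 0 := fun h => hxv 0 (by rw [h, zero_smul])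
  have okv : Ok S x v 0 := ok_zero fun c h => by
    have hc : c ≠ 0 := fun h0 => hv (by rw [h, h0, zero_smul])
    exact hxv c⁻¹ (by rw [h, smul_smul, inv_mul_cancel₀ hc, one_smul])
  have ha : ∀ {φ : V →ₗ[K] K} {z : V}, φ x = 1 → φ (S x) = 1 → φ (S z - z) ≠ 0 →
      ∃ y, φ y = 0 ∧ φ (S y) ≠ 0 := fun {φ z} a1 a2 a3 =>
    ⟨z - φ z • x, by simp [a1], by simpa [a2] using a3⟩
  by_cases h3 : ¬ 3 ≤ finrank K V
  · obtain ⟨z, hz⟩ : ∃ z, ∀ c : K, S z - z ≠ c • (S x - x) := by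
      by_contra hc
      push Not at hc
      exact h2 ⟨_, hc⟩
    obtain ⟨φ, a1, a2, a3, a4, -⟩ := exists_phi hK hx okv (ok_zero hz) (ok_triv S x)
    exact ⟨x, φ, a1, a2, a3, hux, hT, ha a1 a2 a4, fun h => (h3 h).elim⟩
  push Not at h3
  obtain ⟨z0, hz0⟩ := hz h3
  by_cases hc : ∀ a b : K, S (S x) ≠ a • x + b • S x
  · have ok1 : Ok S x (S (S x) - S x) 0 := Or.inl fun a b h => hc a (b + 1) (by
      linear_combination (norm := module) h)
    obtain ⟨c3, hc3⟩ : ∃ c3 : K, ∀ c a b : K, S (S (S x)) = (c + 2) • S (S x) + a • x + b • S x → c = c3 := by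
      by_cases h : ∃ c a b : K, S (S (S x)) = (c + 2) • S (S x) + a • x + b • S x
      · obtain ⟨c, a, b, h⟩ := h
        refine ⟨c, fun c' a' b' h' => by_contra fun hn => hc ((a - a') / (c' - c)) ((b - b') / (c' - c)) ?_⟩
        have hn' : c' - c ≠ 0 := sub_ne_zero.2 hn
        have : (c' - c) • S (S x) = (a - a') • x + (b - b') • S x := by
          linear_combination (norm := module) h - h'
        rw [div_eq_inv_mul, div_eq_inv_mul, mul_smul, mul_smul, ← smul_add, ← this, smul_smul,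
          inv_mul_cancel₀ hn', one_smul]
      · exact ⟨0, fun c a b h' => (h ⟨c, a, b, h'⟩).elim⟩
    obtain ⟨φ, a1, a2, a3, a4, a5⟩ := exists_phi hK hx okv ok1 (Or.inl hc : Ok S x _ c3)
    have t0 : φ (S x - x) = 0 := by simp [a1, a2]
    refine ⟨x, φ, a1, a2, a3, hux, hT, ha a1 a2 a4, fun _ => ⟨fun ⟨c, h⟩ => ?_, fun h => ?_⟩⟩
    · have := h _ t0
      rw [sch_apply, map_sub] at this
      exact hc (-c) (c + 1 + φ (S (S x) - S x)) (by linear_combination (norm := module) this)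
    · have := h _ t0
      simp only [sch_apply, map_sub, map_smul, a1, a2, smul_eq_mul] at this
      refine a5 (hc3 _ 1 (φ (S (S (S x))) - φ (S (S x)) - (φ (S (S x)) - 1) * φ (S (S x)) - (φ (S (S x)) - 1)
        - φ (S (S x)) - 2) ?_)
      linear_combination (norm := module) this
  · push Not at hc
    obtain ⟨b, a, hab⟩ := hc
    have hb : b ≠ 0 := fun h => hx ⟨a, sub_eq_zero.1 (hi _ (by rw [map_sub, map_smul, hab, h]; module))⟩
    set z := S z0 - z0 with hzd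
    obtain ⟨c3, hc3⟩ : ∃ c3 : K, ∀ c d : K, S z + b • z = (b * c) • x + d • S x → c = c3 := by
      by_cases h : ∃ c d : K, S z + b • z = (b * c) • x + d • S x
      · obtain ⟨c, d, h⟩ := h
        refine ⟨c, fun c' d' h' => ?_⟩
        have := (indep hx (a := b * (c' - c)) (b := d' - d) (by linear_combination (norm := module) h - h')).1
        exact sub_eq_zero.1 ((mul_eq_zero.1 this).resolve_left hb)
      · exact ⟨0, fun c d h' => (h ⟨c, d, h'⟩).elim⟩
    obtain ⟨φ, a1, a2, a3, a4, a5⟩ := exists_phi hK hx okv (Or.inl hz0 : Ok S x _ 0) (Or.inl hz0 : Ok S x _ c3)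
    have t0 : φ (S x - x) = 0 := by simp [a1, a2]
    have e0 : sch S x φ (S x - x) = (-b) • (S x - x) := by
      simp only [sch_apply, map_sub, hab, map_add, map_smul, a1, a2, smul_eq_mul]
      module
    have y0 : φ (z - φ z • x) = 0 := by simp [a1]
    have fin : sch S x φ (z - φ z • x) = (-b) • (z - φ z • x) → False := fun h => by
      rw [sch_apply, map_sub S, map_smul] at h
      exact a5 (hc3 _ (φ z + φ (S z - φ z • S x)) (by linear_combination (norm := module) h))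
    refine ⟨x, φ, a1, a2, a3, hux, hT, ha a1 a2 a4, fun _ => ⟨fun ⟨c, h⟩ => ?_, fun h => ?_⟩⟩
    · have h1 := h _ t0
      rw [e0] at h1
      have : c = -b := by
        have : (c + b) • (S x - x) = 0 := by linear_combination (norm := module) -h1
        linear_combination (smul_eq_zero.1 this).resolve_right hT
      exact fin (this ▸ h _ y0)
    · have h1 := h _ t0
      rw [map_sub, e0, map_smul, e0] at h1
      have hb1 : b = -1 := by
        have : ((b + 1) * (b + 1)) • (S x - x) = 0 := by linear_combination (norm := module) h1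
        have := (smul_eq_zero.1 this).resolve_right hT
        linear_combination (mul_self_eq_zero.1 this)
      have h2 := h (z0 - φ z0 • x) (by simp [a1])
      have e1 : sch S x φ (z0 - φ z0 • x) - (z0 - φ z0 • x) =
          (z - φ z • x) - φ (S z0) • (S x - x) := by
        simp only [sch_apply, hzd, map_sub, map_smul, a2, smul_eq_mul]
        module
      rw [e1, map_sub, map_smul, e0] at h2
      apply fin
      rw [hb1] at h2 ⊢
      linear_combination (norm := module) h2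

end Cfsg.Lib.Linear.Lev
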