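import Mathlib

/-! McLaughlin's theorem on groups generated by root subgroups of transvections, the linear case. -/

set_option autoImplicit false

namespace Cfsg.Lib.Linear.McL

open Module

variable {F V : Type*} [Field F] [AddCommGroup V] [Module F V]

/-- The root subgroup with centre `v` and axis `φ` lies in `H`. -/
def Rt (H : Subgroup (V ≃ₗ[F] V)) (v : V) (φ : Dual F V) : Prop :=
  φ v = 0 ∧ ∀ c : F, ∃ g ∈ H, ∀ x, g x = x + (c * φ x) • v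

variable {H : Subgroup (V ≃ₗ[F] V)} {v w x y : V} {φ χ ψ η : Dual F V}

theorem Rt.add (h : Rt H v φ) (h' : Rt H v χ) : Rt H v (φ + χ) := ⟨by simp [h.1, h'.1], fun c => by
  obtain ⟨g, a, b⟩ := h.2 c
  obtain ⟨g', a', b'⟩ := h'.2 c
  exact ⟨g * g', mul_mem a a', fun x => by simp [b, b', h.1]; module⟩⟩

theorem Rt.add_left (h : Rt H v φ) (h' : Rt H w φ) : Rt H (v + w) φ := ⟨by simp [h.1, h'.1], fun c => by
  obtain ⟨g, a, b⟩ := h.2 c
  obtain ⟨g', a', b'⟩ := h'.2 c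
  exact ⟨g * g', mul_mem a a', fun x => by simp [b, b', h'.1]; module⟩⟩

theorem Rt.smul (h : Rt H v φ) (a b : F) : Rt H (a • v) (b • φ) := ⟨by simp [h.1], fun c => by
  obtain ⟨g, d, e⟩ := h.2 (c * a * b)
  exact ⟨g, d, fun x => by simp [e]; module⟩⟩

theorem Rt.smul_left (h : Rt H v φ) (a : F) : Rt H (a • v) φ := by simpa using h.smul a 1

theorem Rt.smul_right (h : Rt H v φ) (a : F) : Rt H v (a • φ) := by simpa using h.smul 1 a

theorem Rt.of_smul {a b : F} (h : Rt H (a • v) (b • φ)) (ha : a ≠ 0) (hb : b ≠ 0) : Rt H v φ := by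
  simpa [ha, hb] using h.smul a⁻¹ b⁻¹

theorem rt_zero (v : V) : Rt H v 0 := ⟨rfl, fun _ => ⟨1, one_mem _, by simp⟩⟩

theorem rt_zero_left (φ : Dual F V) : Rt H 0 φ := ⟨by simp, fun _ => ⟨1, one_mem _, by simp⟩⟩

theorem Rt.conj (h : Rt H v φ) {g : V ≃ₗ[F] V} (hg : g ∈ H) : Rt H (g v) (φ ∘ₗ g.symm) := ⟨by simp [h.1], fun c => by
  obtain ⟨k, a, b⟩ := h.2 c
  exact ⟨g * k * g⁻¹, mul_mem (mul_mem hg a) (inv_mem hg), fun x => by simp [b]⟩⟩

theorem Rt.act (h : Rt H v φ) (h' : Rt H w χ) (c : F) : Rt H (v + (c * χ v) • w) (φ - (c * φ w) • χ) := by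
  obtain ⟨g, a, b⟩ := h'.2 c
  convert h.conj a using 1
  · rw [b]
  · ext x
    have : g.symm x = x - (c * χ x) • w := g.symm_apply_eq.2 (by simp [b, h'.1])
    simp [this]; ring

theorem Rt.comm (h : Rt H v φ) (h' : Rt H w χ) (a : φ w ≠ 0) (b : χ v = 0) : Rt H v χ := by
  have := (h.act h' (-1)).add (v := _) (χ := -φ)
  rw [b, mul_zero, zero_smul, add_zero] at this
  exact Rt.of_smul (a := 1) (by convert this (neg_one_smul F φ ▸ h.smul_right (-1)) using 1 <;> module) one_ne_zero a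

theorem Rt.step (h : Rt H v φ) (h' : Rt H w χ) (a : χ v ≠ 0) (b : φ w = 0) : Rt H w φ := by
  have := h.act h' 1
  rw [b, mul_zero, zero_smul, sub_zero] at this
  exact Rt.of_smul (b := 1) (by simpa using (h.smul_left (-1)).add_left this) a one_ne_zero

theorem Rt.line (h : Rt H v φ) (h' : Rt H w χ) (e : χ v = -φ w) (e' : φ w ≠ 0) (a b : F) :
    Rt H (a • v + b • w) (a • φ + b • χ) := by
  by_cases ha : a = 0
  · simpa [ha] using h'.smul b b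
  convert (h.act h' (-b / (a * φ w))).smul a a using 1
  · rw [e]; match_scalars <;> field_simp
  · match_scalars <;> field_simp

/-- The axes with a given centre. -/
def rtA (H : Subgroup (V ≃ₗ[F] V)) (v : V) : Submodule F (Dual F V) where
  carrier := {φ | Rt H v φ}
  add_mem' := Rt.add
  zero_mem' := rt_zero v
  smul_mem' c _ h := h.smul_right c

/-- `R` is invariant under the root subgroups of `H`. -/
def Inv (H : Subgroup (V ≃ₗ[F] V)) (R : Submodule F V) : Prop := ∀ y η x, Rt H y η → x ∈ R → η x ≠ 0 → y ∈ R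

/-- `x` is moved by a root subgroup. -/
def Mv (H : Subgroup (V ≃ₗ[F] V)) (x : V) : Prop := ∃ y η, y ≠ 0 ∧ Rt H y η ∧ η x ≠ 0

/-- A connected component. -/
structure Cp (H : Subgroup (V ≃ₗ[F] V)) (M : Submodule F V) : Prop where
  inv : Inv H M
  irr : ∀ R ≤ M, Inv H R → ∀ x ∈ R, Mv H x → M ≤ R
  np : ∀ y ∈ M, ∀ η, Rt H y η → y ≠ 0 → η ≠ 0 → Mv H y ∧ ∃ x ∈ M, η x ≠ 0

/-- All root subgroups with centre `z` and axis in `Y` are in `H`. -/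
def Full (H : Subgroup (V ≃ₗ[F] V)) (Y : Submodule F (Dual F V)) (z : V) : Prop := ∀ ζ ∈ Y, ζ z = 0 → Rt H z ζ

variable {Y : Submodule F (Dual F V)} {M : Submodule F V}

theorem Full.act (h : Full H Y v) (h' : Rt H w χ) (hχ : χ ∈ Y) (c : F) : Full H Y (v + (c * χ v) • w) := fun ζ a b => by
  have := (h (ζ + (c * ζ w) • χ) (add_mem a (Y.smul_mem _ hχ)) (by simp at b ⊢; linear_combination b)).act h' c
  simpa [h'.1] using this

theorem Full.smul (h : Full H Y v) (c : F) : Full H Y (c • v) := fun ζ a b => by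
  by_cases hc : c = 0
  · simpa [hc] using rt_zero_left ζ
  · exact (h ζ a (by simpa [hc] using b)).smul_left c

theorem Full.step (h : Full H Y v) (h' : Rt H w χ) (hχ : χ ∈ Y) (a : χ v ≠ 0) : Full H Y w := fun ζ b c => by
  simpa using ((h (ζ - (ζ v / χ v) • χ) (sub_mem b (Y.smul_mem _ hχ)) (by simp [a])).step h' a (by simp [c, h'.1])).add
    (h'.smul_right (ζ v / χ v))

theorem Full.add (h : Full H Y v) (h' : Full H Y w) {x₁ x₂ : V} (h₁ : Full H Y x₁) (h₂ : Full H Y x₂) {φ₁ φ₂ : Dual F V}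
    (a₁ : φ₁ ∈ Y) (a₂ : φ₂ ∈ Y) (b₁ : φ₁ x₁ = 0) (c₁ : φ₁ x₂ ≠ 0) (b₂ : φ₂ x₂ = 0) (c₂ : φ₂ x₁ ≠ 0) : Full H Y (v + w) := by
  by_cases d : ∃ ψ ∈ Y, ψ w = 0 ∧ ψ v ≠ 0
  · obtain ⟨ψ, a, b, c⟩ := d
    simpa [c] using h.act (h' ψ a b) a (ψ v)⁻¹
  push Not at d
  by_cases e : ∀ ζ ∈ Y, ζ (v + w) = 0 → ζ w = 0
  · exact fun ζ a b => (h ζ a (d ζ a (e ζ a b))).add_left (h' ζ a (e ζ a b))
  push Not at e
  obtain ⟨ζ₀, a, b, c⟩ := e
  have k0 : ∀ ζ ∈ Y, ζ w = 0 → Rt H (v + w) ζ := fun ζ a b => (h ζ a (d ζ a b)).add_left (h' ζ a b)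
  have k1 : ∀ ζ ∈ Y, ζ (v + w) = 0 := fun ζ a' => by
    have := d (ζ - (ζ w / ζ₀ w) • ζ₀) (sub_mem a' (Y.smul_mem _ a)) (by simp [c])
    simp at this b ⊢; field_simp at this
    exact mul_left_cancel₀ c (by linear_combination this + ζ w * b)
  have key : ∀ x₁ x₂ φ₁, Full H Y x₁ → φ₁ ∈ Y → φ₁ x₁ = 0 → φ₁ w ≠ 0 → ∀ χ ∈ Y, χ w = 0 → χ x₁ ≠ 0 → Full H Y (v + w) :=
    fun x₁ (x₂ : V) φ₁ h₁ a₁ b₁ c₁ χ a₂ b₂ c₂ ζ a _ => by
      simpa using (k0 (ζ - (ζ w / φ₁ w) • φ₁) (sub_mem a (Y.smul_mem _ a₁)) (by simp [c₁])).add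
        (((k0 χ a₂ b₂).comm (h₁ φ₁ a₁ b₁) c₂ (k1 _ a₁)).smul_right (ζ w / φ₁ w))
  by_cases e₁ : φ₁ w = 0
  · by_cases e₂ : φ₂ w = 0
    · exact key x₂ x₂ (ζ₀ - (ζ₀ x₂ / φ₁ x₂) • φ₁) h₂ (sub_mem a (Y.smul_mem _ a₁)) (by simp [c₁]) (by simp [e₁, c]) φ₁ a₁ e₁ c₁
    · exact key x₂ x₂ φ₂ h₂ a₂ b₂ e₂ φ₁ a₁ e₁ c₁
  · exact key x₁ x₁ φ₁ h₁ a₁ b₁ e₁ (φ₂ - (φ₂ w / φ₁ w) • φ₁) (sub_mem a₂ (Y.smul_mem _ a₁)) (by simp [e₁]) (by simp [b₁, c₂])

theorem exists_of_lt_finrank [FiniteDimensional F V] {A : Submodule F (Dual F V)} (h : 2 ≤ finrank F A) (w : V) :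
    ∃ ψ ∈ A, ψ ≠ 0 ∧ ψ w = 0 := by
  by_contra c
  push Not at c
  have := LinearMap.finrank_le_finrank_of_injective (f := (Dual.eval F V w).comp A.subtype)
    ((injective_iff_map_eq_zero _).2 fun φ e => Subtype.ext (by_contra fun d => c φ φ.2 d e))
  simp at this; omega

theorem finrank_le_inf_ker (A : Submodule F (Dual F V)) [FiniteDimensional F V] (w : V) :
    finrank F A ≤ finrank F (A ⊓ LinearMap.ker (Dual.eval F V w) : Submodule F _) + 1 := by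
  have := LinearMap.finrank_range_add_finrank_ker (V := A) ((Dual.eval F V w).domRestrict A)
  have h2 := Submodule.finrank_le (LinearMap.range ((Dual.eval F V w).domRestrict A))
  rw [LinearMap.ker_domRestrict, ← Submodule.finrank_map_subtype_eq, Submodule.map_comap_subtype] at this
  simp at h2; omega

/-- The linear case. -/
theorem Cp.linear [FiniteDimensional F V] (h : Cp H M) {v₀ : V} (hv₀ : v₀ ∈ M) (h0 : v₀ ≠ 0) (h2 : 2 ≤ finrank F (rtA H v₀)) :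
    ∃ Y : Submodule F (Dual F V), (∀ z ∈ M, Full H Y z) ∧ (∀ z ∈ M, z ≠ 0 → ∃ ζ ∈ Y, ζ z ≠ 0) ∧
      ∀ y ∈ M, y ≠ 0 → ∀ η, Rt H y η → η ∈ Y := by
  have bd : BddAbove ((fun v => finrank F (rtA H v)) '' {v | v ∈ M ∧ v ≠ 0}) :=
    ⟨finrank F (Dual F V), by rintro _ ⟨v, -, rfl⟩; exact Submodule.finrank_le _⟩
  obtain ⟨v, ⟨hv, v0⟩, hm⟩ := Nat.sSup_mem (Set.Nonempty.image _ (by exact ⟨v₀, hv₀, h0⟩)) bd
  replace hm : ∀ z, z ∈ M ∧ z ≠ 0 → finrank F (rtA H z) ≤ finrank F (rtA H v) := fun z a => (le_csSup bd ⟨z, a, rfl⟩).trans hm.ge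
  replace h2 := h2.trans (hm v₀ ⟨hv₀, h0⟩)
  obtain ⟨ψ₀, a₀, b₀, -⟩ := exists_of_lt_finrank h2 v
  have mv := (h.np v hv ψ₀ a₀ v0 b₀).1
  obtain ⟨w, χ, w0, hw, hχ⟩ := id mv
  have wM := h.inv w χ v hw hv hχ
  let Y := rtA H v ⊔ F ∙ χ
  have hY : ∀ ζ ∈ Y, ∃ α ∈ rtA H v, ∃ c : F, α + c • χ = ζ := fun ζ a => by
    obtain ⟨α, b, β, c, rfl⟩ := Submodule.mem_sup.1 a
    obtain ⟨d, rfl⟩ := Submodule.mem_span_singleton.1 c
    exact ⟨α, b, d, rfl⟩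
  have χY : χ ∈ Y := Submodule.mem_sup_right (Submodule.mem_span_singleton_self χ)
  have hd : finrank F (rtA H v) < finrank F Y := Submodule.finrank_lt_finrank_of_lt
    (lt_of_le_of_ne le_sup_left fun e => hχ (show χ ∈ rtA H v from e ▸ χY).1)
  have K1 : ∀ z ∈ M, z ≠ 0 → Full H Y z → ∀ η, Rt H z η → η ∈ Y := fun z a b c η d => by
    have := finrank_le_inf_ker Y z
    have e := hm z ⟨a, b⟩
    exact ((Submodule.eq_of_le_of_finrank_le (S₁ := Y ⊓ LinearMap.ker (Dual.eval F V z)) (S₂ := rtA H z)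
      (fun ζ e => c ζ e.1 e.2) (by omega)).ge d).1
  have K2 : ∀ z ∈ M, z ≠ 0 → Full H Y z → ∃ ζ ∈ Y, ζ z ≠ 0 := fun z a b c => by
    by_contra d
    push Not at d
    have := Submodule.finrank_mono (show Y ≤ rtA H z from fun ζ e => c ζ e (d ζ e))
    have e := hm z ⟨a, b⟩
    omega
  have fv : Full H Y v := fun ζ a b => by
    obtain ⟨α, c, d, rfl⟩ := hY ζ a
    have : d = 0 := by simpa [c.1, hχ] using b
    rw [this, zero_smul, add_zero]; exact c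
  have fw := fv.step hw χY hχ
  obtain ⟨α, hα, aw⟩ : ∃ α ∈ rtA H v, α w ≠ 0 := by
    obtain ⟨ζ, a, b⟩ := K2 w wM w0 fw
    obtain ⟨α, c, d, rfl⟩ := hY ζ a
    exact ⟨α, c, by simpa [hw.1] using b⟩
  have αY : α ∈ Y := Submodule.mem_sup_left hα
  let S : Submodule F V :=
    { carrier := {z | z ∈ M ∧ Full H Y z}
      add_mem' := fun a b => ⟨add_mem a.1 b.1, a.2.add b.2 fv fw αY χY hα.1 aw hw.1 hχ⟩
      zero_mem' := ⟨zero_mem _, fun ζ _ _ => rt_zero_left ζ⟩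
      smul_mem' := fun c _ a => ⟨M.smul_mem c a.1, a.2.smul c⟩ }
  have vS : v ∈ S := ⟨hv, fv⟩
  have wS : w ∈ S := ⟨wM, fw⟩
  have L : ∀ η : Dual F V, ∃ z ∈ S, z ≠ 0 ∧ η z = 0 ∧ ∀ ζ : Dual F V, ζ v = 0 → ζ w = 0 → ζ z = 0 := fun η => by
    by_cases c : η v = 0
    · exact ⟨v, vS, v0, c, fun _ a _ => a⟩
    · exact ⟨η w • v - η v • w, sub_mem (S.smul_mem _ vS) (S.smul_mem _ wS), fun e => by
        simpa [hα.1, c, aw] using congrArg α e, by simp [mul_comm], fun ζ a b => by simp [a, b]⟩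
  have L2 : ∀ z ∈ S, z ≠ 0 → ∀ y η, Rt H y η → η z = 0 → ∀ ζ ∈ Y, ζ z = 0 → ζ y ≠ 0 → η ∈ Y :=
    fun z a b y η c d ζ e f g => K1 z a.1 b a.2 η ((a.2 ζ e f).comm c g d)
  obtain ⟨u, uS, ξ, ξY, ξv, ξw, ξu⟩ : ∃ u ∈ S, ∃ ξ ∈ Y, ξ v = 0 ∧ ξ w = 0 ∧ ξ u ≠ 0 := by
    obtain ⟨ψ, a, b, c⟩ := exists_of_lt_finrank h2 w
    obtain ⟨x, hx, d⟩ := (h.np v hv ψ a v0 b).2
    by_contra e
    push Not at e
    refine d (((h.irr (M ⊓ (Y ⊓ (F ∙ v).dualAnnihilator ⊓ (F ∙ w).dualAnnihilator).dualCoannihilator) inf_le_left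
      (fun y η x f g i => ?_) v ⟨hv, ?_⟩ mv hx).2 |> (Submodule.mem_dualCoannihilator _).1) ψ ?_)
    · have yM := h.inv y η x f g.1 i
      refine ⟨yM, (Submodule.mem_dualCoannihilator _).2 fun ζ j => by_contra fun k => ?_⟩
      have g := (Submodule.mem_dualCoannihilator _).1 g.2
      simp only [Submodule.mem_inf, Submodule.mem_dualAnnihilator, Submodule.mem_span_singleton, forall_exists_index,
        forall_apply_eq_imp_iff, map_smul, smul_eq_mul] at g j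
      have j1 : ζ v = 0 := by simpa using j.1.2 1
      have j2 : ζ w = 0 := by simpa using j.2 1
      obtain ⟨z, z1, z2, z3, z4⟩ := L η
      have ηY := L2 z z1 z2 y η f z3 ζ j.1.1 (z4 ζ j1 j2) k
      refine k (e y ⟨yM, ?_⟩ ζ j.1.1 j1 j2)
      by_cases l : η v = 0
      · exact fw.step f ηY fun m => i (g η (by simp [ηY, l, m]))
      · exact fv.step f ηY l
    · exact (Submodule.mem_dualCoannihilator _).2 fun ζ j =>
        (Submodule.mem_dualAnnihilator _).1 j.1.2 v (Submodule.mem_span_singleton_self v)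
    · simp [show ψ ∈ Y from Submodule.mem_sup_left a, Submodule.mem_span_singleton, a.1, c]
  have L3 : ∀ y η, Rt H y η → (∃ ζ ∈ Y, ζ y ≠ 0) → η ∈ Y := fun y η a ⟨ζ, b, c⟩ => by
    have key : ∀ z₁ ∈ S, ∀ z₂ ∈ S, z₂ ≠ 0 → η z₁ = 0 → η z₂ = 0 → ∀ ζ' ∈ Y, ζ' z₂ = 0 → ζ' z₁ ≠ 0 → η ∈ Y :=
      fun z₁ a₁ z₂ a₂ b₂ c₁ c₂ ζ' d e f => by
        by_cases g : ζ' y = 0
        · exact L2 z₁ a₁ (by rintro rfl; simp at f) y η a c₁ (ζ - (ζ z₁ / ζ' z₁) • ζ') (sub_mem b (Y.smul_mem _ d))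
            (by simp [f]) (by simpa [g])
        · exact L2 z₂ a₂ b₂ y η a c₂ ζ' d e g
    obtain ⟨z, z1, z2, z3, z4⟩ := L η
    by_cases l : η v = 0
    · by_cases m : η w = 0
      · exact key w wS v vS v0 m l α αY hα.1 aw
      · exact key (u - (η u / η w) • w) (sub_mem uS (S.smul_mem _ wS)) z z1 z2 (by simp [m]) z3 ξ ξY (z4 ξ ξv ξw)
          (by simpa [ξw])
    · exact key (u - (η u / η v) • v) (sub_mem uS (S.smul_mem _ vS)) z z1 z2 (by simp [l]) z3 ξ ξY (z4 ξ ξv ξw)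
        (by simpa [ξv])
  have L4 : ∀ y ∈ M, Mv H y → ∃ ζ ∈ Y, ζ y ≠ 0 := fun y a b => by
    by_contra c
    push Not at c
    refine hχ ((Submodule.mem_dualCoannihilator _).1 (h.irr (M ⊓ Y.dualCoannihilator) inf_le_left (fun y η x f g i => ?_) y
      ⟨a, (Submodule.mem_dualCoannihilator _).2 c⟩ b hv).2 χ χY)
    exact ⟨h.inv y η x f g.1 i, (Submodule.mem_dualCoannihilator _).2 fun ζ j => by_contra fun k =>
      i ((Submodule.mem_dualCoannihilator _).1 g.2 η (L3 y η f ⟨ζ, j, k⟩))⟩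
  have L5 : M ≤ S := h.irr S (fun _ a => a.1) (fun y η x f g i => by
    have yM := h.inv y η x f g.1 i
    by_cases c : y = 0
    · exact c ▸ zero_mem S
    · exact ⟨yM, g.2.step f (L3 y η f (L4 y yM (h.np y yM η f c (by rintro rfl; simp at i)).1)) i⟩) v vS mv
  exact ⟨Y, fun z a => (L5 a).2, fun z a b => K2 z a b (L5 a).2, fun y a b => K1 y a b (L5 a).2⟩

end Cfsg.Lib.Linear.McL
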