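import Cfsg.Agent.Lib.Linear.McL

/-! McLaughlin's theorem on groups generated by root subgroups of transvections, the symplectic case. -/

set_option autoImplicit false

namespace Cfsg.Lib.Linear.McL

open Module

variable {F V : Type*} [Field F] [AddCommGroup V] [Module F V] {H : Subgroup (V ≃ₗ[F] V)} {M : Submodule F V}

theorem Rt.three {w x : V} {χ ψ : Dual F V} {t : F} (h : Rt H w χ) (h' : Rt H x ψ) (h'' : Rt H (w + t • x) (χ + t • ψ))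
    (a : χ x = 0) (b : ψ w = 0) (ht : t ≠ 0) : Rt H (w + x) (χ + ψ) := ⟨by simp [h.1, h'.1, a, b], fun s => by
  obtain ⟨g₁, c₁, d₁⟩ := h.2 (s - s / t)
  obtain ⟨g₂, c₂, d₂⟩ := h'.2 (s - s * t)
  obtain ⟨g₃, c₃, d₃⟩ := h''.2 (s / t)
  refine ⟨g₁ * g₂ * g₃, mul_mem (mul_mem c₁ c₂) c₃, fun y => ?_⟩
  simp [d₁, d₂, d₃, h.1, h'.1, a, b]
  match_scalars <;> field_simp <;> ring⟩

/-- A nontrivial root subgroup with centre in `M`. -/
def Gd (H : Subgroup (V ≃ₗ[F] V)) (M : Submodule F V) (p : V × Dual F V) : Prop := p.1 ∈ M ∧ Rt H p.1 p.2 ∧ p.1 ≠ 0 ∧ p.2 ≠ 0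

variable {p q r : V × Dual F V}

theorem Gd.line (hp : Gd H M p) (hq : Gd H M q) (e : q.2 p.1 = -p.2 q.1) (e' : p.2 q.1 ≠ 0) {a c : F} (h : a ≠ 0 ∨ c ≠ 0) :
    Gd H M (a • p + c • q) := by
  refine ⟨add_mem (M.smul_mem _ hp.1) (M.smul_mem _ hq.1), hp.2.1.line hq.2.1 e e' a c, fun d => ?_, fun d => ?_⟩
  · rcases h with h | h
    · simpa [hq.2.1.1, e, e', h] using congrArg q.2 d
    · simpa [hp.2.1.1, e', h] using congrArg p.2 d
  · rcases h with h | h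
    · simpa [hq.2.1.1, e', h] using LinearMap.congr_fun d q.1
    · simpa [hp.2.1.1, e, e', h] using LinearMap.congr_fun d p.1

theorem Gd.smul (hp : Gd H M p) {a : F} (ha : a ≠ 0) : Gd H M (a • p) :=
  ⟨M.smul_mem _ hp.1, hp.2.1.smul a a, smul_ne_zero ha hp.2.2.1, smul_ne_zero ha hp.2.2.2⟩

theorem Gd.smul_right (hp : Gd H M p) {a : F} (ha : a ≠ 0) : Gd H M (p.1, a • p.2) :=
  ⟨hp.1, hp.2.1.smul_right a, hp.2.2.1, smul_ne_zero ha hp.2.2.2⟩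

theorem exists_two_ne {α β γ δ : F} (h : α ≠ 0 ∨ β ≠ 0) (h' : γ ≠ 0 ∨ δ ≠ 0) : ∃ a c, a * α + c * β ≠ 0 ∧ a * γ + c * δ ≠ 0 := by
  by_cases a : α ≠ 0 ∧ γ ≠ 0
  · exact ⟨1, 0, by simpa using a⟩
  by_cases b : β ≠ 0 ∧ δ ≠ 0
  · exact ⟨0, 1, by simpa using b⟩
  refine ⟨1, 1, ?_⟩
  by_cases c : α = 0 <;> by_cases d : γ = 0 <;> simp_all

theorem exists_add_ne {α : F} (h : α ≠ 0) (β : F) : ∃ s, s * α + β ≠ 0 := by
  by_cases c : β = 0
  · exact ⟨1, by simpa [c]⟩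
  · exact ⟨0, by simpa⟩

theorem Cp.symp_aux (h : Cp H M) (sym : ∀ p q, Gd H M p → Gd H M q → p.2 q.1 ≠ 0 → q.2 p.1 ≠ 0) {t : F} (t0 : t ≠ 0) (t1 : t ≠ 1)
    {p₀ : V × Dual F V} (h₀ : Gd H M p₀) : ∃ N : Submodule F (V × Dual F V), (∀ p ∈ N, p = 0 ∨ Gd H M p) ∧
      (∀ x ∈ M, ∃ ξ, (x, ξ) ∈ N) ∧ (∀ p ∈ N, ∀ q ∈ N, q.2 p.1 = -p.2 q.1) ∧ ∀ r, Gd H M r → ∃ c : F, c ≠ 0 ∧ (r.1, c • r.2) ∈ N := by
  have sym' : ∀ p q, Gd H M p → Gd H M q → q.2 p.1 = 0 → p.2 q.1 = 0 := fun p q a b c => by_contra fun d => sym p q a b d c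
  have tri : ∀ p q r, Gd H M p → Gd H M q → q.2 p.1 = -p.2 q.1 → p.2 q.1 ≠ 0 → Gd H M r →
      r.2 p.1 * q.2 r.1 = r.2 q.1 * p.2 r.1 := fun p q r a b c d e => by
    by_cases f : r.2 q.1 ≠ 0 ∨ -r.2 p.1 ≠ 0
    · have := sym' _ _ (a.line b c d f) e (by simp [mul_comm])
      simp at this; linear_combination -this
    · simp_all
  have mv := (h.np _ h₀.1 _ h₀.2.1 h₀.2.2.1 h₀.2.2.2).1
  obtain ⟨p₁, h₁, e₁, e₂⟩ : ∃ p₁, Gd H M p₁ ∧ p₁.2 p₀.1 = -p₀.2 p₁.1 ∧ p₀.2 p₁.1 ≠ 0 := by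
    obtain ⟨w, χ, a, b, c⟩ := mv
    have d : Gd H M (w, χ) := ⟨h.inv w χ _ b h₀.1 c, b, a, by rintro rfl; simp at c⟩
    have e := sym _ _ d h₀ c
    exact ⟨_, d.smul_right (a := -p₀.2 w / χ p₀.1) (by simpa [c] using e), by simp [c], e⟩
  let Γ : Set (V × Dual F V) := {p | Gd H M p ∧ p.2 p₀.1 = -p₀.2 p.1 ∧ p.2 p₁.1 = -p₁.2 p.1 ∧ (p.2 p₀.1 ≠ 0 ∨ p.2 p₁.1 ≠ 0)}
  have g₀ : p₀ ∈ Γ := ⟨h₀, by simp [h₀.2.1.1], by simp [e₁], .inr e₂⟩
  have g₁ : p₁ ∈ Γ := ⟨h₁, e₁, by simp [h₁.2.1.1], .inl (by simpa [e₁])⟩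
  let N := Submodule.span F Γ
  have sN : ∀ p ∈ Γ, p ∈ N := fun p a => Submodule.subset_span a
  have mid : ∀ p ∈ Γ, ∀ q ∈ Γ, ∃ z ∈ N, Gd H M z ∧ p.2 z.1 ≠ 0 ∧ q.2 z.1 ≠ 0 ∧ p.2 z.1 = -z.2 p.1 ∧ q.2 z.1 = -z.2 q.1 :=
    fun p hp q hq => by
      obtain ⟨a, c, d, e⟩ := exists_two_ne hp.2.2.2 hq.2.2.2
      exact ⟨a • p₀ + c • p₁, add_mem (N.smul_mem _ (sN _ g₀)) (N.smul_mem _ (sN _ g₁)),
        h₀.line h₁ e₁ e₂ (by by_contra f; simp_all), by simpa, by simpa,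
        by simp [hp.2.1, hp.2.2.1, add_comm], by simp [hq.2.1, hq.2.2.1, add_comm]⟩
  have iso : ∀ p ∈ Γ, ∀ q ∈ Γ, q.2 p.1 = -p.2 q.1 := fun p hp q hq => by
    obtain ⟨z, -, a, b, c, d, e⟩ := mid p hp q hq
    have := tri z p q a hp.1 d (by rintro f; simp [f] at d; exact b d) hq.1
    exact mul_left_cancel₀ c (by linear_combination this + q.2 p.1 * e)
  have isoN : ∀ p ∈ N, ∀ q ∈ N, q.2 p.1 = -p.2 q.1 := fun p hp q hq => by
    induction hp, hq using Submodule.span_induction₂ with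
    | mem_mem p q a b => exact iso p a q b
    | zero_left => simp
    | zero_right => simp
    | add_left _ _ _ _ _ _ a b => simp [a, b, add_comm]
    | add_right _ _ _ _ _ _ a b => simp [a, b, add_comm]
    | smul_left _ _ _ _ _ a => simp [a]
    | smul_right _ _ _ _ _ a => simp [a]
  have NM : ∀ p ∈ N, p.1 ∈ M := fun p hp =>
    (Submodule.span_le.2 fun p a => a.1.1 : N ≤ M.comap (LinearMap.fst F _ _)) hp
  have memN : ∀ r, Gd H M r → (∃ p ∈ Γ, r.2 p.1 ≠ 0) → ∃ c : F, c ≠ 0 ∧ (r.1, c • r.2) ∈ N := fun r a ⟨p, b, c⟩ => by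
    have := tri p₀ p₁ r h₀ h₁ e₁ e₂ a
    by_cases d : r.2 p₀.1 = 0
    · by_cases e : r.2 p₁.1 = 0
      · have f : -p.2 r.1 / r.2 p.1 ≠ 0 := by simpa [c] using sym _ _ a b.1 c
        have k := b.1.line (a.smul_right f) (by simp [c]) (sym r p a b.1 c) (a := 1) (c := 1) (by simp)
        refine ⟨_, f, (N.add_mem_iff_right (sN p b)).1 (sN _ ⟨by simpa using k, ?_⟩)⟩
        simpa [d, e, sym' _ _ h₀ a d, sym' _ _ h₁ a e] using b.2
      · have f : -p₁.2 r.1 / r.2 p₁.1 ≠ 0 := by simpa [e] using sym _ _ a h₁ e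
        exact ⟨_, f, sN _ ⟨a.smul_right f, by simp [d, sym' _ _ h₀ a d], by simp [e], .inr (by simpa [e] using f)⟩⟩
    · have f : -p₀.2 r.1 / r.2 p₀.1 ≠ 0 := by simpa [d] using sym _ _ a h₀ d
      exact ⟨_, f, sN _ ⟨a.smul_right f, by simp [d], by simp; field_simp; linear_combination this, .inl (by simpa [d] using f)⟩⟩
  have kill : ∀ η : Dual F V, ∀ p ∈ N, η p.1 ≠ 0 → ∃ p ∈ Γ, η p.1 ≠ 0 := fun η p a b => by
    by_contra c
    push Not at c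
    exact b ((Submodule.span_le.2 c : N ≤ LinearMap.ker (η ∘ₗ LinearMap.fst F _ _)) a)
  have MU : M ≤ N.map (LinearMap.fst F _ _) := h.irr _ (by rintro _ ⟨p, a, rfl⟩; exact NM p a) (by
    rintro y η _ a ⟨p, b, rfl⟩ c
    by_cases d : y = 0
    · exact d ▸ zero_mem _
    obtain ⟨s, -, e⟩ := memN (y, η) ⟨h.inv y η _ a (NM p b) c, a, d, by rintro rfl; simp at c⟩ (kill η p b c)
    exact ⟨_, e, rfl⟩) p₀.1 ⟨p₀, sN _ g₀, rfl⟩ mv
  have nbr : ∀ r, Gd H M r → ∃ p ∈ Γ, r.2 p.1 ≠ 0 := fun r a => by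
    obtain ⟨x, b, c⟩ := (h.np _ a.1 _ a.2.1 a.2.2.1 a.2.2.2).2
    obtain ⟨p, d, rfl⟩ := MU b
    exact kill _ p d c
  have nd : ∀ p ∈ N, ∀ q ∈ N, Gd H M p → Gd H M q → Rt H (p + q).1 (p + q).2 → p + q = 0 ∨ Gd H M (p + q) :=
    fun p a q b c d e => by
      by_cases f : (p + q).1 = 0
      · refine .inl (Prod.ext f (by_contra fun g => ?_))
        have k : q.1 = (-1 : F) • p.1 := by simpa [eq_neg_iff_add_eq_zero, add_comm] using f
        obtain ⟨z, i, j⟩ := nbr (p.1, (p + q).2) ⟨c.1, c.2.1.add (by simpa [k] using d.2.1.smul_left (-1)), c.2.2.1, g⟩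
        exact j (by rw [isoN z (sN z i) _ (add_mem a b), f, map_zero, neg_zero])
      · refine .inr ⟨add_mem c.1 d.1, e, f, fun g => ?_⟩
        have k : p.2 = (-1 : F) • q.2 := (eq_neg_of_add_eq_zero_left g).trans (neg_one_smul F q.2).symm
        obtain ⟨y, η, i, j, l⟩ := (h.np _ (add_mem c.1 d.1) p.2 (c.2.1.add_left (k ▸ d.2.1.smul_right (-1))) f
          c.2.2.2).1
        have m : Gd H M (y, η) := ⟨h.inv y η _ j (add_mem c.1 d.1) l, j, i, by rintro rfl; simp at l⟩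
        obtain ⟨s, s0, n⟩ := memN _ m (nbr _ m)
        have := isoN _ (add_mem a b) _ n
        rw [g] at this
        exact l (by simpa [s0] using this)
  have add1 : ∀ p ∈ N, ∀ q ∈ N, Gd H M p → Gd H M q → p.2 q.1 ≠ 0 → Gd H M (p + q) := fun p a q b c d e => by
    simpa using c.line d (isoN p a q b) e (a := 1) (c := 1) (by simp)
  have addP : ∀ p ∈ N, ∀ q ∈ N, Gd H M p → Gd H M q → p + q = 0 ∨ Gd H M (p + q) := fun p a q b c d => by
    by_cases e : p.2 q.1 = 0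
    swap
    · exact .inr (add1 p a q b c d e)
    have e' : q.2 p.1 = 0 := by simpa [e] using isoN p a q b
    obtain ⟨z, z1, z2, z3, z4⟩ : ∃ z ∈ N, Gd H M z ∧ p.2 z.1 ≠ 0 ∧ q.2 z.1 ≠ 0 := by
      obtain ⟨z₁, f₁, k₁⟩ := nbr p c
      obtain ⟨z₂, f₂, k₂⟩ := nbr q d
      by_cases i : q.2 z₁.1 = 0
      swap
      · exact ⟨z₁, sN _ f₁, f₁.1, k₁, i⟩
      by_cases j : p.2 z₂.1 = 0
      swap
      · exact ⟨z₂, sN _ f₂, f₂.1, j, k₂⟩
      by_cases l : z₁.2 z₂.1 = 0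
      swap
      · exact ⟨z₁ + z₂, add_mem (sN _ f₁) (sN _ f₂), add1 _ (sN _ f₁) _ (sN _ f₂) f₁.1 f₂.1 l, by simpa [j], by simpa [i]⟩
      obtain ⟨z, m1, m2, m3, m4, m5, m6⟩ := mid _ f₁ _ f₂
      obtain ⟨s, hs⟩ := exists_add_ne k₁ (p.2 z.1)
      obtain ⟨u, hu⟩ := exists_add_ne k₂ (q.2 z.1)
      have n1 := f₁.1.line m2 (by simp [m5]) m3 (a := s) (c := 1) (by simp)
      have n2 := add_mem (N.smul_mem s (sN _ f₁)) (N.smul_mem (1 : F) m1)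
      exact ⟨_, add_mem (N.smul_mem _ n2) (N.smul_mem _ (sN _ f₂)), n1.line f₂.1 (isoN _ n2 _ (sN _ f₂))
        (by simpa [l, m6] using m4) (a := 1) (c := u) (by simp), by simpa [j], by simpa [i, add_comm] using hu⟩
    have key : ∀ s : F, s ≠ 0 → p.2 z.1 + s * q.2 z.1 ≠ 0 → Gd H M (p + s • q) := fun s i j => by
      have k1 := add1 _ a _ z1 c z2 z3
      have k2 := add1 _ (N.smul_mem s b) _ (N.smul_mem (-1) z1) (d.smul i) (z2.smul (by simp)) (by simp [i, z4])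
      have := add1 _ (add_mem a z1) _ (add_mem (N.smul_mem s b) (N.smul_mem (-1) z1)) k1 k2 (by
        simp [e, z2.2.1.1, isoN q b z z1]; intro l; exact j (by linear_combination -l))
      convert this using 1; module
    by_cases f : p.2 z.1 + 1 * q.2 z.1 = 0
    · exact nd p a q b c d (c.2.1.three d.2.1 (key t t0 fun g => t1 (mul_right_cancel₀ z4 (by linear_combination g - f))).2.1
        e e' t0)
    · exact .inr (by simpa using key 1 one_ne_zero f)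
  refine ⟨N, fun p hp => ?_, fun x hx => ?_, isoN, fun r a => memN r a (nbr r a)⟩
  · induction hp using Submodule.span_induction with
    | mem p a => exact .inr a.1
    | zero => exact .inl rfl
    | add p q a b c d =>
      rcases c with rfl | c
      · simpa
      rcases d with rfl | d
      · simpa using .inr c
      · exact addP p a q b c d
    | smul s p a b =>
      by_cases c : s = 0
      · simp [c]
      · exact b.imp (by simp +contextual) fun d => d.smul c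
  · obtain ⟨p, a, rfl⟩ := MU hx
    exact ⟨p.2, a⟩

theorem two_le_finrank [FiniteDimensional F V] {v w : V} {φ χ : Dual F V} (h : Rt H v φ) (h' : Rt H v χ) (a : φ w ≠ 0)
    (b : χ w = 0) (c : χ ≠ 0) : 2 ≤ finrank F (rtA H v) := by
  have := Submodule.finrank_lt_finrank_of_lt (show F ∙ χ < rtA H v from lt_of_le_of_ne
    ((Submodule.span_singleton_le_iff_mem _ _).2 h') fun e => by
      obtain ⟨s, rfl⟩ := Submodule.mem_span_singleton.1 (show φ ∈ F ∙ χ from e ▸ h)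
      simp [b] at a)
  rwa [finrank_span_singleton c] at this

/-- The symplectic case. -/
theorem Cp.symp [FiniteDimensional F V] (h : Cp H M) (h1 : ∀ v ∈ M, v ≠ 0 → finrank F (rtA H v) ≤ 1) {t : F} (t0 : t ≠ 0)
    (t1 : t ≠ 1) {p₀ : V × Dual F V} (h₀ : Gd H M p₀) : ∃ θ : M →ₗ[F] Dual F V, (∀ x : M, Rt H x (θ x)) ∧
      (∀ x, θ x = 0 → x = 0) ∧ (∀ x y : M, θ y x = -θ x y) ∧ ∀ y : M, y ≠ 0 → ∀ η, Rt H y η → ∃ c : F, η = c • θ y := by
  have sym : ∀ p q, Gd H M p → Gd H M q → p.2 q.1 ≠ 0 → q.2 p.1 ≠ 0 := fun p q hp hq e f => by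
    have := two_le_finrank hp.2.1 (hp.2.1.comm hq.2.1 e f) e hq.2.1.1 hq.2.2.2
    have := h1 _ hp.1 hp.2.2.1
    omega
  obtain ⟨N, a, b, c, d⟩ := h.symp_aux sym t0 t1 h₀
  let f : N →ₗ[F] M := (LinearMap.fst F _ _ ∘ₗ N.subtype).codRestrict M fun p => (a p p.2).elim (by simp +contextual) (·.1)
  let e := LinearEquiv.ofBijective f ⟨(injective_iff_map_eq_zero _).2 fun p hp => Subtype.ext
    ((a p p.2).resolve_right fun k => k.2.2.1 (congrArg Subtype.val hp)), fun x => let ⟨ξ, k⟩ := b x x.2; ⟨⟨_, k⟩, rfl⟩⟩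
  have he : ∀ x : M, (e.symm x).1.1 = x := fun x => congrArg Subtype.val (e.apply_symm_apply x)
  refine ⟨LinearMap.snd F _ _ ∘ₗ N.subtype ∘ₗ e.symm, fun x => ?_, fun x k => ?_, fun x y => ?_, fun y k η l => ?_⟩
  · rcases a _ (e.symm x).2 with k | k
    · simp [k, rt_zero]
    · exact he x ▸ k.2.1
  · exact Subtype.ext (by rw [← he x, (a _ (e.symm x).2).resolve_right fun l => l.2.2.2 k]; rfl)
  · rw [← he x, ← he y]; exact c _ (e.symm x).2 _ (e.symm y).2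
  · by_cases m : η = 0
    · exact ⟨0, by simp [m]⟩
    obtain ⟨s, s0, n⟩ := d (y, η) ⟨y.2, l, by simpa, m⟩
    exact ⟨s⁻¹, by simp [show e.symm y = ⟨_, n⟩ from e.symm_apply_eq.2 rfl, s0]⟩

end Cfsg.Lib.Linear.McL
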