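import Cfsg.Agent.Lib.Linear.McL2
import Cfsg.Agent.Lib.Linear.Tv
import Cfsg.Agent.Lib.Forms.Symp

/-! McLaughlin's theorem on groups generated by root subgroups of transvections. -/

set_option autoImplicit false

namespace Cfsg.Lib.Linear.McL

open Module

variable {F V : Type*} [Field F] [AddCommGroup V] [Module F V] [FiniteDimensional F V] {H : Subgroup (V ≃ₗ[F] V)}
  {M : Submodule F V}

theorem mem_of_det (h : ∀ (v : V) (ψ : Dual F V), ψ v = 0 → ∃ g ∈ H, ∀ x, g x = x + ψ x • v) {f : V ≃ₗ[F] V}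
    (hf : LinearMap.det (f : V →ₗ[F] V) = 1) : f ∈ H := by
  classical
  let b := Module.finBasis F V
  obtain ⟨g, a, c⟩ := sl_transvection_induction (fun A => ∃ g ∈ H, (g : V →ₗ[F] V) = Matrix.toLin b b A.1)
    ⟨1, one_mem _, by simp⟩ (fun i j hij c => by
      obtain ⟨g, a, d⟩ := h (b i) (c • b.coord j) (by simp [hij])
      refine ⟨g, a, b.ext fun k => ?_⟩
      rw [coe_transvection_eq, map_add, Matrix.toLin_one, LinearMap.add_apply, Matrix.toLin_self, LinearEquiv.coe_coe, d]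
      simp [Matrix.vecMulVec_apply, Pi.single_apply, Finsupp.single_apply, eq_comm, ite_and])
    (fun A B ⟨g, a, c⟩ ⟨g', a', c'⟩ => ⟨g * g', mul_mem a a', by rw [sl_coe_mul, Matrix.toLin_mul b b b, ← c, ← c']; rfl⟩)
    ⟨LinearMap.toMatrix b b f, by rwa [LinearMap.det_toMatrix]⟩
  rwa [← LinearEquiv.toLinearMap_injective (c.trans (Matrix.toLin_toMatrix ..))]

theorem mem_of_isom {B : LinearMap.BilinForm F V} (hA : B.IsAlt) (hB : B.Nondegenerate)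
    (h : ∀ (v : V) (c : F), ∃ g ∈ H, ∀ x, g x = x + (c * B v x) • v) {f : V ≃ₗ[F] V} (hf : ∀ x y, B (f x) (f y) = B x y) :
    f ∈ H :=
  (Forms.Symp.eq_top_of_tv (D := Forms.ofAlt B hA) hB.1 (H.subgroupOf _) fun v c => by
    obtain ⟨g, a, b⟩ := h v c
    rwa [Subgroup.mem_subgroupOf, show (Forms.Symp.tv (Forms.ofAlt B hA) v c).1 = g from LinearEquiv.ext fun x => (b x).symm]).ge
    (Subgroup.mem_top (⟨f, Forms.Symp.mem_isom.2 hf⟩ : (Forms.ofAlt B hA).isom))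

theorem exists_split {Y : Submodule F (Dual F V)} (h : ∀ ζ ∈ Y, (∀ x ∈ M, ζ x = 0) → ζ = 0) (x : V) :
    ∃ m ∈ M, ∀ ζ ∈ Y, ζ (x - m) = 0 := by
  have : M ⊔ Y.dualCoannihilator = ⊤ := Subspace.dualAnnihilator_inj.1 (by
    rw [Submodule.dualAnnihilator_sup_eq, Subspace.dualCoannihilator_dualAnnihilator_eq, Submodule.dualAnnihilator_top]
    exact eq_bot_iff.2 fun ζ a => h ζ a.2 ((Submodule.mem_dualAnnihilator _).1 a.1))
  obtain ⟨m, a, z, b, rfl⟩ := Submodule.mem_sup.1 (this.ge (Submodule.mem_top (x := x)))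
  exact ⟨m, a, by simpa using (Submodule.mem_dualCoannihilator _).1 b⟩

theorem exists_ext {Y : Submodule F (Dual F V)} (h : ∀ z ∈ M, z ≠ 0 → ∃ ζ ∈ Y, ζ z ≠ 0) (ψ : Dual F M) :
    ∃ φ ∈ Y, ∀ x : M, φ x = ψ x := by
  have : Y.map M.dualRestrict = ⊤ := by
    rw [← Subspace.dualCoannihilator_dualAnnihilator_eq (W := Y.map M.dualRestrict),
      (Submodule.eq_bot_iff (Y.map M.dualRestrict).dualCoannihilator).2 fun z a => by_contra fun b => ?_,
      Submodule.dualAnnihilator_bot]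
    obtain ⟨ζ, c, d⟩ := h z z.2 (by simpa using b)
    exact d ((Submodule.mem_dualCoannihilator _).1 a _ ⟨ζ, c, rfl⟩)
  obtain ⟨φ, a, rfl⟩ := this.ge (Submodule.mem_top (x := ψ))
  exact ⟨φ, a, fun _ => rfl⟩

/-- McLaughlin's theorem for one component. -/
theorem Cp.dich (h : Cp H M) {t : F} (t0 : t ≠ 0) (t1 : t ≠ 1) (h₀ : M = ⊥ ∨ ∃ p, Gd H M p) :
    (∀ x ∈ M, x ≠ 0 → Mv H x) ∧ (∀ x, ∃ m ∈ M, ∀ y ∈ M, y ≠ 0 → ∀ η, Rt H y η → η (x - m) = 0) ∧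
    ((∀ (v : M) (ψ : Dual F M), ψ v = 0 → ∃ φ, Rt H v φ ∧ ∀ x : M, φ x = ψ x) ∨
      ∃ B : LinearMap.BilinForm F M, B.IsAlt ∧ B.Nondegenerate ∧ (∀ v : M, ∃ φ, Rt H v φ ∧ ∀ x : M, φ x = B v x) ∧
        ∀ y : M, y ≠ 0 → ∀ η, Rt H y η → ∃ c, ∀ x : M, η x = c * B y x) := by
  rcases h₀ with rfl | ⟨p, hp⟩
  · exact ⟨by simp, fun x => ⟨0, by simp⟩, .inl fun v ψ _ => ⟨0, rt_zero _, fun x => by simp [Subsingleton.elim x 0]⟩⟩
  have inj : ∀ v ∈ M, v ≠ 0 → ∀ ζ, Rt H v ζ → (∀ x ∈ M, ζ x = 0) → ζ = 0 := fun v a b ζ c d => by_contra fun e =>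
    let ⟨x, f, g⟩ := (h.np v a ζ c b e).2; g (d x f)
  by_cases c : ∃ v ∈ M, v ≠ 0 ∧ 2 ≤ finrank F (rtA H v)
  · obtain ⟨v, a, b, c⟩ := c
    obtain ⟨Y, d, e, f⟩ := h.linear a b c
    refine ⟨fun x i j => ?_, fun x => ?_, .inl fun v ψ i => ?_⟩
    · obtain ⟨ψ, k, l, m⟩ := exists_of_lt_finrank (c.trans (Submodule.finrank_mono (show rtA H v ≤ Y from f v a b))) x
      exact (h.np x i ψ (d x i ψ k m) j l).1
    · obtain ⟨m, i, j⟩ := exists_split (fun ζ i j => inj v a b ζ (d v a ζ i (j v a)) j) x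
      exact ⟨m, i, fun y k l η n => j η (f y k l η n)⟩
    · obtain ⟨φ, j, k⟩ := exists_ext e ψ
      exact ⟨φ, d v v.2 φ j (by rw [k, i]), k⟩
  · obtain ⟨θ, a, b, c, d⟩ := h.symp (fun v a b => by by_contra d; exact c ⟨v, a, b, by omega⟩) t0 t1 hp
    have nd : ∀ x : M, (∀ y ∈ M, θ x y = 0) → x = 0 := fun x e => by_contra fun f =>
      f (b x (inj x x.2 (by simpa using f) _ (a x) e))
    refine ⟨fun x i j => (h.np x i _ (a ⟨x, i⟩) j fun k => j (congrArg Subtype.val (b _ k))).1, fun x => ?_,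
      .inr ⟨M.dualRestrict ∘ₗ θ, fun x => (a x).1, ⟨fun x e => nd x fun y f => e ⟨y, f⟩, fun x e => nd x fun y f => ?_⟩,
        fun v => ⟨_, a v, fun _ => rfl⟩, fun y e η f => let ⟨s, g⟩ := d y e η f; ⟨s, fun x => by simp [g]⟩⟩⟩
    · obtain ⟨m, i, j⟩ := exists_split (Y := LinearMap.range θ) (by rintro _ ⟨y, rfl⟩ j; rw [nd y j, map_zero]) x
      refine ⟨m, i, fun y k l η n => ?_⟩
      obtain ⟨s, rfl⟩ := d ⟨y, k⟩ (by simpa) η n
      simp [j _ ⟨_, rfl⟩]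
    · exact (c ⟨y, f⟩ x).trans (neg_eq_zero.2 (e ⟨y, f⟩))

/-- Restriction to an invariant subspace. -/
def resH (K : Subgroup (V ≃ₗ[F] V)) (h : ∀ k ∈ K, ∀ x ∈ M, k x ∈ M) : K →* (M ≃ₗ[F] M) :=
  MonoidHom.mk' (fun k => LinearEquiv.ofLinearMap ((k.1 : V →ₗ[F] V).restrict (h k k.2))
    ((k⁻¹.1 : V →ₗ[F] V).restrict (h _ k⁻¹.2)) (by ext; simp) (by ext; simp)) fun _ _ => rfl

/-- The span of an orbit. -/
def orb (H : Subgroup (V ≃ₗ[F] V)) (r : V) : Submodule F V := Submodule.span F {x | ∃ h ∈ H, h r = x}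

omit [FiniteDimensional F V]

theorem orb_le {r : V} (h : ∀ k ∈ H, ∀ x ∈ M, k x ∈ M) (hr : r ∈ M) : orb H r ≤ M :=
  Submodule.span_le.2 fun _ ⟨k, a, b⟩ => b ▸ h k a r hr

theorem mem_orb {r : V} {k : V ≃ₗ[F] V} (hk : k ∈ H) : k r ∈ orb H r := Submodule.subset_span ⟨k, hk, rfl⟩

theorem self_mem_orb (r : V) : r ∈ orb H r := mem_orb (one_mem H)

theorem orb_inv (r : V) : ∀ k ∈ H, ∀ x ∈ orb H r, k x ∈ orb H r := fun k a _ b =>
  (Submodule.span_le.2 fun _ ⟨_, c, d⟩ => d ▸ mem_orb (mul_mem a c) : orb H r ≤ (orb H r).comap (k : V →ₗ[F] V)) b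

theorem inv_of (h : ∀ k ∈ H, ∀ x ∈ M, k x ∈ M) : Inv H M := fun y η x a b c => by
  obtain ⟨g, d, e⟩ := a.2 (η x)⁻¹
  simpa [e, c] using sub_mem (h g d x b) b

/-- The subgroup generated by the root subgroups with centre in `M`. -/
def rtG (H : Subgroup (V ≃ₗ[F] V)) (M : Submodule F V) : Subgroup (V ≃ₗ[F] V) :=
  Subgroup.closure {g | ∃ y ∈ M, ∃ η, Rt H y η ∧ ∀ x, g x = x + η x • y}

theorem rtG_le : rtG H M ≤ H := (Subgroup.closure_le _).2 fun g ⟨y, _, η, a, b⟩ => by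
  obtain ⟨k, c, d⟩ := a.2 1
  rwa [show g = k from LinearEquiv.ext fun x => by simp [b, d]]

theorem rtG_fix {g : V ≃ₗ[F] V} (hg : g ∈ rtG H M) {x : V} (h : ∀ y ∈ M, y ≠ 0 → ∀ η, Rt H y η → η x = 0) : g x = x :=
  ((Subgroup.closure_le (MulAction.stabilizer (V ≃ₗ[F] V) x)).2 fun g hg => show g x = x by
    obtain ⟨y, a, η, b, c⟩ := hg
    by_cases d : y = 0 <;> simp [c, d, h y a _ η b]) hg

theorem rtG_sub {g : V ≃ₗ[F] V} (hg : g ∈ rtG H M) (x : V) : g x - x ∈ M := by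
  induction hg using Subgroup.closure_induction generalizing x with
  | mem g a => obtain ⟨y, a, η, -, c⟩ := a; simpa [c] using M.smul_mem _ a
  | one => simp
  | mul g k _ _ a b => simpa using add_mem (a (k x)) (b x)
  | inv g _ a => simpa using neg_mem (a (g⁻¹ x))

theorem Inv.stable (h : Inv H M) (hH : H ≤ rtG H ⊤) : ∀ k ∈ H, ∀ x ∈ M, k x ∈ M := fun k a => by
  have key : ∀ k ∈ rtG H ⊤, (∀ x ∈ M, k x ∈ M) ∧ ∀ x ∈ M, k⁻¹ x ∈ M := fun k a => by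
    induction a using Subgroup.closure_induction with
    | mem g a =>
      obtain ⟨y, -, η, b, c⟩ := a
      have : ∀ x ∈ M, η x • y ∈ M := fun x d => by
        by_cases e : η x = 0
        · simp [e]
        · exact M.smul_mem _ (h y η x b d e)
      refine ⟨fun x d => c x ▸ add_mem d (this x d), fun x d => ?_⟩
      rw [show g⁻¹ x = x - η x • y from g.symm_apply_eq.2 (by simp [c, b.1])]; exact sub_mem d (this x d)
    | one => simp
    | mul g k _ _ a b => exact ⟨fun x c => a.1 _ (b.1 x c), fun x c => by rw [mul_inv_rev]; exact b.2 _ (a.2 x c)⟩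
    | inv g _ a => exact ⟨a.2, a.1⟩
  exact (key k (hH a)).1

theorem cp_orb (hH : H ≤ rtG H ⊤) (np : ∀ r ζ, Rt H r ζ → r ≠ 0 → ζ ≠ 0 → ∃ h ∈ H, ζ (h r) ≠ 0) {r : V} {ζ : Dual F V}
    (h : Rt H r ζ) (ζ0 : ζ ≠ 0) : Cp H (orb H r) where
  inv := inv_of (orb_inv r)
  irr R a b x c := fun ⟨y, η, d, e, f⟩ => by
    obtain ⟨k, i, j⟩ : ∃ k ∈ H, η (k r) ≠ 0 := by
      by_contra g
      push Not at g
      exact f ((Submodule.span_le.2 fun _ ⟨k, i, j⟩ => j ▸ g k i : orb H r ≤ LinearMap.ker η) (a c))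
    have yR := b y η x e c f
    have l := h.conj i
    suffices k r ∈ R by simpa using orb_le (b.stable hH) (b.stable hH _ (inv_mem i) _ this)
    by_cases m : (ζ ∘ₗ k.symm) y = 0
    · obtain ⟨g, n, o⟩ := np _ _ (e.comm l j m) d fun n => ζ0 (by ext z; simpa using LinearMap.congr_fun n (k z))
      exact b _ _ _ l (b.stable hH g n y yR) o
    · exact b _ _ _ l yR m
  np y a η b c d := by
    obtain ⟨k, i, j⟩ := np y η b c d
    exact ⟨⟨_, _, by simpa, b.conj (inv_mem i), j⟩, _, orb_inv r k i y a, j⟩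

theorem cp_bot : Cp H ⊥ := ⟨inv_of (by simp +contextual), by simp, by simp⟩

end Cfsg.Lib.Linear.McL
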