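import Cfsg.Agent.Lib.Linear.AbelMax

/-! The largest nilpotent subgroups of the symmetric and alternating groups. -/

set_option autoImplicit false

namespace Cfsg.Lib.Linear

open Subgroup Equiv Finset Cfsg.Lib.Amalg Cfsg.Lib.Core MulAction

/-- A bound for the order of a transitive nilpotent group of degree `d`. -/
def nilT (d : ℕ) : ℕ := ∏ p ∈ d.primeFactors, p ^ (ordProj[p] d).factorial.factorization p

theorem card_dvd_nilT {G Ω : Type*} [Group G] [Finite G] [Group.IsNilpotent G] [Finite Ω] [MulAction G Ω] [FaithfulSMul G Ω]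
    [IsPretransitive G Ω] (x : Ω) : Nat.card G ∣ nilT (Nat.card Ω) := by
  have : Nonempty Ω := ⟨x⟩
  have key : ∀ p : ℕ, p.Prime → (Nat.card G).factorization p ≤ (ordProj[p] (Nat.card Ω)).factorial.factorization p := fun p hp => by
    have := Fact.mk hp
    obtain ⟨P⟩ : Nonempty (Sylow p G) := inferInstance
    have hn : (P : Subgroup G).Normal := isNilpotent_iff_sylow_normal.1 ‹_› p P
    have h1 : 𝐂 (P : Subgroup G) ⊔ P = ⊤ := eq_top_of_forall_sylow_le fun q _ _ => (em (q = p)).elim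
      (fun e => by subst e; exact ⟨P, le_sup_right⟩) fun e => ⟨default, le_sup_of_le_left (le_centralizer_of_coprime_of_nilpotent
        (IsPGroup.coprime_card_of_ne q p e _ _ (Sylow.isPGroup' _) P.isPGroup'))⟩
    have h2 : Function.Injective (toPermHom P (orbit P x)) := (injective_iff_map_eq_one _).2 fun g hg => Subtype.ext <|
      eq_of_smul_eq_smul (α := Ω) fun y => by
        obtain ⟨k, rfl⟩ := exists_smul_eq G x y
        obtain ⟨c, hc, u, hu, rfl⟩ := mem_sup_of_normal_right.1 (h1.ge (mem_top k))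
        have := congrArg (fun f : Perm (orbit P x) => (f ⟨_, ⟨u, hu⟩, rfl⟩).1) hg
        rw [← mul_smul, ← mul_assoc, mem_centralizer_iff.1 hc _ g.2, mul_assoc, mul_smul, mul_smul, OneMemClass.coe_one, one_smul, mul_smul]
        exact congrArg _ this
    obtain ⟨k, hk⟩ := P.isPGroup'.card_orbit x
    have h3 : p ^ k ∣ Nat.card Ω := by
      have e1 := (stabilizer G x).index_mul_card
      have e2 := (stabilizer P x).index_mul_card
      rw [index_stabilizer_of_transitive] at e1
      rw [index_stabilizer, ← Nat.card_coe_set_eq, hk] at e2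
      have e3 := card_inf_mul_relIndex (P : Subgroup G) (stabilizer G x)
      have e4 : Nat.card (stabilizer P x) = Nat.card ((P : Subgroup G) ⊓ stabilizer G x :) := by
        rw [← Subgroup.card_subtype (P : Subgroup G)]; congr 2; ext g; simp [mem_stabilizer_iff, Subgroup.smul_def, and_comm]
      refine Nat.Coprime.dvd_of_dvd_mul_right (Nat.Coprime.pow_left k (hp.coprime_iff_not_dvd.2 fun h =>
        P.not_dvd_index (h.trans (relIndex_dvd_index_of_normal _ (stabilizer G x))))) (Nat.dvd_of_mul_dvd_mul_right (Nat.card_pos (α := stabilizer P x)) ?_)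
      rw [e2, e4, mul_assoc, mul_comm (relIndex _ _), e3, e1]
      exact card_subgroup_dvd_card _
    have h4 := (card_dvd_of_injective _ h2).trans (show _ ∣ (ordProj[p] (Nat.card Ω)).factorial by
      rw [Nat.card_perm, hk]
      exact Nat.factorial_dvd_factorial (Nat.pow_le_pow_right hp.pos ((hp.pow_dvd_iff_le_factorization Nat.card_pos.ne').1 h3)))
    rwa [P.card_eq_multiplicity, hp.pow_dvd_iff_le_factorization (Nat.factorial_ne_zero _)] at h4
  rw [← Nat.prod_factorization_pow_eq_self (Nat.card_pos (α := G)).ne', Nat.prod_factorization_eq_prod_primeFactors]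
  refine (prod_dvd_prod_of_dvd _ _ fun p hp => pow_dvd_pow p (key p (Nat.prime_of_mem_primeFactors hp))).trans
    (prod_dvd_prod_of_subset _ _ _ fun p hp => ?_)
  have h1 := Nat.prime_of_mem_primeFactors hp
  refine Nat.mem_primeFactors.2 ⟨h1, by_contra fun h => ?_, Nat.card_pos.ne'⟩
  have := key p h1
  rw [Nat.factorization_eq_zero_of_not_dvd h] at this
  exact (h1.factorization_pos_of_dvd Nat.card_pos.ne' (Nat.dvd_of_mem_primeFactors hp)).not_ge (by simpa using this)

variable {α : Type*} [Fintype α] [DecidableEq α] {s t : Finset α} {N : Subgroup (Perm α)}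

theorem nil_range {G H : Type*} [Group G] [Group H] (h : Group.IsNilpotent G) (f : G →* H) : Group.IsNilpotent f.range :=
  Group.nilpotent_of_surjective _ f.rangeRestrict_surjective

theorem card_res_dvd_nilT (h : Group.IsNilpotent N) (x : α) : Nat.card (pinv_porb (N := N) x).res.range ∣ nilT #(porb N x) := by
  set R := (pinv_porb (N := N) x).res.range
  have e : orbit R x = porb N x := by
    rw [← (pinv_porb x).porb_res (mem_porb_self x)]; ext y; simp [mem_porb, mem_orbit_iff, Subgroup.smul_def, R]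
  have := nil_range h (pinv_porb x).res
  have : FaithfulSMul R (orbit R x) := ⟨fun {g k} h => Subtype.ext (Equiv.ext fun y => (em (y ∈ porb N x)).elim
    (fun hy => congrArg Subtype.val (h ⟨y, e ▸ hy⟩)) fun hy =>
      (mem_psupp.1 ((pinv_porb x).range_res_le g.2) y hy).trans (mem_psupp.1 ((pinv_porb x).range_res_le k.2) y hy).symm)⟩
  simpa [e] using card_dvd_nilT (G := R) (⟨x, mem_orbit_self x⟩ : orbit R x)

/-- The exponent of `2` in `n!`. -/
def v2 (n : ℕ) : ℕ := n.factorial.factorization 2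

theorem v2_add (a b : ℕ) : v2 a + v2 b ≤ v2 (a + b) := by
  rw [v2, v2, ← Finsupp.add_apply, ← Nat.factorization_mul (Nat.factorial_ne_zero _) (Nat.factorial_ne_zero _)]
  exact (Nat.factorization_le_iff_dvd (by positivity) (by positivity)).2 (Nat.factorial_mul_factorial_dvd_factorial_add a b) 2

theorem v2_succ (n : ℕ) : v2 (n + 1) = v2 n + (n + 1).factorization 2 := by
  rw [v2, Nat.factorial_succ, Nat.factorization_mul (by omega) (Nat.factorial_ne_zero _), add_comm]; rfl

theorem le_v2_succ (n k : ℕ) (h : 2 ^ k ∣ n + 1) : v2 n + k ≤ v2 (n + 1) := by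
  rw [v2_succ]; exact Nat.add_le_add_left ((Nat.prime_two.pow_dvd_iff_le_factorization (by omega)).1 h) _

theorem v2_add_three {n : ℕ} (h : n % 4 = 0) : v2 (n + 3) = v2 n + 1 := by
  rw [v2_succ, v2_succ, v2_succ, Nat.factorization_eq_zero_of_not_dvd (by omega), Nat.factorization_eq_zero_of_not_dvd (n := n + 3) (by omega),
    show n + 1 + 1 = 2 * (n / 2 + 1) by omega, Nat.factorization_mul two_ne_zero (by omega), Finsupp.add_apply,
    Nat.factorization_eq_zero_of_not_dvd (n := n / 2 + 1) (by omega), Nat.prime_two.factorization_self]; rfl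

theorem nilT_sq_le {d : ℕ} (h : 8 ≤ d) (h2 : ∀ k, d ≠ 2 ^ k) : nilT d ^ 2 ≤ 3 ^ d := by
  have h1 : ∀ p : ℕ, p.Prime → ∀ n, (p - 1) * n.factorial.factorization p ≤ n := fun p hp n =>
    (Nat.mul_le_mul_left _ (Nat.factorization_factorial_le_div_pred hp n)).trans (Nat.mul_div_le _ _)
  have h3 : ∏ p ∈ d.primeFactors, ordProj[p] d = d := by
    rw [← Nat.prod_factorization_eq_prod_primeFactors, Nat.prod_factorization_pow_eq_self (by omega)]
  obtain ⟨p, hp⟩ := Nat.nonempty_primeFactors.2 (show 1 < d by omega)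
  have hp' := Nat.prime_of_mem_primeFactors hp
  rcases (d.primeFactors.erase p).eq_empty_or_nonempty with e | e
  · rw [← insert_erase hp, e, insert_empty_eq, prod_singleton] at h3
    rw [nilT, ← insert_erase hp, e, insert_empty_eq, prod_singleton, h3, ← pow_mul, mul_comm, pow_mul]
    refine (Nat.pow_le_pow_left (?_ : _ ≤ 3 ^ (p - 1)) _).trans (by rw [← pow_mul]; exact Nat.pow_le_pow_right (by norm_num) (h1 p hp' d))
    obtain ⟨p, rfl⟩ := Nat.exists_eq_add_of_le' (show 3 ≤ p from hp'.two_le.lt_of_ne fun e => h2 _ (e ▸ h3.symm))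
    clear * -
    induction p with
    | zero => decide
    | succ p ih => simp [pow_succ] at *; nlinarith
  have h4 : ∀ s ⊆ d.primeFactors, s.Nonempty → 2 ≤ ∏ p ∈ s, ordProj[p] d ∧ ∑ p ∈ s, ordProj[p] d ≤ ∏ p ∈ s, ordProj[p] d := by
    have h5 : ∀ p ∈ d.primeFactors, 2 ≤ ordProj[p] d := fun p hp => by
      have h1 := Nat.prime_of_mem_primeFactors hp
      exact Nat.one_lt_pow (h1.factorization_pos_of_dvd (by omega) (Nat.dvd_of_mem_primeFactors hp)).ne' h1.one_lt
    intro s hs hs'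
    induction hs' using Nonempty.cons_induction with
    | singleton a => simpa using h5 a (by simpa using hs)
    | cons a s h hs' ih =>
      rw [cons_subset] at hs
      have := ih hs.2
      have := h5 a hs.1
      rw [prod_cons, sum_cons]
      exact ⟨by nlinarith, by nlinarith⟩
  have h5 : 2 * ∑ p ∈ d.primeFactors, ordProj[p] d ≤ d + 4 := by
    have := h4 _ (erase_subset _ _) e
    have := (h4 {p} (by simpa using hp) (by simp)).1
    rw [← add_sum_erase _ _ hp]
    rw [← mul_prod_erase _ _ hp] at h3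
    rw [prod_singleton] at this
    nlinarith
  have h6 : nilT d ≤ 2 ^ ∑ p ∈ d.primeFactors, ordProj[p] d := by
    rw [← prod_pow_eq_pow_sum]
    refine prod_le_prod' fun p hp => (Nat.pow_le_pow_left (?_ : _ ≤ 2 ^ (p - 1)) _).trans
      (by rw [← pow_mul]; exact Nat.pow_le_pow_right two_pos (h1 p (Nat.prime_of_mem_primeFactors hp) _))
    have := Nat.lt_two_pow_self (n := p - 1); omega
  refine (Nat.pow_le_pow_left h6 2).trans ((pow_mul' _ _ _).ge.trans ((Nat.pow_le_pow_right two_pos h5).trans ?_))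
  clear * - h
  induction h with
  | refl => decide
  | step h ih => simp [pow_succ, add_right_comm _ 1 4] at *; omega

theorem nilT_lt {d : ℕ} (h : 10 ≤ d) (h2 : ∀ k, d ≠ 2 ^ k) : 3 * nilT d < 2 ^ v2 d := by
  rcases lt_or_ge d 32 with h1 | h1
  · exact (show ∀ d < 32, 10 ≤ d → d ≠ 16 → 3 * nilT d < 2 ^ v2 d by decide +kernel) d h1 h (h2 4)
  have h3 : ∀ d, 32 ≤ d → 3 ^ (d + 2) < 4 ^ v2 d := fun d h => by
    induction d using Nat.strong_induction_on with
    | _ d ih =>
    rcases lt_or_ge d 40 with h' | h'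
    · exact (show ∀ d < 40, 32 ≤ d → 3 ^ (d + 2) < 4 ^ v2 d by decide +kernel) d h' h
    obtain ⟨d, rfl⟩ := Nat.exists_eq_add_of_le' (show 8 ≤ d by omega)
    have := ih d (by omega) (by omega)
    refine .trans_le ?_ (Nat.pow_le_pow_right (by norm_num) (v2_add d 8))
    rw [show v2 8 = 7 by decide +kernel, add_right_comm, pow_add _ _ 8, pow_add 4]; omega
  refine lt_of_pow_lt_pow_left₀ 2 (by positivity) ?_
  have := nilT_sq_le (by omega) h2
  have := h3 d h1
  rw [← pow_mul, mul_comm _ 2, pow_mul, mul_pow, show 2 ^ 2 = 4 from rfl]; rw [pow_add] at this; omega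

/-- The largest order of a nilpotent subgroup of `S_n`. -/
def nilS (n : ℕ) : ℕ := if n % 4 = 3 then 3 * 2 ^ v2 (n - 3) else 2 ^ v2 n

/-- The largest order of a nilpotent subgroup of `A_n`. -/
def nilA (n : ℕ) : ℕ :=
  if n = 5 then 5 else if n = 6 then 9 else if n = 9 then 81 else if n % 4 = 3 then 3 * 2 ^ (v2 (n - 3) - 1) else 2 ^ (v2 n - 1)

theorem nilS_bounds (n : ℕ) : 2 ^ v2 n ≤ nilS n ∧ 2 * nilS n ≤ 3 * 2 ^ v2 n := by
  unfold nilS
  split_ifs with h
  · obtain ⟨n, rfl⟩ := Nat.exists_eq_add_of_le' (show 3 ≤ n by omega)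
    rw [v2_add_three (by omega), pow_succ, add_tsub_cancel_right]; omega
  · omega

theorem nilA_eq {n : ℕ} (h : 10 ≤ n) : 2 * nilA n = nilS n := by
  have h1 : ∀ m, 2 ≤ m → 2 * 2 ^ (v2 m - 1) = 2 ^ v2 m := fun m h => by
    obtain ⟨m, rfl⟩ := Nat.exists_eq_add_of_le' h
    have := v2_add m 2
    rw [show v2 2 = 1 by decide +kernel] at this
    rw [← pow_succ', Nat.sub_add_cancel (by omega)]
  rw [nilA, nilS, if_neg (by omega), if_neg (by omega), if_neg (by omega)]
  split_ifs
  exacts [by rw [mul_left_comm, h1 _ (by omega)], h1 _ (by omega)]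

theorem nilS_step {d : ℕ} (j : ℕ) (h0 : d ≠ 0) (h : ∀ k, d ≠ 2 ^ k) :
    nilS j * nilT d ≤ nilS (j + d) ∧ (d ≠ 3 → nilS j * nilT d < nilS (j + d)) := by
  have h1 := nilS_bounds j
  have h2 := (nilS_bounds (j + d)).1
  rcases eq_or_ne d 3 with rfl | h3
  · refine ⟨?_, fun h => absurd rfl h⟩
    rw [show nilT 3 = 3 by decide +kernel]
    have a1 := le_v2_succ j
    have a2 := le_v2_succ (j + 1)
    have a3 := le_v2_succ (j + 1 + 1)
    obtain h | h | h | h : j % 4 = 0 ∨ j % 4 = 1 ∨ j % 4 = 2 ∨ j % 4 = 3 := by omega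
    · rw [nilS, nilS, if_neg (by omega), if_pos (by omega), mul_comm, add_tsub_cancel_right]
    · have := Nat.pow_le_pow_right two_pos ((Nat.add_le_add_right ((a1 1 (by omega)).trans (a2 0 (by omega))) 2).trans (a3 2 (by omega)))
      simp only [pow_add, add_assoc, Nat.reduceAdd] at *; omega
    · have := Nat.pow_le_pow_right two_pos (((Nat.add_le_add_right (a1 0 (by omega)) 2).trans (a2 2 (by omega))).trans (a3 0 (by omega)))
      rw [nilS, if_neg (by omega)]
      simp only [pow_add, add_assoc, Nat.reduceAdd] at *; omega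
    · have := Nat.pow_le_pow_right two_pos ((Nat.add_le_add_right ((a1 2 (by omega)).trans (a2 0 (by omega))) 1).trans (a3 1 (by omega)))
      simp only [pow_add, add_assoc, Nat.reduceAdd] at *; omega
  have h4 : 3 * nilT d < 2 * 2 ^ v2 d := by
    rcases lt_or_ge d 10 with h' | h'
    · exact (show ∀ d < 10, d ≠ 0 ∧ d ≠ 3 ∧ d ≠ 1 ∧ d ≠ 2 ∧ d ≠ 4 ∧ d ≠ 8 → 3 * nilT d < 2 * 2 ^ v2 d by decide +kernel) d h'
        ⟨h0, h3, h 0, h 1, h 2, h 3⟩
    · have := nilT_lt h' h; omega
  have h5 := (pow_add _ _ _).ge.trans (Nat.pow_le_pow_right two_pos (v2_add j d))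
  have : nilS j * nilT d < nilS (j + d) := by
    have := Nat.mul_le_mul_right (nilT d) h1.2
    have := Nat.mul_lt_mul_of_pos_left h4 (Nat.two_pow_pos (v2 j))
    nlinarith
  exact ⟨this.le, fun _ => this⟩

theorem nilA_step {d : ℕ} (j : ℕ) (h0 : d ≠ 0) (h : ∀ k, d ≠ 2 ^ k) :
    nilA j * nilT d ≤ nilA (j + d) ∧ (d ≠ 3 → (j + d) % 4 = 3 → nilA j * nilT d < nilA (j + d)) := by
  rcases le_or_gt 10 j with h1 | h1
  · have := nilS_step j h0 h
    rw [← nilA_eq h1, ← nilA_eq (by omega), mul_assoc] at this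
    exact ⟨by omega, fun _ _ => by omega⟩
  rcases lt_or_ge d 10 with h' | h'
  · exact (show ∀ d < 10, ∀ j < 10, d ≠ 0 ∧ d ≠ 1 ∧ d ≠ 2 ∧ d ≠ 4 ∧ d ≠ 8 → nilA j * nilT d ≤ nilA (j + d) ∧
      (d ≠ 3 → (j + d) % 4 = 3 → nilA j * nilT d < nilA (j + d)) by
        set_option synthInstance.maxSize 1024 in decide +kernel) d h' j h1 ⟨h0, h 0, h 1, h 2, h 3⟩
  have h2 := nilT_lt h' h
  have h3 := (show ∀ j < 10, 2 * nilA j ≤ 3 * 2 ^ v2 j by decide +kernel) j h1
  have h4 := (nilS_bounds (j + d)).1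
  have h5 := (pow_add _ _ _).ge.trans (Nat.pow_le_pow_right two_pos (v2_add j d))
  have : nilA j * nilT d < nilA (j + d) := by
    rw [← nilA_eq (by omega)] at h4
    have := Nat.mul_le_mul_right (nilT d) h3
    have := Nat.mul_lt_mul_of_pos_left h2 (Nat.two_pow_pos (v2 j))
    nlinarith
  exact ⟨this.le, fun _ _ => this⟩

theorem isPGroup_two_of_porb (h : Group.IsNilpotent N) (hs : N ≤ psupp s) (h1 : ∀ x ∈ s, ¬ ∀ k, #(porb N x) ≠ 2 ^ k) : IsPGroup 2 N := by
  refine isPGroup_of_res fun x => ?_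
  obtain ⟨k, hk⟩ : ∃ k, #(porb N x) = 2 ^ k :=
    (em (x ∈ s)).elim (fun hx => by simpa using h1 x hx) fun hx => ⟨0, by simp [porb_eq_of_notMem hs hx]⟩
  have := card_res_dvd_nilT h x
  rw [hk, nilT] at this
  rcases k with _ | k
  · exact .of_card (n := 0) (by simpa using this)
  rw [Nat.primeFactors_prime_pow k.succ_ne_zero Nat.prime_two, prod_singleton, Nat.dvd_prime_pow Nat.prime_two] at this
  exact .of_card this.choose_spec.2

section
variable {E : Subgroup (Perm α)} {G : ℕ → ℕ} (h2 : ∀ s : Finset α, 2 ^ (Nat.card (psupp s ⊓ E :)).factorization 2 ≤ G #s)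
  (h3 : ∀ d j, d ≠ 0 → (∀ k, d ≠ 2 ^ k) → G j * nilT d ≤ G (j + d))
include h2 h3

theorem card_le_nil (h : Group.IsNilpotent N) (hs : N ≤ psupp s ⊓ E) : Nat.card N ≤ G #s := by
  have h4 : ∀ d, 0 < nilT d := fun d => prod_pos fun p hp => pow_pos (Nat.pos_of_mem_primeFactors hp) _
  refine card_le_prod_of_porb nilT G (fun N => Group.IsNilpotent N ∧ N ≤ E) (fun _ _ h h' => ⟨have := h'.1; isNilpotent_of_le h, h.trans h'.2⟩)
    (fun _ d => d ≠ 0 ∧ ∀ k, d ≠ 2 ^ k) (fun s N h h1 h5 => ?_) (fun N x h => Nat.le_of_dvd (h4 _) (card_res_dvd_nilT h.1 x))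
    (fun d j h => h3 d j h.1 h.2) s N ⟨h, hs.trans inf_le_right⟩ (hs.trans inf_le_left)
  obtain ⟨T, hT⟩ := exists_syl 2 (psupp s ⊓ E)
  exact (hT.card_le (isPGroup_two_of_porb h.1 h1 fun x hx h => h5 x hx ⟨card_ne_zero_of_mem (mem_porb_self x), h⟩)
    (le_inf h1 h.2)).trans (hT.card_eq_pow ▸ h2 s)

theorem exists_split_nil (hE : E = ⊤ ∨ E = alternatingGroup α) (h : Group.IsNilpotent N) (hs : N ≤ psupp s ⊓ E) (h4 : Nat.card N = G #s)
    (h5 : G #s = G (#s - 3) * 3) (h6 : ∀ d j, d ≠ 0 → (∀ k, d ≠ 2 ^ k) → d ≠ 3 → j + d = #s → G j * nilT d < G (j + d)) :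
    ∃ t ⊆ s, #t = 3 ∧ ∃ K ≤ psupp (s \ t) ⊓ E, Nat.card K = G (#s - 3) ∧ N = psupp t ⊓ alternatingGroup α ⊔ K := by
  obtain ⟨hs, ha⟩ := le_inf_iff.1 hs
  obtain ⟨x, hx, e⟩ : ∃ x ∈ s, ∀ k, #(porb N x) ≠ 2 ^ k := by
    by_contra! H
    obtain ⟨k, hk⟩ := IsPGroup.iff_card.1 (isPGroup_two_of_porb h hs (by simpa using H))
    exact absurd (Nat.prime_three.dvd_of_dvd_pow (hk ▸ h4 ▸ h5 ▸ dvd_mul_left 3 _)) (by decide)
  have a1 := porb_subset hs hx
  have a2 := card_le_nil h2 h3 (isNilpotent_of_le (inf_le_left (b := psupp (porb N x)ᶜ))) (le_inf (inf_psupp_le hs _) (inf_le_left.trans ha))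
  have a3 := card_res_dvd_nilT h x
  have a4 := (pinv_porb (N := N) x).card_eq
  have a5 : #(porb N x) = 3 := by
    by_contra e'
    have := card_sdiff_add_card_eq_card a1
    refine (h6 _ _ (card_ne_zero_of_mem (mem_porb_self x)) e e' this).not_ge ?_
    rw [this, ← h4, a4]
    exact Nat.mul_le_mul a2 (Nat.le_of_dvd (prod_pos fun p hp => pow_pos (Nat.pos_of_mem_primeFactors hp) _) a3)
  rw [a5, show nilT 3 = 3 by decide +kernel] at a3
  rw [card_sdiff_of_subset a1, a5] at a2
  have a6 := Nat.le_of_dvd three_pos a3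
  have a7 := Nat.card_pos (α := N)
  have a8 : Nat.card (N ⊓ psupp (porb N x)ᶜ :) = G (#s - 3) := by nlinarith
  have a9 : (pinv_porb (N := N) x).res.range = psupp (porb N x) ⊓ alternatingGroup α := by
    refine eq_of_le_of_card_ge (le_inf (pinv_porb x).range_res_le fun g hg => ?_) ?_
    · have := orderOf_dvd_iff_pow_eq_one.1 ((orderOf_dvd_natCard _ hg).trans a3)
      simpa [pow_succ] using congrArg Perm.sign this
    · have := card_psupp_alt (s := porb N x) (by omega)
      rw [a5, show Nat.factorial 3 = 6 from rfl] at this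
      nlinarith
  refine ⟨_, a1, a5, _, le_inf (inf_psupp_le hs _) (inf_le_left.trans ha), a8, a9 ▸ (pinv_porb x).eq_sup ?_⟩
  rw [a8, ← a5, ← card_sdiff_of_subset a1]
  refine card_le_nil h2 h3 (nil_range h _) (le_inf ((le_inf ((pinv_porb x).compl.range_res_le_of_le hs)
      (pinv_porb x).compl.range_res_le).trans (inf_psupp_le le_rfl _)) ?_)
  rcases hE with rfl | rfl
  exacts [le_top, (pinv_porb x).range_compl_le_alt ha (a9.le.trans inf_le_right)]

theorem exists_cj_nil (hE : E = ⊤ ∨ E = alternatingGroup α) {A B : Subgroup (Perm α)} (hA : Group.IsNilpotent A) (hB : Group.IsNilpotent B)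
    (a1 : A ≤ psupp s ⊓ E) (b1 : B ≤ psupp s ⊓ E) (a2 : Nat.card A = G #s) (b2 : Nat.card B = G #s)
    (h5 : G #s = G (#s - 3) * 3) (h6 : ∀ d j, d ≠ 0 → (∀ k, d ≠ 2 ^ k) → d ≠ 3 → j + d = #s → G j * nilT d < G (j + d))
    (h7 : ∀ t : Finset α, #t = #s - 3 → G #t = 2 ^ (Nat.card (psupp t ⊓ E :)).factorization 2) : ∃ g ∈ psupp s ⊓ E, cj g A = B := by
  obtain ⟨t, ht, e, K, hK, a3, rfl⟩ := exists_split_nil h2 h3 hE hA a1 a2 h5 h6
  obtain ⟨t', ht', e', K', hK', b3, rfl⟩ := exists_split_nil h2 h3 hE hB b1 b2 h5 h6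
  have c1 : #(s \ t') = #s - 3 := by rw [card_sdiff_of_subset ht', e']
  have : E.Normal := by rcases hE with rfl | rfl <;> infer_instance
  refine exists_cj_sup (by rcases hE with rfl | rfl <;> simp) ht ht' (e.trans e'.symm) (by omega) inf_le_left (hK.trans inf_le_left)
    (hK'.trans inf_le_left) (fun g _ h => ⟨1, one_mem _, eq_of_le_of_card_ge (by rw [cj_one]; exact le_inf h (cj_le_alt inf_le_right)) ?_⟩)
    fun g _ h => (syl_of_card (le_inf h (cj_le_iff'.2 fun x hx => this.conj_mem x (hK hx).2 g)) (by rw [card_cj, a3, ← h7 _ c1, c1])).exists_conj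
      (syl_of_card hK' (by rw [b3, ← h7 _ c1, c1]))
  have := card_psupp_alt (s := t) (by omega)
  have := card_psupp_alt (s := t') (by omega)
  rw [card_cj, card_cj]; rw [e, e'] at *; omega

end

theorem factorization_psupp (s : Finset α) : (Nat.card (psupp s ⊓ ⊤ :)).factorization 2 = v2 #s := by rw [inf_top_eq, card_psupp, v2]

theorem factorization_psupp_alt (s : Finset α) : (Nat.card (psupp s ⊓ alternatingGroup α :)).factorization 2 = v2 #s - 1 := by
  rcases le_or_gt 2 #s with h | h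
  · rw [v2, ← card_psupp_alt h, Nat.factorization_mul two_ne_zero Nat.card_pos.ne', Finsupp.add_apply, Nat.prime_two.factorization_self,
      add_tsub_cancel_left]
  · rw [psupp_alt_eq_bot h.le, card_bot]; generalize #s = n at h; interval_cases n <;> simp [v2]

theorem two_pow_le_nilA (s : Finset α) : 2 ^ (Nat.card (psupp s ⊓ alternatingGroup α :)).factorization 2 ≤ nilA #s := by
  rw [factorization_psupp_alt]
  rcases lt_or_ge #s 10 with h | h
  · exact (show ∀ j < 10, 2 ^ (v2 j - 1) ≤ nilA j by decide +kernel) _ h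
  have := nilA_eq h
  have := (nilS_bounds #s).1
  rcases hv : v2 #s with _ | m <;> simp [hv, pow_succ] at * <;> omega

theorem exists_hom_prod_three {n : ℕ} (h : 3 ≤ n) : ∃ ψ : Perm (Fin (n - 3)) × Multiplicative (ZMod 3) →* Perm (Fin n),
    Function.Injective ψ ∧ ∀ x, Perm.sign (ψ x) = Perm.sign x.1 := by
  obtain ⟨t, -, ht⟩ := exists_subset_card_eq (show 3 ≤ #(univ : Finset (Fin n)) by simpa)
  obtain ⟨e⟩ : Nonempty (Fin (n - 3) ≃ {x // x ∈ tᶜ}) := ⟨Fintype.equivOfCardEq (by simp [card_compl, ht])⟩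
  have := card_psupp_alt (s := t) (by omega)
  rw [ht, show Nat.factorial 3 = 6 from rfl] at this
  have := Fact.mk Nat.prime_three
  let f := mulEquivOfPrimeCardEq (p := 3) (G := Multiplicative (ZMod 3)) (G' := (psupp t ⊓ alternatingGroup (Fin n) :)) (by simp) (by omega)
  have h1 : (Perm.extendDomainHom e).range ≤ psupp tᶜ := by
    rintro _ ⟨g, rfl⟩; exact mem_psupp.2 fun x hx => Perm.extendDomain_apply_not_subtype _ _ hx
  refine ⟨(Perm.extendDomainHom e).noncommCoprod ((Subgroup.subtype _).comp f.toMonoidHom) fun g k =>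
    commute_of_psupp disjoint_compl_left (h1 ⟨g, rfl⟩) (f k).2.1, (MonoidHom.noncommCoprod_injective _ _ _).2 ⟨Perm.extendDomainHom_injective e,
      (subtype_injective _).comp f.injective, disjoint_iff.2 (inf_eq_bot_of_psupp disjoint_compl_left h1 ?_)⟩, fun x => ?_⟩
  · rintro _ ⟨k, rfl⟩; exact (f k).2.1
  · simpa using (f x.2).2.2

end Cfsg.Lib.Linear
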