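/-
Coded arithmetic in small fields, for checking that some geometric subgroups are not maximal.
-/
import Cfsg.Agent.Lib.Asch.NM
import Cfsg.Agent.Lib.Asch.SU
import Cfsg.Agent.Lib.MatB.Fam

set_option autoImplicit false

namespace Cfsg.Lib.Linear.Nm

open Matrix Cfsg.Geo Cfsg.Lib.Asch Cfsg.Lib.Forms Cfsg.Lib.MatB

/-- Tables of a small field. -/
structure Tb where
  /-- Size. -/
  Q : ℕ
  /-- Multiplication. -/
  M : ℕ
  /-- Addition. -/
  A : ℕ
  /-- Conjugation. -/
  J : ℕ
  /-- Minus one. -/
  N : ℕ

/-- Table lookup. -/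
def op (T a b : ℕ) : ℕ := Nat.land (Nat.shiftRight T (Nat.mul (Nat.add (Nat.mul a 32) b) 5)) 31

namespace Tb

variable (T : Tb)

/-- Dot product. -/
noncomputable def dot (u : List ℕ) : List ℕ → ℕ :=
  List.rec (fun _ => 0) (fun a _ ih v => List.casesOn v 0 fun b v' => op T.A (op T.M a b) (ih v')) u

/-- Conjugate vector. -/
def cv (u : List ℕ) : List ℕ := u.map (op T.J 0)

/-- Hermitian product. -/
noncomputable def hm (u v : List ℕ) : ℕ := T.dot u (T.cv v)

/-- Matrix times vector. -/
noncomputable def mv (a : List (List ℕ)) (v : List ℕ) : List ℕ := a.map fun r => T.dot r v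

/-- Number of a vector. -/
noncomputable def code (v : List ℕ) : ℕ := List.rec 0 (fun a _ s => Nat.add a (Nat.mul T.Q s)) v

/-- Vector of a number. -/
noncomputable def dec (n : ℕ) : ℕ → List ℕ :=
  Nat.rec (fun _ => []) (fun _ ih c => Nat.mod c T.Q :: ih (Nat.div c T.Q)) n

end Tb

/-- Transpose. -/
def trL (n : ℕ) (a : List (List ℕ)) : List (List ℕ) := (List.range n).map fun j => a.map fun r => r.getD j 0

/-- Identity. -/
def idL (n : ℕ) : List (List ℕ) := (List.range n).map fun i => (List.range n).map fun j => if i = j then 1 else 0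

/-- Bounded quantifier. -/
noncomputable def allB (n : ℕ) (f : ℕ → Bool) : Bool := Nat.rec true (fun k ih => f k && ih) n

/-- Quantifier over vectors. -/
noncomputable def allV (Q n : ℕ) : (List ℕ → Bool) → Bool :=
  Nat.rec (fun f => f []) (fun _ ih f => allB Q fun a => ih fun l => f (a :: l)) n

/-- Characteristic number of a list. -/
noncomputable def msk (L : List ℕ) : ℕ := List.rec 0 (fun c _ m => Nat.lor (Nat.shiftLeft 1 c) m) L

/-- Bit test. -/
def bit (m c : ℕ) : Bool := Nat.beq (Nat.land (Nat.shiftRight m c) 1) 1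

theorem allB_iff {n : ℕ} {f : ℕ → Bool} (h : allB n f = true) : ∀ k < n, f k = true := by
  induction n with
  | zero => simp
  | succ n ih =>
    have h' : (f n && allB n f) = true := h
    rw [Bool.and_eq_true] at h'
    intro k hk
    rcases Nat.lt_succ_iff_lt_or_eq.1 hk with h1 | rfl
    exacts [ih h'.2 k h1, h'.1]

theorem allV_iff {Q n : ℕ} {f : List ℕ → Bool} (h : allV Q n f = true) (l : List ℕ) (h1 : l.length = n)
    (h2 : ∀ a ∈ l, a < Q) : f l = true := by
  induction n generalizing f l with
  | zero => rw [List.length_eq_zero_iff.1 h1]; exact h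
  | succ n ih =>
    obtain _ | ⟨a, l⟩ := l
    · simp at h1
    exact ih (allB_iff h a (h2 a (by simp))) l (by simpa using h1) fun b hb => h2 b (by simp [hb])

theorem bit_eq (m c : ℕ) : bit m c = m.testBit c := by
  show Nat.beq (m >>> c &&& 1) 1 = _
  rw [Nat.testBit, Nat.and_comm, Nat.one_and_eq_mod_two]
  rcases Nat.mod_two_eq_zero_or_one (m >>> c) with h | h <;> rw [h] <;> rfl

theorem bit_mk {L : List ℕ} {c : ℕ} (h : bit (msk L) c = true) : c ∈ L := by
  rw [bit_eq] at h
  induction L with
  | nil => simp [msk] at h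
  | cons a L ih =>
    have h' : ((1 <<< a) ||| msk L).testBit c = true := h
    rw [Nat.testBit_or, Bool.or_eq_true, Nat.one_shiftLeft, Nat.testBit_two_pow] at h'
    rcases h' with h' | h'
    · simp [← of_decide_eq_true h']
    · exact List.mem_cons_of_mem _ (ih h')

namespace Tb

variable (T : Tb)

/-- Matrix product. -/
noncomputable def mm (n : ℕ) (a b : List (List ℕ)) : List (List ℕ) := a.map (T.mv (trL n b))

/-- Matrix power. -/
noncomputable def pw (n : ℕ) (a : List (List ℕ)) (k : ℕ) : List (List ℕ) :=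
  Nat.rec (idL n) (fun _ ih => T.mm n ih a) k

/-- Sum. -/
noncomputable def sm (l : List ℕ) : ℕ := List.rec 0 (fun a _ s => op T.A a s) l

/-- Product. -/
noncomputable def pr (l : List ℕ) : ℕ := List.rec 1 (fun a _ s => op T.M a s) l

/-- Determinant. -/
noncomputable def det (n : ℕ) : List (List ℕ) → ℕ :=
  Nat.rec (fun _ => 1) (fun k ih a => T.sm ((List.range (k + 1)).map fun j =>
    cond (Nat.beq ((a.headD []).getD j 0) 0) 0 (op T.M (op T.M (cond (Nat.beq (Nat.mod j 2) 0) 1 T.N)
      ((a.headD []).getD j 0)) (ih (a.tail.map fun r => r.eraseIdx j))))) n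

/-- Trace. -/
noncomputable def trc (n : ℕ) (a : List (List ℕ)) : ℕ := T.sm ((List.range n).map fun i => (a.getD i []).getD i 0)

/-- Unitary matrices. -/
noncomputable def isU (n : ℕ) (a : List (List ℕ)) : Bool := a.map (fun r => a.map (T.hm r)) == idL n

/-- Well-formed matrices. -/
def shape (n : ℕ) (a : List (List ℕ)) : Bool :=
  a.length == n && a.all fun r => r.length == n && r.all fun x => decide (x < T.Q)

/-- Iterates of a vector. -/
noncomputable def itr (a : List (List ℕ)) (k : ℕ) : List ℕ → List (List ℕ) :=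
  Nat.rec (fun _ => []) (fun _ ih v => v :: ih (T.mv a v)) k

/-- `a` maps the listed vectors into `τ`. -/
noncomputable def pt (n : ℕ) (τ : List ℕ → Bool) (L : List ℕ) (a : List (List ℕ)) : Bool :=
  L.all fun c => τ (T.mv a (T.dec n c))

/-- The list contains all vectors of `τ`. -/
noncomputable def cov (n : ℕ) (τ : List ℕ → Bool) (L : List ℕ) : Bool :=
  allV T.Q n fun l => !τ l || bit (msk L) (T.code l)

theorem dec_code {l : List ℕ} (h : ∀ a ∈ l, a < T.Q) : T.dec l.length (T.code l) = l := by
  induction l with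
  | nil => rfl
  | cons a l ih =>
    have h1 := h a (by simp)
    show (a + T.Q * T.code l) % T.Q :: T.dec l.length ((a + T.Q * T.code l) / T.Q) = _
    rw [Nat.add_mul_mod_self_left, Nat.mod_eq_of_lt h1, Nat.add_mul_div_left _ _ (by omega), Nat.div_eq_of_lt h1,
      zero_add, ih fun b hb => h b (by simp [hb])]

end Tb

theorem eraseIdx_ofFn {α : Type*} {n : ℕ} (f : Fin (n + 1) → α) (j : Fin (n + 1)) :
    (List.ofFn f).eraseIdx j = List.ofFn fun k => f (j.succAbove k) := by
  induction n with
  | zero => fin_cases j; simp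
  | succ n ih =>
    cases j using Fin.cases with
    | zero => simp [List.ofFn_succ]
    | succ j =>
      rw [List.ofFn_succ, Fin.val_succ, List.eraseIdx_cons_succ, ih, List.ofFn_succ (n := n)]
      simp

theorem range_map {α : Type*} (n : ℕ) (f : ℕ → α) : (List.range n).map f = List.ofFn fun i : Fin n => f i := by
  refine List.ext_getElem (by simp) fun i h1 h2 => by simp

/-- A coding of a field. -/
structure Enc (T : Tb) (F : Type*) [Field F] (σ : F →+* F) where
  /-- The code. -/
  e : F → ℕ
  inj : Function.Injective e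
  lt : ∀ x, e x < T.Q
  surj : ∀ a < T.Q, ∃ x, e x = a
  mul : ∀ x y, e (x * y) = op T.M (e x) (e y)
  add : ∀ x y, e (x + y) = op T.A (e x) (e y)
  fr : ∀ x, e (σ x) = op T.J 0 (e x)
  zero : e 0 = 0
  one : e 1 = 1
  neg : e (-1) = T.N

namespace Enc

variable {T : Tb} {F : Type*} [Field F] {σ : F →+* F} (E : Enc T F σ) {n : ℕ}

/-- Code of a vector. -/
def v {n : ℕ} (x : Fin n → F) : List ℕ := List.ofFn fun i => E.e (x i)

/-- Code of a matrix. -/
def m {k n : ℕ} (A : Matrix (Fin k) (Fin n) F) : List (List ℕ) := List.ofFn fun i => E.v (A i)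

theorem v_inj {x y : Fin n → F} (h : E.v x = E.v y) : x = y :=
  funext fun i => E.inj (congrFun (List.ofFn_injective h) i)

theorem m_inj {k : ℕ} {A B : Matrix (Fin k) (Fin n) F} (h : E.m A = E.m B) : A = B :=
  funext fun i => E.v_inj (congrFun (List.ofFn_injective h) i)

theorem v_len (x : Fin n → F) : (E.v x).length = n := by simp [v]

theorem v_lt (x : Fin n → F) : ∀ a ∈ E.v x, a < T.Q := by simp [v, E.lt]

theorem e_dot (x y : Fin n → F) : E.e (x ⬝ᵥ y) = T.dot (E.v x) (E.v y) := by
  induction n with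
  | zero => simp [v, E.zero, Tb.dot]
  | succ n ih =>
    rw [dotProduct, Fin.sum_univ_succ, E.add, E.mul, v, v, List.ofFn_succ, List.ofFn_succ]
    exact congrArg _ (ih _ _)

theorem e_sum (x : Fin n → F) : E.e (∑ i, x i) = T.sm (E.v x) := by
  induction n with
  | zero => simp [v, E.zero, Tb.sm]
  | succ n ih =>
    rw [Fin.sum_univ_succ, E.add, v, List.ofFn_succ]
    exact congrArg _ (ih _)

theorem e_prod (x : Fin n → F) : E.e (∏ i, x i) = T.pr (E.v x) := by
  induction n with
  | zero => simp [v, E.one, Tb.pr]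
  | succ n ih =>
    rw [Fin.prod_univ_succ, E.mul, v, List.ofFn_succ]
    exact congrArg _ (ih _)

theorem v_conj (x : Fin n → F) : E.v (fun i => σ (x i)) = T.cv (E.v x) := by
  simp [v, Tb.cv, List.map_ofFn, E.fr, Function.comp_def]

theorem e_hm (x y : Fin n → F) : E.e (x ⬝ᵥ fun i => σ (y i)) = T.hm (E.v x) (E.v y) := by
  rw [e_dot, v_conj, Tb.hm]

theorem v_mulVec {k : ℕ} (A : Matrix (Fin k) (Fin n) F) (x : Fin n → F) : E.v (A *ᵥ x) = T.mv (E.m A) (E.v x) := by
  simp only [Tb.mv, m, List.map_ofFn, Function.comp_def, ← e_dot]; rfl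

theorem m_tr {k : ℕ} (A : Matrix (Fin k) (Fin n) F) : E.m Aᵀ = trL n (E.m A) := by
  simp only [trL, range_map, m, List.map_ofFn, Function.comp_def]
  congr 1; funext j; simp [v]

theorem m_mul (A B : Matrix (Fin n) (Fin n) F) : E.m (A * B) = T.mm n (E.m A) (E.m B) := by
  simp only [Tb.mm, ← m_tr]
  show List.ofFn _ = List.map _ (List.ofFn _)
  rw [List.map_ofFn]
  congr 1; funext i
  rw [Function.comp, ← v_mulVec, mulVec_transpose]; rfl

theorem m_one : E.m (1 : Matrix (Fin n) (Fin n) F) = idL n := by
  simp only [idL, range_map, m, v]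
  congr 1; funext i; congr 1; funext j
  simp only [one_apply, Fin.val_inj]
  split_ifs
  exacts [E.one, E.zero]

theorem m_pow (A : Matrix (Fin n) (Fin n) F) (k : ℕ) : E.m (A ^ k) = T.pw n (E.m A) k := by
  induction k with
  | zero => rw [pow_zero, m_one]; rfl
  | succ k ih => rw [pow_succ, m_mul, ih]; rfl

theorem e_trace (A : Matrix (Fin n) (Fin n) F) : E.e A.trace = T.trc n (E.m A) := by
  rw [trace, e_sum, Tb.trc, range_map, v]
  congr 2; funext i; simp [m, v]

theorem e_det (A : Matrix (Fin n) (Fin n) F) : E.e A.det = T.det n (E.m A) := by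
  induction n with
  | zero => simp [E.one, Tb.det]
  | succ n ih =>
    rw [det_succ_row_zero, e_sum]
    show _ = T.sm _
    rw [range_map, v]
    congr 2; funext j
    have h1 : ((E.m A).headD []).getD j 0 = E.e (A 0 j) := by
      rw [m, List.ofFn_succ, List.headD_cons, v]; simp [-List.ofFn_succ, Nat.lt_succ_iff.1 j.2]
    have h2 : (E.m A).tail.map (fun r => r.eraseIdx j) = E.m (A.submatrix Fin.succ j.succAbove) := by
      rw [m, List.ofFn_succ, List.tail_cons, List.map_ofFn, m]
      congr 1; funext i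
      exact eraseIdx_ofFn _ _
    have h3 : cond (Nat.beq (Nat.mod j 2) 0) 1 T.N = E.e ((-1) ^ (j : ℕ)) := by
      show cond (Nat.beq (j % 2) 0) _ _ = _
      rcases Nat.even_or_odd (j : ℕ) with h | h
      · rw [h.neg_one_pow, Nat.even_iff.1 h, E.one]; rfl
      · rw [h.neg_one_pow, Nat.odd_iff.1 h, E.neg]; rfl
    rw [h1, h2, h3]
    change _ = cond _ 0 (op T.M _ (T.det n _))
    rw [← ih, ← E.mul, ← E.mul]
    cases h : Nat.beq (E.e (A 0 j)) 0
    · rfl
    · rw [E.inj ((Nat.eq_of_beq_eq_true h).trans E.zero.symm)]; simp [E.zero]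

theorem isU_iff (A : Matrix (Fin n) (Fin n) F) : T.isU n (E.m A) = true ↔ A * (A.map σ)ᵀ = 1 := by
  have : (E.m A).map (fun r => (E.m A).map (T.hm r)) = E.m (A * (A.map σ)ᵀ) := by
    simp only [m, List.map_ofFn, Function.comp_def, ← e_hm]; rfl
  rw [Tb.isU, this, beq_iff_eq, ← E.m_one]
  exact ⟨E.m_inj, fun h => by rw [h]⟩

theorem exists_v {l : List ℕ} (h1 : l.length = n) (h2 : ∀ a ∈ l, a < T.Q) : ∃ x : Fin n → F, E.v x = l := by
  subst h1
  choose x hx using fun i : Fin l.length => E.surj _ (h2 _ (List.getElem_mem i.2))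
  exact ⟨x, by simp [v, hx]⟩

theorem exists_m {a : List (List ℕ)} (h : T.shape n a = true) : ∃ A : Matrix (Fin n) (Fin n) F, E.m A = a := by
  simp only [Tb.shape, Bool.and_eq_true, beq_iff_eq, List.all_eq_true, decide_eq_true_eq] at h
  obtain ⟨rfl, h⟩ := h
  choose x hx using fun i : Fin a.length => E.exists_v (h _ (List.getElem_mem i.2)).1 (h _ (List.getElem_mem i.2)).2
  exact ⟨x, by simp [m, hx]⟩

theorem itr_eq (A : Matrix (Fin n) (Fin n) F) (k : ℕ) (x : Fin n → F) :
    E.m (of fun i : Fin k => A ^ (i : ℕ) *ᵥ x) = T.itr (E.m A) k (E.v x) := by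
  induction k generalizing x with
  | zero => rfl
  | succ k ih =>
    rw [m, List.ofFn_succ]
    show _ = _ :: T.itr _ k _
    rw [← v_mulVec, ← ih, m]
    congr 1
    · exact congrArg E.v (show A ^ 0 *ᵥ x = x by simp)
    · congr 1; funext i
      exact congrArg E.v (by show A ^ (i + 1 : ℕ) *ᵥ x = A ^ (i : ℕ) *ᵥ A *ᵥ x; rw [pow_succ, mulVec_mulVec])

theorem allV {f : List ℕ → Bool} (h : allV T.Q n f = true) (x : Fin n → F) : f (E.v x) = true :=
  allV_iff h _ (E.v_len x) (E.v_lt x)

theorem mem_of_cov {τ : List ℕ → Bool} {L : List ℕ} (h : T.cov n τ L = true) {x : Fin n → F} (hx : τ (E.v x) = true) :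
    ∃ c ∈ L, T.dec n c = E.v x := by
  have := E.allV h x
  rw [hx] at this
  exact ⟨_, bit_mk this, by simpa [E.v_len] using T.dec_code (E.v_lt x)⟩

/-- The stabiliser of a coded set. -/
abbrev Y (n : ℕ) (τ : List ℕ → Bool) : Subgroup (GL (Fin n) F) := stS {x | τ (E.v x) = true}

theorem mem_Y [Finite F] {τ : List ℕ → Bool} {L : List ℕ} (h : T.cov n τ L = true) {g : GL (Fin n) F}
    (hg : T.pt n τ L (E.m g.1) = true) : g ∈ E.Y n τ := mem_stS fun x hx => by
  obtain ⟨c, hc, e⟩ := E.mem_of_cov h hx
  have := List.all_eq_true.1 hg c hc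
  rwa [e, ← v_mulVec] at this

theorem not_mem_Y {τ : List ℕ → Bool} {g : GL (Fin n) F} {l : List ℕ} (h1 : l.length = n) (h2 : ∀ a ∈ l, a < T.Q)
    (h3 : τ l = true) (h4 : τ (T.mv (E.m g.1) l) = false) : g ∉ E.Y n τ := fun h => by
  obtain ⟨x, rfl⟩ := E.exists_v h1 h2
  have : τ (E.v (g.1 *ᵥ x)) = true := (h x).1 h3
  rw [v_mulVec, h4] at this
  exact absurd this (by simp)

end Enc

instance instFintypeQuad {p : ℕ} [NeZero p] {a b : ZMod p} : Fintype (QuadraticAlgebra (ZMod p) a b) :=
  Fintype.ofEquiv _ (QuadraticAlgebra.equivProd a b).symm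

/-- The code of an element of a quadratic algebra. -/
def qc {p : ℕ} {a b : ZMod p} (x : QuadraticAlgebra (ZMod p) a b) : ℕ := x.re.val + p * x.im.val

theorem enc_of {p : ℕ} [Fact p.Prime] {a b : ZMod p} [Fact (∀ r : ZMod p, r ^ 2 ≠ a + b * r)] {T : Tb} {F : Type*}
    [Field F] [Fintype F] {σ : F →+* F} (h : IsConj σ p)
    (h1 : ∀ x y : QuadraticAlgebra (ZMod p) a b, (qc x = qc y → x = y) ∧ qc (x * y) = op T.M (qc x) (qc y) ∧
      qc (x + y) = op T.A (qc x) (qc y))
    (h2 : (∀ x : QuadraticAlgebra (ZMod p) a b, qc x < T.Q ∧ qc (x ^ p) = op T.J 0 (qc x)) ∧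
      (∀ c < T.Q, ∃ x : QuadraticAlgebra (ZMod p) a b, qc x = c) ∧ qc (0 : QuadraticAlgebra (ZMod p) a b) = 0 ∧
      qc (1 : QuadraticAlgebra (ZMod p) a b) = 1 ∧ qc (-1 : QuadraticAlgebra (ZMod p) a b) = T.N) :
    Nonempty (Enc T F σ) := by
  have ψ : F ≃+* QuadraticAlgebra (ZMod p) a b := FiniteField.ringEquivOfCardEq (by
    rw [← Nat.card_eq_fintype_card, ← Nat.card_eq_fintype_card, h.card, MatB.card_quad, sq])
  exact ⟨⟨fun x => qc (ψ x), fun x y e => ψ.injective ((h1 _ _).1 e), fun x => (h2.1 _).1,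
    fun c hc => let ⟨x, hx⟩ := h2.2.1 c hc; ⟨ψ.symm x, by simpa using hx⟩, fun x y => by rw [map_mul, (h1 _ _).2.1],
    fun x y => by rw [map_add, (h1 _ _).2.2], fun x => by rw [h.apply, map_pow, (h2.1 _).2],
    by simpa using h2.2.2.1, by simpa using h2.2.2.2.1, by simpa using h2.2.2.2.2⟩⟩

/-- Tables for the field with 4 elements. -/
def T4 : Tb := ⟨4, 0x104600000000000000000000000000000000000008c4000000000000000000000000000000000000188200000000000000000000000000000000000000000, 0x44300000000000000000000000000000000000080620000000000000000000000000000000000010c010000000000000000000000000000000000018820, 0x10c20, 1⟩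

theorem enc4 {F : Type*} [Field F] [Fintype F] {σ : F →+* F} (h : IsConj σ 2) : Nonempty (Enc T4 F σ) :=
  enc_of (a := 1) (b := 1) h (by decide +kernel) (by decide +kernel)

/-- Tables for the field with 9 elements. -/
def T9 : Tb := ⟨9, 0x609443391000000000000000000000000000000011a0c2214e00000000000000000000000000000054088708cc00000000000000000000000000000023106141ca000000000000000000000000000000311c262a080000000000000000000000000000007205051186000000000000000000000000000000428ce830440000000000000000000000000000008398a4188200000000000000000000000000000000000000000, 0x41942011cc8000000000000000000000000000003290020990700000000000000000000000000000520c41020e6000000000000000000000000000001008e641065000000000000000000000000000000104c838ca40000000000000000000000000000020810731483000000000000000000000000000007320832840200000000000000000000000000000641c6520041000000000000000000000000000008398a418820, 0x520d0730820, 2⟩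

theorem enc9 {F : Type*} [Field F] [Fintype F] {σ : F →+* F} (h : IsConj σ 3) : Nonempty (Enc T9 F σ) :=
  enc_of (a := 2) (b := 0) h (by decide +kernel) (by decide +kernel)

/-- Tables for the field with 25 elements. -/
def T25 : Tb := ⟨25, 0xd9d0277d44875869540855c6e664b000000000013a8cac0a151c35f621a824ae47742e00000000014199d163ee1490ea95618115a85cec000000000012ba56b88ca9bf033ad90a11096c6a00000000007646c24ba7821970a850d95c6553e80000000000f0b2e9c160268dd4344f222aabb2260000000001543c4e2c48bbcc2da1c6ab260cc1a40000000000255cd3811944164175b0778d6daa62000000000088855812e89954b31b1e46d8ceb9e00000000000ec26646dd121b2c7889753402aa15e00000000016691e61ccb56268b149418a3103ddc0000000000379f0b70645b5184820d750a714d5a00000000009b2870a34333ac912dc4f455d236180000000000a248f5351c388a05c36ec0bd334596000000000103556189ecc1491768e69c388f2d1400000000004a418838f0f5a8c2bce4e286d58b52000000000051620d928e4a86ef625c61d2369ad00000000000b48a92259ed345480e0a3acd97838e000000000115949752476820557b8349b4f8930c0000000001793503ac1660e26e492d161c547a8a000000000063a1255b1ae542329beb6be28110c80000000000c72daab62b7a1d2641633849e220460000000001284e2f419272deb8b51ab73143090400000000018bdab49ca307b9ac5a928398a4188200000000000000000000000000000000000000000,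 0x128c1f36b16a720e62a46208097b5698000000001183e7262d4e69cc54a04101076ad31700000000107ce515a9cd618a941c2020c55a62f6000000000f9ca30539ac595283980418834c5ed500000000139460f7358b525073148310418bdab4000000000d62d4e41cc548c41012f6ad3128c1f3000000000c5a9cd398a94082020ed5a62f183e72000000000b539ac315283840418ab4c5ed07ce51000000000a7358b2a5073008310698bdaaf9ca30000000000e6b16a4a0e62906208317b56939460f0000000008398a91882025ed5a625183e6d62d4e000000000731528104041dab4c5e307ce4c5a9cd00000000062a5070808315698bda0f9ca2b539ac00000000054a0e6010620d317b55f39460a7358b000000000941cc520c41062f6ad2728c1ee6b16a000000000310404bdab4c4a307cdac5a9c8398a9000000000208083b5698bc60f9c98b539a731528000000000101062ad317b41f39456a735862a507000000000020c41a62f6abe728c14e6b1654a0e6000000000418820c5ed5a4e5183dcd62d4941cc50000000017b56989460f9b58b5390731523104040000000016ad3178c1f39316a734e62a502080830000000015a62f683e728ad4e6b0c54a0e1010620000000014c5ed57ce51829cd62ca941cc020c410000000018bdab49ca307b9ac5a928398a418820, 0x941cc57358b54e5183f17b568418820,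 4⟩

theorem enc25 {F : Type*} [Field F] [Fintype F] {σ : F →+* F} (h : IsConj σ 5) : Nonempty (Enc T25 F σ) :=
  enc_of (a := 2) (b := 0) h (by decide +kernel) (by decide +kernel)

end Cfsg.Lib.Linear.Nm
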