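/-
Certificates that a subgroup of a small classical group is not maximal.
-/
import Cfsg.Agent.Lib.Linear.NmA

set_option autoImplicit false

namespace Cfsg.Lib.Linear.Nm

open Matrix Cfsg.Geo Cfsg.Lib.Asch Cfsg.Lib.Forms

theorem nm_grp {Γ : Type*} [Group Γ] {G H Y : Subgroup Γ} (hH : IsMaximalIn G H) {P : Γ}
    (hP : ∀ g, g ∈ G ↔ P⁻¹ * g * P ∈ G) {Pr : Γ → Prop} (h1 : ∀ g ∈ H, Pr (P⁻¹ * g * P))
    (h2 : ∀ g ∈ G, Pr g → g ∈ Y) {x y : Γ} (hx : x ∈ G) (hxY : x ∈ Y) (hx' : ¬ Pr x) (hy : y ∈ G) (hy' : y ∉ Y) :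
    False := by
  have e : ∀ g, P⁻¹ * (P * g * P⁻¹) * P = g := fun g => by group
  have m : ∀ g, g ∈ Y.comap (MulAut.conj P⁻¹).toMonoidHom ↔ P⁻¹ * g * P ∈ Y := fun g => by simp
  rcases hH.2 (Y.comap (MulAut.conj P⁻¹).toMonoidHom ⊓ G) (fun g hg => ⟨(m g).2 (h2 _ ((hP g).1 (hH.1.le hg)) (h1 g hg)),
    hH.1.le hg⟩) inf_le_right with h | h
  · exact hx' (e x ▸ h1 _ (h.le ⟨(m _).2 ((e x).symm ▸ hxY), (hP _).2 ((e x).symm ▸ hx)⟩))
  · exact hy' (e y ▸ (m _).1 (h.ge ((hP _).2 ((e y).symm ▸ hy))).1)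

theorem sylow_conj {Γ : Type*} [Group Γ] [Finite Γ] {N R R₀ : Subgroup Γ} {p k : ℕ} [Fact p.Prime]
    (hN : (Nat.card N).factorization p = k) (h1 : R ≤ N) (h2 : R₀ ≤ N) (c1 : Nat.card R = p ^ k)
    (c2 : Nat.card R₀ = p ^ k) : ∃ P ∈ N, ∀ r, r ∈ R₀ ↔ P * r * P⁻¹ ∈ R := by
  have c : ∀ {R : Subgroup Γ}, R ≤ N → Nat.card R = p ^ k →
      Nat.card (R.subgroupOf N) = p ^ (Nat.card N).factorization p := fun h c => by
    rw [hN, ← c]; exact Nat.card_congr (Subgroup.subgroupOfEquivOfLe h).toEquiv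
  obtain ⟨P, hP⟩ := MulAction.exists_smul_eq N (Sylow.ofCard _ (c h2 c2)) (Sylow.ofCard _ (c h1 c1))
  have h3 : ∀ r : N, r.1 ∈ R₀ ↔ (P * r * P⁻¹).1 ∈ R := fun r => by
    have : r ∈ (Sylow.ofCard _ (c h2 c2) : Sylow p N) ↔ P * r * P⁻¹ ∈ (Sylow.ofCard _ (c h1 c1) : Sylow p N) := by
      rw [← hP]; exact (Subgroup.smul_mem_pointwise_smul_iff (a := MulAut.conj P)).symm
    exact this
  refine ⟨P, P.2, fun r => ⟨fun h => (h3 ⟨r, h2 h⟩).1 h, fun h => (h3 ⟨r, ?_⟩).2 h⟩⟩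
  simpa [mul_assoc] using mul_mem (mul_mem (inv_mem P.2) (h1 h)) P.2

theorem getD_or {α : Type*} (l : List α) (i : ℕ) (d : α) : l.getD i d ∈ l ∨ l.getD i d = d := by
  rcases lt_or_ge i l.length with h | h
  · rw [List.getD_eq_getElem _ _ h]; exact .inl (List.getElem_mem h)
  · exact .inr (List.getD_eq_default _ _ h)

variable {T : Tb} {F : Type*} [Field F] {σ : F →+* F} {q n : ℕ}

theorem herm_eq (hq : IsConj σ q) (u v : Fin n → F) : hermForm n F q u v = u ⬝ᵥ fun i => σ (v i) := by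
  simp [hermForm, dotProduct, hq.apply]

theorem mem_GU (hq : IsConj σ q) {g : GL (Fin n) F} : g ∈ GU n F q ↔ g.1 * (g.1.map σ)ᵀ = 1 := by
  have h1 : ∀ u v, hermForm n F q (g.1 *ᵥ u) (g.1 *ᵥ v) = u ⬝ᵥ (g.1ᵀ * g.1.map σ) *ᵥ fun i => σ (v i) := fun u v => by
    rw [herm_eq hq, ← mulVec_mulVec, dotProduct_mulVec u, vecMul_transpose]
    congr 1; funext i; simp [mulVec, dotProduct]
  have h2 : g.1 * (g.1.map σ)ᵀ = 1 ↔ g.1ᵀ * g.1.map σ = 1 := by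
    rw [← transpose_eq_one, transpose_mul, transpose_transpose, mul_eq_one_comm]
  rw [h2]
  refine ⟨fun h => Matrix.ext fun i j => ?_, fun h u v => ?_⟩
  · have : hermForm n F q (g.1 *ᵥ Pi.single i 1) (g.1 *ᵥ Pi.single j 1) = _ := h _ _
    rw [h1, herm_eq hq] at this
    simpa [Pi.single_apply, apply_ite σ, mulVec, dotProduct, one_apply, eq_comm] using this
  · show hermForm n F q (g.1 *ᵥ u) (g.1 *ᵥ v) = _
    rw [h1, h, one_mulVec, herm_eq hq]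

theorem conj_SU {P : GL (Fin n) F} (hP : P ∈ GU n F q) (g : GL (Fin n) F) :
    g ∈ GU n F q ⊓ specialLinear (Fin n) F ↔ P⁻¹ * g * P ∈ GU n F q ⊓ specialLinear (Fin n) F := by
  rw [Subgroup.mem_inf, Subgroup.mem_inf, Subgroup.mul_mem_cancel_right _ hP,
    Subgroup.mul_mem_cancel_left _ (inv_mem hP), mem_sl, mem_sl, Units.val_mul, Units.val_mul, det_units_conj']

namespace Tb

variable (T)

/-- Special unitary matrices. -/
noncomputable def isSU (n : ℕ) (a : List (List ℕ)) : Bool := T.isU n a && T.det n a == 1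

/-- Straight-line programs of matrices. -/
noncomputable def slp (n : ℕ) (gs : List (List (List ℕ))) (L : List (List (List ℕ) × ℕ × ℕ)) : Bool :=
  List.rec true (fun x r ih => x.1 == T.mm n (r.getD x.2.1 (idL n, 0, 0)).1 (gs.getD x.2.2 (idL n)) && ih) L

/-- Straight-line programs of vectors. -/
noncomputable def slv (n : ℕ) (gs : List (List (List ℕ))) (e : List ℕ) (L : List (List ℕ × ℕ × ℕ)) : Bool :=
  List.rec true (fun x r ih => x.1 == T.mv (gs.getD x.2.2 (idL n)) (r.getD x.2.1 (e, 0, 0)).1 && ih) L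

/-- Real ratios. -/
def rr (u v : List ℕ) : Bool := u.all fun a => v.all fun b => op T.M a (op T.J 0 b) == op T.M (op T.J 0 a) b

end Tb

/-- Membership in a straight-line program. -/
def ok (n : ℕ) (L : List (List (List ℕ) × ℕ × ℕ)) (a : List (List ℕ)) : Bool := a == idL n || L.any fun x => x.1 == a

/-- The setting of a certificate. -/
structure Cx (E : Enc T F σ) (G : Subgroup (GL (Fin n) F)) (ig : List (List ℕ) → Bool) (τ : List ℕ → Bool)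
    (L : List ℕ) : Prop where
  mem : ∀ g, g ∈ G ↔ ig (E.m g.1) = true
  det : ∀ A : Matrix (Fin n) (Fin n) F, ig (E.m A) = true → A.det = 1
  cov : T.cov n τ L = true

theorem Enc.cx_su (E : Enc T F σ) (hq : IsConj σ q) {τ : List ℕ → Bool} {L : List ℕ} (h : T.cov n τ L = true) :
    Cx E (GU n F q ⊓ specialLinear (Fin n) F) (T.isSU n) τ L := by
  have : ∀ A : Matrix (Fin n) (Fin n) F, T.isSU n (E.m A) = true ↔ A * (A.map σ)ᵀ = 1 ∧ A.det = 1 := fun A => by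
    rw [Tb.isSU, Bool.and_eq_true, E.isU_iff, beq_iff_eq, ← E.e_det, ← E.one, E.inj.eq_iff]
  exact ⟨fun g => by rw [this, Subgroup.mem_inf, mem_GU hq, mem_sl], fun A h => ((this A).1 h).2, h⟩

theorem Enc.cx_sl (E : Enc T F σ) {τ : List ℕ → Bool} {L : List ℕ} (h : T.cov n τ L = true) :
    Cx E (specialLinear (Fin n) F) (fun a => T.det n a == 1) τ L := by
  have : ∀ A : Matrix (Fin n) (Fin n) F, (T.det n (E.m A) == 1) = true ↔ A.det = 1 := fun A => by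
    rw [beq_iff_eq, ← E.e_det, ← E.one, E.inj.eq_iff]
  exact ⟨fun g => by rw [this, mem_sl], fun A h => (this A).1 h, h⟩

theorem Enc.exists_gu (E : Enc T F σ) (hq : IsConj σ q) {a : List (List ℕ)} (h : (T.shape n a && T.isU n a) = true) :
    ∃ g ∈ GU n F q, E.m g.1 = a := by
  rw [Bool.and_eq_true] at h
  obtain ⟨A, rfl⟩ := E.exists_m h.1
  have := (E.isU_iff A).1 h.2
  exact ⟨⟨A, _, this, mul_eq_one_comm.1 this⟩, (mem_GU hq).2 this, rfl⟩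

theorem Enc.slp_mem (E : Enc T F σ) {Z : Subgroup (GL (Fin n) F)} {gs : List (List (List ℕ))}
    (hg : ∀ a ∈ gs, ∃ g ∈ Z, E.m g.1 = a) {L : List (List (List ℕ) × ℕ × ℕ)} (h : T.slp n gs L = true)
    {g : GL (Fin n) F} (h1 : ok n L (E.m g.1) = true) : g ∈ Z := by
  have h0 : ∃ g ∈ Z, E.m g.1 = idL n := ⟨1, one_mem _, E.m_one⟩
  have key : ∀ x ∈ L, ∃ g ∈ Z, E.m g.1 = x.1 := by
    clear h1
    induction L with
    | nil => simp
    | cons x r ih =>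
      obtain ⟨h2, h3⟩ := Bool.and_eq_true_iff.1 h
      obtain ⟨a, ha, ea⟩ : ∃ g ∈ Z, E.m g.1 = (r.getD x.2.1 (idL n, 0, 0)).1 := by
        rcases getD_or r x.2.1 (idL n, 0, 0) with h | h
        exacts [ih h3 _ h, h.symm ▸ h0]
      obtain ⟨b, hb, eb⟩ : ∃ g ∈ Z, E.m g.1 = gs.getD x.2.2 (idL n) := by
        rcases getD_or gs x.2.2 (idL n) with h | h
        exacts [hg _ h, h.symm ▸ h0]
      exact List.forall_mem_cons.2 ⟨⟨_, mul_mem ha hb, by rw [Units.val_mul, E.m_mul, ea, eb, beq_iff_eq.1 h2]⟩, ih h3⟩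
  obtain ⟨g', h2, h3⟩ : ∃ g' ∈ Z, E.m g'.1 = E.m g.1 := by
    simp only [ok, Bool.or_eq_true, beq_iff_eq, List.any_eq_true] at h1
    rcases h1 with h1 | ⟨x, hx, h1⟩
    exacts [h1 ▸ h0, h1 ▸ key x hx]
  rwa [← Units.ext (E.m_inj h3)]

theorem Enc.slv_mem (E : Enc T F σ) {Z : Subgroup (GL (Fin n) F)} {gs : List (List (List ℕ))}
    (hg : ∀ a ∈ gs, ∃ g ∈ Z, E.m g.1 = a) {e : Fin n → F} {L : List (List ℕ × ℕ × ℕ)} (h : T.slv n gs (E.v e) L = true) :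
    ∀ x ∈ (E.v e, 0, 0) :: L, ∃ g ∈ Z, E.v (g.1 *ᵥ e) = x.1 := by
  have h0 : ∃ g ∈ Z, E.v (g.1 *ᵥ e) = E.v e := ⟨1, one_mem _, by simp⟩
  refine List.forall_mem_cons.2 ⟨h0, ?_⟩
  induction L with
  | nil => simp
  | cons x r ih =>
    obtain ⟨h2, h3⟩ := Bool.and_eq_true_iff.1 h
    obtain ⟨a, ha, ea⟩ : ∃ g ∈ Z, E.v (g.1 *ᵥ e) = (r.getD x.2.1 (E.v e, 0, 0)).1 := by
      rcases getD_or r x.2.1 (E.v e, 0, 0) with h | h
      exacts [ih h3 _ h, h.symm ▸ h0]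
    obtain ⟨b, hb, eb⟩ : ∃ g ∈ Z, E.m g.1 = gs.getD x.2.2 (idL n) := by
      rcases getD_or gs x.2.2 (idL n) with h | h
      exacts [hg _ h, h.symm ▸ ⟨1, one_mem _, E.m_one⟩]
    exact List.forall_mem_cons.2 ⟨⟨_, mul_mem hb ha, by
      rw [Units.val_mul, ← mulVec_mulVec, E.v_mulVec, ea, eb, beq_iff_eq.1 h2]⟩, ih h3⟩

theorem col_it {g t t' : Matrix (Fin n) (Fin n) F} (h : g * t = t' * g) (k : ℕ) (e : Fin n → F) :
    g * (of fun i : Fin k => t ^ (i : ℕ) *ᵥ e)ᵀ = (of fun i : Fin k => t' ^ (i : ℕ) *ᵥ g *ᵥ e)ᵀ := by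
  ext i j
  have : g * t ^ (j : ℕ) = t' ^ (j : ℕ) * g := (SemiconjBy.pow_right h j).eq
  show (g *ᵥ t ^ (j : ℕ) *ᵥ e) i = (t' ^ (j : ℕ) *ᵥ g *ᵥ e) i
  rw [mulVec_mulVec, mulVec_mulVec, this]

theorem Enc.v_e0 [NeZero n] (E : Enc T F σ) : E.v (Pi.single (0 : Fin n) (1 : F)) = (idL n).getD 0 [] := by
  rw [← E.m_one, Enc.m, List.getD_eq_getElem _ _ (by simpa using Nat.pos_of_neZero n), List.getElem_ofFn]
  congr 1; funext j; simp [one_apply, Pi.single_apply, eq_comm]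

namespace Cx

variable [Fintype F] {E : Enc T F σ} {G : Subgroup (GL (Fin n) F)} {ig τ L} (C : Cx E G ig τ L)
include C

omit [Fintype F] in
theorem exists_g {a : List (List ℕ)} (h : (T.shape n a && ig a) = true) : ∃ g ∈ G, E.m g.1 = a := by
  rw [Bool.and_eq_true] at h
  obtain ⟨A, rfl⟩ := E.exists_m h.1
  exact ⟨GeneralLinearGroup.mkOfDetNeZero A (by rw [C.det A h.2]; simp), (C.mem _).2 h.2, rfl⟩

theorem good {a : List (List ℕ)} (h : (T.shape n a && ig a && T.pt n τ L a) = true) :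
    ∃ g ∈ G ⊓ E.Y n τ, E.m g.1 = a := by
  rw [Bool.and_eq_true] at h
  obtain ⟨g, hg, rfl⟩ := C.exists_g h.1
  exact ⟨g, ⟨hg, E.mem_Y C.cov h.2⟩, rfl⟩

theorem nm {H : Subgroup (GL (Fin n) F)} (hH : IsMaximalIn G H) {P : GL (Fin n) F}
    (hP : ∀ g, g ∈ G ↔ P⁻¹ * g * P ∈ G) {Pr : GL (Fin n) F → Prop} (h1 : ∀ g ∈ H, Pr (P⁻¹ * g * P))
    (h2 : ∀ g ∈ G, Pr g → g ∈ E.Y n τ) {x y : List (List ℕ)} {l : List ℕ} (hx : ∀ g, E.m g.1 = x → ¬ Pr g)
    (h : (T.shape n x && ig x && T.pt n τ L x && (T.shape n y && ig y) && (l.length == n && l.all (· < T.Q) && τ l &&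
      !τ (T.mv y l))) = true) : False := by
  rw [Bool.and_eq_true, Bool.and_eq_true] at h
  obtain ⟨x, h3, rfl⟩ := C.good h.1.1
  obtain ⟨y, h4, rfl⟩ := C.exists_g h.1.2
  have h5 := h.2
  simp only [Bool.and_eq_true, beq_iff_eq, List.all_eq_true, decide_eq_true_eq, Bool.not_eq_true'] at h5
  exact nm_grp hH hP h1 h2 h3.1 h3.2 (hx x rfl) h4 (E.not_mem_Y h5.1.1.1 h5.1.1.2 h5.1.2 h5.2)

theorem red {t : GL (Fin n) F} {l : ℕ} {LB : List (List (List ℕ))}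
    (h1 : LB.all (fun a => T.shape n a && ig a && T.pt n τ L a) = true)
    (h2 : allB l (fun j => !(T.trc n (T.pw n (E.m t.1) j) == T.trc n (E.m t.1) &&
      T.det n (T.pw n (E.m t.1) j) == T.det n (E.m t.1)) ||
        LB.any fun b => T.mm n b (E.m t.1) == T.mm n (T.pw n (E.m t.1) j) b) = true)
    (h3 : ∀ y ∈ G, y * t = t * y → y ∈ E.Y n τ) : ∀ g ∈ G, (∃ j < l, g * t = t ^ j * g) → g ∈ E.Y n τ := by
  rintro g hg ⟨j, hj, e⟩
  have e1 : t.1 ^ j = g.1 * t.1 * (g⁻¹).1 := by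
    rw [← Units.val_pow_eq_pow_val, ← Units.val_mul, ← Units.val_mul, e, mul_inv_cancel_right]
  have := allB_iff h2 j hj
  rw [← E.m_pow, ← E.e_trace, ← E.e_trace, ← E.e_det, ← E.e_det, e1, det_units_conj, trace_units_conj, ← e1] at this
  simp only [beq_self_eq_true, Bool.and_self, Bool.not_true, Bool.false_or, List.any_eq_true, beq_iff_eq] at this
  obtain ⟨b, hb, e2⟩ := this
  obtain ⟨b, h4, rfl⟩ := C.good (List.all_eq_true.1 h1 b hb)
  rw [← E.m_mul, ← E.m_mul] at e2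
  have e3 : b * t = t ^ j * b := Units.ext (E.m_inj e2)
  have := mul_mem h4.2 (h3 _ (mul_mem (inv_mem h4.1) hg) (by
    rw [mul_assoc, e, show t ^ j = b * t * b⁻¹ by rw [e3, mul_inv_cancel_right]]; group))
  rwa [mul_inv_cancel_left] at this

omit C [Fintype F] in
theorem not_pr {t : GL (Fin n) F} {l : ℕ} {x : List (List ℕ)}
    (h : allB l (fun j => T.mm n x (E.m t.1) != T.mm n (T.pw n (E.m t.1) j) x) = true) (g : GL (Fin n) F)
    (hg : E.m g.1 = x) : ¬ ∃ j < l, g * t = t ^ j * g := by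
  rintro ⟨j, hj, e⟩
  have := allB_iff h j hj
  rw [← hg, ← E.m_pow, ← E.m_mul, ← E.m_mul, ← Units.val_pow_eq_pow_val, ← Units.val_mul, ← Units.val_mul, e] at this
  simp at this

theorem cent [NeZero n] {t : GL (Fin n) F} {B : List (List ℕ)} {c : List ℕ → Bool}
    (hc : ∀ y ∈ G, c (E.v (y.1 *ᵥ Pi.single 0 1)) = true)
    (h1 : (T.shape n B && T.mm n (trL n (T.itr (E.m t.1) n ((idL n).getD 0 []))) B == idL n) = true)
    (h2 : allV T.Q n (fun v => !c v || (!ig (T.mm n (trL n (T.itr (E.m t.1) n v)) B) ||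
      T.pt n τ L (T.mm n (trL n (T.itr (E.m t.1) n v)) B))) = true) : ∀ y ∈ G, y * t = t * y → y ∈ E.Y n τ := by
  intro y hy e
  rw [Bool.and_eq_true] at h1
  obtain ⟨B, rfl⟩ := E.exists_m h1.1
  have h3 := h1.2
  rw [← E.v_e0, ← E.itr_eq, ← E.m_tr, ← E.m_mul, ← E.m_one, beq_iff_eq] at h3
  have h4 := E.allV h2 (y.1 *ᵥ Pi.single 0 1)
  rw [hc y hy, ← E.itr_eq, ← E.m_tr, ← E.m_mul, ← col_it (congrArg Units.val e), Matrix.mul_assoc, E.m_inj h3,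
    Matrix.mul_one, (C.mem y).1 hy] at h4
  exact E.mem_Y C.cov h4

end Cx

theorem Enc.col3 (E : Enc T F σ) {φ : List ℕ → Bool} {LU : List ℕ} (hc : T.cov 3 φ LU = true)
    {rel : List ℕ → List ℕ → Bool} {ig o : List (List ℕ) → Bool}
    (h : LU.all (fun a => (LU.filter fun b => rel (T.dec 3 a) (T.dec 3 b)).all fun b =>
      (LU.filter fun b => rel (T.dec 3 a) (T.dec 3 b)).all fun c => !(T.hm (T.dec 3 b) (T.dec 3 c) == 0) ||
        (!ig (trL 3 [T.dec 3 a, T.dec 3 b, T.dec 3 c]) || o (trL 3 [T.dec 3 a, T.dec 3 b, T.dec 3 c]))) = true)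
    {g : Matrix (Fin 3) (Fin 3) F} (h1 : ∀ j, φ (E.v (gᵀ j)) = true) (h2 : ∀ j ≠ 0, rel (E.v (gᵀ 0)) (E.v (gᵀ j)) = true)
    (h3 : T.hm (E.v (gᵀ 1)) (E.v (gᵀ 2)) = 0) (h4 : ig (E.m g) = true) : o (E.m g) = true := by
  choose c hc e using fun j => E.mem_of_cov hc (h1 j)
  have m : ∀ j ≠ 0, c j ∈ LU.filter fun b => rel (T.dec 3 (c 0)) (T.dec 3 b) := fun j hj =>
    List.mem_filter.2 ⟨hc j, by rw [e, e, h2 j hj]⟩
  have := List.all_eq_true.1 (List.all_eq_true.1 (List.all_eq_true.1 h _ (hc 0)) _ (m 1 (by decide))) _ (m 2 (by decide))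
  have e1 : trL 3 [E.v (gᵀ 0), E.v (gᵀ 1), E.v (gᵀ 2)] = E.m g := (E.m_tr gᵀ).symm
  rw [e, e, e, h3, e1, h4] at this
  simpa using this

theorem Enc.hm_col (E : Enc T F σ) (hq : IsConj σ q) {g : GL (Fin n) F} (hg : g ∈ GU n F q) (i j : Fin n) :
    T.hm (E.v (g.1ᵀ i)) (E.v (g.1ᵀ j)) = if i = j then 1 else 0 := by
  have h := (mem_GU hq).1 hg
  rw [← transpose_eq_one, transpose_mul, transpose_transpose, mul_eq_one_comm] at h
  have : (g.1ᵀ i ⬝ᵥ fun k => σ (g.1ᵀ j k)) = (1 : Matrix (Fin n) (Fin n) F) i j := congrFun (congrFun h i) j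
  rw [← E.e_hm, this, one_apply]
  split_ifs
  exacts [E.one, E.zero]

theorem Enc.rr_of (E : Enc T F σ) {u v : Fin n → F} (h : ∀ i j, u i * σ (v j) = σ (u i) * v j) :
    T.rr (E.v u) (E.v v) = true := by
  simp only [Tb.rr, Enc.v, List.all_eq_true, List.mem_ofFn, forall_exists_index, forall_apply_eq_imp_iff, beq_iff_eq,
    ← E.fr, ← E.mul, h, implies_true]

end Cfsg.Lib.Linear.Nm
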