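/-
Normalisers of extension fields in small classical groups.
-/
import Cfsg.Agent.Lib.Linear.NmB
import Cfsg.Agent.S0277

set_option autoImplicit false

namespace Cfsg.Lib.Linear.Nm

open Matrix Cfsg.Geo Cfsg.Lib.Asch Cfsg.Lib.Forms

variable {T : Tb} {F : Type*} [Field F] [Fintype F] {σ : F →+* F} {q n : ℕ}

theorem exists_t [NeZero n] {r l : ℕ} [NeZero l] {K : Subalgebra F (Matrix (Fin n) (Fin n) F)}
    (hK : IsFieldSubalgebra r K) (hl : l ∣ Fintype.card F ^ r - 1) : ∃ t : GL (Fin n) F, t.1 ∈ K ∧ orderOf t = l ∧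
      ∀ g ∈ subalgebraNormalizer K, ∃ j < l, g * t = t ^ j * g := by
  letI := (IsFieldSubalgebra.isField hK).toField
  obtain ⟨g, hg⟩ := IsCyclic.exists_ofOrder_eq_natCard (α := Kˣ)
  rw [Nat.card_units, Module.natCard_eq_pow_finrank (K := F), hK.finrank_eq, Nat.card_eq_fintype_card] at hg
  have h1 := orderOf_pow_orderOf_div (orderOf_pos g).ne' (hg ▸ hl)
  generalize g ^ (orderOf g / l) = s at h1
  have h2 : IsPrimitiveRoot (s : K) l := IsPrimitiveRoot.coe_units_iff.2 (h1 ▸ IsPrimitiveRoot.orderOf s)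
  have h3 : orderOf (Units.map (K.val : K →* Matrix (Fin n) (Fin n) F) s) = l :=
    (orderOf_injective _ (Units.map_injective Subtype.val_injective) s).trans h1
  refine ⟨_, s.1.2, h3, fun g hg => ?_⟩
  obtain ⟨j, hj, e⟩ := h2.eq_pow_of_pow_eq_one (ξ := ⟨_, (hg _).1 s.1.2⟩) (Subtype.ext (by
    show ((g * Units.map (K.val : K →* Matrix (Fin n) (Fin n) F) s * g⁻¹).1) ^ l = 1
    rw [← Units.val_pow_eq_pow_val, conj_pow, ← h3, pow_orderOf_eq_one]; simp))
  exact ⟨j, hj, mul_inv_eq_iff_eq_mul.1 (Units.ext (congrArg Subtype.val e).symm)⟩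

theorem mem_GU_of_ac [NeZero n] (hq : IsConj σ q) {r : ℕ} {K : Subalgebra F (Matrix (Fin n) (Fin n) F)}
    (hK : IsFieldSubalgebra r K) (hA : IsAdjointClosedFor (hermForm n F q) K) {t : GL (Fin n) F} (ht : t.1 ∈ K)
    (h : orderOf t ∣ q ^ r + 1) : t ∈ GU n F q := by
  letI := (IsFieldSubalgebra.isField hK).toField
  have hm := hm_hermForm hq n
  replace hA := hm.isAdjointClosedFor.1 hA
  obtain ⟨a, ha⟩ := hq.exists_not_fixed
  have h1 : hm.adjRing hK.comm hA (algebraMap F K a) = algebraMap F K (σ a) :=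
    Subtype.ext (by
      change adj σ _ (algebraMap F _ a) = algebraMap F _ (σ a)
      rw [Algebra.algebraMap_eq_smul_one, Algebra.algebraMap_eq_smul_one, hm.adj_smul, hm.adj_one])
  obtain ⟨s, hs⟩ := Forms.exists_isConj (σ := hm.adjRing hK.comm hA)
    (fun h0 => ha ((algebraMap F K).injective (by rw [← h1, h0]; rfl)))
    fun x => Subtype.ext (hm.adj_adj _)
  have h2 := hs.card
  rw [Module.natCard_eq_pow_finrank (K := F), hK.finrank_eq, hq.card, ← pow_mul, mul_comm, pow_mul] at h2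
  obtain rfl := Nat.pow_left_injective two_ne_zero h2
  have h3 : adj σ _ t.1 = t.1 ^ q ^ r := congrArg Subtype.val (hs.apply ⟨_, ht⟩)
  refine hm.mem_isoG_of_adj ?_
  rw [h3, ← pow_succ, ← Units.val_pow_eq_pow_val, orderOf_dvd_iff_pow_eq_one.1 h, Units.val_one]

theorem conj_pr {Γ : Type*} [Group Γ] [Finite Γ] {N : Subgroup Γ} {l : ℕ} [Fact l.Prime]
    (hN : (Nat.card N).factorization l = 1) {t t₀ : Γ} (ht : t ∈ N) (ht₀ : t₀ ∈ N) (o : orderOf t = l)
    (o₀ : orderOf t₀ = l) : ∃ P ∈ N, ∀ g, (∃ j < l, g * t = t ^ j * g) →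
      ∃ j < l, P⁻¹ * g * P * t₀ = t₀ ^ j * (P⁻¹ * g * P) := by
  classical
  obtain ⟨P, hP, h⟩ := sylow_conj hN ((Subgroup.zpowers_le).2 ht) ((Subgroup.zpowers_le).2 ht₀)
    (by rw [Nat.card_zpowers, o, pow_one]) (by rw [Nat.card_zpowers, o₀, pow_one])
  refine ⟨P, hP, fun g ⟨j, _, e⟩ => ?_⟩
  obtain ⟨k, hk⟩ := (h t₀).1 (Subgroup.mem_zpowers _)
  have := (h (P⁻¹ * g * P * t₀ * (P⁻¹ * g * P)⁻¹)).2 (by
    rw [show P * (P⁻¹ * g * P * t₀ * (P⁻¹ * g * P)⁻¹) * P⁻¹ = g * (P * t₀ * P⁻¹) * g⁻¹ by group, ← hk, ← conj_zpow, e,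
      mul_inv_cancel_right]
    exact zpow_mem (pow_mem (Subgroup.mem_zpowers _) _) _)
  obtain ⟨i, hi, e⟩ := Finset.mem_image.1 (mem_zpowers_iff_mem_range_orderOf.1 this)
  exact ⟨i, o₀ ▸ Finset.mem_range.1 hi, by rw [e, inv_mul_cancel_right]⟩

theorem Enc.order (E : Enc T F σ) {l : ℕ} [Fact l.Prime] {t : GL (Fin n) F}
    (h : (T.pw n (E.m t.1) l == idL n && E.m t.1 != idL n) = true) : orderOf t = l := by
  simp only [← E.m_pow, ← E.m_one, Bool.and_eq_true, beq_iff_eq, bne_iff_ne] at h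
  exact orderOf_eq_prime (Units.ext (E.m_inj h.1)) fun e => h.2 (by rw [e]; rfl)

/-- All checks for the normaliser of a field of full degree. -/
noncomputable def fldChk (T : Tb) (n l : ℕ) (ig : List (List ℕ) → Bool) (c : List ℕ → Bool) (L : List ℕ)
    (t B x y : List (List ℕ)) (LB : List (List (List ℕ))) (v : List ℕ) : Prop :=
  let τ := fun u => bit (msk L) (T.code u)
  (T.shape n t && ig t && (T.pw n t l == idL n && t != idL n)) = true ∧
  LB.all (fun a => T.shape n a && ig a && T.pt n τ L a) = true ∧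
  allB l (fun j => !(T.trc n (T.pw n t j) == T.trc n t && T.det n (T.pw n t j) == T.det n t) ||
    LB.any fun b => T.mm n b t == T.mm n (T.pw n t j) b) = true ∧
  allB l (fun j => T.mm n x t != T.mm n (T.pw n t j) x) = true ∧
  (T.shape n B && T.mm n (trL n (T.itr t n ((idL n).getD 0 []))) B == idL n) = true ∧
  allV T.Q n (fun v => !c v || (!ig (T.mm n (trL n (T.itr t n v)) B) ||
    T.pt n τ L (T.mm n (trL n (T.itr t n v)) B))) = true ∧
  (T.shape n x && ig x && T.pt n τ L x && (T.shape n y && ig y) && (v.length == n && v.all (· < T.Q) && τ v &&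
    !τ (T.mv y v))) = true

omit [Fintype F] in
theorem cov_msk (T : Tb) (n : ℕ) (L : List ℕ) : T.cov n (fun u => bit (msk L) (T.code u)) L = true := by
  have : ∀ (n : ℕ) (f : List ℕ → Bool), (∀ l, f l = true) → allV T.Q n f = true := fun n => by
    induction n with
    | zero => exact fun f h => h _
    | succ n ih =>
      have : ∀ (k : ℕ) (f : ℕ → Bool), (∀ l, f l = true) → allB k f = true := fun k f h => by
        induction k with
        | zero => rfl
        | succ k ih' => exact Bool.and_eq_true_iff.2 ⟨h _, ih'⟩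
      exact fun f h => this _ _ fun a => ih _ fun l => h _
  exact this _ _ (by simp)

theorem Cx.fld [NeZero n] {E : Enc T F σ} {G N H : Subgroup (GL (Fin n) F)} {ig c L} {l : ℕ} [Fact l.Prime]
    (C : Cx E G ig (fun u => bit (msk L) (T.code u)) L) (hH : IsMaximalIn G H) (hG : G ≤ N)
    (hN : (Nat.card N).factorization l = 1) (hP : ∀ P ∈ N, ∀ g, g ∈ G ↔ P⁻¹ * g * P ∈ G)
    (hc : ∀ y ∈ G, c (E.v (y.1 *ᵥ Pi.single 0 1)) = true) {t : GL (Fin n) F} (ht : t ∈ N) (o : orderOf t = l)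
    (h : ∀ g ∈ H, ∃ j < l, g * t = t ^ j * g) {t₀ B x y LB v} (hh : fldChk T n l ig c L t₀ B x y LB v) : False := by
  obtain ⟨h1, h2, h3, h4, h5, h6, h7⟩ := hh
  rw [Bool.and_eq_true] at h1
  obtain ⟨t₀, h8, rfl⟩ := C.exists_g h1.1
  obtain ⟨P, h9, h10⟩ := conj_pr hN ht (hG h8) o (E.order h1.2)
  exact C.nm hH (hP P h9) (fun g hg => h10 g (h g hg)) (C.red h2 h3 (C.cent hc h5 h6)) (Cx.not_pr h4) h7

theorem fld_su [NeZero n] (hq : IsConj σ q) (E : Enc T F σ) {H : Subgroup (GL (Fin n) F)}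
    (hH : IsMaximalIn (GU n F q ⊓ specialLinear (Fin n) F) H) {K : Subalgebra F (Matrix (Fin n) (Fin n) F)}
    (hK : IsFieldSubalgebra n K) (hA : IsAdjointClosedFor (hermForm n F q) K) (h : H ≤ subalgebraNormalizer K)
    {l : ℕ} [Fact l.Prime] (h1 : l ∣ (q ^ 2) ^ n - 1) (h2 : l ∣ q ^ n + 1) (h3 : (q ^ (n * (n - 1) / 2) *
      ∏ i ∈ Finset.range n, (if Even i then q ^ (i + 1) + 1 else q ^ (i + 1) - 1)).factorization l = 1)
    {L t₀ B x y LB v} (hh : fldChk T n l (T.isSU n) (fun v => T.hm v v == 1) L t₀ B x y LB v) : False := by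
  have hF := Nat.card_eq_fintype_card.symm.trans hq.card
  obtain ⟨t, h4, h5, h6⟩ := exists_t hK (hF ▸ h1)
  refine (E.cx_su hq (cov_msk T n L)).fld hH inf_le_left (by rwa [Agent.S0277.result hF]) (fun P hP => conj_SU hP)
    (fun y hy => ?_) (mem_GU_of_ac hq hK hA h4 (h5 ▸ h2)) h5 (fun g hg => h6 g (h hg)) hh
  simpa [Matrix.col] using E.hm_col hq hy.1 0 0

end Cfsg.Lib.Linear.Nm
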