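/-
Normal forms for frames, subfield structures and extraspecial groups in small unitary groups.
-/
import Cfsg.Agent.Lib.Linear.NmC
import Cfsg.Agent.S0278

set_option autoImplicit false

namespace Cfsg.Lib.Linear.Nm

open Matrix Cfsg.Geo Cfsg.Lib.Asch Cfsg.Lib.Forms

variable {T : Tb} {F : Type*} [Field F] {σ : F →+* F} {q n : ℕ}

theorem mem_GU' (hq : IsConj σ q) {g : GL (Fin n) F} : g ∈ GU n F q ↔ g.1ᵀ * g.1.map σ = 1 := by
  rw [mem_GU hq, ← transpose_eq_one, transpose_mul, transpose_transpose, mul_eq_one_comm]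

theorem Enc.m_row (E : Enc T F σ) (A : Matrix (Fin n) (Fin n) F) (i : Fin n) : (E.m A).getD i [] = E.v (A i) := by
  simp [Enc.m]

theorem Enc.v_get (E : Enc T F σ) (x : Fin n → F) (i : Fin n) : (E.v x).getD i 0 = E.e (x i) := by simp [Enc.v]

theorem Enc.m_conj (E : Enc T F σ) (A : Matrix (Fin n) (Fin n) F) : E.m (A.map σ) = (E.m A).map T.cv := by
  simp only [Enc.m, List.map_ofFn, Function.comp_def, ← E.v_conj]; rfl

theorem Enc.e_eq_zero (E : Enc T F σ) {x : F} : E.e x = 0 ↔ x = 0 := by rw [← E.zero, E.inj.eq_iff]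

/-- Monomial matrices. -/
def IsMon (g : GL (Fin n) F) : Prop := ∃ π : Equiv.Perm (Fin n), ∀ i j, i ≠ π j → g.1 i j = 0

theorem exists_mon (hq : IsConj σ q) {D : Fin n → Submodule F (Fin n → F)}
    (hD : IsNondegenerateMDecomposition (hermForm n F q) 1 D) :
    ∃ P ∈ GU n F q, ∀ g ∈ decompositionStabilizer D, IsMon (P⁻¹ * g * P) := by
  have hm := hm_hermForm hq n
  obtain ⟨e, P, h3, h4⟩ := hm.exists_onb_blk hq hD
  refine ⟨P, fun u v => ?_, fun g hg => ?_⟩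
  · have := congrFun (congrFun (hm.pull e P).eq_fG (u ∘ e.symm)) (v ∘ e.symm)
    rw [h4, fG_eq, one_mulVec, pull, vec_apply, vec_apply] at this
    simp only [Function.comp_assoc, Equiv.symm_comp_self, Function.comp_id] at this
    refine this.trans ?_
    rw [herm_eq hq, dotProduct, dotProduct, ← e.sum_comp]; simp
  · obtain ⟨π, d, -, h⟩ := h3.exists_mon hg
    refine ⟨e.trans ((π.prodCongr (Equiv.refl _)).trans e.symm), fun i j hij => ?_⟩
    have : (P⁻¹ * g * P).1 = (mon π d).submatrix e e := by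
      rw [Units.val_mul, Units.val_mul, h, tr_apply, cj_apply]; simp [Matrix.mul_assoc]
    rw [this, submatrix_apply, mon, bm_apply, if_neg fun h => hij ?_]
    exact e.injective (Prod.ext (by simpa using h) (Subsingleton.elim _ _))

theorem Enc.not_mon (E : Enc T F σ) {x : List (List ℕ)} (i k j : Fin n)
    (h : (i != k && (x.getD i []).getD j 0 != 0 && (x.getD k []).getD j 0 != 0) = true) (g : GL (Fin n) F)
    (hg : E.m g.1 = x) : ¬ IsMon g := by
  rintro ⟨π, hπ⟩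
  simp only [← hg, E.m_row, E.v_get, Bool.and_eq_true, bne_iff_ne, ne_eq, E.e_eq_zero] at h
  by_cases e : i = π j
  exacts [h.2 (hπ k j fun e' => h.1.1 (e.trans e'.symm)), h.1.2 (hπ i j e)]

/-- Matrices that are real up to a scalar. -/
def IsRe (σ : F →+* F) (g : GL (Fin n) F) : Prop := ∀ i j k l, g.1 i j * σ (g.1 k l) = σ (g.1 i j) * g.1 k l

theorem mem_sub_iff [NeZero n] {g : GL (Fin n) F} : g ∈ subfieldSubgroup (fixF σ) 1 ↔ IsRe σ g := by
  simp only [mem_subfieldSubgroup_iff, Ratl, inv_one, cj_apply, Units.val_one, Matrix.one_mul, Matrix.mul_one, mem_fixF,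
    Matrix.smul_apply, smul_eq_mul, map_mul]
  refine ⟨fun ⟨c, hc, h⟩ i j k l => mul_left_cancel₀ (mul_ne_zero hc ((map_ne_zero σ).2 hc)) (by
    linear_combination (c * g.1 i j) * h k l - c * g.1 k l * h i j), fun h => ?_⟩
  obtain ⟨a, b, h0⟩ : ∃ a b, g.1 a b ≠ 0 := by
    by_contra hc
    push Not at hc
    exact g.ne_zero (Matrix.ext hc)
  refine ⟨(g.1 a b)⁻¹, inv_ne_zero h0, fun i j => ?_⟩
  have := (map_ne_zero σ).2 h0
  rw [map_inv₀]; field_simp; linear_combination h a b i j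

theorem Enc.not_re (E : Enc T F σ) {x : List (List ℕ)} (i k : Fin n) (h : T.rr (x.getD i []) (x.getD k []) = false)
    (g : GL (Fin n) F) (hg : E.m g.1 = x) : ¬ IsRe σ g := fun h' => by
  rw [← hg, E.m_row, E.m_row, E.rr_of fun j l => h' i j k l] at h
  exact absurd h (by simp)

theorem Enc.exists_real [Fintype F] (E : Enc T F σ) (hq : IsConj σ q) (h2 : (2 : F) ≠ 0) {F₀ : Subfield F}
    {P₀ : GL (Fin 3) F} (hc : Fintype.card F = Nat.card F₀ ^ 2) (h1 : IsFormRationalStructure (hermForm 3 F q) F₀ 1 P₀)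
    {W : List (List (List ℕ))} (hW : Nm.allV T.Q 3 (fun d => !(d.all fun a => a != 0 && op T.J 0 a == a) ||
      W.any fun w => T.mm 3 (T.mm 3 (trL 3 w) [[d.getD 0 0, 0, 0], [0, d.getD 1 0, 0], [0, 0, d.getD 2 0]]) (w.map T.cv) ==
        idL 3 && (T.shape 3 w && w.all fun r => w.all fun s => T.rr r s)) = true) :
    ∃ P ∈ GU 3 F q, ∀ g ∈ subfieldSubgroup F₀ P₀, IsRe σ (P⁻¹ * g * P) := by
  obtain rfl := eq_fixF hq.σσ hq.ne_id hc
  have h3 : ∀ i j, (P₀.1ᵀ * P₀.1.map σ) i j ∈ fixF σ := fun i j => by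
    have := h1 (Pi.single i 1) (Pi.single j 1) (fun k => by rw [Pi.single_apply]; split_ifs <;> simp [mem_fixF])
      fun k => by rw [Pi.single_apply]; split_ifs <;> simp [mem_fixF]
    rw [herm_eq hq, one_mul, mulVec_single_one, mulVec_single_one] at this
    exact this
  let G : Matrix (Fin 3) (Fin 3) (fixF σ) := of fun i j => ⟨_, h3 i j⟩
  have hG : G.map (fixF σ).subtype = P₀.1ᵀ * P₀.1.map σ := rfl
  have hs : Gᵀ = G := Matrix.ext fun i j => Subtype.ext (by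
    refine ((mem_fixF.1 (h3 j i)).symm.trans ?_ : (P₀.1ᵀ * P₀.1.map σ) j i = (P₀.1ᵀ * P₀.1.map σ) i j)
    simp [mul_apply, hq.σσ, mul_comm])
  letI : Invertible (2 : fixF σ) := invertibleOfNonzero fun h => h2 (congrArg Subtype.val h)
  obtain ⟨v, hv⟩ := LinearMap.BilinForm.exists_orthogonal_basis (B := Matrix.toBilin' G) ⟨fun x y => by
    simp only [toBilin'_apply', RingHom.id_apply]
    rw [dotProduct_mulVec, ← mulVec_transpose, hs, dotProduct_comm]⟩
  let b := v.reindex (finCongr (Module.finrank_fin_fun (fixF σ)))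
  let A := (Pi.basisFun (fixF σ) (Fin 3)).toMatrix b
  have hA : A.det ≠ 0 := ((Pi.basisFun (fixF σ) (Fin 3)).isUnit_det b).ne_zero
  have hD : Aᵀ * G * A = diagonal fun i => (Aᵀ * G * A) i i := Matrix.ext fun i j => by
    rcases eq_or_ne i j with rfl | h
    · simp
    have : Matrix.toBilin' G (b i) (b j) = 0 := by
      simp only [b, Module.Basis.reindex_apply]
      exact hv fun e => h ((finCongr _).symm.injective e)
    rw [diagonal_apply_ne _ h, ← this, toBilin'_apply', Matrix.mul_assoc]; rfl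
  let A' := GeneralLinearGroup.map (fixF σ).subtype (GeneralLinearGroup.mkOfDetNeZero A hA)
  have hA' : A'.1 = A.map (fixF σ).subtype := rfl
  have hA'' : A'.1.map σ = A'.1 := Matrix.ext fun i j => mem_fixF.1 (A i j).2
  obtain ⟨d, h4, h5⟩ : ∃ d : Fin 3 → F, (∀ i, σ (d i) = d i) ∧ (P₀ * A').1ᵀ * (P₀ * A').1.map σ = diagonal d := by
    refine ⟨fun i => (Aᵀ * G * A) i i, fun i => mem_fixF.1 (Subtype.prop _), ?_⟩
    rw [Units.val_mul, transpose_mul, Matrix.map_mul, hA'', Matrix.mul_assoc, ← Matrix.mul_assoc P₀.1ᵀ, ← hG, hA',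
      ← transpose_map, ← Matrix.map_mul, ← Matrix.map_mul, ← Matrix.mul_assoc, hD, diagonal_map (map_zero _)]
    simp
  have h6 : ∀ i, d i ≠ 0 := fun i h => by
    have := congrArg det h5
    rw [det_mul, det_transpose, ← RingHom.mapMatrix_apply, ← RingHom.map_det, det_diagonal,
      Finset.prod_eq_zero (Finset.mem_univ i) h] at this
    exact mul_ne_zero (P₀ * A').det_ne_zero ((map_ne_zero σ).2 (P₀ * A').det_ne_zero) this
  have h7 := E.allV hW d
  have h8 : ((E.v d).all fun a => a != 0 && op T.J 0 a == a) = true := by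
    simp [Enc.v, ← E.fr, h4, E.e_eq_zero, h6]
  have h9 : [[(E.v d).getD 0 0, 0, 0], [0, (E.v d).getD 1 0, 0], [0, 0, (E.v d).getD 2 0]] = E.m (diagonal d) := by
    simp [Enc.v, Enc.m, List.ofFn_succ, E.zero]
  rw [h8, h9] at h7
  obtain ⟨w, -, h10⟩ := List.any_eq_true.1 h7
  simp only [Bool.and_eq_true] at h10
  obtain ⟨w, rfl⟩ := E.exists_m h10.2.1
  rw [← E.m_conj, ← E.m_tr, ← E.m_mul, ← E.m_mul, ← E.m_one, beq_iff_eq] at h10
  have h11 := E.m_inj h10.1
  let w' := GeneralLinearGroup.mkOfDetNeZero w fun h => by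
    have := congrArg det h11
    rw [det_mul, det_mul, det_transpose, h] at this
    simp at this
  have h12 : w' ∈ subfieldSubgroup (fixF σ) 1 := mem_sub_iff.2 fun i j k l => by
    have := h10.2.2
    simp only [Tb.rr, Enc.m, Enc.v, List.all_eq_true, List.mem_ofFn, forall_exists_index, forall_apply_eq_imp_iff,
      beq_iff_eq, ← E.fr, ← E.mul, E.inj.eq_iff] at this
    exact this i k j l
  have h13 : A' ∈ subfieldSubgroup (fixF σ) 1 := mem_sub_iff.2 fun i j k l => by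
    rw [show σ (A'.1 k l) = A'.1 k l from congrFun (congrFun hA'' k) l,
      show σ (A'.1 i j) = A'.1 i j from congrFun (congrFun hA'' i) j]
  refine ⟨P₀ * A' * w', (mem_GU' hq).2 ?_, fun g hg => mem_sub_iff.1 ?_⟩
  · rw [Units.val_mul, transpose_mul, Matrix.map_mul, Matrix.mul_assoc, ← Matrix.mul_assoc (P₀ * A').1ᵀ, h5,
      ← Matrix.mul_assoc]
    exact h11
  · have : P₀⁻¹ * g * P₀ ∈ subfieldSubgroup (fixF σ) 1 := by
      obtain ⟨c, hc, h⟩ := mem_subfieldSubgroup_iff.1 hg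
      exact mem_subfieldSubgroup_iff.2 ⟨c, hc, by simpa [Ratl, cj_apply] using h⟩
    simpa [mul_assoc] using mul_mem (mul_mem (inv_mem (mul_mem h13 h12)) this) (mul_mem h13 h12)

theorem le_sl_of_extra (h6 : (6 : F) ≠ 0) {R : Subgroup (GL (Fin 3) F)} (h1 : IsSymplecticTypeGroup 3 R)
    (h2 : ActsAbsolutelyIrreducibly (matrixSet R)) (h3 : Nat.card R = 27) (h4 : Nat.card (Subgroup.center R) = 3) :
    R ≤ specialLinear (Fin 3) F := by
  have hz : ∀ z : R, z ∈ Subgroup.center R → ∃ c : F, z.1.1 = c • 1 := fun z hz => h2.2 _ (by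
    rintro _ ⟨s, hs, rfl⟩
    exact congrArg (·.1.1) (Subgroup.mem_center_iff.1 hz ⟨s, hs⟩).symm)
  have he : ∀ r : R, r.1.1 ^ 3 = 1 := fun r => by
    have := Monoid.pow_exponent_eq_one r
    rw [h1.exponent_eq] at this
    exact congrArg (·.1.1) this
  haveI : Fact (Nat.Prime 3) := ⟨Nat.prime_three⟩
  have h5 : Nat.card (R ⧸ Subgroup.center R) = 3 ^ 2 := by
    have := (Subgroup.center R).card_eq_card_quotient_mul_card_subgroup
    rw [h3, h4] at this
    omega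
  intro r hr
  rw [mem_sl]
  by_cases h : (⟨r, hr⟩ : R) ∈ Subgroup.center R
  · obtain ⟨c, hc⟩ := hz _ h
    have := he ⟨r, hr⟩
    rw [hc, smul_pow, one_pow] at this
    rw [show r.1 = c • 1 from hc]
    simpa using congrFun (congrFun this 0) 0
  obtain ⟨s, hs⟩ : ∃ s : R, s * ⟨r, hr⟩ ≠ ⟨r, hr⟩ * s := by simpa [Subgroup.mem_center_iff] using h
  obtain ⟨c, hc⟩ := hz (s * ⟨r, hr⟩ * s⁻¹ * ⟨r, hr⟩⁻¹) ((QuotientGroup.eq_one_iff _).1 (by
    simp [(IsPGroup.isMulCommutative_of_card_eq_prime_sq h5).is_comm.comm (s : R ⧸ Subgroup.center R)]))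
  have h7 : s.1.1 * r.1 * (s.1⁻¹).1 = c • r.1 := by
    have := congrArg (· * r.1) hc
    simpa [Matrix.mul_assoc] using this
  have h8 : r.1.trace = 0 := by
    have := congrArg trace h7
    rw [trace_units_conj, trace_smul, smul_eq_mul] at this
    refine by_contra fun h0 => hs (Subtype.ext (Units.ext ?_))
    have h9 : c = 1 := mul_right_cancel₀ h0 (by rw [← this, one_mul])
    rw [h9, one_smul] at h7
    simpa [Matrix.mul_assoc] using congrArg (· * s.1.1) h7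
  have h9 : 6 * r.1.det = r.1.trace ^ 3 - 3 * r.1.trace * (r.1 ^ 2).trace + 2 * (r.1 ^ 3).trace := by
    simp [det_fin_three, trace_fin_three, pow_succ, mul_apply, Fin.sum_univ_three]; ring
  rw [h8, show r.1 ^ 3 = 1 from he ⟨r, hr⟩, trace_one] at h9
  exact mul_left_cancel₀ h6 (by simpa [show (2 : F) * 3 = 6 by norm_num] using h9)

theorem card_SU [Fintype F] : Nat.card ↥(GU n F q ⊓ specialLinear (Fin n) F) = Nat.card (SU n F q) := by
  rw [← Subgroup.card_map_of_injective (K := SU n F q) SpecialLinearGroup.toGL_injective]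
  congr 2
  ext g
  exact ⟨fun h => ⟨⟨g.1, mem_sl.1 h.2⟩, h.1, Units.ext rfl⟩, by rintro ⟨a, ha, rfl⟩; exact ⟨ha, mem_sl.2 a.2⟩⟩

theorem Cx.exists_sub [Fintype F] {E : Enc T F σ} {G : Subgroup (GL (Fin n) F)} {ig τ L} (C : Cx E G ig τ L)
    {LR : List (List (List ℕ))} (h : (LR.all (fun a => T.shape n a && ig a && LR.all fun b => LR.contains (T.mm n a b)) &&
      LR.contains (idL n) && decide LR.Nodup) = true) :
    ∃ R ≤ G, Nat.card R = LR.length ∧ ∀ g, g ∈ R ↔ E.m g.1 ∈ LR := by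
  simp only [Bool.and_eq_true, List.all_eq_true, List.contains_iff_mem, decide_eq_true_eq] at h
  let S : Submonoid (GL (Fin n) F) := ⟨⟨{g | E.m g.1 ∈ LR}, fun {a b} ha hb => by
    show E.m (a.1 * b.1) ∈ LR
    rw [E.m_mul]; exact (h.1.1 _ ha).2 _ hb⟩, by show E.m 1 ∈ LR; rw [E.m_one]; exact h.1.2⟩
  refine ⟨⟨S, fun {g} hg => (Submonoid.powers_le.2 hg) ((isOfFinOrder_of_finite g).mem_powers_iff_mem_zpowers.2
    (inv_mem (Subgroup.mem_zpowers g)))⟩, fun g hg => (C.mem g).2 (h.1.1 _ hg).1.2, ?_, fun _ => Iff.rfl⟩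
  rw [← List.toFinset_card_of_nodup h.2, ← Nat.card_eq_finsetCard]
  refine Nat.card_congr (Equiv.ofBijective (fun g => ⟨E.m g.1.1, List.mem_toFinset.2 g.2⟩)
    ⟨fun a b e => Subtype.ext (Units.ext (E.m_inj (congrArg Subtype.val e))), fun a => ?_⟩)
  have ha := List.mem_toFinset.1 a.2
  obtain ⟨g, -, e⟩ := C.exists_g (Bool.and_eq_true_iff.2 (h.1.1 _ ha).1)
  exact ⟨⟨g, show E.m g.1 ∈ LR from e ▸ ha⟩, Subtype.ext e⟩

/-- All checks for a subgroup of `SU₃` described by its columns. -/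
noncomputable def colChk (T : Tb) (φ : List ℕ → Bool) (rel : List ℕ → List ℕ → Bool) (L LU : List ℕ)
    (gs : List (List (List ℕ))) (S : List (List (List ℕ) × ℕ × ℕ)) (x y : List (List ℕ)) (v : List ℕ) : Prop :=
  let τ := fun u => bit (msk L) (T.code u)
  T.cov 3 φ LU = true ∧ gs.all (fun a => T.shape 3 a && T.isSU 3 a && T.pt 3 τ L a) = true ∧ T.slp 3 gs S = true ∧
  LU.all (fun a => (LU.filter fun b => rel (T.dec 3 a) (T.dec 3 b)).all fun b =>
    (LU.filter fun b => rel (T.dec 3 a) (T.dec 3 b)).all fun c => !(T.hm (T.dec 3 b) (T.dec 3 c) == 0) ||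
      (!T.isSU 3 (trL 3 [T.dec 3 a, T.dec 3 b, T.dec 3 c]) || ok 3 S (trL 3 [T.dec 3 a, T.dec 3 b, T.dec 3 c]))) = true ∧
  (T.shape 3 x && T.isSU 3 x && T.pt 3 τ L x && (T.shape 3 y && T.isSU 3 y) && (v.length == 3 && v.all (· < T.Q) &&
    τ v && !τ (T.mv y v))) = true

section

variable [Fintype F] (hq : IsConj σ q) (E : Enc T F σ) {H : Subgroup (GL (Fin 3) F)}
  (hH : IsMaximalIn (GU 3 F q ⊓ specialLinear (Fin 3) F) H)
include hq E hH

theorem col_su {P : GL (Fin 3) F} (hP : P ∈ GU 3 F q) {Pr : GL (Fin 3) F → Prop} (h1 : ∀ g ∈ H, Pr (P⁻¹ * g * P))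
    {φ rel L LU gs S x y v} (h2 : ∀ g ∈ GU 3 F q, Pr g → (∀ j, φ (E.v (g.1ᵀ j)) = true) ∧
      ∀ j ≠ 0, rel (E.v (g.1ᵀ 0)) (E.v (g.1ᵀ j)) = true) (hx : ∀ g, E.m g.1 = x → ¬ Pr g)
    (h : colChk T φ rel L LU gs S x y v) : False := by
  have C := E.cx_su hq (cov_msk T 3 L)
  exact C.nm hH (conj_SU hP) h1 (fun g hg h3 => (E.slp_mem (fun a ha => C.good (List.all_eq_true.1 h.2.1 a ha)) h.2.2.1
    (E.col3 h.1 h.2.2.2.1 (h2 g hg.1 h3).1 (h2 g hg.1 h3).2 (E.hm_col hq hg.1 1 2) ((C.mem g).1 hg))).2) hx h.2.2.2.2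

theorem dec_su {D : Fin 3 → Submodule F (Fin 3 → F)} (hD : IsNondegenerateMDecomposition (hermForm 3 F q) 1 D)
    (h1 : H ≤ decompositionStabilizer D) {L LU gs S x y v} (i k j : Fin 3)
    (hx : (i != k && (x.getD i []).getD j 0 != 0 && (x.getD k []).getD j 0 != 0) = true)
    (h : colChk T (fun u => T.hm u u == 1 && (u.getD 0 0 == 0 && u.getD 1 0 == 0 || u.getD 0 0 == 0 && u.getD 2 0 == 0 ||
      u.getD 1 0 == 0 && u.getD 2 0 == 0)) (fun u v => T.hm u v == 0) L LU gs S x y v) : False := by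
  obtain ⟨P, hP, h2⟩ := exists_mon hq hD
  refine col_su hq E hH hP (fun g hg => h2 g (h1 hg)) (fun g hg ⟨π, hπ⟩ => ⟨fun j => ?_, fun j hj => ?_⟩)
    (E.not_mon i k j hx) h
  · have e0 := E.v_get (g.1ᵀ j) 0
    have e1 := E.v_get (g.1ᵀ j) 1
    have e2 := E.v_get (g.1ᵀ j) 2
    simp only [Fin.val_zero, Fin.val_one, Fin.val_two, transpose_apply] at e0 e1 e2
    have := fun i => hπ i j
    rw [E.hm_col hq hg, e0, e1, e2]
    generalize π j = a at this
    fin_cases a <;> simp [E.e_eq_zero, this]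
  · simp [E.hm_col hq hg, hj.symm]

theorem orth_su (h2 : (2 : F) ≠ 0) {F₀ : Subfield F} {P₀ : GL (Fin 3) F} (hc : Fintype.card F = Nat.card F₀ ^ 2)
    (h0 : IsFormRationalStructure (hermForm 3 F q) F₀ 1 P₀) (h1 : H ≤ subfieldSubgroup F₀ P₀)
    {W : List (List (List ℕ))} (hW : allV T.Q 3 (fun d => !(d.all fun a => a != 0 && op T.J 0 a == a) ||
      W.any fun w => T.mm 3 (T.mm 3 (trL 3 w) [[d.getD 0 0, 0, 0], [0, d.getD 1 0, 0], [0, 0, d.getD 2 0]]) (w.map T.cv) ==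
        idL 3 && (T.shape 3 w && w.all fun r => w.all fun s => T.rr r s)) = true) {L LU gs S x y v} (i k : Fin 3)
    (hx : T.rr (x.getD i []) (x.getD k []) = false)
    (h : colChk T (fun u => T.hm u u == 1 && T.rr u u) (fun u v => T.hm u v == 0 && T.rr u v) L LU gs S x y v) :
    False := by
  obtain ⟨P, hP, h2⟩ := E.exists_real hq h2 hc h0 hW
  refine col_su hq E hH hP (fun g hg => h2 g (h1 hg)) (fun g hg h3 => ⟨fun j => ?_, fun j hj => ?_⟩)
    (E.not_re i k hx) h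
  · simp [E.hm_col hq hg, E.rr_of (u := g.1ᵀ j) (v := g.1ᵀ j) fun a b => h3 a j b j]
  · simp [E.hm_col hq hg, hj.symm, E.rr_of (u := g.1ᵀ 0) (v := g.1ᵀ j) fun a b => h3 a 0 b j]

theorem ext_su {R : Subgroup (GL (Fin 3) F)} (h1 : R ≤ GU 3 F q ⊓ specialLinear (Fin 3) F) (h2 : Nat.card R = 27)
    (h3 : H ≤ subgroupNormalizer R) (h4 : (Nat.card (SU 3 F q)).factorization 3 = 3) {L : List ℕ}
    {LR gs : List (List (List ℕ))} {S : List (List (List ℕ) × ℕ × ℕ)} {A B X x y : List (List ℕ)} {v : List ℕ}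
    (c1 : (LR.all (fun a => T.shape 3 a && T.isSU 3 a && LR.all fun b => LR.contains (T.mm 3 a b)) &&
      LR.contains (idL 3) && decide LR.Nodup) = true) (c2 : LR.length = 27 ∧ A ∈ LR ∧ B ∈ LR ∧ X ∈ LR ∧ A ≠ idL 3 ∧
      T.mv A [1, 0, 0] = [1, 0, 0] ∧ trL 3 (T.itr B 3 [1, 0, 0]) = idL 3 ∧ ∀ a ∈ LR, T.mm 3 x X ≠ T.mm 3 a x)
    (c3 : gs.all (fun a => T.shape 3 a && T.isSU 3 a && T.pt 3 (fun u => bit (msk L) (T.code u)) L a) = true)
    (c4 : T.slp 3 gs S = true) (c5 : allV T.Q 3 (fun u => !(T.hm u u == 1) || (!(LR.any fun a => T.mv a u == u &&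
      a != idL 3) || LR.all fun b => !T.isSU 3 (trL 3 (T.itr b 3 u)) || ok 3 S (trL 3 (T.itr b 3 u)))) = true)
    (c6 : (T.shape 3 x && T.isSU 3 x && T.pt 3 (fun u => bit (msk L) (T.code u)) L x && (T.shape 3 y && T.isSU 3 y) &&
      (v.length == 3 && v.all (· < T.Q) && bit (msk L) (T.code v) && !bit (msk L) (T.code (T.mv y v)))) = true) :
    False := by
  have C := E.cx_su hq (cov_msk T 3 L)
  obtain ⟨R₀, h5, h6, h7⟩ := C.exists_sub c1
  haveI : Fact (Nat.Prime 3) := ⟨Nat.prime_three⟩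
  obtain ⟨P, hP, h8⟩ := sylow_conj (p := 3) (k := 3) (by rwa [card_SU]) h1 h5 h2 (h6.trans c2.1)
  have ex : ∀ a ∈ LR, ∃ g ∈ R₀, E.m g.1 = a := fun a ha => by
    simp only [Bool.and_eq_true, List.all_eq_true] at c1
    obtain ⟨g, -, e⟩ := C.exists_g (Bool.and_eq_true_iff.2 (c1.1.1 a ha).1)
    exact ⟨g, (h7 g).2 (e ▸ ha), e⟩
  have e0 : E.v (Pi.single (0 : Fin 3) (1 : F)) = [1, 0, 0] := E.v_e0
  refine C.nm hH (conj_SU hP.1) (Pr := fun g => ∀ r ∈ R₀, g * r * g⁻¹ ∈ R₀) (fun g hg r hr => (h8 _).2 ?_)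
    (fun g hg h9 => (E.slp_mem (fun a ha => C.good (List.all_eq_true.1 c3 a ha)) c4 ?_).2) (fun g hg h9 => ?_) c6
  · convert (Subgroup.mem_normalizer_iff.1 (h3 hg) _).1 ((h8 r).1 hr) using 1; group
  · obtain ⟨A, hA, rfl⟩ := ex _ c2.2.1
    obtain ⟨B, hB, rfl⟩ := ex _ c2.2.2.1
    have h10 := E.allV c5 (g.1 *ᵥ Pi.single 0 1)
    have h11 : T.hm (E.v (g.1 *ᵥ Pi.single 0 1)) (E.v (g.1 *ᵥ Pi.single 0 1)) = 1 := by
      simpa [Matrix.col] using E.hm_col hq hg.1 0 0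
    have h12 : (LR.any fun a => T.mv a (E.v (g.1 *ᵥ Pi.single 0 1)) == E.v (g.1 *ᵥ Pi.single 0 1) &&
        a != idL 3) = true := List.any_eq_true.2 ⟨_, (h7 _).1 (h9 A hA), by
      have : A.1 *ᵥ Pi.single 0 1 = Pi.single 0 1 := E.v_inj (by rw [E.v_mulVec, e0, c2.2.2.2.2.2.1])
      rw [← E.v_mulVec, mulVec_mulVec, ← Units.val_mul, inv_mul_cancel_right, Units.val_mul, ← mulVec_mulVec, this,
        beq_self_eq_true, Bool.true_and, bne_iff_ne, ← E.m_one]
      refine fun h => c2.2.2.2.2.1 ?_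
      rw [← E.m_one, conj_eq_one_iff.1 (Units.ext (E.m_inj h) : g * A * g⁻¹ = 1)]; rfl⟩
    rw [h11, h12] at h10
    have h13 := List.all_eq_true.1 h10 _ ((h7 _).1 (h9 B hB))
    have h14 := c2.2.2.2.2.2.2.1
    rw [← e0, ← E.itr_eq, ← E.m_tr, ← E.m_one] at h14
    rwa [← E.itr_eq, ← E.m_tr, ← col_it (t := B.1) (by rw [← Units.val_mul, ← Units.val_mul, inv_mul_cancel_right]),
      E.m_inj h14, Matrix.mul_one, (C.mem g).1 hg] at h13
  · obtain ⟨X, hX, rfl⟩ := ex _ c2.2.2.2.1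
    refine c2.2.2.2.2.2.2.2 _ ((h7 _).1 (h9 X hX)) ?_
    rw [← hg, ← E.m_mul, ← E.m_mul, ← Units.val_mul, ← Units.val_mul, inv_mul_cancel_right]

end

end Cfsg.Lib.Linear.Nm
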