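/-
Certificates for the unitary groups `SU₃(3)` and `SU₃(5)`, first part.
-/
import Cfsg.Agent.Lib.Linear.NmD

set_option autoImplicit false
set_option maxRecDepth 100000
set_option maxHeartbeats 4000000

namespace Cfsg.Lib.Linear.Nm

theorem chk_u33f : fldChk T9 3 7 (T9.isSU 3) (fun v => T9.hm v v == 1)
    [441, 684, 369, 450, 630, 711, 396, 639, 3, 336, 669, 597, 120, 534, 462, 309, 237, 175, 103, 274, 544, 500, 266, 194, 140, 6, 339, 672, 600, 123, 537, 465, 312, 240, 502, 268, 196, 142, 179, 107, 278, 548]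
    [[7, 3, 2], [1, 4, 2], [1, 3, 5]]
    [[1, 6, 8], [0, 5, 8], [0, 8, 4]]
    [[1, 7, 2], [4, 0, 4], [2, 7, 1]]
    [[1, 6, 4], [3, 1, 7], [7, 4, 0]]
    [[[1, 0, 0], [0, 1, 0], [0, 0, 1]], [[0, 4, 8], [4, 3, 3], [4, 6, 6]], [[0, 5, 8], [7, 3, 1], [4, 1, 6]]]
    [0, 4, 5] :=
  ⟨by decide +kernel, by decide +kernel, by decide +kernel, by decide +kernel, by decide +kernel, by decide +kernel,
    by decide +kernel⟩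

theorem chk_u35f : fldChk T25 3 7 (T25.isSU 3) (fun v => T25.hm v v == 1)
    [5050, 13825, 10125, 6400, 15175, 5825, 4600, 2125, 12775, 12225, 1625, 7275, 3600, 9250, 14900, 13675, 4325, 9975, 1901, 6376, 5926, 8026, 9301, 11226, 11927, 11352, 2002, 10927, 15402, 9277, 7528, 6953, 10228, 4103, 8578, 1753, 1354, 8279, 10204, 11479, 13579, 9879, 11931, 3281, 13406, 10931, 2831, 15406, 8257, 5182, 1032, 12307, 9207, 6807, 12533, 9583, 14633, 7208, 2858, 7983, 7534, 3284, 10234, 13409, 2834, 1759, 12535, 8260, 5185, 14635, 9210, 7985, 10712, 862, 7137, 4062, 14737, 1687, 11338, 3863, 12688, 5963, 5488, 3113, 3240, 11540, 10315, 4765, 11140, 14340, 15042, 7567, 792, 14042, 13567, 3717, 8193, 2218, 12268, 4793, 15468, 3043, 11371, 2021, 1071, 6121, 9296, 13121, 3247, 11547, 4772, 1047, 12322, 6822, 9598, 10323, 7223,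 2873, 11148, 14348, 6974, 4124, 1074, 8599, 6124, 13124]
    [[1, 13, 24], [10, 12, 19], [20, 2, 24]]
    [[1, 10, 10], [0, 9, 23], [0, 1, 2]]
    [[1, 13, 24], [18, 2, 13], [9, 18, 1]]
    [[1, 6, 17], [21, 1, 18], [12, 13, 2]]
    [[[1, 0, 0], [0, 1, 0], [0, 0, 1]], [[3, 17, 12], [16, 13, 15], [24, 9, 19]], [[3, 6, 19], [4, 14, 23], [18, 2, 18]]]
    [0, 2, 8] :=
  ⟨by decide +kernel, by decide +kernel, by decide +kernel, by decide +kernel, by decide +kernel, by decide +kernel,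
    by decide +kernel⟩

theorem chk_u33o : colChk T9 (fun u => T9.hm u u == 1 && T9.rr u u)
    (fun u v => T9.hm u v == 0 && T9.rr u v)
    [81, 162, 243, 486, 9, 18, 27, 54, 1, 2, 3, 6]
    [81, 162, 243, 486, 9, 18, 27, 360, 684, 450, 612, 54, 468, 630, 396, 720, 1, 2, 3, 328, 652, 40, 76, 410, 572, 50, 68, 6, 412, 574, 52, 70, 332, 656, 44, 80]
    [[[0, 0, 1], [1, 0, 0], [0, 1, 0]], [[0, 1, 0], [1, 0, 0], [0, 0, 2]]]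
    [([[0, 2, 0], [2, 0, 0], [0, 0, 2]], 2, 1), ([[0, 0, 2], [0, 2, 0], [2, 0, 0]], 2, 1), ([[2, 0, 0], [0, 0, 2], [0, 2, 0]], 2, 1), ([[2, 0, 0], [0, 2, 0], [0, 0, 1]], 2, 0), ([[0, 0, 1], [2, 0, 0], [0, 2, 0]], 4, 0), ([[0, 2, 0], [0, 0, 1], [2, 0, 0]], 4, 0), ([[0, 2, 0], [0, 0, 2], [1, 0, 0]], 5, 1), ([[0, 0, 2], [2, 0, 0], [0, 1, 0]], 5, 1), ([[0, 1, 0], [2, 0, 0], [0, 0, 1]], 4, 0), ([[1, 0, 0], [0, 2, 0], [0, 0, 2]], 4, 0), ([[0, 0, 2], [1, 0, 0], [0, 2, 0]], 4, 1), ([[2, 0, 0], [0, 1, 0], [0, 0, 2]], 4, 1), ([[2, 0, 0], [0, 0, 1], [0, 1, 0]], 3, 0), ([[0, 0, 1], [0, 2, 0], [1, 0, 0]], 3, 0), ([[0, 1, 0], [0, 0, 2], [2, 0, 0]], 3, 1), ([[0, 0, 1], [0, 1, 0], [2, 0, 0]], 2, 0), ([[0, 2, 0], [1, 0, 0], [0, 0, 1]], 2, 0), ([[1, 0, 0], [0, 0, 2], [0, 1, 0]], 2, 1), ([[1, 0, 0], [0, 0, 1], [0, 2, 0]], 2, 0),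 ([[0, 0, 2], [0, 1, 0], [1, 0, 0]], 2, 1), ([[0, 1, 0], [0, 0, 1], [1, 0, 0]], 1, 0), ([[0, 1, 0], [1, 0, 0], [0, 0, 2]], 1, 1), ([[0, 0, 1], [1, 0, 0], [0, 1, 0]], 0, 0)]
    [[3, 0, 0], [0, 6, 0], [0, 0, 1]]
    [[1, 2, 5], [2, 1, 5], [8, 8, 0]]
    [0, 0, 1] :=
  ⟨by decide +kernel, by decide +kernel, by decide +kernel, by decide +kernel, by decide +kernel⟩

theorem chk_u35d : colChk T25 (fun u => T25.hm u u == 1 && (u.getD 0 0 == 0 && u.getD 1 0 == 0 || u.getD 0 0 == 0 && u.getD 2 0 == 0 ||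
      u.getD 1 0 == 0 && u.getD 2 0 == 0))
    (fun u v => T25.hm u v == 0)
    [625, 2500, 7500, 8125, 10625, 11250, 25, 100, 3250, 7000, 8875, 10125, 12000, 12625, 3400, 7150, 9025, 10275, 12150, 12775, 300, 325, 3475, 7225, 9100, 10350, 12225, 12850, 3525, 7275, 9150, 10400, 12275, 12900, 425, 450, 3600, 7350, 9225, 10475, 12350, 12975, 3625, 7375, 9250, 10500, 12375, 13000, 1, 1276, 1901, 676, 2551, 701, 2576, 1351, 1976, 8276, 10776, 7726, 11476, 5926, 13426, 4076, 15326, 4176, 15426, 6076, 13576, 8026, 11776, 8726, 11226, 652, 2527, 3177, 12552, 3202, 12577, 727, 2602, 1377, 2002, 7027, 12027, 8977, 10227, 4027, 15277, 8427, 10927, 7827, 11577, 5977, 13477, 6027, 13527, 7927, 11677, 8577, 11077, 4227, 15477, 1752, 2377, 9277, 10527, 7477, 12477, 653, 2528, 3178, 12553, 3203, 12578, 728, 2603, 1378, 2003,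 7028, 12028, 8978, 10228, 4028, 15278, 8428, 10928, 7828, 11578, 5978, 13478, 6028, 13528, 7928, 11678, 8578, 11078, 4228, 15478, 1753, 2378, 9278, 10528, 7478, 12478, 4, 1279, 1904, 679, 2554, 704, 2579, 1354, 1979, 8279, 10779, 7729, 11479, 5929, 13429, 4079, 15329, 4179, 15429, 6079, 13579, 8029, 11779, 8729, 11229, 3130, 6880, 8755, 10005, 11880, 12505, 1305, 1930, 1330, 1955, 130, 5780, 13280, 3980, 15230, 280, 355, 405, 480, 505, 4280, 15530, 6230, 13730, 8156, 10656, 6931, 11931, 6956, 11956, 8231, 10731, 5756, 13256, 8906, 10156, 3356, 12731, 1531, 2156, 7806, 11556, 956, 2831, 4106, 15356, 4156, 15406, 1056, 2931, 7956, 11706, 1731, 2356, 6131, 13631, 3656, 13031, 9356, 10606, 4557, 14557, 6457, 9582, 5257, 14007, 5382, 14132, 6807, 9932, 4957, 14957, 6433, 9558, 5208, 13958, 4633, 14633, 4758, 14758,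 5558, 14308, 6833, 9958, 7534, 11284, 8809, 10059, 8834, 10084, 7609, 11359, 3884, 15134, 3284, 12659, 7109, 12109, 5909, 13409, 934, 2809, 8459, 10959, 1609, 2234, 1659, 2284, 8559, 11059, 1084, 2959, 6109, 13609, 4259, 15509, 7409, 12409, 3734, 13109, 5185, 13935, 4585, 14585, 6510, 9635, 6635, 9760, 4935, 14935, 5585, 14335, 3136, 6886, 8761, 10011, 11886, 12511, 3811, 15061, 3836, 15086, 136, 1411, 2036, 5861, 13361, 286, 361, 411, 486, 511, 6161, 13661, 1861, 2486, 12, 5662, 13162, 8187, 10687, 8212, 10712, 5737, 13237, 7662, 11412, 862, 2737, 4062, 15312, 1587, 2212, 1687, 2312, 4212, 15462, 1162, 3037, 8112, 11862, 13, 3788, 15038, 7563, 11313, 7588, 11338, 3863, 15113, 788, 2663, 8363, 10863, 1563, 2188, 5963, 13463, 6063, 13563, 1713, 2338, 8663, 11163, 1238, 3113, 3139, 6889, 8764, 10014, 11889, 12514,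 5689, 13189, 5714, 13214, 139, 3914, 15164, 1489, 2114, 289, 364, 414, 489, 514, 1789, 2414, 4364, 15614, 5190, 13940, 4590, 14590, 6515, 9640, 6640, 9765, 4940, 14940, 5590, 14340, 3141, 6891, 8766, 10016, 11891, 12516, 5691, 13191, 5716, 13216, 141, 3916, 15166, 1491, 2116, 291, 366, 416, 491, 516, 1791, 2416, 4366, 15616, 17, 3792, 15042, 7567, 11317, 7592, 11342, 3867, 15117, 792, 2667, 8367, 10867, 1567, 2192, 5967, 13467, 6067, 13567, 1717, 2342, 8667, 11167, 1242, 3117, 18, 5668, 13168, 8193, 10693, 8218, 10718, 5743, 13243, 7668, 11418, 868, 2743, 4068, 15318, 1593, 2218, 1693, 2318, 4218, 15468, 1168, 3043, 8118, 11868, 3144, 6894, 8769, 10019, 11894, 12519, 3819, 15069, 3844, 15094, 144, 1419, 2044, 5869, 13369, 294, 369, 419, 494, 519, 6169, 13669, 1869, 2494, 3145, 6895, 8770, 10020, 11895, 12520,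 1320, 1945, 1345, 1970, 145, 5795, 13295, 3995, 15245, 295, 370, 420, 495, 520, 4295, 15545, 6245, 13745, 7546, 11296, 8821, 10071, 8846, 10096, 7621, 11371, 3896, 15146, 3296, 12671, 7121, 12121, 5921, 13421, 946, 2821, 8471, 10971, 1621, 2246, 1671, 2296, 8571, 11071, 1096, 2971, 6121, 13621, 4271, 15521, 7421, 12421, 3746, 13121, 6447, 9572, 5222, 13972, 4647, 14647, 4772, 14772, 5572, 14322, 6847, 9972, 4573, 14573, 6473, 9598, 5273, 14023, 5398, 14148, 6823, 9948, 4973, 14973, 8174, 10674, 6949, 11949, 6974, 11974, 8249, 10749, 5774, 13274, 8924, 10174, 3374, 12749, 1549, 2174, 7824, 11574, 974, 2849, 4124, 15374, 4174, 15424, 1074, 2949, 7974, 11724, 1749, 2374, 6149, 13649, 3674, 13049, 9374, 10624]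
    [625, 2500, 7500, 8125, 10625, 11250, 25, 100, 300, 325, 425, 450, 1, 4, 12, 13, 17, 18]
    [[[13, 0, 0], [0, 18, 0], [0, 0, 1]], [[0, 0, 1], [1, 0, 0], [0, 1, 0]], [[0, 1, 0], [1, 0, 0], [0, 0, 4]]]
    [([[17, 0, 0], [0, 4, 0], [0, 0, 18]], 51, 1), ([[0, 0, 17], [13, 0, 0], [0, 13, 0]], 55, 0), ([[12, 0, 0], [0, 4, 0], [0, 0, 13]], 56, 1), ([[0, 0, 18], [4, 0, 0], [0, 17, 0]], 58, 0), ([[0, 0, 12], [12, 0, 0], [0, 12, 0]], 60, 0), ([[1, 0, 0], [0, 17, 0], [0, 0, 12]], 61, 1), ([[0, 4, 0], [0, 0, 18], [17, 0, 0]], 63, 0), ([[12, 0, 0], [0, 1, 0], [0, 0, 17]], 69, 2), ([[0, 13, 0], [13, 0, 0], [0, 0, 13]], 68, 0), ([[4, 0, 0], [0, 17, 0], [0, 0, 18]], 68, 2), ([[0, 0, 4], [12, 0, 0], [0, 13, 0]], 69, 2), ([[17, 0, 0], [0, 0, 13], [0, 17, 0]], 77, 0), ([[0, 13, 0], [4, 0, 0], [0, 0, 18]], 77, 0), ([[0, 1,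 0], [17, 0, 0], [0, 0, 18]], 77, 1), ([[0, 18, 0], [12, 0, 0], [0, 0, 12]], 78, 0), ([[17, 0, 0], [0, 13, 0], [0, 0, 13]], 79, 1), ([[4, 0, 0], [0, 12, 0], [0, 0, 13]], 79, 2), ([[0, 12, 0], [4, 0, 0], [0, 0, 17]], 78, 0), ([[0, 1, 0], [12, 0, 0], [0, 0, 13]], 79, 2), ([[18, 0, 0], [0, 12, 0], [0, 0, 18]], 79, 1), ([[0, 0, 17], [17, 0, 0], [0, 17, 0]], 83, 2), ([[0, 13, 0], [17, 0, 0], [0, 0, 17]], 82, 1), ([[12, 0, 0], [0, 12, 0], [0, 0, 12]], 82, 1), ([[0, 0, 18], [18, 0, 0], [0, 12, 0]], 82, 2), ([[0, 12, 0], [18, 0, 0], [0, 0, 12]], 81, 1), ([[0, 4, 0], [0, 0, 12], [13, 0, 0]], 81, 2), ([[18, 0, 0], [0, 0, 18], [0, 18, 0]], 82, 0), ([[17, 0, 0], [0, 17, 0], [0, 0, 17]], 83, 2), ([[0, 17, 0], [4, 0, 0], [0, 0, 12]], 83, 1), ([[0, 0, 13], [0, 13, 0], [13, 0, 0]], 83, 0), ([[0, 0, 12], [0, 12, 0], [18, 0, 0]],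 83, 1), ([[4, 0, 0], [0, 0, 12], [0, 17, 0]], 82, 0), ([[18, 0, 0], [0, 18, 0], [0, 0, 12]], 84, 1), ([[0, 17, 0], [13, 0, 0], [0, 0, 17]], 86, 1), ([[13, 0, 0], [0, 13, 0], [0, 0, 17]], 86, 1), ([[0, 0, 13], [4, 0, 0], [0, 12, 0]], 86, 0), ([[0, 0, 18], [17, 0, 0], [0, 4, 0]], 87, 2), ([[0, 0, 12], [0, 4, 0], [17, 0, 0]], 86, 0), ([[0, 4, 0], [0, 0, 13], [12, 0, 0]], 86, 2), ([[17, 0, 0], [0, 0, 17], [0, 13, 0]], 85, 0), ([[0, 0, 12], [4, 0, 0], [0, 13, 0]], 86, 2), ([[0, 18, 0], [4, 0, 0], [0, 0, 13]], 85, 1), ([[0, 0, 18], [0, 12, 0], [12, 0, 0]], 84, 0), ([[13, 0, 0], [0, 17, 0], [0, 0, 13]], 85, 1), ([[0, 18, 0], [18, 0, 0], [0, 0, 18]], 85, 1), ([[12, 0, 0], [0, 18, 0], [0, 0, 18]], 85, 1), ([[0, 12, 0], [0, 0, 1], [17, 0, 0]], 85, 1), ([[0, 4, 0], [0, 0, 17], [18, 0, 0]], 87, 1), ([[0, 17, 0], [0, 0, 12],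 [1, 0, 0]], 87, 1), ([[0, 0, 17], [4, 0, 0], [0, 18, 0]], 86, 0), ([[18, 0, 0], [0, 0, 1], [0, 17, 0]], 87, 2), ([[18, 0, 0], [0, 4, 0], [0, 0, 17]], 86, 1), ([[0, 17, 0], [0, 0, 4], [18, 0, 0]], 85, 0), ([[0, 0, 4], [13, 0, 0], [0, 12, 0]], 85, 0), ([[0, 0, 4], [18, 0, 0], [0, 17, 0]], 85, 2), ([[0, 1, 0], [18, 0, 0], [0, 0, 17]], 84, 1), ([[13, 0, 0], [0, 4, 0], [0, 0, 12]], 84, 1), ([[0, 0, 17], [1, 0, 0], [0, 12, 0]], 84, 2), ([[0, 13, 0], [1, 0, 0], [0, 0, 12]], 83, 1), ([[0, 12, 0], [0, 0, 4], [13, 0, 0]], 83, 2), ([[0, 0, 12], [0, 1, 0], [13, 0, 0]], 82, 1), ([[0, 0, 12], [0, 13, 0], [1, 0, 0]], 82, 2), ([[0, 0, 18], [12, 0, 0], [0, 18, 0]], 81, 0), ([[18, 0, 0], [0, 17, 0], [0, 0, 4]], 81, 1), ([[0, 17, 0], [0, 0, 17], [17, 0, 0]], 80, 0), ([[0, 0, 12], [13, 0, 0], [0, 4, 0]], 80, 2), ([[0, 0, 18], [0,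 1, 0], [17, 0, 0]], 79, 0), ([[0, 1, 0], [0, 0, 17], [12, 0, 0]], 79, 2), ([[0, 0, 1], [0, 13, 0], [12, 0, 0]], 78, 1), ([[13, 0, 0], [0, 0, 13], [0, 13, 0]], 77, 0), ([[0, 17, 0], [0, 0, 18], [4, 0, 0]], 77, 2), ([[0, 0, 17], [0, 12, 0], [4, 0, 0]], 76, 1), ([[18, 0, 0], [0, 0, 12], [0, 12, 0]], 75, 0), ([[17, 0, 0], [0, 0, 1], [0, 18, 0]], 76, 0), ([[12, 0, 0], [0, 13, 0], [0, 0, 4]], 76, 2), ([[0, 13, 0], [12, 0, 0], [0, 0, 1]], 75, 0), ([[4, 0, 0], [0, 18, 0], [0, 0, 17]], 76, 2), ([[0, 12, 0], [1, 0, 0], [0, 0, 13]], 75, 0), ([[0, 4, 0], [17, 0, 0], [0, 0, 12]], 75, 1), ([[0, 1, 0], [4, 0, 0], [0, 0, 1]], 75, 1), ([[0, 0, 1], [0, 12, 0], [13, 0, 0]], 74, 0), ([[0, 0, 13], [0, 4, 0], [18, 0, 0]], 74, 1), ([[12, 0, 0], [0, 0, 4], [0, 17, 0]], 73, 0), ([[0, 18, 0], [1, 0, 0], [0, 0, 17]], 74, 2), ([[0, 0, 18],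 [1, 0, 0], [0, 13, 0]], 73, 1), ([[17, 0, 0], [0, 0, 4], [0, 12, 0]], 73, 2), ([[17, 0, 0], [0, 1, 0], [0, 0, 12]], 72, 1), ([[0, 4, 0], [0, 0, 1], [4, 0, 0]], 71, 0), ([[4, 0, 0], [0, 13, 0], [0, 0, 12]], 71, 2), ([[4, 0, 0], [0, 0, 13], [0, 18, 0]], 70, 1), ([[0, 12, 0], [12, 0, 0], [0, 0, 18]], 69, 0), ([[0, 0, 1], [0, 17, 0], [18, 0, 0]], 69, 1), ([[13, 0, 0], [0, 0, 17], [0, 17, 0]], 68, 0), ([[0, 1, 0], [13, 0, 0], [0, 0, 12]], 68, 2), ([[18, 0, 0], [0, 0, 17], [0, 1, 0]], 68, 2), ([[0, 17, 0], [0, 0, 13], [13, 0, 0]], 67, 0), ([[0, 4, 0], [12, 0, 0], [0, 0, 17]], 67, 1), ([[1, 0, 0], [0, 0, 18], [0, 17, 0]], 67, 2), ([[1, 0, 0], [0, 12, 0], [0, 0, 17]], 66, 1), ([[0, 18, 0], [0, 0, 12], [18, 0, 0]], 65, 0), ([[0, 0, 4], [0, 4, 0], [4, 0, 0]], 65, 2), ([[0, 0, 1], [17, 0, 0], [0, 12, 0]], 64, 0), ([[13,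 0, 0], [0, 12, 0], [0, 0, 4]], 64, 1), ([[0, 0, 17], [18, 0, 0], [0, 4, 0]], 64, 2), ([[0, 0, 13], [0, 17, 0], [17, 0, 0]], 63, 0), ([[0, 12, 0], [0, 0, 12], [12, 0, 0]], 63, 2), ([[0, 0, 12], [0, 18, 0], [12, 0, 0]], 62, 1), ([[4, 0, 0], [0, 0, 18], [0, 13, 0]], 61, 0), ([[17, 0, 0], [0, 18, 0], [0, 0, 4]], 61, 2), ([[17, 0, 0], [0, 0, 18], [0, 1, 0]], 60, 1), ([[0, 0, 13], [17, 0, 0], [0, 13, 0]], 60, 2), ([[0, 17, 0], [17, 0, 0], [0, 0, 13]], 59, 1), ([[0, 0, 17], [0, 4, 0], [12, 0, 0]], 58, 0), ([[0, 0, 13], [0, 12, 0], [1, 0, 0]], 58, 1), ([[12, 0, 0], [0, 0, 12], [0, 18, 0]], 57, 0), ([[1, 0, 0], [0, 0, 12], [0, 13, 0]], 57, 2), ([[1, 0, 0], [0, 18, 0], [0, 0, 13]], 56, 1), ([[0, 18, 0], [0, 0, 18], [12, 0, 0]], 55, 0), ([[0, 17, 0], [1, 0, 0], [0, 0, 18]], 55, 1), ([[13, 0, 0], [0, 1, 0], [0, 0, 18]],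 55, 1), ([[0, 0, 17], [0, 13, 0], [17, 0, 0]], 55, 2), ([[0, 13, 0], [0, 0, 13], [17, 0, 0]], 54, 1), ([[0, 0, 13], [12, 0, 0], [0, 4, 0]], 53, 0), ([[0, 12, 0], [0, 0, 13], [4, 0, 0]], 53, 2), ([[0, 0, 12], [0, 17, 0], [4, 0, 0]], 52, 1), ([[4, 0, 0], [0, 0, 17], [0, 12, 0]], 51, 0), ([[0, 18, 0], [17, 0, 0], [0, 0, 1]], 51, 1), ([[0, 0, 18], [0, 4, 0], [13, 0, 0]], 50, 0), ([[12, 0, 0], [0, 0, 13], [0, 1, 0]], 50, 2), ([[0, 13, 0], [0, 0, 17], [13, 0, 0]], 49, 0), ([[0, 0, 18], [0, 18, 0], [18, 0, 0]], 49, 2), ([[0, 12, 0], [0, 0, 18], [18, 0, 0]], 48, 1), ([[0, 0, 12], [1, 0, 0], [0, 17, 0]], 47, 0), ([[4, 0, 0], [0, 0, 4], [0, 4, 0]], 47, 1), ([[0, 4, 0], [0, 0, 4], [1, 0, 0]], 47, 1), ([[0, 0, 4], [17, 0, 0], [0, 18, 0]], 46, 0), ([[0, 0, 17], [12, 0, 0], [0, 1, 0]], 46, 1), ([[1, 0, 0], [0, 4, 0], [0, 0,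 4]], 46, 1), ([[0, 18, 0], [0, 0, 4], [17, 0, 0]], 45, 0), ([[0, 0, 4], [1, 0, 0], [0, 4, 0]], 45, 2), ([[0, 0, 1], [0, 18, 0], [17, 0, 0]], 44, 0), ([[0, 13, 0], [0, 0, 4], [12, 0, 0]], 44, 2), ([[0, 0, 13], [0, 1, 0], [12, 0, 0]], 43, 1), ([[12, 0, 0], [0, 0, 1], [0, 13, 0]], 42, 0), ([[0, 0, 18], [13, 0, 0], [0, 1, 0]], 42, 1), ([[0, 18, 0], [0, 0, 17], [4, 0, 0]], 42, 2), ([[0, 0, 18], [0, 13, 0], [4, 0, 0]], 41, 1), ([[1, 0, 0], [0, 0, 13], [0, 12, 0]], 40, 0), ([[17, 0, 0], [0, 0, 12], [0, 4, 0]], 40, 1), ([[4, 0, 0], [0, 1, 0], [0, 0, 4]], 40, 2), ([[4, 0, 0], [0, 0, 1], [0, 1, 0]], 39, 1), ([[0, 12, 0], [13, 0, 0], [0, 0, 1]], 38, 0), ([[0, 0, 1], [18, 0, 0], [0, 13, 0]], 38, 2), ([[0, 4, 0], [18, 0, 0], [0, 0, 13]], 37, 1), ([[0, 0, 4], [0, 17, 0], [12, 0, 0]], 36, 0), ([[0, 0, 1], [0, 4, 0], [1, 0,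 0]], 36, 1), ([[13, 0, 0], [0, 0, 4], [0, 18, 0]], 35, 0), ([[18, 0, 0], [0, 0, 4], [0, 13, 0]], 35, 2), ([[18, 0, 0], [0, 1, 0], [0, 0, 13]], 34, 1), ([[0, 17, 0], [0, 0, 1], [12, 0, 0]], 33, 0), ([[0, 4, 0], [13, 0, 0], [0, 0, 18]], 33, 1), ([[1, 0, 0], [0, 0, 17], [0, 18, 0]], 33, 2), ([[1, 0, 0], [0, 13, 0], [0, 0, 18]], 32, 1), ([[0, 18, 0], [0, 0, 13], [1, 0, 0]], 31, 0), ([[0, 0, 4], [0, 12, 0], [17, 0, 0]], 31, 2), ([[0, 1, 0], [0, 0, 12], [17, 0, 0]], 30, 1), ([[0, 0, 1], [4, 0, 0], [0, 4, 0]], 29, 0), ([[0, 13, 0], [0, 0, 12], [4, 0, 0]], 29, 2), ([[0, 0, 13], [0, 18, 0], [4, 0, 0]], 28, 1), ([[12, 0, 0], [0, 0, 18], [0, 12, 0]], 27, 0), ([[0, 17, 0], [18, 0, 0], [0, 0, 1]], 27, 1), ([[0, 0, 17], [0, 17, 0], [13, 0, 0]], 26, 0), ([[13, 0, 0], [0, 0, 12], [0, 1, 0]], 26, 2), ([[0, 1, 0], [0, 0, 18],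 [13, 0, 0]], 25, 0), ([[0, 0, 17], [0, 1, 0], [18, 0, 0]], 25, 2), ([[0, 13, 0], [0, 0, 1], [18, 0, 0]], 24, 1), ([[0, 0, 13], [13, 0, 0], [0, 17, 0]], 23, 0), ([[12, 0, 0], [0, 0, 17], [0, 4, 0]], 23, 1), ([[0, 0, 18], [0, 17, 0], [1, 0, 0]], 23, 2), ([[0, 12, 0], [0, 0, 17], [1, 0, 0]], 22, 1), ([[0, 0, 12], [18, 0, 0], [0, 18, 0]], 21, 0), ([[0, 4, 0], [4, 0, 0], [0, 0, 4]], 21, 2), ([[0, 0, 4], [4, 0, 0], [0, 1, 0]], 20, 1), ([[17, 0, 0], [0, 12, 0], [0, 0, 1]], 19, 0), ([[0, 1, 0], [0, 0, 4], [4, 0, 0]], 19, 2), ([[0, 0, 1], [0, 1, 0], [4, 0, 0]], 18, 1), ([[13, 0, 0], [0, 0, 1], [0, 12, 0]], 17, 0), ([[18, 0, 0], [0, 13, 0], [0, 0, 1]], 17, 2), ([[18, 0, 0], [0, 0, 13], [0, 4, 0]], 16, 1), ([[0, 17, 0], [12, 0, 0], [0, 0, 4]], 15, 0), ([[0, 4, 0], [1, 0, 0], [0, 0, 1]], 15, 1), ([[0, 0, 4], [0, 18, 0],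 [13, 0, 0]], 14, 0), ([[1, 0, 0], [0, 0, 4], [0, 1, 0]], 14, 2), ([[0, 18, 0], [0, 0, 1], [13, 0, 0]], 13, 0), ([[0, 0, 4], [0, 13, 0], [18, 0, 0]], 13, 2), ([[0, 1, 0], [0, 0, 13], [18, 0, 0]], 12, 1), ([[0, 0, 1], [12, 0, 0], [0, 17, 0]], 11, 0), ([[13, 0, 0], [0, 0, 18], [0, 4, 0]], 11, 1), ([[0, 0, 17], [0, 18, 0], [1, 0, 0]], 11, 2), ([[0, 13, 0], [0, 0, 18], [1, 0, 0]], 10, 1), ([[0, 0, 13], [1, 0, 0], [0, 18, 0]], 9, 0), ([[0, 12, 0], [17, 0, 0], [0, 0, 4]], 9, 2), ([[0, 0, 12], [17, 0, 0], [0, 1, 0]], 8, 1), ([[4, 0, 0], [0, 4, 0], [0, 0, 1]], 7, 0), ([[1, 0, 0], [0, 0, 1], [0, 4, 0]], 7, 1), ([[0, 18, 0], [13, 0, 0], [0, 0, 4]], 6, 0), ([[0, 0, 4], [0, 1, 0], [1, 0, 0]], 6, 2), ([[0, 1, 0], [0, 0, 1], [1, 0, 0]], 5, 1), ([[0, 0, 1], [13, 0, 0], [0, 18, 0]], 4, 0), ([[0, 13, 0], [18, 0, 0], [0, 0, 4]],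 4, 2), ([[0, 0, 13], [18, 0, 0], [0, 1, 0]], 3, 1), ([[12, 0, 0], [0, 17, 0], [0, 0, 1]], 2, 0), ([[0, 1, 0], [1, 0, 0], [0, 0, 4]], 2, 2), ([[0, 0, 1], [1, 0, 0], [0, 1, 0]], 1, 1), ([[13, 0, 0], [0, 18, 0], [0, 0, 1]], 0, 0)]
    [[1, 6, 17], [21, 1, 18], [12, 13, 2]]
    [[2, 24, 16], [9, 2, 5], [11, 20, 0]]
    [0, 1, 0] :=
  ⟨by decide +kernel, by decide +kernel, by decide +kernel, by decide +kernel, by decide +kernel⟩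

theorem chk_W9 : allV T9.Q 3 (fun d => !(d.all fun a => a != 0 && op T9.J 0 a == a) ||
    ([[[0, 0, 1], [0, 1, 0], [1, 0, 0]], [[0, 4, 4], [0, 4, 8], [4, 0, 0]], [[0, 4, 4], [4, 0, 0], [0, 4, 8]], [[0, 0, 1], [1, 1, 0], [1, 2, 0]], [[0, 0, 4], [4, 4, 0], [4, 8, 0]], [[0, 1, 1], [1, 0, 0], [0, 1, 2]], [[0, 1, 1], [0, 1, 2], [1, 0, 0]], [[0, 0, 4], [0, 4, 0], [4, 0, 0]]] : List (List (List ℕ))).any
      fun w => T9.mm 3 (T9.mm 3 (trL 3 w) [[d.getD 0 0, 0, 0], [0, d.getD 1 0, 0], [0, 0, d.getD 2 0]]) (w.map T9.cv) ==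
        idL 3 && (T9.shape 3 w && w.all fun r => w.all fun s => T9.rr r s)) = true := by decide +kernel

theorem chk_W25 : allV T25.Q 3 (fun d => !(d.all fun a => a != 0 && op T25.J 0 a == a) ||
    ([[[0, 0, 1], [0, 1, 0], [1, 0, 0]], [[0, 5, 5], [0, 5, 20], [5, 0, 0]], [[0, 5, 5], [0, 5, 20], [10, 0, 0]], [[0, 0, 1], [0, 1, 0], [2, 0, 0]], [[0, 5, 5], [5, 0, 0], [0, 5, 20]], [[0, 0, 1], [2, 2, 0], [2, 3, 0]], [[0, 0, 1], [2, 2, 0], [1, 4, 0]], [[0, 5, 5], [5, 0, 0], [0, 10, 15]], [[0, 5, 5], [5, 10, 15], [10, 10, 15]], [[0, 0, 1], [1, 1, 0], [2, 3, 0]], [[0, 0, 1], [1, 1, 0], [1, 4, 0]], [[0, 5, 5], [5, 10, 15], [5, 5, 20]], [[0, 0, 1], [0, 2, 0], [1, 0, 0]], [[0, 5, 5], [0, 10, 15], [5, 0, 0]], [[0, 5, 5], [0, 10, 15], [10, 0, 0]], [[0, 0, 1], [0, 2, 0], [2, 0, 0]], [[0, 0, 5], [5, 5, 0], [5, 20, 0]], [[0,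 2, 2], [1, 0, 0], [0, 2, 3]], [[0, 2, 2], [1, 0, 0], [0, 1, 4]], [[0, 0, 5], [5, 5, 0], [10, 15, 0]], [[0, 2, 2], [0, 2, 3], [1, 0, 0]], [[0, 0, 5], [0, 5, 0], [5, 0, 0]], [[0, 0, 5], [0, 5, 0], [10, 0, 0]], [[0, 2, 2], [0, 2, 3], [2, 0, 0]], [[0, 2, 2], [0, 1, 4], [1, 0, 0]], [[0, 0, 5], [0, 10, 0], [5, 0, 0]], [[0, 0, 5], [0, 10, 0], [10, 0, 0]], [[0, 2, 2], [0, 1, 4], [2, 0, 0]], [[0, 0, 5], [10, 10, 0], [5, 20, 0]], [[0, 2, 2], [1, 2, 3], [1, 1, 4]], [[0, 2, 2], [1, 2, 3], [2, 2, 3]], [[0, 0, 5], [10, 10, 0], [10, 15, 0]], [[0, 0, 10], [5, 5, 0], [5, 20, 0]], [[0, 1, 1], [1, 0, 0], [0, 2, 3]], [[0, 1, 1], [1, 0, 0], [0, 1, 4]], [[0, 0, 10], [5, 5, 0], [10, 15, 0]], [[0, 1, 1], [0, 2, 3], [1, 0, 0]], [[0, 0, 10], [0, 5, 0], [5, 0, 0]], [[0, 0, 10], [0, 5, 0], [10, 0, 0]], [[0, 1, 1], [0, 2, 3], [2, 0, 0]],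 [[0, 1, 1], [0, 1, 4], [1, 0, 0]], [[0, 0, 10], [0, 10, 0], [5, 0, 0]], [[0, 0, 10], [0, 10, 0], [10, 0, 0]], [[0, 1, 1], [0, 1, 4], [2, 0, 0]], [[0, 0, 10], [10, 10, 0], [5, 20, 0]], [[0, 1, 1], [1, 2, 3], [1, 1, 4]], [[0, 1, 1], [1, 2, 3], [2, 2, 3]], [[0, 0, 10], [10, 10, 0], [10, 15, 0]], [[0, 0, 2], [0, 1, 0], [1, 0, 0]], [[0, 10, 10], [0, 5, 20], [5, 0, 0]], [[0, 10, 10], [0, 5, 20], [10, 0, 0]], [[0, 0, 2], [0, 1, 0], [2, 0, 0]], [[0, 10, 10], [5, 0, 0], [0, 5, 20]], [[0, 0, 2], [2, 2, 0], [2, 3, 0]], [[0, 0, 2], [2, 2, 0], [1, 4, 0]], [[0, 10, 10], [5, 0, 0], [0, 10, 15]], [[0, 10, 10], [5, 10, 15], [10, 10, 15]], [[0, 0, 2], [1, 1, 0], [2, 3, 0]], [[0, 0, 2], [1, 1, 0], [1, 4, 0]], [[0, 10, 10], [5, 10, 15], [5, 5, 20]], [[0, 0, 2], [0, 2, 0], [1, 0, 0]], [[0, 10, 10], [0, 10, 15], [5, 0, 0]], [[0, 10,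 10], [0, 10, 15], [10, 0, 0]], [[0, 0, 2], [0, 2, 0], [2, 0, 0]]] : List (List (List ℕ))).any
      fun w => T25.mm 3 (T25.mm 3 (trL 3 w) [[d.getD 0 0, 0, 0], [0, d.getD 1 0, 0], [0, 0, d.getD 2 0]]) (w.map T25.cv) ==
        idL 3 && (T25.shape 3 w && w.all fun r => w.all fun s => T25.rr r s)) = true := by decide +kernel

end Cfsg.Lib.Linear.Nm
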