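/-
Certificates for the unitary group `SU₃(5)`, second part.
-/
import Cfsg.Agent.Lib.Linear.NmD

set_option autoImplicit false
set_option maxRecDepth 100000
set_option maxHeartbeats 4000000

namespace Cfsg.Lib.Linear.Nm

theorem chk_u35o : colChk T25 (fun u => T25.hm u u == 1 && T25.rr u u)
    (fun u v => T25.hm u v == 0 && T25.rr u v)
    [625, 2500, 7500, 8125, 10625, 11250, 25, 100, 3250, 7000, 8875, 10125, 12000, 12625, 3400, 7150, 9025, 10275, 12150, 12775, 300, 325, 3475, 7225, 9100, 10350, 12225, 12850, 3525, 7275, 9150, 10400, 12275, 12900, 425, 450, 3600, 7350, 9225, 10475, 12350, 12975, 3625, 7375, 9250, 10500, 12375, 13000, 1, 1276, 1901, 676, 2551, 701, 2576, 1351, 1976, 8276, 10776, 7726, 11476, 5926, 13426, 4076, 15326, 4176, 15426, 6076, 13576, 8026, 11776, 8726, 11226, 652, 2527, 3177, 12552, 3202, 12577, 727,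 2602, 1377, 2002, 7027, 12027, 8977, 10227, 4027, 15277, 8427, 10927, 7827, 11577, 5977, 13477, 6027, 13527, 7927, 11677, 8577, 11077, 4227, 15477, 1752, 2377, 9277, 10527, 7477, 12477, 653, 2528, 3178, 12553, 3203, 12578, 728, 2603, 1378, 2003, 7028, 12028, 8978, 10228, 4028, 15278, 8428, 10928, 7828, 11578, 5978, 13478, 6028, 13528, 7928, 11678, 8578, 11078, 4228, 15478, 1753, 2378, 9278, 10528, 7478, 12478, 4, 1279, 1904, 679, 2554, 704, 2579, 1354, 1979, 8279, 10779, 7729, 11479, 5929, 13429, 4079, 15329, 4179, 15429, 6079, 13579, 8029, 11779, 8729, 11229, 3130, 6880, 8755, 10005, 11880, 12505, 1305, 1930, 1330, 1955, 130, 5780, 13280, 3980, 15230, 280, 355, 405, 480, 505, 4280, 15530, 6230, 13730, 8156, 10656, 6931, 11931, 6956, 11956, 8231, 10731, 5756, 13256, 8906, 10156, 3356, 12731, 1531, 2156, 7806, 11556, 956, 2831,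 4106, 15356, 4156, 15406, 1056, 2931, 7956, 11706, 1731, 2356, 6131, 13631, 3656, 13031, 9356, 10606, 4557, 14557, 6457, 9582, 5257, 14007, 5382, 14132, 6807, 9932, 4957, 14957, 6433, 9558, 5208, 13958, 4633, 14633, 4758, 14758, 5558, 14308, 6833, 9958, 7534, 11284, 8809, 10059, 8834, 10084, 7609, 11359, 3884, 15134, 3284, 12659, 7109, 12109, 5909, 13409, 934, 2809, 8459, 10959, 1609, 2234, 1659, 2284, 8559, 11059, 1084, 2959, 6109, 13609, 4259, 15509, 7409, 12409, 3734, 13109, 5185, 13935, 4585, 14585, 6510, 9635, 6635, 9760, 4935, 14935, 5585, 14335, 3136, 6886, 8761, 10011, 11886, 12511, 3811, 15061, 3836, 15086, 136, 1411, 2036, 5861, 13361, 286, 361, 411, 486, 511, 6161, 13661, 1861, 2486, 12, 5662, 13162, 8187, 10687, 8212, 10712, 5737, 13237, 7662, 11412, 862, 2737, 4062, 15312, 1587, 2212, 1687, 2312, 4212, 15462, 1162,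 3037, 8112, 11862, 13, 3788, 15038, 7563, 11313, 7588, 11338, 3863, 15113, 788, 2663, 8363, 10863, 1563, 2188, 5963, 13463, 6063, 13563, 1713, 2338, 8663, 11163, 1238, 3113, 3139, 6889, 8764, 10014, 11889, 12514, 5689, 13189, 5714, 13214, 139, 3914, 15164, 1489, 2114, 289, 364, 414, 489, 514, 1789, 2414, 4364, 15614, 5190, 13940, 4590, 14590, 6515, 9640, 6640, 9765, 4940, 14940, 5590, 14340, 3141, 6891, 8766, 10016, 11891, 12516, 5691, 13191, 5716, 13216, 141, 3916, 15166, 1491, 2116, 291, 366, 416, 491, 516, 1791, 2416, 4366, 15616, 17, 3792, 15042, 7567, 11317, 7592, 11342, 3867, 15117, 792, 2667, 8367, 10867, 1567, 2192, 5967, 13467, 6067, 13567, 1717, 2342, 8667, 11167, 1242, 3117, 18, 5668, 13168, 8193, 10693, 8218, 10718, 5743, 13243, 7668, 11418, 868, 2743, 4068, 15318, 1593, 2218, 1693, 2318, 4218, 15468, 1168, 3043,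 8118, 11868, 3144, 6894, 8769, 10019, 11894, 12519, 3819, 15069, 3844, 15094, 144, 1419, 2044, 5869, 13369, 294, 369, 419, 494, 519, 6169, 13669, 1869, 2494, 3145, 6895, 8770, 10020, 11895, 12520, 1320, 1945, 1345, 1970, 145, 5795, 13295, 3995, 15245, 295, 370, 420, 495, 520, 4295, 15545, 6245, 13745, 7546, 11296, 8821, 10071, 8846, 10096, 7621, 11371, 3896, 15146, 3296, 12671, 7121, 12121, 5921, 13421, 946, 2821, 8471, 10971, 1621, 2246, 1671, 2296, 8571, 11071, 1096, 2971, 6121, 13621, 4271, 15521, 7421, 12421, 3746, 13121, 6447, 9572, 5222, 13972, 4647, 14647, 4772, 14772, 5572, 14322, 6847, 9972, 4573, 14573, 6473, 9598, 5273, 14023, 5398, 14148, 6823, 9948, 4973, 14973, 8174, 10674, 6949, 11949, 6974, 11974, 8249, 10749, 5774, 13274, 8924, 10174, 3374, 12749, 1549, 2174, 7824, 11574, 974, 2849, 4124, 15374, 4174, 15424,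 1074, 2949, 7974, 11724, 1749, 2374, 6149, 13649, 3674, 13049, 9374, 10624]
    [625, 2500, 7500, 8125, 10625, 11250, 25, 100, 3250, 12625, 7150, 12150, 300, 325, 9100, 10350, 9150, 10400, 425, 450, 7350, 12350, 3625, 13000, 1, 1276, 1901, 676, 2551, 701, 2576, 1351, 1976, 652, 2527, 727, 2602, 653, 2528, 728, 2603, 4, 1279, 1904, 679, 2554, 704, 2579, 1354, 1979, 3130, 12505, 130, 505, 7806, 11556, 7956, 11706, 4557, 14557, 4957, 14957, 5208, 13958, 5558, 14308, 8459, 10959, 8559, 11059, 6510, 9635, 6635, 9760, 6886, 11886, 286, 486, 12, 7662, 11412, 4062, 15312, 4212, 15462, 8112, 11862, 13, 8363, 10863, 5963, 13463, 6063, 13563, 8663, 11163, 8764, 10014, 364, 414, 6515, 9640, 6640, 9765, 8766, 10016, 366, 416, 17, 8367, 10867, 5967, 13467, 6067, 13567, 8667, 11167, 18, 7668, 11418, 4068, 15318, 4218, 15468, 8118, 11868, 6894,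 11894, 294, 494, 3145, 12520, 145, 520, 8471, 10971, 8571, 11071, 5222, 13972, 5572, 14322, 4573, 14573, 4973, 14973, 7824, 11574, 7974, 11724]
    [[[4, 2, 4], [1, 4, 2], [3, 1, 4]], [[12, 24, 18], [24, 12, 18], [18, 18, 24]]]
    [([[12, 6, 12], [18, 12, 6], [6, 12, 18]], 3, 0), ([[24, 12, 18], [12, 12, 6], [18, 6, 12]], 17, 0), ([[1, 4, 3], [3, 1, 1], [1, 3, 4]], 22, 1), ([[9, 13, 13], [17, 21, 13], [13, 17, 9]], 22, 1), ([[18, 0, 0], [0, 18, 0], [0, 0, 12]], 21, 0), ([[1, 4, 2], [4, 2, 4], [2, 4, 1]], 21, 1), ([[13, 13, 21], [21, 13, 13], [13, 21, 13]], 25, 1), ([[0, 18, 0], [12, 0, 0], [0, 0, 12]], 37, 1), ([[4, 3, 4], [3, 4, 4], [1, 1, 2]], 36, 0), ([[0, 1, 0], [1, 0, 0], [0, 0, 4]], 39, 1), ([[12, 12, 6], [18, 6, 12], [24, 12, 18]], 47, 1), ([[2, 4, 1], [1, 3, 1], [1, 4, 2]], 47, 1), ([[12, 18, 24], [24, 18, 12], [12,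 6, 12]], 47, 0), ([[6, 12, 18], [18, 24, 18], [12, 18, 24]], 50, 1), ([[17, 9, 17], [21, 13, 13], [13, 13, 21]], 50, 1), ([[12, 18, 6], [24, 18, 18], [18, 24, 12]], 50, 1), ([[0, 0, 4], [1, 0, 0], [0, 4, 0]], 53, 0), ([[0, 1, 0], [0, 0, 4], [4, 0, 0]], 53, 1), ([[17, 9, 17], [9, 17, 17], [17, 17, 9]], 53, 1), ([[12, 18, 6], [6, 12, 12], [12, 6, 18]], 52, 0), ([[0, 0, 1], [1, 0, 0], [0, 1, 0]], 53, 1), ([[4, 1, 2], [4, 2, 1], [2, 4, 4]], 54, 1), ([[4, 0, 0], [0, 0, 1], [0, 1, 0]], 54, 1), ([[9, 17, 17], [17, 17, 9], [17, 9, 17]], 54, 1), ([[4, 3, 1], [3, 4, 1], [4, 4, 2]], 55, 1), ([[17, 21, 17], [13, 17, 21], [21, 17, 13]], 54, 0), ([[12, 18, 24], [6, 12, 18], [18, 24, 18]], 55, 0), ([[9, 13, 13], [13, 17, 9], [13, 9, 17]], 58, 1), ([[17, 13, 21], [13, 9, 17], [21, 17, 17]], 60, 1), ([[0, 0, 18], [0, 12, 0], [12, 0, 0]], 60,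 1), ([[17, 17, 21], [17, 9, 13], [21, 13, 17]], 63, 1), ([[24, 18, 12], [18, 24, 18], [18, 12, 6]], 63, 1), ([[18, 18, 6], [24, 12, 12], [12, 24, 12]], 64, 1), ([[6, 18, 18], [18, 18, 6], [12, 24, 12]], 65, 0), ([[18, 0, 0], [0, 0, 18], [0, 18, 0]], 66, 1), ([[2, 1, 1], [4, 4, 3], [4, 3, 4]], 66, 1), ([[18, 18, 24], [12, 24, 18], [24, 12, 18]], 66, 0), ([[18, 24, 12], [24, 18, 18], [18, 12, 24]], 67, 1), ([[0, 1, 0], [4, 0, 0], [0, 0, 1]], 66, 0), ([[0, 0, 12], [0, 12, 0], [18, 0, 0]], 66, 1), ([[1, 1, 2], [1, 2, 1], [2, 1, 1]], 66, 1), ([[18, 6, 12], [6, 18, 12], [18, 18, 24]], 67, 1), ([[12, 24, 18], [18, 18, 24], [6, 18, 12]], 67, 1), ([[13, 13, 9], [21, 13, 17], [17, 9, 13]], 67, 1), ([[6, 12, 18], [18, 12, 6], [18, 24, 18]], 67, 1), ([[3, 4, 1], [1, 2, 4], [4, 4, 2]], 67, 1), ([[2, 4, 1], [4, 1, 3], [1, 3, 1]], 68, 1), ([[17,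 9, 13], [17, 17, 21], [9, 17, 13]], 68, 1), ([[18, 24, 18], [24, 18, 12], [12, 18, 24]], 67, 0), ([[9, 17, 13], [17, 9, 13], [17, 17, 21]], 67, 1), ([[4, 4, 3], [1, 2, 1], [3, 4, 4]], 67, 1), ([[24, 12, 18], [18, 18, 24], [12, 24, 18]], 68, 1), ([[1, 4, 2], [3, 1, 4], [4, 2, 4]], 67, 0), ([[12, 24, 18], [6, 18, 12], [12, 12, 6]], 67, 1), ([[4, 2, 4], [4, 1, 3], [2, 4, 1]], 66, 0), ([[1, 2, 1], [4, 4, 3], [2, 1, 1]], 66, 0), ([[2, 4, 4], [4, 2, 1], [1, 4, 3]], 66, 1), ([[6, 12, 12], [12, 6, 18], [12, 18, 6]], 66, 1), ([[0, 0, 4], [4, 0, 0], [0, 1, 0]], 66, 1), ([[13, 9, 17], [17, 13, 21], [9, 13, 13]], 66, 1), ([[0, 12, 0], [0, 0, 18], [18, 0, 0]], 65, 0), ([[24, 18, 12], [12, 18, 24], [18, 24, 18]], 65, 1), ([[13, 17, 9], [21, 17, 17], [13, 9, 17]], 65, 1), ([[0, 0, 12], [12, 0, 0], [0, 12, 0]], 65, 1), ([[1, 3, 4], [4, 1, 2],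 [2, 4, 4]], 65, 1), ([[18, 6, 18], [24, 12, 12], [18, 18, 6]], 67, 1), ([[1, 3, 1], [1, 4, 2], [2, 4, 1]], 67, 1), ([[9, 17, 13], [13, 13, 9], [17, 9, 13]], 66, 0), ([[1, 3, 1], [3, 1, 4], [1, 4, 2]], 66, 1), ([[9, 17, 13], [13, 21, 17], [13, 13, 9]], 66, 1), ([[1, 3, 1], [4, 1, 3], [3, 1, 4]], 67, 1), ([[9, 17, 13], [17, 17, 21], [13, 21, 17]], 66, 0), ([[18, 6, 18], [6, 18, 18], [12, 12, 24]], 67, 0), ([[1, 4, 2], [2, 4, 1], [1, 3, 1]], 68, 1), ([[13, 13, 9], [17, 9, 13], [9, 17, 13]], 67, 0), ([[18, 12, 6], [12, 6, 12], [24, 18, 12]], 70, 1), ([[13, 9, 13], [9, 13, 17], [17, 13, 9]], 70, 0), ([[13, 21, 17], [13, 13, 9], [9, 17, 13]], 70, 1), ([[6, 18, 18], [12, 12, 24], [18, 6, 18]], 70, 1), ([[2, 4, 4], [1, 3, 4], [4, 1, 2]], 70, 1), ([[13, 0, 0], [0, 13, 0], [0, 0, 17]], 69, 0), ([[4, 0, 0], [0, 1, 0], [0, 0, 4]], 69, 1),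 ([[0, 12, 0], [0, 0, 12], [12, 0, 0]], 70, 1), ([[9, 17, 17], [17, 9, 17], [13, 13, 21]], 70, 1), ([[6, 12, 12], [12, 18, 6], [18, 24, 12]], 70, 1), ([[1, 0, 0], [0, 0, 4], [0, 1, 0]], 69, 0), ([[12, 18, 24], [18, 24, 18], [24, 18, 12]], 70, 1), ([[13, 21, 13], [13, 13, 21], [21, 13, 13]], 72, 1), ([[18, 12, 24], [18, 24, 12], [24, 18, 18]], 72, 1), ([[12, 6, 12], [24, 18, 12], [18, 12, 6]], 73, 1), ([[1, 1, 3], [2, 1, 4], [1, 2, 4]], 73, 1), ([[9, 13, 17], [17, 13, 9], [13, 9, 13]], 72, 0), ([[18, 12, 24], [6, 12, 12], [18, 24, 12]], 72, 0), ([[21, 17, 17], [13, 9, 17], [13, 17, 9]], 72, 1), ([[0, 0, 18], [12, 0, 0], [0, 18, 0]], 72, 1), ([[4, 2, 1], [4, 1, 2], [3, 1, 1]], 72, 1), ([[0, 17, 0], [0, 0, 17], [17, 0, 0]], 71, 0), ([[4, 4, 3], [3, 4, 4], [4, 3, 4]], 71, 1), ([[13, 9, 17], [9, 13, 13], [13, 17, 9]], 70, 0), ([[12,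 24, 18], [12, 12, 6], [24, 12, 18]], 70, 0), ([[12, 18, 24], [12, 6, 12], [6, 12, 18]], 70, 1), ([[4, 3, 1], [1, 1, 3], [3, 4, 1]], 70, 1), ([[21, 13, 13], [13, 13, 21], [17, 9, 17]], 70, 1), ([[24, 18, 18], [18, 24, 12], [12, 18, 6]], 69, 0), ([[12, 12, 6], [24, 12, 18], [12, 24, 18]], 69, 1), ([[2, 4, 1], [1, 4, 2], [4, 2, 4]], 68, 0), ([[4, 4, 2], [2, 1, 4], [4, 3, 1]], 68, 1), ([[17, 17, 9], [13, 21, 13], [21, 13, 13]], 68, 1), ([[12, 6, 18], [18, 12, 24], [24, 18, 18]], 68, 1), ([[4, 0, 0], [0, 4, 0], [0, 0, 1]], 68, 1), ([[1, 0, 0], [0, 0, 1], [0, 4, 0]], 69, 1), ([[0, 0, 12], [0, 18, 0], [12, 0, 0]], 70, 1), ([[1, 3, 4], [3, 1, 1], [4, 1, 2]], 70, 1), ([[0, 13, 0], [17, 0, 0], [0, 0, 17]], 69, 0), ([[0, 0, 4], [0, 4, 0], [4, 0, 0]], 69, 1), ([[13, 9, 17], [21, 17, 17], [17, 13, 21]], 69, 1), ([[12, 0, 0], [0, 0, 18], [0,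 12, 0]], 69, 1), ([[0, 12, 0], [12, 0, 0], [0, 0, 18]], 69, 1), ([[13, 13, 21], [13, 21, 13], [9, 17, 17]], 69, 1), ([[18, 24, 12], [18, 12, 24], [6, 12, 12]], 69, 1), ([[0, 1, 0], [0, 0, 1], [1, 0, 0]], 68, 0), ([[1, 0, 0], [0, 4, 0], [0, 0, 4]], 68, 1), ([[2, 1, 4], [1, 1, 3], [4, 3, 1]], 69, 1), ([[17, 13, 9], [9, 13, 17], [17, 21, 17]], 68, 0), ([[4, 1, 3], [3, 1, 4], [1, 3, 1]], 69, 1), ([[17, 17, 21], [13, 21, 17], [9, 17, 13]], 69, 1), ([[24, 18, 12], [12, 6, 12], [12, 18, 24]], 68, 0), ([[4, 2, 1], [2, 4, 4], [4, 1, 2]], 68, 0), ([[18, 24, 18], [18, 12, 6], [24, 18, 12]], 70, 1), ([[4, 4, 2], [1, 2, 4], [2, 1, 4]], 70, 1), ([[21, 17, 13], [13, 9, 13], [17, 13, 9]], 69, 0), ([[1, 2, 1], [1, 1, 2], [3, 4, 4]], 69, 1), ([[6, 18, 12], [18, 6, 12], [12, 12, 6]], 71, 1), ([[1, 2, 1], [3, 4, 4], [4, 4, 3]], 71, 1), ([[17, 13,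 21], [9, 13, 13], [13, 9, 17]], 70, 0), ([[17, 13, 21], [17, 21, 13], [9, 13, 13]], 70, 1), ([[0, 12, 0], [18, 0, 0], [0, 0, 12]], 70, 1), ([[1, 2, 1], [2, 1, 1], [1, 1, 2]], 70, 1), ([[17, 13, 21], [21, 17, 17], [17, 21, 13]], 69, 0), ([[1, 1, 2], [3, 4, 4], [1, 2, 1]], 69, 1), ([[6, 18, 12], [12, 24, 18], [18, 18, 24]], 70, 1), ([[3, 4, 4], [4, 4, 3], [1, 2, 1]], 70, 1), ([[9, 13, 13], [13, 9, 17], [17, 13, 21]], 69, 0), ([[17, 21, 13], [9, 13, 13], [17, 13, 21]], 69, 1), ([[0, 18, 0], [18, 0, 0], [0, 0, 18]], 69, 1), ([[4, 3, 4], [2, 1, 1], [4, 4, 3]], 68, 0), ([[3, 1, 1], [1, 4, 3], [4, 2, 1]], 68, 1), ([[17, 0, 0], [0, 0, 13], [0, 17, 0]], 67, 0), ([[18, 0, 0], [0, 0, 12], [0, 12, 0]], 67, 1), ([[2, 1, 1], [1, 1, 2], [1, 2, 1]], 67, 1), ([[17, 13, 9], [21, 17, 13], [13, 9, 13]], 67, 1), ([[13, 21, 17], [9, 17, 13], [17,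 17, 21]], 68, 1), ([[12, 6, 12], [12, 18, 24], [24, 18, 12]], 68, 1), ([[2, 1, 4], [4, 4, 2], [1, 2, 4]], 67, 0), ([[6, 18, 18], [18, 6, 18], [18, 18, 6]], 68, 1), ([[4, 1, 3], [1, 3, 1], [2, 4, 1]], 68, 1), ([[17, 17, 21], [9, 17, 13], [17, 9, 13]], 67, 0), ([[2, 4, 4], [4, 1, 2], [4, 2, 1]], 67, 1), ([[12, 12, 24], [18, 6, 18], [6, 18, 18]], 67, 0), ([[21, 13, 17], [17, 17, 21], [17, 9, 13]], 67, 1), ([[12, 24, 12], [18, 18, 6], [24, 12, 12]], 67, 1), ([[4, 2, 4], [2, 4, 1], [1, 4, 2]], 67, 1), ([[21, 13, 17], [17, 9, 13], [13, 13, 9]], 66, 0), ([[1, 4, 3], [4, 2, 1], [3, 1, 1]], 66, 1), ([[0, 0, 13], [0, 17, 0], [17, 0, 0]], 65, 0), ([[12, 24, 12], [6, 18, 18], [18, 18, 6]], 65, 0), ([[18, 12, 6], [24, 18, 12], [18, 24, 18]], 65, 1), ([[1, 1, 3], [1, 2, 4], [3, 4, 1]], 65, 1), ([[9, 13, 17], [13, 9, 13], [13, 17, 21]], 64,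 0), ([[13, 13, 21], [9, 17, 17], [17, 9, 17]], 64, 1), ([[18, 24, 12], [6, 12, 12], [12, 18, 6]], 63, 0), ([[2, 4, 4], [1, 4, 3], [1, 3, 4]], 64, 1), ([[13, 0, 0], [0, 0, 13], [0, 13, 0]], 64, 1), ([[24, 12, 12], [18, 18, 6], [18, 6, 18]], 63, 0), ([[0, 0, 4], [0, 1, 0], [1, 0, 0]], 63, 0), ([[0, 0, 17], [0, 17, 0], [13, 0, 0]], 63, 1), ([[12, 12, 24], [12, 24, 12], [24, 12, 12]], 64, 1), ([[3, 1, 4], [4, 2, 4], [1, 4, 2]], 64, 1), ([[13, 21, 17], [21, 13, 17], [13, 13, 9]], 63, 0), ([[4, 1, 3], [4, 2, 4], [3, 1, 4]], 63, 1), ([[17, 9, 13], [13, 13, 9], [21, 13, 17]], 63, 1), ([[18, 24, 18], [6, 12, 18], [18, 12, 6]], 64, 1), ([[4, 4, 2], [3, 4, 1], [1, 2, 4]], 64, 1), ([[21, 17, 13], [13, 17, 21], [13, 9, 13]], 63, 0), ([[17, 17, 21], [21, 13, 17], [13, 21, 17]], 63, 1), ([[24, 18, 12], [18, 12, 6], [12, 6, 12]], 63, 1), ([[1,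 2, 4], [1, 1, 3], [2, 1, 4]], 62, 0), ([[2, 1, 4], [1, 2, 4], [1, 1, 3]], 62, 1), ([[18, 18, 6], [12, 24, 12], [6, 18, 18]], 62, 1), ([[2, 4, 1], [4, 2, 4], [4, 1, 3]], 62, 1), ([[17, 9, 13], [21, 13, 17], [17, 17, 21]], 61, 0), ([[4, 2, 1], [1, 4, 3], [2, 4, 4]], 61, 1), ([[0, 17, 0], [0, 0, 13], [13, 0, 0]], 60, 0), ([[0, 4, 0], [0, 0, 1], [4, 0, 0]], 60, 1), ([[21, 17, 17], [17, 21, 13], [17, 13, 21]], 60, 1), ([[0, 0, 18], [18, 0, 0], [0, 12, 0]], 60, 1), ([[4, 4, 3], [2, 1, 1], [1, 2, 1]], 59, 0), ([[12, 0, 0], [0, 18, 0], [0, 0, 18]], 59, 1), ([[3, 4, 4], [4, 3, 4], [4, 4, 3]], 58, 0), ([[4, 1, 2], [3, 1, 1], [4, 2, 1]], 58, 1), ([[0, 0, 17], [17, 0, 0], [0, 17, 0]], 57, 0), ([[13, 21, 13], [17, 17, 9], [9, 17, 17]], 57, 1), ([[18, 12, 24], [12, 6, 18], [6, 12, 12]], 57, 1), ([[0, 0, 1], [0, 4, 0], [1, 0, 0]], 56, 0), ([[0,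 4, 0], [4, 0, 0], [0, 0, 4]], 56, 1), ([[13, 21, 13], [9, 17, 17], [13, 13, 21]], 55, 0), ([[12, 6, 12], [6, 12, 18], [12, 18, 24]], 55, 1), ([[2, 1, 4], [4, 3, 1], [4, 4, 2]], 55, 1), ([[13, 21, 13], [21, 13, 13], [17, 17, 9]], 55, 1), ([[17, 17, 9], [9, 17, 17], [13, 21, 13]], 56, 1), ([[12, 6, 18], [6, 12, 12], [18, 12, 24]], 56, 1), ([[0, 4, 0], [1, 0, 0], [0, 0, 1]], 55, 0), ([[9, 17, 17], [13, 13, 21], [13, 21, 13]], 55, 0), ([[6, 12, 18], [12, 18, 24], [12, 6, 12]], 55, 1), ([[3, 4, 1], [4, 3, 1], [1, 1, 3]], 55, 1), ([[13, 17, 21], [17, 21, 17], [9, 13, 17]], 54, 0), ([[4, 3, 1], [4, 4, 2], [2, 1, 4]], 54, 1), ([[21, 13, 13], [17, 17, 9], [13, 21, 13]], 54, 1), ([[24, 18, 18], [12, 6, 18], [18, 12, 24]], 53, 0), ([[17, 21, 13], [17, 13, 21], [21, 17, 17]], 53, 1), ([[18, 0, 0], [0, 12, 0], [0, 0, 18]], 53, 1), ([[1, 4,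 3], [2, 4, 4], [4, 2, 1]], 53, 1), ([[0, 0, 13], [13, 0, 0], [0, 17, 0]], 52, 0), ([[2, 1, 1], [1, 2, 1], [4, 4, 3]], 52, 1), ([[21, 17, 17], [17, 13, 21], [13, 9, 17]], 51, 0), ([[17, 13, 9], [13, 9, 13], [9, 13, 17]], 51, 1), ([[18, 18, 24], [6, 18, 12], [12, 24, 18]], 50, 0), ([[0, 18, 0], [0, 0, 18], [12, 0, 0]], 50, 1), ([[4, 3, 4], [4, 4, 3], [3, 4, 4]], 50, 1), ([[13, 17, 9], [13, 9, 17], [9, 13, 13]], 49, 0), ([[17, 21, 17], [9, 13, 17], [13, 17, 21]], 49, 1), ([[24, 12, 18], [12, 24, 18], [12, 12, 6]], 48, 0), ([[3, 1, 1], [4, 2, 1], [4, 1, 2]], 48, 1), ([[0, 0, 13], [17, 0, 0], [0, 13, 0]], 48, 1), ([[18, 18, 6], [6, 18, 18], [18, 6, 18]], 47, 0), ([[2, 1, 1], [4, 3, 4], [1, 1, 2]], 47, 1), ([[17, 13, 9], [17, 21, 17], [21, 17, 13]], 47, 1), ([[18, 6, 12], [12, 12, 6], [6, 18, 12]], 47, 1), ([[1, 3, 1], [2, 4, 1], [4,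 1, 3]], 46, 0), ([[18, 18, 24], [24, 12, 18], [18, 6, 12]], 46, 1), ([[3, 1, 4], [1, 4, 2], [1, 3, 1]], 45, 0), ([[1, 1, 2], [4, 3, 4], [3, 4, 4]], 45, 1), ([[17, 21, 13], [13, 17, 9], [9, 13, 13]], 44, 0), ([[21, 17, 17], [13, 17, 9], [17, 21, 13]], 44, 1), ([[12, 0, 0], [0, 0, 12], [0, 18, 0]], 44, 1), ([[3, 4, 4], [1, 1, 2], [4, 3, 4]], 43, 0), ([[4, 1, 2], [1, 3, 4], [3, 1, 1]], 43, 1), ([[0, 0, 17], [0, 13, 0], [17, 0, 0]], 42, 0), ([[0, 0, 18], [0, 18, 0], [18, 0, 0]], 42, 1), ([[4, 2, 1], [3, 1, 1], [1, 4, 3]], 42, 1), ([[0, 17, 0], [17, 0, 0], [0, 0, 13]], 41, 0), ([[4, 4, 3], [4, 3, 4], [2, 1, 1]], 41, 1), ([[13, 9, 17], [13, 17, 9], [21, 17, 17]], 40, 0), ([[9, 13, 17], [17, 21, 17], [17, 13, 9]], 40, 1), ([[21, 13, 17], [13, 13, 9], [13, 21, 17]], 41, 1), ([[18, 12, 6], [6, 12, 18], [12, 6, 12]], 41, 1), ([[1, 1, 3],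 [4, 3, 1], [2, 1, 4]], 40, 0), ([[1, 2, 4], [3, 4, 1], [1, 1, 3]], 40, 1), ([[13, 9, 13], [13, 17, 21], [9, 13, 17]], 39, 0), ([[12, 24, 12], [12, 12, 24], [6, 18, 18]], 39, 1), ([[4, 2, 4], [3, 1, 4], [4, 1, 3]], 39, 1), ([[21, 13, 17], [13, 21, 17], [17, 17, 21]], 38, 0), ([[1, 4, 3], [1, 3, 4], [2, 4, 4]], 38, 1), ([[0, 17, 0], [13, 0, 0], [0, 0, 17]], 38, 1), ([[12, 24, 12], [24, 12, 12], [12, 12, 24]], 37, 0), ([[13, 13, 9], [13, 21, 17], [21, 13, 17]], 37, 1), ([[12, 12, 24], [6, 18, 18], [12, 24, 12]], 37, 1), ([[3, 1, 4], [4, 1, 3], [4, 2, 4]], 37, 1), ([[13, 21, 17], [17, 17, 21], [21, 13, 17]], 36, 0), ([[1, 3, 4], [2, 4, 4], [1, 4, 3]], 36, 1), ([[0, 13, 0], [13, 0, 0], [0, 0, 13]], 35, 0), ([[13, 0, 0], [0, 0, 17], [0, 17, 0]], 35, 1), ([[24, 12, 12], [12, 12, 24], [12, 24, 12]], 34, 0), ([[6, 12, 18], [12, 6, 12],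 [18, 12, 6]], 34, 1), ([[4, 3, 1], [2, 1, 4], [1, 1, 3]], 34, 1), ([[17, 21, 17], [17, 13, 9], [9, 13, 17]], 33, 0), ([[21, 13, 13], [13, 21, 13], [13, 13, 21]], 33, 1), ([[24, 18, 18], [18, 12, 24], [18, 24, 12]], 32, 0), ([[3, 4, 1], [1, 1, 3], [1, 2, 4]], 32, 1), ([[17, 9, 17], [13, 13, 21], [9, 17, 17]], 32, 1), ([[12, 18, 6], [18, 24, 12], [6, 12, 12]], 31, 0), ([[13, 17, 21], [9, 13, 17], [13, 9, 13]], 31, 1), ([[12, 12, 6], [12, 24, 18], [6, 18, 12]], 30, 0), ([[21, 13, 13], [17, 9, 17], [17, 17, 9]], 31, 1), ([[24, 18, 18], [12, 18, 6], [12, 6, 18]], 31, 1), ([[4, 0, 0], [0, 0, 4], [0, 4, 0]], 30, 0), ([[0, 0, 1], [0, 1, 0], [4, 0, 0]], 30, 1), ([[17, 17, 9], [17, 9, 17], [9, 17, 17]], 29, 0), ([[18, 12, 6], [18, 24, 18], [6, 12, 18]], 29, 1), ([[1, 2, 4], [4, 4, 2], [3, 4, 1]], 29, 1), ([[13, 9, 13], [21, 17, 13], [13,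 17, 21]], 28, 0), ([[1, 1, 3], [3, 4, 1], [4, 3, 1]], 28, 1), ([[9, 13, 17], [13, 17, 21], [17, 21, 17]], 27, 0), ([[13, 13, 21], [17, 9, 17], [21, 13, 13]], 27, 1), ([[18, 24, 12], [12, 18, 6], [24, 18, 18]], 26, 0), ([[13, 17, 9], [9, 13, 13], [17, 21, 13]], 26, 1), ([[0, 18, 0], [0, 0, 12], [18, 0, 0]], 26, 1), ([[3, 1, 1], [1, 3, 4], [1, 4, 3]], 26, 1), ([[17, 0, 0], [0, 13, 0], [0, 0, 13]], 25, 0), ([[4, 3, 4], [1, 1, 2], [2, 1, 1]], 25, 1), ([[13, 17, 9], [17, 21, 13], [21, 17, 17]], 24, 0), ([[17, 21, 17], [21, 17, 13], [17, 13, 9]], 24, 1), ([[24, 12, 18], [18, 6, 12], [18, 18, 24]], 23, 0), ([[0, 0, 12], [18, 0, 0], [0, 18, 0]], 23, 1), ([[1, 1, 2], [2, 1, 1], [4, 3, 4]], 23, 1), ([[17, 21, 13], [21, 17, 17], [13, 17, 9]], 22, 0), ([[21, 17, 13], [17, 13, 9], [17, 21, 17]], 22, 1), ([[18, 6, 12], [18, 18, 24], [24, 12,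 18]], 21, 0), ([[1, 3, 4], [1, 4, 3], [3, 1, 1]], 21, 1), ([[13, 0, 0], [0, 17, 0], [0, 0, 13]], 21, 1), ([[24, 12, 12], [12, 24, 12], [18, 18, 6]], 20, 0), ([[0, 13, 0], [0, 0, 13], [17, 0, 0]], 20, 1), ([[18, 6, 18], [18, 18, 6], [6, 18, 18]], 19, 0), ([[6, 12, 12], [18, 24, 12], [18, 12, 24]], 19, 1), ([[17, 9, 13], [9, 17, 13], [13, 13, 9]], 19, 1), ([[24, 12, 12], [18, 6, 18], [12, 12, 24]], 19, 1), ([[1, 4, 2], [1, 3, 1], [3, 1, 4]], 19, 1), ([[13, 13, 9], [9, 17, 13], [13, 21, 17]], 18, 0), ([[3, 1, 1], [4, 1, 2], [1, 3, 4]], 18, 1), ([[17, 0, 0], [0, 0, 17], [0, 13, 0]], 17, 0), ([[0, 0, 13], [0, 13, 0], [13, 0, 0]], 17, 1), ([[18, 18, 6], [18, 6, 18], [24, 12, 12]], 16, 0), ([[18, 24, 18], [12, 18, 24], [6, 12, 18]], 16, 1), ([[3, 4, 1], [4, 4, 2], [4, 3, 1]], 16, 1), ([[13, 17, 21], [21, 17, 13], [17, 21, 17]], 15,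 0), ([[17, 9, 17], [17, 17, 9], [21, 13, 13]], 15, 1), ([[12, 18, 6], [12, 6, 18], [24, 18, 18]], 14, 0), ([[4, 4, 2], [4, 3, 1], [3, 4, 1]], 14, 1), ([[17, 17, 9], [21, 13, 13], [17, 9, 17]], 14, 1), ([[12, 6, 18], [24, 18, 18], [12, 18, 6]], 13, 0), ([[21, 17, 13], [17, 21, 17], [13, 17, 21]], 13, 1), ([[18, 6, 12], [24, 12, 18], [12, 12, 6]], 12, 0), ([[6, 18, 12], [12, 12, 6], [12, 24, 18]], 12, 1), ([[4, 1, 3], [2, 4, 1], [4, 2, 4]], 11, 0), ([[12, 0, 0], [0, 12, 0], [0, 0, 12]], 11, 1), ([[3, 4, 4], [1, 2, 1], [1, 1, 2]], 11, 1), ([[9, 13, 13], [17, 13, 21], [17, 21, 13]], 10, 0), ([[13, 17, 21], [13, 9, 13], [21, 17, 13]], 10, 1), ([[12, 12, 6], [6, 18, 12], [18, 6, 12]], 9, 0), ([[4, 1, 2], [2, 4, 4], [1, 3, 4]], 9, 1), ([[0, 13, 0], [0, 0, 17], [13, 0, 0]], 9, 1), ([[18, 6, 18], [12, 12, 24], [24, 12, 12]], 8, 0), ([[0,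 0, 17], [13, 0, 0], [0, 13, 0]], 8, 1), ([[12, 12, 24], [24, 12, 12], [18, 6, 18]], 7, 0), ([[12, 6, 18], [12, 18, 6], [6, 12, 12]], 7, 1), ([[0, 4, 0], [0, 0, 4], [1, 0, 0]], 6, 0), ([[1, 2, 4], [2, 1, 4], [4, 4, 2]], 6, 1), ([[9, 17, 17], [13, 21, 13], [17, 17, 9]], 6, 1), ([[6, 12, 12], [18, 12, 24], [12, 6, 18]], 5, 0), ([[13, 9, 13], [17, 13, 9], [21, 17, 13]], 5, 1), ([[6, 18, 12], [18, 18, 24], [18, 6, 12]], 4, 0), ([[18, 18, 24], [18, 6, 12], [6, 18, 12]], 4, 1), ([[3, 1, 4], [1, 3, 1], [4, 1, 3]], 3, 0), ([[17, 0, 0], [0, 17, 0], [0, 0, 17]], 3, 1), ([[6, 18, 18], [12, 24, 12], [12, 12, 24]], 2, 0), ([[18, 12, 24], [24, 18, 18], [12, 6, 18]], 2, 1), ([[0, 0, 1], [4, 0, 0], [0, 4, 0]], 1, 0), ([[12, 24, 18], [24, 12, 18], [18, 18, 24]], 1, 1), ([[4, 2, 4], [1, 4, 2], [3, 1, 4]], 0, 0)]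
    [[1, 6, 17], [21, 1, 18], [12, 13, 2]]
    [[2, 24, 16], [9, 2, 5], [11, 20, 0]]
    [0, 1, 0] :=
  ⟨by decide +kernel, by decide +kernel, by decide +kernel, by decide +kernel, by decide +kernel⟩

open Cfsg.Geo Cfsg.Lib.Forms in
theorem ext_u35 {F : Type*} [Field F] [Fintype F] {σ : F →+* F} (hq : IsConj σ 5) (E : Enc T25 F σ)
    {H : Subgroup (GL (Fin 3) F)} (hH : IsMaximalIn (GU 3 F 5 ⊓ specialLinear (Fin 3) F) H) {R : Subgroup (GL (Fin 3) F)}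
    (h1 : R ≤ GU 3 F 5 ⊓ specialLinear (Fin 3) F) (h2 : Nat.card R = 27) (h3 : H ≤ subgroupNormalizer R)
    (h4 : (Nat.card (SU 3 F 5)).factorization 3 = 3) : False :=
  ext_su hq E hH h1 h2 h3 h4
    (L := [10125, 12000, 12625, 10275, 12150, 12775, 10350, 12225, 12850, 3525, 7275, 9150, 3600, 7350, 9225, 3625, 7375, 9250, 15026, 7551, 10851, 1551, 6051, 1226, 7527, 8802, 10052, 15127, 7102, 12102, 5902, 927, 1602, 1652, 11052, 6102, 15502, 3727, 13102, 8828, 10078, 11353, 3878, 3278, 12653, 13403, 8453, 2228, 2278, 2953, 13603, 4253, 7403, 12403, 11329, 3854, 2654, 13454, 2329, 8654, 10005, 11880, 12505, 15055, 3830, 2030, 5855, 405, 480, 505, 13655, 1855, 3206, 12581, 2606, 2006, 7031, 12031, 4031, 11581, 13481, 13531, 8581, 4231, 2381, 9281, 10531, 13932, 14582, 6507, 9632, 6632, 4932, 14932, 5582, 14332, 14558, 6458, 5258,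 14008, 14133, 6808, 9933, 4958, 14958, 10659, 6934, 11934, 5759, 3359, 12734, 1534, 7809, 15359, 15409, 1059, 1734, 6134, 9359, 10609, 6435, 9560, 5210, 13960, 4635, 4760, 14760, 5560, 9960, 10011, 11886, 12511, 5686, 13211, 3911, 1486, 411, 486, 511, 2411, 15611, 1287, 687, 7737, 5937, 15437, 11237, 8213, 13238, 11413, 2213, 4213, 3038, 10014, 11889, 12514, 1314, 1964, 13289, 15239, 414, 489, 514, 4289, 6239, 6440, 13965, 4640, 14640, 14765, 5565, 14315, 6840, 9965, 3141, 6891, 8766, 1316, 1966, 141, 13291, 15241, 291, 366, 4291, 6241, 5667, 10692, 867, 15317, 1692, 8117, 2593, 1993, 8293, 4093, 13593, 11793, 3144, 6894, 8769, 5694, 13219, 144, 3919, 1494, 294, 369, 2419, 15619, 3145, 6895, 8770, 15070, 3845, 145, 2045, 5870, 295, 370, 13670, 1870, 6971, 11971, 8246, 13271, 8921, 10171, 2171, 2846, 4121, 4171, 11721, 2371, 13646,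 3671, 13046, 4572, 14572, 6472, 9597, 5272, 5397, 14147, 9947, 4972, 5198, 13948, 4598, 14598, 9648, 6648, 9773, 4948, 5598, 674, 3199, 12574, 1399, 8999, 10249, 15299, 10949, 5999, 6049, 7949, 15499, 1774, 7499, 12499])
    (LR := [[[0, 0, 1], [1, 0, 0], [0, 1, 0]], [[0, 0, 1], [12, 0, 0], [0, 17, 0]], [[0, 0, 1], [17, 0, 0], [0, 12, 0]], [[0, 0, 12], [1, 0, 0], [0, 17, 0]], [[0, 0, 12], [12, 0, 0], [0, 12, 0]], [[0, 0, 12], [17, 0, 0], [0, 1, 0]], [[0, 0, 17], [1, 0, 0], [0, 12, 0]], [[0, 0, 17], [12, 0, 0], [0, 1, 0]], [[0, 0, 17], [17, 0, 0], [0, 17, 0]], [[0, 1, 0], [0, 0, 1], [1, 0, 0]], [[0, 1, 0], [0, 0, 12], [17, 0, 0]], [[0, 1, 0], [0, 0, 17], [12, 0, 0]], [[0, 12, 0], [0, 0, 1], [17, 0, 0]], [[0, 12, 0], [0, 0, 12], [12, 0, 0]], [[0, 12, 0], [0, 0, 17], [1, 0, 0]], [[0, 17, 0], [0, 0, 1], [12, 0, 0]], [[0, 17, 0],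 [0, 0, 12], [1, 0, 0]], [[0, 17, 0], [0, 0, 17], [17, 0, 0]], [[1, 0, 0], [0, 1, 0], [0, 0, 1]], [[1, 0, 0], [0, 12, 0], [0, 0, 17]], [[1, 0, 0], [0, 17, 0], [0, 0, 12]], [[12, 0, 0], [0, 1, 0], [0, 0, 17]], [[12, 0, 0], [0, 12, 0], [0, 0, 12]], [[12, 0, 0], [0, 17, 0], [0, 0, 1]], [[17, 0, 0], [0, 1, 0], [0, 0, 12]], [[17, 0, 0], [0, 12, 0], [0, 0, 1]], [[17, 0, 0], [0, 17, 0], [0, 0, 17]]])
    (gs := [[[15, 15, 15], [15, 8, 7], [15, 7, 8]], [[7, 8, 8], [7, 7, 15], [8, 7, 8]]])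
    (S := [([[10, 22, 22], [23, 23, 22], [23, 22, 23]], 5, 1), ([[0, 18, 0], [4, 0, 0], [0, 0, 13]], 10, 0), ([[8, 8, 15], [15, 8, 8], [15, 7, 15]], 14, 1), ([[15, 7, 7], [8, 8, 7], [8, 7, 8]], 18, 1), ([[10, 23, 23], [22, 23, 22], [22, 22, 23]], 23, 1), ([[15, 7, 8], [7, 7, 7], [8, 7, 15]], 31, 0), ([[22, 23, 10], [22, 22, 22], [22, 10, 23]], 36, 1), ([[8, 15, 15], [8, 8, 7], [15, 8, 15]], 35, 0), ([[10, 10, 22], [10, 23, 23], [23, 10, 23]], 36, 0), ([[23, 23, 23], [23, 22, 10], [23, 10, 22]], 36, 1), ([[7, 15, 8], [8, 15, 7], [15, 15, 15]], 39, 1), ([[8, 7, 8], [7, 8, 8], [7, 7, 15]], 39, 1), ([[7, 8, 15], [15, 15, 15], [8, 7, 15]], 41, 1), ([[7, 7, 7], [8, 7, 15], [15, 7, 8]], 41, 1), ([[23, 23, 10], [22, 10, 10], [23, 10, 23]], 40, 0), ([[22, 22, 22], [10, 23, 22], [23, 10, 22]], 40, 1), ([[8, 8, 7], [7, 15, 7], [7, 8, 8]],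 39, 0), ([[15, 15, 15], [8, 7, 15], [7, 8, 15]], 40, 0), ([[12, 0, 0], [0, 12, 0], [0, 0, 12]], 40, 1), ([[15, 8, 8], [7, 8, 7], [7, 7, 8]], 49, 1), ([[15, 15, 7], [8, 7, 7], [15, 7, 15]], 52, 1), ([[23, 23, 22], [10, 23, 10], [23, 10, 10]], 54, 1), ([[17, 0, 0], [0, 12, 0], [0, 0, 1]], 53, 0), ([[0, 4, 0], [18, 0, 0], [0, 0, 13]], 54, 1), ([[0, 12, 0], [0, 0, 17], [1, 0, 0]], 56, 0), ([[12, 0, 0], [0, 17, 0], [0, 0, 1]], 58, 0), ([[0, 13, 0], [13, 0, 0], [0, 0, 13]], 59, 1), ([[10, 22, 22], [10, 10, 23], [22, 10, 22]], 58, 0), ([[13, 0, 0], [0, 0, 4], [0, 18, 0]], 60, 1), ([[10, 10, 23], [10, 23, 10], [22, 23, 23]], 59, 0), ([[7, 7, 8], [7, 15, 15], [15, 7, 15]], 60, 0), ([[18, 0, 0], [0, 0, 18], [0, 18, 0]], 60, 1), ([[15, 8, 8], [8, 15, 8], [15, 15, 7]], 60, 1), ([[0, 17, 0], [0, 0, 17], [17, 0, 0]], 60, 0), ([[0, 1, 0], [0,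 0, 17], [12, 0, 0]], 61, 1), ([[22, 22, 10], [10, 23, 10], [10, 22, 22]], 61, 1), ([[18, 0, 0], [0, 0, 4], [0, 13, 0]], 62, 0), ([[0, 0, 1], [12, 0, 0], [0, 17, 0]], 64, 1), ([[15, 7, 15], [8, 8, 15], [15, 8, 8]], 63, 0), ([[0, 0, 12], [1, 0, 0], [0, 17, 0]], 63, 1), ([[7, 8, 7], [7, 7, 8], [15, 8, 8]], 62, 0), ([[22, 10, 22], [22, 23, 23], [23, 23, 22]], 62, 1), ([[0, 12, 0], [0, 0, 12], [12, 0, 0]], 62, 1), ([[8, 7, 7], [7, 8, 7], [8, 8, 15]], 61, 0), ([[0, 0, 13], [0, 13, 0], [13, 0, 0]], 61, 1), ([[22, 10, 22], [10, 22, 22], [10, 10, 23]], 60, 0), ([[15, 7, 15], [7, 7, 8], [7, 15, 15]], 60, 1), ([[0, 18, 0], [13, 0, 0], [0, 0, 4]], 59, 0), ([[17, 0, 0], [0, 1, 0], [0, 0, 12]], 59, 1), ([[15, 15, 7], [7, 15, 15], [7, 8, 7]], 58, 0), ([[23, 10, 10], [22, 22, 10], [22, 10, 22]], 58, 1), ([[0, 0, 1], [1, 0, 0], [0, 1, 0]], 57,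 0), ([[23, 23, 22], [23, 22, 23], [10, 22, 22]], 57, 1), ([[4, 0, 0], [0, 0, 13], [0, 18, 0]], 57, 1), ([[23, 23, 22], [22, 10, 22], [22, 23, 23]], 56, 0), ([[10, 23, 10], [22, 23, 23], [10, 10, 23]], 56, 0), ([[7, 8, 7], [15, 15, 7], [7, 15, 15]], 56, 1), ([[22, 22, 10], [23, 22, 23], [22, 23, 23]], 56, 1), ([[1, 0, 0], [0, 17, 0], [0, 0, 12]], 55, 0), ([[10, 10, 22], [22, 10, 10], [22, 23, 22]], 55, 1), ([[22, 23, 22], [10, 10, 22], [22, 10, 10]], 55, 1), ([[10, 23, 22], [22, 23, 10], [23, 23, 23]], 54, 0), ([[22, 23, 10], [23, 23, 23], [10, 23, 22]], 55, 1), ([[10, 22, 10], [22, 22, 23], [22, 10, 10]], 55, 1), ([[23, 22, 10], [23, 10, 22], [23, 23, 23]], 54, 0), ([[8, 8, 8], [15, 8, 7], [7, 8, 15]], 55, 1), ([[22, 22, 23], [10, 23, 23], [22, 23, 22]], 54, 0), ([[15, 8, 7], [8, 15, 7], [7, 7, 7]], 55, 1), ([[7, 15, 7], [7,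 8, 8], [8, 8, 7]], 55, 1), ([[8, 7, 15], [8, 15, 7], [8, 8, 8]], 56, 1), ([[22, 10, 10], [10, 22, 10], [22, 22, 23]], 55, 0), ([[8, 15, 7], [8, 8, 8], [8, 7, 15]], 55, 0), ([[15, 15, 8], [7, 15, 7], [15, 7, 7]], 55, 0), ([[7, 7, 7], [7, 15, 8], [7, 8, 15]], 55, 1), ([[8, 8, 7], [8, 7, 8], [15, 7, 7]], 55, 1), ([[10, 23, 23], [10, 22, 10], [23, 23, 10]], 55, 1), ([[22, 22, 22], [23, 22, 10], [10, 22, 23]], 54, 0), ([[23, 10, 22], [10, 10, 10], [22, 10, 23]], 55, 1), ([[7, 8, 8], [15, 15, 8], [15, 8, 15]], 54, 0), ([[22, 23, 22], [23, 23, 10], [23, 22, 22]], 54, 1), ([[7, 8, 15], [7, 7, 7], [7, 15, 8]], 55, 0), ([[23, 22, 10], [22, 23, 10], [10, 10, 10]], 57, 1), ([[8, 7, 8], [8, 15, 15], [15, 15, 8]], 56, 0), ([[22, 10, 10], [23, 10, 23], [23, 23, 10]], 56, 1), ([[23, 23, 23], [22, 10, 23], [10, 22, 23]], 55, 0), ([[10, 22, 23],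 [23, 23, 23], [22, 10, 23]], 55, 1), ([[15, 7, 7], [7, 7, 15], [15, 8, 15]], 54, 0), ([[23, 10, 23], [22, 22, 23], [23, 22, 22]], 54, 1), ([[23, 23, 23], [10, 23, 22], [22, 23, 10]], 54, 1), ([[7, 7, 15], [7, 15, 7], [8, 15, 15]], 53, 0), ([[8, 8, 8], [7, 15, 8], [15, 7, 8]], 53, 1), ([[22, 22, 23], [23, 22, 22], [23, 10, 23]], 52, 0), ([[15, 15, 8], [8, 7, 8], [8, 15, 15]], 52, 1), ([[8, 7, 15], [15, 7, 8], [7, 7, 7]], 51, 0), ([[22, 10, 23], [22, 23, 10], [22, 22, 22]], 51, 1), ([[15, 8, 15], [8, 15, 15], [8, 8, 7]], 50, 0), ([[23, 22, 22], [10, 22, 10], [10, 10, 22]], 50, 1), ([[10, 10, 10], [23, 22, 10], [22, 23, 10]], 49, 0), ([[8, 15, 15], [7, 7, 15], [7, 15, 7]], 49, 1), ([[7, 7, 7], [15, 8, 7], [8, 15, 7]], 48, 0), ([[10, 23, 23], [23, 10, 23], [10, 10, 22]], 48, 1), ([[15, 7, 8], [15, 15, 15], [15, 8, 7]], 48, 1), ([[23,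 10, 23], [10, 10, 22], [10, 23, 23]], 47, 0), ([[22, 23, 22], [22, 22, 23], [10, 23, 23]], 47, 1), ([[10, 23, 22], [23, 10, 22], [22, 22, 22]], 46, 0), ([[22, 10, 10], [22, 23, 22], [10, 10, 22]], 46, 0), ([[15, 8, 15], [15, 7, 7], [7, 7, 15]], 46, 1), ([[7, 8, 15], [8, 8, 8], [15, 8, 7]], 45, 0), ([[23, 23, 10], [23, 22, 22], [22, 23, 22]], 45, 1), ([[10, 22, 23], [10, 10, 10], [10, 23, 22]], 44, 0), ([[22, 22, 22], [22, 10, 23], [22, 23, 10]], 44, 1), ([[8, 8, 7], [15, 8, 15], [8, 15, 15]], 43, 0), ([[7, 15, 7], [8, 15, 15], [7, 7, 15]], 44, 1), ([[8, 15, 7], [7, 7, 7], [15, 8, 7]], 43, 0), ([[10, 10, 10], [22, 10, 23], [23, 10, 22]], 43, 1), ([[0, 13, 0], [18, 0, 0], [0, 0, 4]], 43, 1), ([[0, 0, 4], [0, 13, 0], [18, 0, 0]], 44, 1), ([[10, 23, 10], [10, 22, 22], [22, 22, 10]], 43, 0), ([[8, 7, 7], [15, 7, 15], [15, 15, 7]],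 43, 1), ([[0, 0, 18], [0, 18, 0], [18, 0, 0]], 42, 0), ([[0, 0, 18], [0, 13, 0], [4, 0, 0]], 42, 1), ([[23, 22, 23], [10, 22, 22], [23, 23, 22]], 41, 0), ([[8, 15, 8], [7, 7, 8], [8, 7, 7]], 41, 1), ([[10, 22, 22], [22, 22, 10], [10, 23, 10]], 41, 1), ([[0, 0, 17], [1, 0, 0], [0, 12, 0]], 40, 0), ([[0, 18, 0], [18, 0, 0], [0, 0, 18]], 40, 1), ([[22, 23, 23], [22, 22, 10], [23, 22, 23]], 39, 0), ([[0, 0, 17], [17, 0, 0], [0, 17, 0]], 39, 1), ([[8, 15, 8], [15, 15, 7], [15, 8, 8]], 38, 0), ([[10, 23, 10], [23, 10, 10], [23, 23, 22]], 38, 1), ([[0, 12, 0], [0, 0, 1], [17, 0, 0]], 37, 0), ([[13, 0, 0], [0, 0, 18], [0, 4, 0]], 37, 1), ([[10, 10, 23], [23, 22, 23], [23, 10, 10]], 36, 0), ([[7, 15, 15], [8, 15, 8], [8, 8, 15]], 36, 1), ([[0, 0, 4], [0, 4, 0], [4, 0, 0]], 35, 0), ([[22, 23, 23], [10, 10, 23], [10, 23, 10]], 35, 1), ([[0,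 0, 12], [12, 0, 0], [0, 12, 0]], 34, 0), ([[7, 7, 8], [15, 8, 8], [7, 8, 7]], 34, 1), ([[1, 0, 0], [0, 12, 0], [0, 0, 17]], 34, 1), ([[7, 7, 8], [8, 7, 7], [8, 15, 8]], 33, 0), ([[18, 0, 0], [0, 0, 13], [0, 4, 0]], 33, 1), ([[15, 8, 8], [15, 7, 15], [8, 8, 15]], 33, 1), ([[0, 0, 13], [0, 18, 0], [4, 0, 0]], 32, 0), ([[15, 7, 15], [15, 15, 7], [8, 7, 7]], 32, 0), ([[23, 22, 23], [23, 10, 10], [10, 10, 23]], 32, 1), ([[0, 17, 0], [0, 0, 1], [12, 0, 0]], 31, 0), ([[8, 8, 15], [8, 7, 7], [7, 8, 7]], 31, 1), ([[4, 0, 0], [0, 0, 18], [0, 13, 0]], 30, 0), ([[12, 0, 0], [0, 1, 0], [0, 0, 17]], 30, 1), ([[13, 0, 0], [0, 0, 13], [0, 13, 0]], 30, 1), ([[10, 10, 23], [22, 10, 22], [10, 22, 22]], 29, 0), ([[0, 0, 4], [0, 18, 0], [13, 0, 0]], 29, 0), ([[22, 23, 23], [23, 23, 22], [22, 10, 22]], 29, 1), ([[0, 0, 12], [17, 0, 0], [0, 1, 0]],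 28, 0), ([[0, 4, 0], [4, 0, 0], [0, 0, 4]], 28, 1), ([[7, 8, 7], [8, 8, 15], [8, 7, 7]], 28, 1), ([[0, 13, 0], [4, 0, 0], [0, 0, 18]], 27, 0), ([[0, 0, 17], [12, 0, 0], [0, 1, 0]], 27, 1), ([[8, 15, 8], [8, 8, 15], [7, 15, 15]], 26, 0), ([[15, 7, 7], [15, 15, 8], [7, 15, 7]], 26, 1), ([[10, 23, 22], [10, 22, 23], [10, 10, 10]], 26, 1), ([[7, 15, 7], [15, 7, 7], [15, 15, 8]], 25, 0), ([[7, 15, 8], [7, 8, 15], [7, 7, 7]], 25, 1), ([[8, 7, 8], [15, 7, 7], [8, 8, 7]], 25, 1), ([[15, 7, 8], [8, 8, 8], [7, 15, 8]], 24, 0), ([[22, 23, 10], [10, 10, 10], [23, 22, 10]], 24, 1), ([[8, 15, 15], [15, 15, 8], [8, 7, 8]], 23, 0), ([[10, 22, 10], [23, 23, 10], [10, 23, 23]], 23, 1), ([[23, 22, 10], [10, 22, 23], [22, 22, 22]], 22, 0), ([[7, 7, 15], [8, 7, 8], [7, 8, 8]], 22, 1), ([[15, 8, 7], [15, 7, 8], [15, 15, 15]], 21, 0), ([[23, 10, 22],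 [23, 23, 23], [23, 22, 10]], 21, 1), ([[8, 8, 8], [8, 7, 15], [8, 15, 7]], 21, 1), ([[22, 22, 23], [22, 10, 10], [10, 22, 10]], 20, 0), ([[15, 15, 8], [15, 8, 15], [7, 8, 8]], 20, 1), ([[8, 7, 15], [7, 8, 15], [15, 15, 15]], 19, 0), ([[23, 10, 23], [23, 23, 10], [22, 10, 10]], 19, 1), ([[22, 10, 23], [10, 22, 23], [23, 23, 23]], 18, 0), ([[15, 15, 15], [7, 15, 8], [8, 15, 7]], 18, 1), ([[10, 10, 22], [23, 22, 22], [10, 22, 10]], 17, 0), ([[7, 7, 15], [15, 8, 15], [15, 7, 7]], 17, 1), ([[15, 8, 7], [7, 8, 15], [8, 8, 8]], 16, 0), ([[23, 10, 22], [22, 22, 22], [10, 23, 22]], 16, 1), ([[7, 8, 8], [8, 8, 7], [7, 15, 7]], 15, 0), ([[8, 15, 7], [15, 15, 15], [7, 15, 8]], 15, 1), ([[10, 22, 10], [10, 10, 22], [23, 22, 22]], 14, 0), ([[17, 0, 0], [0, 17, 0], [0, 0, 17]], 14, 1), ([[15, 15, 7], [15, 8, 8], [8, 15, 8]], 13, 0), ([[23,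 10, 10], [23, 23, 22], [10, 23, 10]], 13, 1), ([[0, 0, 1], [17, 0, 0], [0, 12, 0]], 12, 0), ([[8, 7, 7], [8, 15, 8], [7, 7, 8]], 12, 1), ([[0, 0, 18], [0, 4, 0], [13, 0, 0]], 11, 0), ([[0, 1, 0], [0, 0, 1], [1, 0, 0]], 11, 1), ([[7, 15, 15], [15, 7, 15], [7, 7, 8]], 10, 0), ([[23, 22, 23], [22, 23, 23], [22, 22, 10]], 10, 1), ([[0, 17, 0], [0, 0, 12], [1, 0, 0]], 9, 0), ([[0, 0, 13], [0, 4, 0], [18, 0, 0]], 9, 1), ([[22, 10, 22], [23, 10, 10], [22, 22, 10]], 8, 0), ([[0, 1, 0], [0, 0, 12], [17, 0, 0]], 8, 1), ([[7, 15, 15], [7, 8, 7], [15, 15, 7]], 7, 0), ([[22, 22, 10], [22, 10, 22], [23, 10, 10]], 7, 1), ([[23, 23, 10], [10, 23, 23], [10, 22, 10]], 7, 1), ([[10, 22, 23], [22, 22, 22], [23, 22, 10]], 6, 0), ([[7, 15, 8], [15, 7, 8], [8, 8, 8]], 6, 1), ([[23, 22, 22], [23, 10, 23], [22, 22, 23]], 5, 0), ([[22, 10, 23], [23, 10,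 22], [10, 10, 10]], 5, 1), ([[15, 8, 15], [7, 8, 8], [15, 15, 8]], 4, 0), ([[23, 22, 22], [22, 23, 22], [23, 23, 10]], 4, 1), ([[10, 10, 10], [10, 23, 22], [10, 22, 23]], 3, 0), ([[0, 4, 0], [13, 0, 0], [0, 0, 18]], 3, 1), ([[23, 10, 10], [10, 10, 23], [23, 22, 23]], 2, 0), ([[8, 8, 15], [7, 15, 15], [8, 15, 8]], 2, 1), ([[4, 0, 0], [0, 0, 4], [0, 4, 0]], 1, 0), ([[7, 8, 8], [7, 7, 15], [8, 7, 8]], 1, 1), ([[15, 15, 15], [15, 8, 7], [15, 7, 8]], 0, 0)])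
    (A := [[1, 0, 0], [0, 12, 0], [0, 0, 17]]) (B := [[0, 0, 1], [1, 0, 0], [0, 1, 0]]) (X := [[1, 0, 0], [0, 12, 0], [0, 0, 17]])
    (x := [[2, 21, 20], [6, 2, 16], [5, 11, 0]]) (y := [[1, 6, 17], [21, 1, 18], [12, 13, 2]]) (v := [0, 5, 16])
    (by decide +kernel) (by decide +kernel) (by decide +kernel) (by decide +kernel) (by decide +kernel) (by decide +kernel)

end Cfsg.Lib.Linear.Nm
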