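/-
Certificates for the unitary group `SU₆(2)`.
-/
import Cfsg.Agent.Lib.Linear.NmD

set_option autoImplicit false
set_option maxRecDepth 100000
set_option maxHeartbeats 4000000

namespace Cfsg.Lib.Linear.Nm

open Matrix Cfsg.Geo Cfsg.Lib.Asch Cfsg.Lib.Forms

variable {F : Type*} [Field F] [Fintype F] {σ : F →+* F}

/-- Vectors of weight two or with product one. -/
noncomputable def τ6 (l : List ℕ) : Bool := (l.map fun a => if a = 0 then 0 else 1).sum == 2 || T4.pr l == 1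

theorem char_two (hq : IsConj σ 2) : (2 : F) = 0 := by
  obtain ⟨p, hp, k, h1, h2⟩ := FiniteField.card' F
  have h3 : p ∣ 2 ^ 2 := by
    rw [← hq.card, Nat.card_eq_fintype_card, h2]; exact dvd_pow_self p k.ne_zero
  obtain rfl := (Nat.prime_dvd_prime_iff_eq h1 Nat.prime_two).1 (h1.dvd_of_dvd_pow h3)
  exact CharP.cast_eq_zero F 2

theorem mon_mem (hq : IsConj σ 2) (E : Enc T4 F σ) {g : GL (Fin 6) F} (hg : g ∈ specialLinear (Fin 6) F) (h : IsMon g) :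
    g ∈ E.Y 6 τ6 := by
  classical
  obtain ⟨π, hπ⟩ := h
  have h1 : ∀ x : Fin 6 → F, τ6 (E.v x) = true ↔ (∑ i, if x i = 0 then 0 else 1 : ℕ) = 2 ∨ ∏ i, x i = 1 := fun x => by
    rw [τ6, ← E.e_prod, Bool.or_eq_true, beq_iff_eq, beq_iff_eq, Enc.v, List.map_ofFn, List.sum_ofFn, ← E.one,
      E.inj.eq_iff]
    simp [E.e_eq_zero]
  have h2 : ∀ (x : Fin 6 → F) j, (g.1 *ᵥ x) (π j) = g.1 (π j) j * x j := fun x j =>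
    Finset.sum_eq_single (s := Finset.univ) (f := fun k => g.1 (π j) k * x k) j
      (fun k _ hk => by rw [hπ _ _ (π.injective.ne hk.symm), zero_mul]) (by simp)
  have h3 : ∏ j, g.1 (π j) j = 1 := by
    have : g.1.submatrix π id = diagonal fun j => g.1 (π j) j := Matrix.ext fun i j => by
      rcases eq_or_ne i j with rfl | h
      · simp
      · rw [diagonal_apply_ne _ h]; exact hπ _ _ (π.injective.ne h)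
    rw [← det_diagonal, ← this, det_permute, mem_sl.1 hg]
    rcases Int.units_eq_one_or (Equiv.Perm.sign π) with h | h <;> simp [h]
    linear_combination -char_two hq
  have h4 : ∀ j, g.1 (π j) j ≠ 0 := fun j h => by
    exact zero_ne_one ((Finset.prod_eq_zero (f := fun j => g.1 (π j) j) (Finset.mem_univ j) h).symm.trans h3)
  refine mem_stS fun x hx => (h1 _).2 (((h1 x).1 hx).imp (fun h => ?_) fun h => ?_)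
  · rw [← Equiv.sum_comp π, ← h]; simp [h2, h4]
  · rw [← Equiv.prod_comp π]; simp [h2, Finset.prod_mul_distrib, h3, h]

/-- The standard element of order nine. -/
def t9 (ω : F) : Matrix (Fin 6) (Fin 6) F :=
  !![0, 0, ω, 0, 0, 0; 1, 0, 0, 0, 0, 0; 0, 1, 0, 0, 0, 0; 0, 0, 0, 0, 0, ω; 0, 0, 0, 1, 0, 0; 0, 0, 0, 0, 1, 0]

theorem exists_onb (hq : IsConj σ 2) {t : GL (Fin 6) F} (ht : t ∈ GU 6 F 2) {ω : F} (hω : ω ^ 2 + ω + 1 = 0)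
    (h3 : t.1 ^ 3 = ω • 1) : ∃ P ∈ GU 6 F 2, (P⁻¹ * t * P).1 = t9 ω := by
  have hm := hm_hermForm hq 6
  have h2 := char_two hq
  have hU : ∀ x y, hermForm 6 F 2 (t.1 *ᵥ x) (t.1 *ᵥ y) = hermForm 6 F 2 x y := ht
  have hP : ∀ c : Fin 6 → Fin 6 → F, (∀ i j, hermForm 6 F 2 (c i) (c j) = if i = j then 1 else 0) →
      ∃ P ∈ GU 6 F 2, P.1 = (of c)ᵀ := fun c hc => by
    have : (of c)ᵀᵀ * (of c)ᵀ.map σ = 1 := Matrix.ext fun i j => by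
      rw [one_apply, ← hc, herm_eq hq]; rfl
    have h := congrArg det this
    rw [det_mul, det_transpose, det_one] at h
    exact ⟨GeneralLinearGroup.mkOfDetNeZero _ (left_ne_zero_of_mul_eq_one h), (mem_GU' hq).2 this, rfl⟩
  have h0 : hermForm 6 F 2 (Pi.single 0 1) (Pi.single 0 1) = 1 := by simp [hermForm, Pi.single_apply]
  generalize hermForm 6 F 2 = f at *
  have ht3 : ∀ x, t.1 *ᵥ t.1 *ᵥ t.1 *ᵥ x = ω • x := fun x => by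
    rw [mulVec_mulVec, mulVec_mulVec, ← pow_three', h3, smul_mulVec, one_mulVec]
  have sw : ∀ x y, f x y = f y x ^ 2 := fun x y => by rw [← hq.apply, hm.swap, one_mul]
  have h4 : ∀ x y, f (t.1 *ᵥ t.1 *ᵥ x) y = ω * f x (t.1 *ᵥ y) := fun x y => by rw [← hU, ht3, hm.smul_left]
  have step : ∀ u, f u u = 1 → ∃ c : F, f (c • t.1 *ᵥ u + u) (c • t.1 *ᵥ u + u) = 1 ∧
      f (t.1 *ᵥ (c • t.1 *ᵥ u + u)) (c • t.1 *ᵥ u + u) = 0 := fun u hu => by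
    have h5 : f (t.1 *ᵥ u) u ^ 4 = f (t.1 *ᵥ u) u := by
      have := hq.σσ (f (t.1 *ᵥ u) u)
      rwa [hq.apply, hq.apply, ← pow_mul] at this
    refine ⟨ω * f (t.1 *ᵥ u) u ^ 2, ?_, ?_⟩ <;>
      simp only [mulVec_add, mulVec_smul, hm.add_left, hm.add_right, hm.smul_left, hm.smul_right, hU, h4, hu,
        sw u (t.1 *ᵥ u), hq.apply] <;> generalize f (t.1 *ᵥ u) u = β at * <;> grind
  have unit : ∀ p : (Fin 6 → F) → Prop, (∀ (c : F) x y, p x → p y → p (c • x + y)) → ∀ w u, p w → p u → f w u ≠ 0 →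
      ∃ z, p z ∧ f z z = 1 := fun p hp w u hw hu h => by
    by_contra hc
    have h5 : ∀ z, p z → f z z = 0 := fun z hz => by_contra fun h5 => hc ⟨z, hz, mul_left_cancel₀ h5 (by
      rw [← sq, ← sw, mul_one])⟩
    have := h5 _ (hp (ω / f w u) w u hw hu)
    simp only [hm.add_left, hm.add_right, hm.smul_left, hm.smul_right, h5 w hw, h5 u hu, sw u w, hq.apply] at this
    field_simp at this
    grind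
  obtain ⟨c, h5, h6⟩ := step _ h0
  generalize c • t.1 *ᵥ Pi.single 0 1 + Pi.single 0 1 = a at h5 h6
  have a1 : f a (t.1 *ᵥ a) = 0 := by rw [sw, h6]; simp
  have a2 : f (t.1 *ᵥ t.1 *ᵥ a) a = 0 := by rw [h4, a1, mul_zero]
  have a3 : f a (t.1 *ᵥ t.1 *ᵥ a) = 0 := by rw [sw, a2]; simp
  let p : (Fin 6 → F) → Prop := fun x => f x a = 0 ∧ f x (t.1 *ᵥ a) = 0 ∧ f x (t.1 *ᵥ t.1 *ᵥ a) = 0
  have p1 : ∀ (c : F) x y, p x → p y → p (c • x + y) := fun c x y hx hy => by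
    simp [-mulVec_mulVec, p, hm.add_left, hm.smul_left, hx.1, hx.2.1, hx.2.2, hy.1, hy.2.1, hy.2.2]
  have p2 : ∀ x, p x → p (t.1 *ᵥ x) := fun x hx => ⟨by
    have := hU x (t.1 *ᵥ t.1 *ᵥ a)
    rw [ht3, hm.smul_right, hx.2.2, mul_eq_zero, map_eq_zero] at this
    exact this.resolve_left (by rintro rfl; simp at hω), by rw [hU, hx.1], by rw [hU, hx.2.1]⟩
  classical
  obtain ⟨w, -, w0, hw⟩ := hm.exists_perp_mem (W := ⊤) (s := {a, t.1 *ᵥ a, t.1 *ᵥ t.1 *ᵥ a})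
    (Finset.card_le_three.trans_lt (by simp))
  have hw' : p w := ⟨hw _ (by simp), hw _ (by simp), hw _ (by simp)⟩
  obtain ⟨u, hu⟩ : ∃ u, f w u ≠ 0 := by_contra fun h => w0 (hm.nd' w (by simpa using h))
  obtain ⟨z, z1, z2⟩ := unit p p1 w (f u a • a + (f u (t.1 *ᵥ a) • t.1 *ᵥ a + (f u (t.1 *ᵥ t.1 *ᵥ a) • t.1 *ᵥ t.1 *ᵥ a + u)))
    hw' (by simp [-mulVec_mulVec, p, hm.add_left, hm.smul_left, hU, h5, h6, a1, a2, a3, ← two_mul, h2])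
    (by simpa [-mulVec_mulVec, hm.add_right, hm.smul_right, hw'.1, hw'.2.1, hw'.2.2] using hu)
  obtain ⟨c, h7, h8⟩ := step _ z2
  have b0 := p1 c _ _ (p2 _ z1) z1
  generalize c • t.1 *ᵥ z + z = b at h7 h8 b0
  have b1 : f b (t.1 *ᵥ b) = 0 := by rw [sw, h8]; simp
  have b2 : f (t.1 *ᵥ t.1 *ᵥ b) b = 0 := by rw [h4, b1, mul_zero]
  have b3 : f b (t.1 *ᵥ t.1 *ᵥ b) = 0 := by rw [sw, b2]; simp
  have b4 := (p2 _ b0).1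
  have b5 := (p2 _ (p2 _ b0)).1
  have c1 : f a b = 0 := by rw [sw, b0.1]; simp
  have c2 : f (t.1 *ᵥ a) b = 0 := by rw [sw, b0.2.1]; simp
  have c3 : f (t.1 *ᵥ t.1 *ᵥ a) b = 0 := by rw [sw, b0.2.2]; simp
  have c4 : f a (t.1 *ᵥ b) = 0 := by rw [sw, b4]; simp
  have c5 : f a (t.1 *ᵥ t.1 *ᵥ b) = 0 := by rw [sw, b5]; simp
  obtain ⟨P, h9, h10⟩ := hP ![a, t.1 *ᵥ a, t.1 *ᵥ t.1 *ᵥ a, b, t.1 *ᵥ b, t.1 *ᵥ t.1 *ᵥ b] fun i j => by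
    fin_cases i <;> fin_cases j <;>
      simp [-mulVec_mulVec, hU, h5, h6, h7, h8, a1, a2, a3, b1, b2, b3, b4, b5, c1, c2, c3, c4, c5, b0.1, b0.2.1, b0.2.2]
  refine ⟨P, h9, ?_⟩
  rw [Units.val_mul, Units.val_mul, Matrix.mul_assoc, Units.inv_mul_eq_iff_eq_mul, h10]
  ext i j
  show (t.1 *ᵥ _) i = _
  fin_cases j <;> simp [-mulVec_mulVec, t9, mul_apply, Fin.sum_univ_six, ht3, mul_comm]

omit [Fintype F] in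
theorem cols_t9 (E : Enc T4 F σ) {ω : F} {s : Matrix (Fin 6) (Fin 6) F} (h : s * t9 ω = t9 ω * s) :
    E.m s = trL 6 (T4.itr (E.m (t9 ω)) 3 (E.v (sᵀ 0)) ++ T4.itr (E.m (t9 ω)) 3 (E.v (sᵀ 3))) := by
  have h1 : ∀ j, (s * t9 ω)ᵀ j = t9 ω *ᵥ sᵀ j := fun j => by rw [h]; rfl
  have h2 : ∀ j k : Fin 6, (t9 ω)ᵀ j = Pi.single k 1 → sᵀ k = t9 ω *ᵥ sᵀ j := fun j k e => by
    rw [← h1]
    show _ = s *ᵥ (t9 ω)ᵀ j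
    rw [e, mulVec_single_one]; rfl
  have e1 := h2 0 1 (by funext i; fin_cases i <;> rfl)
  have e2 := h2 1 2 (by funext i; fin_cases i <;> rfl)
  have e4 := h2 3 4 (by funext i; fin_cases i <;> rfl)
  have e5 := h2 4 5 (by funext i; fin_cases i <;> rfl)
  show _ = trL 6 [_, T4.mv _ _, T4.mv _ (T4.mv _ _), _, T4.mv _ _, T4.mv _ (T4.mv _ _)]
  simp only [← E.v_mulVec, ← e1, ← e2, ← e4, ← e5]
  exact E.m_tr sᵀ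

theorem exists_t9 (hq : IsConj σ 2) {K : Subalgebra F (Matrix (Fin 6) (Fin 6) F)} (hK : IsFieldSubalgebra 3 K)
    (hA : IsAdjointClosedFor (hermForm 6 F 2) K) {ω : F} (hω : ω ^ 2 + ω + 1 = 0) : ∃ P ∈ GU 6 F 2,
      ∃ t : GL (Fin 6) F, t.1 = t9 ω ∧ ∀ g ∈ subalgebraNormalizer K, ∃ j < 9, P⁻¹ * g * P * t = t ^ j * (P⁻¹ * g * P) := by
  obtain ⟨t, h1, h2, h3⟩ := exists_t (l := 9) hK (by rw [← Nat.card_eq_fintype_card, hq.card]; decide)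
  have h4 := mem_GU_of_ac hq hK hA h1 (by rw [h2]; decide)
  have key : ∀ t : GL (Fin 6) F, t ∈ GU 6 F 2 → t.1 ^ 3 = ω • 1 →
      (∀ g ∈ subalgebraNormalizer K, ∃ j < 9, g * t = t ^ j * g) → ∃ P ∈ GU 6 F 2, ∃ t : GL (Fin 6) F, t.1 = t9 ω ∧
        ∀ g ∈ subalgebraNormalizer K, ∃ j < 9, P⁻¹ * g * P * t = t ^ j * (P⁻¹ * g * P) := fun t h4 h5 h3 => by
    obtain ⟨P, h6, h7⟩ := exists_onb hq h4 hω h5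
    refine ⟨P, h6, _, h7, fun g hg => (h3 g hg).imp fun j hj => ⟨hj.1, ?_⟩⟩
    have := conj_pow (a := P⁻¹) (b := t) (i := j)
    rw [inv_inv] at this
    rw [this, show P⁻¹ * g * P * (P⁻¹ * t * P) = P⁻¹ * (g * t) * P by group, hj.2]; group
  letI := (IsFieldSubalgebra.isField hK).toField
  have h5 : (⟨t.1, h1⟩ : K) ^ 9 = 1 := Subtype.ext (by
    show t.1 ^ 9 = 1
    rw [← Units.val_pow_eq_pow_val, ← h2, pow_orderOf_eq_one]; rfl)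
  have h6 : (⟨t.1, h1⟩ : K) ^ 3 ≠ 1 := fun h => absurd (orderOf_dvd_iff_pow_eq_one.2 (Units.ext
    (congrArg Subtype.val h) : t ^ 3 = 1)) (by rw [h2]; decide)
  have h7 := congrArg (algebraMap F K) hω
  simp only [map_add, map_pow, map_one, map_zero] at h7
  have h8 : ((⟨t.1, h1⟩ : K) ^ 3 - algebraMap F K ω) * (((⟨t.1, h1⟩ : K) ^ 2) ^ 3 - algebraMap F K ω) = 0 := by
    refine mul_left_cancel₀ (sub_ne_zero.2 h6) ?_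
    generalize (⟨t.1, h1⟩ : K) = x at *
    linear_combination (x ^ 3 - 1 - algebraMap F K ω) * h5 + (x ^ 3 - 1) * h7
  rcases mul_eq_zero.1 h8 with h | h
  · exact key t h4 ((congrArg Subtype.val (sub_eq_zero.1 h)).trans (Algebra.algebraMap_eq_smul_one ω)) h3
  · refine key (t ^ 2) (pow_mem h4 2) ((congrArg Subtype.val (sub_eq_zero.1 h)).trans (Algebra.algebraMap_eq_smul_one ω))
      fun g hg => (h3 g hg).imp fun j hj => ⟨hj.1, ?_⟩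
    rw [← pow_mul, mul_comm 2 j, pow_mul]; exact SemiconjBy.pow_right hj.2 2

/-- The invariant set for a frame. -/
def L6 : List ℕ := [1280, 2304, 3328, 1536, 2560, 3584, 1792, 2816, 3840, 1088, 2112, 3136, 320, 576, 832, 1152, 2176, 3200, 384, 640, 896, 1216, 2240, 3264, 448, 704, 960, 1040, 2064, 3088, 272, 528, 784, 80, 144, 208, 1056, 2080, 3104, 288, 544, 800, 96, 160, 224, 1072, 2096, 3120, 304, 560, 816, 112, 176, 240, 1028, 2052, 3076, 260, 516, 772, 68, 132, 196, 20, 36, 52, 1032, 2056, 3080, 264, 520, 776, 72, 136, 200, 24, 40, 56, 1036, 2060, 3084, 268, 524, 780, 76, 140, 204, 28, 44, 60, 1025, 2049, 3073, 257, 513, 769, 65, 129, 193, 17, 33, 49, 5, 1365, 3669, 2901, 3477, 2709, 1941, 2517, 1749, 4053, 3429, 2661, 1893, 2469, 1701, 4005, 1509, 3813, 3045, 2421, 1653,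 3957, 1461, 3765, 2997, 3573, 2805, 2037, 9, 3417, 2649, 1881, 2457, 1689, 3993, 1497, 3801, 3033, 2409, 1641, 3945, 1449, 3753, 2985, 3561, 2793, 2025, 1401, 3705, 2937, 3513, 2745, 1977, 2553, 1785, 4089, 13, 2397, 1629, 3933, 1437, 3741, 2973, 3549, 2781, 2013, 1389, 3693, 2925, 3501, 2733, 1965, 2541, 1773, 4077, 3453, 2685, 1917, 2493, 1725, 4029, 1533, 3837, 3069, 1026, 2050, 3074, 258, 514, 770, 66, 130, 194, 18, 34, 50, 6, 3414, 2646, 1878, 2454, 1686, 3990, 1494, 3798, 3030, 2406, 1638, 3942, 1446, 3750, 2982, 3558, 2790, 2022, 1398, 3702, 2934, 3510, 2742, 1974, 2550, 1782, 4086, 10, 2394, 1626, 3930, 1434, 3738, 2970, 3546, 2778, 2010, 1386, 3690, 2922, 3498, 2730, 1962, 2538, 1770, 4074, 3450, 2682, 1914, 2490, 1722, 4026, 1530, 3834, 3066, 14, 1374, 3678, 2910, 3486,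 2718, 1950, 2526, 1758, 4062, 3438, 2670, 1902, 2478, 1710, 4014, 1518, 3822, 3054, 2430, 1662, 3966, 1470, 3774, 3006, 3582, 2814, 2046, 1027, 2051, 3075, 259, 515, 771, 67, 131, 195, 19, 35, 51, 7, 2391, 1623, 3927, 1431, 3735, 2967, 3543, 2775, 2007, 1383, 3687, 2919, 3495, 2727, 1959, 2535, 1767, 4071, 3447, 2679, 1911, 2487, 1719, 4023, 1527, 3831, 3063, 11, 1371, 3675, 2907, 3483, 2715, 1947, 2523, 1755, 4059, 3435, 2667, 1899, 2475, 1707, 4011, 1515, 3819, 3051, 2427, 1659, 3963, 1467, 3771, 3003, 3579, 2811, 2043, 15, 3423, 2655, 1887, 2463, 1695, 3999, 1503, 3807, 3039, 2415, 1647, 3951, 1455, 3759, 2991, 3567, 2799, 2031, 1407, 3711, 2943, 3519, 2751, 1983, 2559, 1791, 4095]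

/-- The invariant set for a cubic field. -/
def L9 : List ℕ := [80, 144, 208, 96, 160, 224, 112, 176, 240, 260, 516, 772, 340, 660, 980, 612, 932, 484, 884, 436, 756, 264, 520, 776, 856, 408, 728, 360, 680, 1000, 632, 952, 504, 268, 524, 780, 604, 924, 476, 876, 428, 748, 380, 700, 1020, 1025, 2049, 3073, 1105, 2193, 3281, 2145, 3233, 1249, 3185, 1201, 2289, 1285, 2565, 3845, 1365, 2709, 4053, 2661, 4005, 1509, 3957, 1461, 2805, 2313, 3593, 1801, 1881, 2457, 3801, 2409, 3753, 2025, 3705, 1977, 2553, 3341, 1549, 2829, 1629, 2973, 3549, 2925, 3501, 1773, 3453, 1725, 3069, 1026, 2050, 3074, 3154, 1170, 2258, 1122, 2210, 3298, 2162, 3250, 1266, 3334, 1542, 2822, 3414, 1686, 3030, 1638, 2982, 3558, 2934, 3510, 1782, 1290, 2570, 3850, 3930, 1434, 2778, 1386, 2730, 4074, 2682, 4026, 1530,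 2318, 3598, 1806, 3678, 1950, 2526, 1902, 2478, 3822, 2430, 3774, 2046, 1027, 2051, 3075, 2131, 3219, 1235, 3171, 1187, 2275, 1139, 2227, 3315, 2311, 3591, 1799, 2391, 3735, 2007, 3687, 1959, 2535, 1911, 2487, 3831, 3339, 1547, 2827, 2907, 3483, 1755, 3435, 1707, 3051, 1659, 3003, 3579, 1295, 2575, 3855, 2655, 3999, 1503, 3951, 1455, 2799, 1407, 2751, 4095]

/-- The code of the standard element of order nine. -/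
def m9 : List (List ℕ) := [[0, 0, 2, 0, 0, 0], [1, 0, 0, 0, 0, 0], [0, 1, 0, 0, 0, 0], [0, 0, 0, 0, 0, 2], [0, 0, 0, 1, 0, 0], [0, 0, 0, 0, 1, 0]]

/-- Generators of its centraliser. -/
def g9 : List (List (List ℕ)) := [[[1, 3, 1, 3, 2, 0], [3, 1, 3, 0, 3, 2], [2, 3, 1, 1, 0, 3], [2, 0, 1, 1, 2, 3], [3, 2, 0, 2, 1, 2], [0, 3, 2, 1, 2, 1]], [[0, 2, 2, 3, 2, 2], [1, 0, 2, 1, 3, 2], [1, 1, 0, 1, 1, 3], [1, 3, 3, 0, 3, 3], [2, 1, 3, 2, 0, 3], [2, 2, 1, 2, 2, 0]]]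

/-- An orbit of its centraliser. -/
def o9 : List (List ℕ × ℕ × ℕ) := [([2, 3, 1, 0, 1, 1], 8, 1), ([3, 1, 3, 3, 0, 1], 18, 0), ([1, 1, 2, 0, 2, 2], 29, 1), ([3, 1, 3, 1, 2, 0], 34, 1), ([3, 1, 1, 1, 1, 0], 36, 1), ([0, 1, 2, 3, 2, 1], 43, 1), ([1, 0, 3, 3, 3, 1], 50, 0), ([2, 0, 3, 3, 1, 3], 53, 0), ([2, 3, 1, 0, 2, 2], 59, 0), ([2, 2, 0, 1, 2, 3], 59, 1), ([1, 1, 2, 0, 1, 1], 60, 0), ([3, 0, 3, 2, 1, 1], 62, 0), ([3, 3, 2, 2, 0, 2], 67, 1), ([2, 1, 1, 3, 2, 0], 68, 1), ([0, 2, 2, 2, 3, 3], 69, 1), ([0, 0, 1, 0, 0, 0], 69, 0), ([2, 1, 3, 2, 3, 0], 69, 0), ([0, 1, 1, 3, 3, 1], 73, 1), ([1, 2, 1, 0, 2, 3], 74, 0), ([2, 2, 0, 3, 3, 1], 74, 0), ([1, 3, 2, 0, 1, 2], 80, 0), ([3, 3, 2, 1, 0, 1], 80, 0), ([1, 2, 3, 1, 1, 0], 83, 1), ([2, 3, 2, 1, 0, 2], 83, 1), ([2, 1, 3, 1, 0, 2], 82,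 0), ([3, 1, 1, 2, 2, 0], 83, 0), ([1, 2, 0, 3, 2, 3], 83, 0), ([0, 2, 3, 1, 3, 1], 83, 1), ([1, 1, 1, 3, 0, 3], 83, 1), ([1, 0, 1, 3, 3, 2], 82, 0), ([0, 1, 3, 1, 3, 3], 82, 0), ([2, 2, 2, 3, 0, 3], 82, 1), ([3, 2, 1, 1, 2, 0], 83, 0), ([2, 2, 0, 1, 1, 2], 84, 0), ([1, 3, 2, 0, 2, 3], 84, 1), ([3, 0, 2, 2, 3, 3], 83, 0), ([1, 2, 2, 1, 0, 3], 83, 0), ([0, 3, 0, 0, 0, 0], 83, 0), ([2, 1, 0, 2, 1, 1], 85, 0), ([3, 1, 2, 2, 0, 1], 86, 1), ([3, 0, 2, 3, 1, 2], 86, 0), ([2, 0, 1, 2, 3, 3], 86, 1), ([1, 3, 0, 1, 1, 1], 87, 1), ([3, 0, 2, 2, 3, 1], 91, 1), ([3, 2, 1, 3, 0, 1], 90, 0), ([3, 2, 2, 0, 2, 1], 91, 0), ([0, 1, 3, 1, 1, 1], 91, 0), ([3, 3, 3, 1, 0, 1], 92, 0), ([2, 1, 0, 1, 1, 1], 93, 1), ([2, 2, 0, 1, 2, 2], 98, 1), ([2, 2, 0, 2, 2, 3], 100, 1), ([1, 0, 1, 1, 1, 3], 99, 0), ([1,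 1, 0, 1, 1, 2], 100, 1), ([3, 0, 3, 3, 3, 3], 100, 1), ([1, 1, 1, 0, 2, 1], 101, 1), ([1, 1, 1, 2, 1, 0], 101, 1), ([2, 1, 2, 0, 3, 1], 101, 0), ([0, 3, 2, 1, 1, 3], 101, 1), ([3, 3, 2, 1, 3, 0], 100, 0), ([3, 1, 3, 0, 2, 3], 101, 1), ([1, 3, 2, 3, 1, 0], 100, 0), ([0, 0, 0, 3, 0, 0], 100, 0), ([3, 3, 3, 0, 1, 3], 102, 0), ([1, 3, 1, 1, 2, 0], 102, 0), ([2, 0, 1, 3, 1, 2], 102, 0), ([2, 3, 3, 0, 1, 1], 104, 0), ([1, 0, 2, 2, 1, 2], 104, 1), ([3, 3, 3, 3, 0, 3], 103, 0), ([3, 0, 3, 1, 3, 3], 104, 1), ([0, 3, 2, 2, 2, 1], 104, 0), ([1, 0, 1, 2, 2, 1], 104, 1), ([0, 1, 2, 2, 3, 2], 105, 1), ([0, 1, 0, 0, 0, 0], 106, 1), ([0, 2, 3, 3, 1, 3], 106, 1), ([2, 1, 1, 2, 1, 0], 107, 1), ([0, 3, 3, 3, 3, 1], 107, 0), ([3, 1, 1, 3, 3, 0], 109, 0), ([2, 2, 3, 3, 3, 0], 109, 0), ([2, 3, 3, 1,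 0, 3], 111, 1), ([2, 3, 3, 3, 0, 2], 110, 0), ([2, 2, 1, 1, 3, 0], 110, 1), ([3, 2, 1, 0, 2, 3], 109, 0), ([2, 3, 0, 2, 3, 2], 110, 0), ([0, 2, 3, 3, 2, 1], 110, 1), ([2, 0, 0, 0, 0, 0], 110, 0), ([3, 2, 1, 1, 0, 2], 110, 0), ([2, 1, 1, 0, 1, 3], 111, 0), ([2, 1, 1, 1, 3, 0], 111, 0), ([3, 3, 0, 3, 1, 1], 111, 1), ([2, 0, 3, 2, 1, 3], 111, 0), ([1, 2, 2, 3, 3, 0], 111, 1), ([2, 0, 2, 1, 1, 1], 111, 1), ([1, 3, 3, 2, 0, 2], 110, 0), ([2, 2, 1, 1, 0, 1], 111, 1), ([2, 1, 1, 3, 0, 3], 111, 0), ([2, 1, 2, 2, 0, 3], 112, 1), ([2, 0, 3, 2, 1, 2], 112, 0), ([1, 1, 2, 2, 2, 0], 113, 1), ([3, 3, 2, 3, 2, 0], 113, 0), ([0, 0, 0, 0, 0, 1], 114, 1), ([1, 3, 0, 2, 2, 1], 114, 0), ([3, 2, 3, 1, 2, 0], 114, 1), ([0, 3, 2, 3, 3, 2], 114, 1), ([0, 3, 1, 1, 3, 1], 116, 1), ([1, 2, 0, 3, 2, 1], 116,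 1), ([2, 3, 2, 1, 2, 0], 117, 1), ([3, 3, 2, 0, 1, 3], 116, 0), ([1, 0, 3, 3, 1, 2], 118, 1), ([3, 3, 1, 2, 0, 1], 118, 1), ([0, 3, 2, 3, 3, 3], 117, 0), ([3, 0, 3, 3, 2, 2], 117, 1), ([1, 1, 3, 0, 1, 3], 117, 1), ([1, 1, 2, 0, 3, 3], 118, 1), ([2, 3, 2, 3, 0, 1], 118, 1), ([1, 0, 2, 1, 3, 2], 118, 1), ([2, 1, 2, 0, 2, 3], 118, 0), ([3, 0, 0, 0, 0, 0], 119, 1), ([3, 1, 3, 1, 0, 2], 118, 0), ([0, 1, 1, 3, 1, 2], 118, 0), ([2, 1, 1, 0, 2, 1], 118, 1), ([0, 2, 3, 2, 1, 3], 117, 0), ([1, 3, 1, 0, 1, 2], 117, 1), ([2, 2, 1, 3, 0, 3], 116, 0), ([0, 3, 3, 1, 2, 2], 116, 1), ([3, 3, 1, 3, 0, 2], 116, 1), ([3, 1, 1, 0, 1, 1], 115, 0), ([2, 0, 3, 1, 2, 1], 116, 1), ([2, 2, 3, 1, 0, 3], 115, 0), ([3, 2, 0, 2, 1, 1], 115, 1), ([0, 0, 2, 0, 0, 0], 115, 0), ([2, 3, 0, 1, 3, 1], 115, 1), ([2,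 2, 0, 2, 3, 3], 115, 1), ([0, 0, 0, 0, 1, 0], 115, 1), ([0, 1, 2, 1, 2, 1], 114, 0), ([2, 1, 3, 3, 1, 0], 114, 1), ([1, 3, 1, 2, 0, 3], 113, 0), ([0, 3, 1, 3, 1, 3], 113, 0), ([2, 3, 1, 3, 0, 2], 113, 0), ([1, 1, 3, 0, 3, 2], 114, 1), ([2, 1, 2, 2, 3, 0], 114, 1), ([3, 1, 3, 2, 3, 0], 113, 0), ([3, 0, 2, 1, 2, 2], 114, 0), ([0, 1, 3, 2, 2, 2], 114, 1), ([1, 3, 0, 3, 3, 3], 115, 1), ([2, 3, 3, 1, 1, 0], 115, 1), ([0, 1, 3, 3, 2, 2], 116, 1), ([3, 3, 3, 2, 1, 0], 116, 1), ([1, 2, 0, 3, 1, 3], 119, 1), ([3, 0, 3, 1, 1, 1], 118, 0), ([2, 3, 3, 2, 2, 0], 118, 0), ([3, 1, 0, 3, 2, 1], 118, 1), ([3, 2, 3, 2, 3, 0], 118, 0), ([2, 3, 3, 3, 3, 0], 118, 1), ([2, 1, 2, 1, 2, 0], 118, 1), ([0, 1, 1, 2, 2, 3], 117, 0), ([0, 2, 1, 2, 2, 2], 117, 1), ([2, 3, 2, 0, 3, 1], 117, 1), ([1, 0, 1, 1,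 3, 3], 116, 0), ([0, 1, 1, 2, 3, 3], 116, 1), ([1, 3, 1, 0, 3, 1], 115, 0), ([1, 1, 3, 0, 2, 1], 115, 1), ([1, 1, 1, 0, 1, 3], 115, 1), ([2, 0, 3, 3, 2, 1], 114, 0), ([2, 1, 1, 0, 3, 2], 114, 1), ([0, 2, 2, 3, 1, 2], 114, 1), ([2, 1, 3, 2, 0, 3], 114, 0), ([3, 2, 0, 3, 3, 3], 114, 0), ([1, 1, 1, 0, 3, 2], 114, 1), ([1, 2, 1, 3, 0, 1], 113, 0), ([3, 3, 3, 2, 0, 2], 113, 1), ([3, 0, 3, 2, 2, 1], 112, 0), ([2, 2, 0, 2, 3, 1], 112, 1), ([0, 1, 1, 3, 1, 1], 111, 0), ([2, 2, 2, 2, 1, 0], 112, 0), ([2, 3, 2, 0, 1, 2], 112, 1), ([1, 0, 2, 1, 2, 1], 114, 0), ([0, 1, 1, 1, 2, 3], 114, 1), ([2, 3, 3, 0, 2, 2], 113, 0), ([2, 2, 1, 2, 0, 2], 113, 0), ([1, 0, 3, 1, 2, 3], 113, 1), ([3, 1, 1, 0, 3, 3], 114, 1), ([2, 2, 1, 0, 1, 3], 114, 1), ([1, 2, 3, 0, 1, 1], 114, 0), ([0, 2, 2, 3, 3, 1], 114,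 1), ([2, 3, 1, 2, 2, 0], 113, 0), ([3, 1, 1, 1, 0, 3], 114, 0), ([1, 0, 3, 1, 1, 2], 114, 1), ([0, 2, 1, 1, 3, 3], 114, 1), ([3, 1, 0, 2, 1, 3], 113, 0), ([2, 3, 2, 2, 3, 0], 114, 0), ([3, 2, 2, 1, 3, 0], 114, 1), ([0, 1, 3, 2, 1, 1], 113, 0), ([1, 0, 2, 2, 3, 2], 113, 1), ([3, 1, 0, 1, 3, 1], 112, 0), ([0, 3, 2, 3, 2, 2], 112, 1), ([2, 3, 2, 3, 1, 0], 111, 0), ([0, 2, 1, 3, 3, 3], 111, 1), ([1, 2, 0, 1, 3, 2], 110, 0), ([1, 2, 3, 2, 0, 1], 111, 1), ([1, 2, 0, 1, 3, 1], 110, 0), ([0, 1, 2, 2, 1, 3], 110, 1), ([3, 0, 1, 2, 3, 2], 109, 0), ([1, 3, 2, 0, 3, 1], 109, 0), ([3, 3, 0, 1, 2, 2], 109, 1), ([2, 2, 3, 1, 1, 0], 108, 0), ([1, 1, 3, 3, 2, 0], 108, 1), ([1, 1, 0, 2, 3, 3], 108, 1), ([1, 3, 2, 1, 0, 2], 108, 1), ([3, 2, 2, 2, 0, 2], 108, 1), ([3, 2, 2, 3, 0, 3], 110, 0), ([2,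 3, 2, 2, 0, 3], 110, 1), ([0, 0, 0, 0, 0, 3], 110, 1), ([2, 0, 3, 1, 3, 1], 109, 0), ([2, 2, 2, 2, 0, 2], 109, 0), ([3, 3, 1, 3, 3, 0], 109, 1), ([2, 2, 1, 0, 2, 1], 109, 1), ([1, 1, 2, 1, 0, 3], 108, 0), ([1, 1, 0, 2, 3, 1], 108, 0), ([2, 0, 2, 3, 3, 2], 108, 1), ([1, 2, 3, 2, 2, 0], 107, 0), ([2, 3, 0, 3, 1, 3], 107, 1), ([3, 3, 1, 2, 2, 0], 107, 1), ([1, 0, 3, 2, 3, 3], 107, 1), ([1, 3, 2, 3, 0, 1], 107, 1), ([2, 2, 3, 0, 2, 2], 107, 1), ([2, 2, 3, 0, 1, 1], 106, 0), ([2, 1, 2, 3, 0, 1], 106, 1), ([3, 3, 2, 0, 2, 1], 106, 1), ([0, 3, 2, 2, 1, 1], 105, 0), ([3, 3, 1, 1, 0, 3], 105, 0), ([1, 0, 3, 2, 2, 3], 105, 0), ([3, 0, 2, 1, 1, 2], 105, 0), ([1, 1, 3, 1, 0, 1], 105, 1), ([0, 1, 2, 3, 2, 3], 105, 1), ([2, 1, 0, 3, 3, 2], 104, 0), ([1, 2, 2, 0, 1, 1], 104, 1), ([0, 2, 2, 1,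 2, 2], 104, 0), ([1, 3, 1, 3, 0, 1], 104, 0), ([2, 1, 0, 1, 1, 3], 104, 0), ([0, 2, 1, 2, 2, 1], 104, 1), ([1, 2, 1, 0, 1, 2], 104, 1), ([0, 3, 3, 2, 2, 3], 103, 0), ([2, 0, 2, 3, 3, 3], 103, 0), ([0, 1, 1, 2, 3, 1], 103, 1), ([0, 3, 3, 3, 1, 2], 102, 0), ([1, 3, 2, 2, 0, 3], 102, 1), ([3, 3, 1, 1, 1, 0], 102, 1), ([0, 3, 1, 1, 3, 2], 101, 0), ([3, 1, 2, 3, 0, 2], 101, 1), ([2, 2, 1, 2, 1, 0], 100, 0), ([2, 3, 1, 2, 0, 1], 100, 1), ([2, 1, 0, 3, 3, 3], 100, 1), ([1, 3, 0, 2, 2, 2], 100, 1), ([1, 2, 3, 3, 3, 0], 100, 1), ([3, 3, 0, 2, 2, 3], 99, 0), ([3, 2, 1, 0, 1, 2], 99, 1), ([2, 0, 1, 1, 2, 2], 98, 0), ([0, 3, 1, 2, 3, 2], 98, 0), ([1, 0, 2, 2, 1, 3], 98, 1), ([0, 3, 2, 1, 1, 1], 97, 0), ([2, 1, 3, 0, 1, 2], 97, 1), ([3, 2, 3, 0, 1, 2], 96, 0), ([1, 1, 3, 2, 1, 0], 96, 0), ([1,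 3, 1, 2, 3, 0], 96, 1), ([1, 3, 0, 1, 3, 3], 95, 0), ([0, 0, 0, 2, 0, 0], 95, 1), ([2, 3, 0, 3, 2, 1], 94, 0), ([0, 1, 2, 1, 3, 1], 94, 1), ([3, 0, 2, 3, 3, 1], 94, 1), ([0, 2, 2, 2, 2, 3], 97, 1), ([2, 0, 1, 2, 3, 1], 96, 0), ([1, 0, 3, 1, 2, 2], 96, 1), ([3, 3, 3, 1, 3, 0], 95, 0), ([1, 1, 3, 3, 0, 3], 95, 1), ([0, 3, 3, 3, 1, 1], 94, 0), ([2, 3, 2, 0, 2, 3], 94, 0), ([0, 1, 2, 2, 1, 2], 94, 1), ([1, 1, 1, 3, 2, 0], 94, 1), ([3, 2, 1, 0, 3, 1], 93, 0), ([1, 3, 0, 2, 1, 1], 93, 1), ([3, 2, 3, 1, 0, 2], 94, 0), ([3, 0, 1, 3, 2, 1], 94, 1), ([3, 0, 3, 1, 1, 3], 94, 1), ([3, 3, 1, 0, 2, 2], 94, 1), ([1, 2, 3, 0, 2, 2], 94, 1), ([1, 3, 0, 1, 1, 3], 93, 0), ([3, 1, 1, 0, 2, 2], 93, 1), ([3, 3, 3, 0, 3, 2], 93, 0), ([3, 1, 2, 1, 1, 0], 93, 1), ([1, 0, 1, 3, 3, 3], 92, 0), ([0, 2, 1,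 1, 1, 1], 92, 0), ([2, 3, 1, 3, 3, 0], 92, 1), ([3, 0, 3, 2, 2, 2], 91, 0), ([1, 2, 1, 2, 0, 3], 91, 0), ([2, 3, 0, 2, 1, 2], 91, 1), ([0, 2, 3, 1, 3, 2], 90, 0), ([2, 3, 1, 1, 1, 0], 90, 1), ([2, 0, 2, 3, 2, 2], 90, 0), ([2, 3, 0, 1, 3, 2], 90, 1), ([3, 1, 0, 2, 3, 2], 89, 0), ([1, 3, 3, 2, 1, 0], 89, 1), ([0, 2, 1, 3, 3, 2], 89, 1), ([2, 2, 1, 3, 2, 0], 88, 0), ([1, 2, 1, 0, 3, 1], 88, 1), ([2, 1, 3, 1, 2, 0], 87, 0), ([3, 1, 0, 3, 1, 3], 87, 1), ([3, 0, 3, 3, 3, 2], 87, 1), ([2, 0, 2, 1, 3, 3], 87, 1), ([0, 1, 2, 3, 1, 3], 86, 0), ([0, 2, 3, 3, 2, 3], 86, 1), ([0, 0, 0, 0, 3, 0], 85, 0), ([0, 2, 1, 2, 1, 1], 85, 1), ([0, 2, 1, 3, 2, 2], 85, 1), ([2, 3, 3, 2, 0, 1], 84, 0), ([0, 3, 2, 1, 3, 3], 84, 1), ([3, 1, 1, 3, 0, 2], 83, 0), ([1, 2, 1, 2, 3, 0], 83, 1), ([3, 2, 2, 0, 1,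 3], 82, 0), ([0, 2, 3, 1, 2, 1], 82, 1), ([1, 1, 0, 3, 3, 1], 82, 1), ([3, 1, 3, 3, 1, 0], 81, 0), ([1, 2, 3, 0, 3, 3], 81, 1), ([2, 2, 3, 2, 2, 0], 80, 0), ([1, 1, 0, 1, 2, 3], 80, 1), ([3, 1, 0, 1, 3, 2], 80, 1), ([1, 1, 2, 2, 0, 1], 79, 0), ([3, 3, 2, 3, 0, 3], 79, 1), ([2, 0, 3, 2, 3, 2], 78, 0), ([1, 3, 3, 1, 3, 0], 78, 1), ([1, 2, 0, 2, 1, 2], 78, 1), ([1, 2, 2, 1, 1, 0], 77, 0), ([1, 3, 1, 0, 2, 3], 77, 1), ([1, 1, 1, 2, 0, 2], 76, 0), ([3, 1, 2, 3, 3, 0], 76, 1), ([3, 1, 2, 2, 2, 0], 75, 0), ([2, 1, 0, 2, 2, 1], 75, 1), ([1, 3, 2, 1, 2, 0], 74, 0), ([3, 2, 1, 3, 1, 0], 74, 1), ([0, 1, 3, 3, 3, 3], 73, 0), ([3, 3, 2, 0, 3, 2], 73, 1), ([0, 3, 1, 2, 1, 3], 73, 1), ([2, 3, 1, 0, 3, 3], 72, 0), ([1, 1, 1, 1, 3, 0], 73, 1), ([1, 0, 3, 2, 3, 1], 72, 0), ([3, 3, 0, 1, 2, 3], 72,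 1), ([1, 2, 2, 3, 0, 2], 71, 0), ([0, 3, 1, 3, 2, 3], 71, 1), ([3, 2, 0, 1, 3, 3], 70, 0), ([1, 0, 1, 1, 1, 1], 70, 0), ([0, 0, 0, 0, 0, 2], 70, 1), ([1, 0, 2, 3, 2, 3], 69, 0), ([3, 0, 1, 2, 1, 2], 69, 1), ([2, 1, 1, 2, 0, 2], 69, 1), ([1, 3, 3, 1, 0, 1], 69, 1), ([0, 2, 2, 1, 2, 3], 68, 0), ([1, 3, 3, 0, 1, 3], 68, 1), ([2, 0, 3, 3, 2, 3], 68, 1), ([1, 1, 1, 1, 0, 1], 67, 0), ([0, 2, 2, 3, 1, 1], 67, 1), ([2, 1, 2, 0, 1, 2], 66, 0), ([2, 2, 3, 2, 0, 1], 66, 1), ([2, 3, 3, 0, 3, 3], 65, 0), ([3, 0, 1, 2, 1, 3], 65, 1), ([0, 1, 3, 2, 2, 1], 64, 0), ([3, 3, 0, 2, 3, 3], 64, 1), ([2, 2, 0, 3, 1, 1], 63, 0), ([1, 0, 2, 3, 1, 3], 63, 1), ([1, 1, 2, 3, 0, 2], 62, 0), ([2, 1, 0, 1, 3, 3], 62, 1), ([3, 3, 2, 2, 1, 0], 61, 0), ([1, 3, 3, 3, 0, 3], 61, 1), ([3, 1, 0, 1, 2, 1], 60, 0), ([2,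 1, 2, 3, 1, 0], 60, 0), ([1, 2, 1, 1, 2, 0], 60, 1), ([0, 2, 0, 0, 0, 0], 59, 0), ([1, 1, 3, 1, 3, 0], 59, 1), ([0, 3, 1, 2, 1, 2], 58, 0), ([3, 0, 1, 3, 1, 3], 58, 1), ([2, 0, 1, 3, 3, 1], 58, 1), ([1, 3, 3, 3, 2, 0], 57, 0), ([0, 0, 0, 1, 0, 0], 57, 1), ([1, 2, 0, 2, 1, 3], 56, 0), ([1, 3, 1, 1, 0, 2], 56, 1), ([1, 1, 0, 2, 2, 3], 56, 1), ([3, 2, 3, 3, 0, 1], 55, 0), ([0, 3, 3, 2, 3, 3], 55, 1), ([3, 2, 0, 2, 2, 2], 54, 0), ([0, 3, 3, 2, 3, 1], 54, 1), ([2, 2, 2, 1, 0, 1], 53, 0), ([1, 1, 2, 3, 3, 0], 53, 1), ([1, 2, 0, 1, 2, 1], 52, 0), ([3, 2, 3, 0, 2, 3], 52, 1), ([2, 2, 2, 0, 2, 1], 52, 1), ([3, 0, 1, 1, 3, 2], 51, 0), ([3, 2, 0, 1, 1, 3], 51, 1), ([3, 0, 1, 1, 3, 1], 50, 0), ([1, 2, 0, 2, 3, 2], 50, 1), ([1, 0, 1, 3, 2, 2], 49, 0), ([0, 3, 1, 3, 2, 1], 49, 0), ([0, 1, 2,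 1, 3, 2], 49, 1), ([3, 2, 0, 3, 2, 2], 49, 1), ([2, 0, 1, 3, 1, 1], 48, 0), ([3, 2, 1, 2, 3, 0], 48, 1), ([1, 1, 0, 3, 1, 2], 47, 0), ([3, 1, 2, 0, 1, 1], 47, 1), ([3, 2, 0, 3, 3, 2], 46, 0), ([0, 3, 2, 2, 2, 2], 46, 1), ([3, 1, 2, 0, 3, 3], 46, 1), ([2, 0, 1, 2, 2, 3], 45, 0), ([1, 2, 1, 3, 1, 0], 45, 1), ([2, 2, 1, 0, 3, 2], 44, 0), ([1, 3, 3, 0, 3, 2], 44, 1), ([3, 3, 0, 1, 1, 2], 43, 0), ([2, 2, 3, 3, 0, 2], 43, 1), ([1, 1, 0, 3, 1, 1], 42, 0), ([0, 2, 1, 1, 1, 3], 42, 1), ([3, 3, 3, 0, 2, 1], 41, 0), ([1, 0, 2, 1, 3, 1], 41, 1), ([2, 0, 3, 1, 3, 2], 40, 0), ([3, 1, 2, 0, 2, 2], 40, 1), ([1, 1, 2, 1, 1, 0], 39, 0), ([1, 0, 1, 2, 1, 1], 40, 1), ([3, 2, 3, 2, 0, 3], 39, 0), ([2, 1, 2, 1, 0, 2], 39, 1), ([1, 3, 0, 3, 3, 2], 38, 0), ([3, 3, 0, 3, 1, 2], 38, 0), ([3, 1, 3, 0, 3,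 1], 38, 1), ([0, 2, 2, 1, 1, 2], 37, 0), ([2, 3, 0, 1, 2, 1], 37, 1), ([1, 0, 1, 2, 2, 2], 36, 0), ([0, 3, 3, 1, 2, 3], 36, 1), ([0, 2, 2, 2, 3, 1], 35, 0), ([1, 3, 3, 0, 2, 1], 35, 1), ([1, 2, 1, 1, 0, 2], 34, 0), ([3, 2, 3, 0, 3, 1], 34, 1), ([1, 1, 3, 2, 0, 2], 33, 0), ([3, 1, 2, 1, 0, 3], 33, 1), ([3, 1, 0, 3, 2, 3], 32, 0), ([1, 2, 2, 0, 2, 2], 32, 1), ([2, 1, 1, 1, 0, 1], 31, 0), ([0, 0, 3, 0, 0, 0], 31, 1), ([2, 1, 3, 0, 3, 1], 30, 0), ([3, 0, 1, 1, 2, 1], 30, 1), ([2, 3, 0, 3, 2, 3], 29, 0), ([2, 1, 3, 3, 0, 1], 29, 1), ([2, 2, 2, 1, 3, 0], 28, 0), ([2, 3, 0, 2, 1, 3], 28, 1), ([3, 2, 2, 3, 2, 0], 27, 0), ([3, 2, 0, 2, 2, 1], 27, 1), ([1, 2, 2, 0, 3, 3], 26, 0), ([1, 0, 3, 3, 1, 1], 26, 1), ([3, 3, 1, 0, 3, 3], 25, 0), ([3, 2, 2, 2, 1, 0], 25, 1), ([3, 2, 0, 1, 1, 1], 24,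 0), ([3, 1, 3, 2, 0, 3], 24, 1), ([3, 2, 1, 2, 0, 3], 23, 0), ([3, 2, 2, 1, 0, 1], 23, 1), ([3, 2, 3, 3, 1, 0], 22, 0), ([3, 0, 2, 2, 2, 3], 22, 1), ([2, 3, 1, 1, 0, 3], 21, 0), ([3, 3, 0, 2, 3, 1], 21, 1), ([3, 2, 2, 0, 3, 2], 20, 0), ([3, 3, 3, 3, 2, 0], 20, 1), ([3, 0, 2, 1, 2, 3], 19, 0), ([2, 2, 0, 3, 1, 2], 19, 1), ([3, 1, 1, 2, 0, 1], 18, 0), ([0, 2, 3, 2, 1, 2], 18, 1), ([2, 1, 0, 3, 2, 2], 17, 0), ([2, 1, 3, 0, 2, 3], 17, 1), ([0, 1, 3, 1, 1, 3], 16, 0), ([0, 0, 0, 0, 2, 0], 16, 1), ([0, 2, 3, 2, 3, 2], 15, 0), ([3, 3, 0, 3, 3, 1], 15, 1), ([2, 0, 2, 2, 2, 1], 14, 0), ([2, 0, 2, 2, 2, 2], 14, 1), ([0, 1, 1, 1, 1, 2], 13, 0), ([2, 0, 2, 1, 1, 3], 13, 1), ([0, 3, 1, 1, 2, 1], 12, 0), ([1, 2, 2, 2, 0, 1], 12, 1), ([2, 0, 1, 1, 2, 3], 11, 0), ([2, 1, 0, 2, 2, 2], 11, 1), ([3,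 3, 1, 0, 1, 1], 10, 0), ([0, 1, 3, 3, 3, 2], 10, 1), ([2, 2, 2, 0, 1, 3], 9, 0), ([3, 0, 1, 3, 2, 3], 9, 1), ([1, 0, 2, 3, 2, 1], 8, 0), ([1, 2, 2, 2, 2, 0], 8, 1), ([1, 2, 3, 1, 0, 3], 7, 0), ([1, 3, 1, 3, 1, 0], 7, 1), ([0, 3, 3, 1, 1, 2], 6, 0), ([2, 2, 2, 0, 3, 2], 6, 1), ([1, 1, 0, 1, 2, 2], 5, 0), ([3, 1, 0, 2, 1, 2], 5, 0), ([2, 0, 1, 1, 1, 2], 5, 1), ([1, 2, 3, 3, 0, 2], 4, 0), ([3, 0, 2, 3, 1, 1], 4, 1), ([2, 2, 2, 3, 2, 0], 3, 0), ([3, 1, 3, 0, 1, 2], 3, 1), ([2, 0, 2, 2, 1, 1], 2, 0), ([2, 2, 3, 0, 3, 3], 2, 1), ([1, 3, 0, 3, 2, 2], 1, 0), ([0, 1, 1, 1, 2, 2], 1, 1), ([1, 3, 2, 2, 3, 0], 0, 0)]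

/-- The invariant set for a cubic field. -/
noncomputable def τ9 (u : List ℕ) : Bool := bit (msk L9) (T4.code u)

theorem chk_g9 : g9.all (fun a => T4.shape 6 a && T4.isSU 6 a && T4.pt 6 τ9 L9 a && T4.mm 6 m9 a == T4.mm 6 a m9) = true := by
  decide +kernel

theorem chk_o9 : T4.slv 6 g9 [1, 0, 0, 0, 0, 0] o9 = true := by decide +kernel

theorem chk_v9 : allV 4 6 (fun v => !(T4.hm v v == 1 && T4.hm (T4.mv m9 v) v == 0) ||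
    (([1, 0, 0, 0, 0, 0], 0, 0) :: o9).any fun x => x.1 == v) = true := by decide +kernel

theorem chk_w9 : allV 4 6 (fun w => !T4.isSU 6 (trL 6 (T4.itr m9 3 [1, 0, 0, 0, 0, 0] ++ T4.itr m9 3 w)) ||
    T4.pt 6 τ9 L9 (trL 6 (T4.itr m9 3 [1, 0, 0, 0, 0, 0] ++ T4.itr m9 3 w))) = true := by decide +kernel

variable (hq : IsConj σ 2) {H : Subgroup (GL (Fin 6) F)} (hH : IsMaximalIn (GU 6 F 2 ⊓ specialLinear (Fin 6) F) H)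
include hq hH

theorem dec_u62 {D : Fin 6 → Submodule F (Fin 6 → F)} (hD : IsNondegenerateMDecomposition (hermForm 6 F 2) 1 D)
    (h1 : H ≤ decompositionStabilizer D) : False := by
  obtain ⟨E⟩ := enc4 hq
  obtain ⟨P, hP, h2⟩ := exists_mon hq hD
  exact (E.cx_su hq (τ := τ6) (L := L6) (by decide +kernel)).nm hH (conj_SU hP) (fun g hg => h2 g (h1 hg))
    (fun g hg h => mon_mem hq E hg.2 h) (x := [[0, 1, 1, 1, 1, 1], [1, 0, 1, 1, 1, 1], [1, 1, 0, 1, 1, 1], [1, 1, 1, 0, 1, 1], [1, 1, 1, 1, 0, 1], [1, 1, 1, 1, 1, 0]])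
    (y := [[0, 1, 1, 1, 0, 0], [1, 0, 1, 1, 0, 0], [1, 1, 0, 1, 0, 0], [1, 1, 1, 0, 0, 0], [0, 0, 0, 0, 1, 0], [0, 0, 0, 0, 0, 1]])
    (l := [1, 0, 0, 0, 1, 0]) (E.not_mon 1 2 0 (by decide)) (by decide +kernel)

theorem fld_u62 {K : Subalgebra F (Matrix (Fin 6) (Fin 6) F)} (hK : IsFieldSubalgebra 3 K)
    (hA : IsAdjointClosedFor (hermForm 6 F 2) K) (h1 : H ≤ subalgebraNormalizer K) : False := by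
  obtain ⟨E⟩ := enc4 hq
  obtain ⟨ω, hω⟩ := E.surj 2 (by decide)
  obtain ⟨P, hP, t, h2, h3⟩ := exists_t9 hq hK hA (ω := ω) (E.inj (by
    rw [sq, E.add, E.add, E.mul, hω, E.one, E.zero]; decide +kernel))
  have h4 : E.m (t9 ω) = m9 := by simp [Enc.m, Enc.v, t9, List.ofFn_succ, E.zero, E.one, hω, m9]
  have h5 : E.m t.1 = m9 := h2 ▸ h4
  have e0 : E.v (Pi.single (0 : Fin 6) (1 : F)) = [1, 0, 0, 0, 0, 0] := E.v_e0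
  have C : Cx E _ _ τ9 L9 := E.cx_su hq (cov_msk T4 6 L9)
  refine C.nm hH (conj_SU hP) (fun g hg => h3 g (h1 hg)) (C.red (LB := [[[1, 0, 0, 0, 0, 0], [0, 1, 0, 0, 0, 0], [0, 0, 1, 0, 0, 0], [0, 0, 0, 1, 0, 0], [0, 0, 0, 0, 1, 0], [0, 0, 0, 0, 0, 1]], [[1, 0, 0, 0, 0, 0], [0, 2, 0, 0, 0, 0], [0, 0, 3, 0, 0, 0], [0, 0, 0, 1, 0, 0], [0, 0, 0, 0, 2, 0], [0, 0, 0, 0, 0, 3]], [[1, 0, 0, 0, 0, 0], [0, 3, 0, 0, 0, 0], [0, 0, 2, 0, 0, 0], [0, 0, 0, 1, 0, 0], [0, 0, 0, 0, 3, 0], [0, 0, 0, 0, 0, 2]]])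
    (by decide +kernel) (by rw [h5]; decide +kernel) fun y hy e => ?_) (x := [[1, 0, 0, 0, 0, 0], [0, 1, 0, 0, 0, 0], [0, 0, 0, 1, 0, 0], [0, 0, 1, 0, 0, 0], [0, 0, 0, 0, 1, 0], [0, 0, 0, 0, 0, 1]])
    (y := [[1, 0, 0, 0, 0, 0], [0, 1, 0, 0, 0, 0], [0, 0, 1, 0, 0, 0], [0, 0, 0, 1, 0, 0], [0, 0, 0, 0, 0, 1], [0, 0, 0, 0, 1, 0]])
    (l := [0, 1, 0, 0, 1, 0]) (Cx.not_pr (by rw [h5]; decide +kernel)) (by decide +kernel)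
  have h6 := E.slv_mem (Z := (GU 6 F 2 ⊓ specialLinear (Fin 6) F) ⊓ E.Y 6 τ9 ⊓ Subgroup.centralizer {t}) (gs := g9)
    (fun a ha => by
      have := Bool.and_eq_true_iff.1 (List.all_eq_true.1 chk_g9 a ha)
      obtain ⟨g, hg, rfl⟩ := C.good this.1
      refine ⟨g, ⟨hg, ?_⟩, rfl⟩
      rintro _ rfl
      exact Units.ext (E.m_inj (by rw [Units.val_mul, Units.val_mul, E.m_mul, E.m_mul, h5, beq_iff_eq.1 this.2])))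
    (e := Pi.single 0 1) (L := o9) (by rw [e0]; exact chk_o9)
  have h7 := E.allV chk_v9 (y.1ᵀ 0)
  have h8 : t9 ω *ᵥ y.1ᵀ 0 = y.1ᵀ 1 := by
    have : y.1 * t9 ω = t9 ω * y.1 := h2 ▸ congrArg Units.val e
    show (t9 ω * y.1)ᵀ 0 = _
    rw [← this]; funext i; simp [t9, mul_apply, Fin.sum_univ_six]
  rw [← h4, ← E.v_mulVec, h8, E.hm_col hq hy.1, E.hm_col hq hy.1, ← e0] at h7
  obtain ⟨x, h9, h10⟩ := List.any_eq_true.1 h7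
  obtain ⟨z, h11, h12⟩ := h6 x h9
  have h13 : z⁻¹ * y ∈ GU 6 F 2 ⊓ specialLinear (Fin 6) F := mul_mem (inv_mem h11.1.1) hy
  have h14 : (z⁻¹ * y).1ᵀ 0 = Pi.single 0 1 := by
    show (z⁻¹).1 *ᵥ y.1ᵀ 0 = _
    rw [← E.v_inj (h12.trans (beq_iff_eq.1 h10)), mulVec_mulVec, ← Units.val_mul, inv_mul_cancel, Units.val_one,
      one_mulVec]
  have h15 := cols_t9 E (s := (z⁻¹ * y).1) (ω := ω) (by
    rw [← h2, ← Units.val_mul, ← Units.val_mul, mul_assoc, e, ← mul_assoc, ← mul_assoc, (Subgroup.centralizer {t}).inv_mem h11.2 t rfl])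
  have h16 := E.allV chk_w9 ((z⁻¹ * y).1ᵀ 3)
  rw [h14, e0, h4] at h15
  rw [← h15, (C.mem _).1 h13] at h16
  simpa using mul_mem h11.1.2 (E.mem_Y C.cov h16)

end Cfsg.Lib.Linear.Nm
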