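import Cfsg.Agent.Lib.Linear.Lev

/-! Commutators in `SL_n(q)`, I: block reductions, and fields with at least four elements. -/

set_option autoImplicit false

namespace Cfsg.Lib.Linear.Lev
open Module Submodule Cfsg.Lib.Known

universe u

section
variable {K : Type*} [Field K] {V V' X W : Type*} [AddCommGroup V] [Module K V] [AddCommGroup V']
  [Module K V'] [AddCommGroup X] [Module K X] [AddCommGroup W] [Module K W]

/-- `S = [B, h]` with prescribed determinants, `B` having no eigenvalue in `P` -/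
def Cm (S : End K V) (δ ε : K) (P : K → Prop) : Prop :=
  ∃ B h : End K V, S * h * B = B * h ∧ LinearMap.det B = δ ∧ LinearMap.det h = ε ∧
    ∀ f, P f → LinearMap.det (B - f • 1) ≠ 0

theorem Cm.mono {S : End K V} {δ ε : K} {P Q : K → Prop} (h : Cm S δ ε P) (hQ : ∀ f, Q f → P f) :
    Cm S δ ε Q := by
  obtain ⟨B, h, h1, h2, h3, h4⟩ := h
  exact ⟨B, h, h1, h2, h3, fun f hf => h4 f (hQ f hf)⟩

theorem Cm.of_equiv (e : V ≃ₗ[K] V') {S : End K V} {S' : End K V'} (h : ∀ y, e (S y) = S' (e y))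
    {δ ε : K} {P : K → Prop} (hl : Cm S' δ ε P) : Cm S δ ε P := by
  obtain ⟨B, k, h1, h2, h3, h4⟩ := hl
  refine ⟨e.symm.conjAlgEquiv K B, e.symm.conjAlgEquiv K k,
    by rw [eq_conj e h, ← map_mul, ← map_mul, h1, map_mul], (sim_conjAlg e B).det.trans h2,
    (sim_conjAlg e k).det.trans h3, fun f hf => ?_⟩
  have := (sim_conjAlg e (B - f • 1)).det
  rw [map_sub, map_smul, map_one] at this
  exact this ▸ h4 f hf

theorem exists_inv [FiniteDimensional K V] {B : End K V} (h : LinearMap.det B ≠ 0) :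
    ∃ C : End K V, B * C = 1 ∧ C * B = 1 := by
  obtain ⟨u, rfl⟩ := (LinearMap.isUnit_iff_isUnit_det B).2 h.isUnit
  exact ⟨(u⁻¹ : (End K V)ˣ), u.mul_inv, u.inv_mul⟩

theorem det_ne_of_unit [FiniteDimensional K V] {B : End K V} (h : IsUnit B) : LinearMap.det B ≠ 0 :=
  ((LinearMap.isUnit_iff_isUnit_det B).1 h).ne_zero

theorem Cm.blk [FiniteDimensional K X] [FiniteDimensional K W] {b : W →ₗ[K] X} {c : X →ₗ[K] W}
    {d : End K W} {δ ε f : K} {P : K → Prop} (h : Cm (d - c ∘ₗ b) δ ε P) (hδ : δ ≠ 0) (hε : ε ≠ 0)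
    (hf : f ≠ 0) (hP : P f) (h0 : End K X) :
    Cm (blk 1 b c d) (f ^ finrank K X * δ) (LinearMap.det h0 * ε) fun g => P g ∧ g ≠ f := by
  obtain ⟨B, k, h1, h2, h3, h4⟩ := h
  obtain ⟨Bi, b1, b2⟩ := exists_inv (h2 ▸ hδ)
  obtain ⟨Mi, m1, -⟩ := exists_inv (h4 f hP)
  set C := Bi * (d - c ∘ₗ b) with hC
  have c1 : B * C = d - c ∘ₗ b := by rw [hC, ← mul_assoc, b1, one_mul]
  have c2 : C * k * B = k := by rw [hC, mul_assoc Bi, mul_assoc Bi, h1, ← mul_assoc, b2, one_mul]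
  have c3 : LinearMap.det (C - f⁻¹ • 1) ≠ 0 := fun h => by
    have : (C - f⁻¹ • 1) * k * B = (-f⁻¹) • (k * (B - f • 1)) := by
      rw [sub_mul, sub_mul, c2, mul_sub, smul_sub]
      simp [smul_smul, hf]; abel
    have := congrArg LinearMap.det this
    rw [map_mul, map_mul, h, zero_mul, zero_mul, LinearMap.det_smul, map_mul, h3] at this
    exact mul_ne_zero (pow_ne_zero _ (neg_ne_zero.2 (inv_ne_zero hf))) (mul_ne_zero hε (h4 f hP)) this.symm
  obtain ⟨Ni, -, n2⟩ := exists_inv c3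
  have n1 := mul_eq_one_comm.1 n2
  have y1 : ∀ w, B (Mi w) = w + f • Mi w := fun w => by
    have := LinearMap.congr_fun m1 w
    simp only [End.mul_apply, LinearMap.sub_apply, LinearMap.smul_apply, End.one_apply] at this
    rw [← sub_eq_iff_eq_add, this]
  have z1 : ∀ w, Ni (C w) = w + f⁻¹ • Ni w := fun w => by
    have := LinearMap.congr_fun n2 w
    simp only [End.mul_apply, LinearMap.sub_apply, LinearMap.smul_apply, End.one_apply, map_sub,
      map_smul] at this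
    rw [← sub_eq_iff_eq_add, this]
  have e1 : Lev.blk 1 b c d = Lev.blk (f • 1) 0 (f • c) B * Lev.blk (f⁻¹ • 1) (f⁻¹ • b) 0 C := by
    refine LinearMap.ext fun p => Prod.ext (by simp [smul_smul, hf]) ?_
    have := LinearMap.congr_fun c1 p.2
    simp only [End.mul_apply, LinearMap.sub_apply, LinearMap.comp_apply] at this
    simp [smul_smul, hf, this]
  have e2 : Lev.blk 1 0 (f • Mi ∘ₗ c) 1 * Lev.blk (f • 1) 0 (f • c) B =
      Lev.blk (f • 1) 0 0 B * Lev.blk 1 0 (f • Mi ∘ₗ c) 1 := by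
    refine LinearMap.ext fun p => Prod.ext (by simp) ?_
    simp [y1]; abel
  have e3 : Lev.blk (f⁻¹ • 1) (f⁻¹ • b) 0 C * Lev.blk 1 (f⁻¹ • b ∘ₗ Ni) 0 1 =
      Lev.blk 1 (f⁻¹ • b ∘ₗ Ni) 0 1 * Lev.blk (f⁻¹ • 1) 0 0 C := by
    refine LinearMap.ext fun p => Prod.ext ?_ (by simp)
    simp [z1]; abel
  have e4 : Lev.blk (f⁻¹ • 1) 0 0 C * Lev.blk h0 0 0 k * Lev.blk (f • 1) 0 0 B = Lev.blk h0 0 0 k := by
    refine LinearMap.ext fun p => Prod.ext (by simp [smul_smul, hf]) ?_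
    simpa using LinearMap.congr_fun c2 p.2
  refine ⟨Lev.blk (f • 1) 0 (f • c) B,
    Lev.blk 1 (f⁻¹ • b ∘ₗ Ni) 0 1 * Lev.blk h0 0 0 k * Lev.blk 1 0 (f • Mi ∘ₗ c) 1, ?_, ?_, ?_,
    fun g hg => ?_⟩
  · rw [e1, mul_assoc, mul_assoc, mul_assoc _ (Lev.blk 1 0 (f • Mi ∘ₗ c) 1), e2]
    congr 1
    rw [← mul_assoc, ← mul_assoc, ← mul_assoc, e3, mul_assoc (Lev.blk 1 _ 0 1), mul_assoc (Lev.blk 1 _ 0 1), e4]
  · rw [det_lo, LinearMap.det_smul, map_one, mul_one, h2]
  · rw [map_mul, map_mul, det_up, det_diag, det_lo, h3]; simp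
  · rw [blk_sub_smul, det_lo, ← sub_smul, LinearMap.det_smul, map_one, mul_one]
    exact mul_ne_zero (pow_ne_zero _ (sub_ne_zero.2 hg.2.symm)) (h4 g hg.1)

theorem Cm.sum [FiniteDimensional K X] [FiniteDimensional K W] {a : End K X} {d : End K W}
    {δ ε δ' ε' : K} {P : K → Prop} (h : Cm a δ ε P) (h' : Cm d δ' ε' P) :
    Cm (Lev.blk a 0 0 d) (δ * δ') (ε * ε') P := by
  obtain ⟨B, k, h1, h2, h3, h4⟩ := h
  obtain ⟨B', k', h1', h2', h3', h4'⟩ := h'
  refine ⟨Lev.blk B 0 0 B', Lev.blk k 0 0 k', LinearMap.ext fun p => Prod.ext ?_ ?_,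
    by rw [det_diag, h2, h2'], by rw [det_diag, h3, h3'], fun f hf => ?_⟩
  · simpa using LinearMap.congr_fun h1 p.1
  · simpa using LinearMap.congr_fun h1' p.2
  · rw [blk_sub_smul, det_diag]; exact mul_ne_zero (h4 f hf) (h4' f hf)

theorem Cm.of_sim [FiniteDimensional K V] {B C D : End K V} (hD : C * D = 1) (h : Sim B D)
    {P : K → Prop} (hP : ∀ f, P f → LinearMap.det (B - f • 1) ≠ 0) :
    ∃ ε, ε ≠ 0 ∧ Cm (B * C) (LinearMap.det B) ε P := by
  obtain ⟨e, he⟩ := h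
  refine ⟨_, e.isUnit_det'.ne_zero, B, e, LinearMap.ext fun y => ?_, rfl, rfl, hP⟩
  have := LinearMap.congr_fun hD (e y)
  simp only [End.mul_apply, End.one_apply] at this
  simp [he, this]

theorem det_sub_of_nil [FiniteDimensional K V] {B : End K V} (h : IsNilpotent (B - 1)) {f : K}
    (hf : f ≠ 1) : LinearMap.det (B - f • 1) ≠ 0 := by
  have : B - f • 1 = (B - 1) + algebraMap K _ (1 - f) := by
    rw [Algebra.algebraMap_eq_smul_one, sub_smul, one_smul]; abel
  rw [this]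
  exact det_ne_of_unit (h.isUnit_add_right_of_commute ((sub_ne_zero.2 hf.symm).isUnit.map _)
    (Algebra.commute_algebraMap_right _ _))

theorem Lv.cm [FiniteDimensional K V] {S : End K V} {v : V} {u : V →ₗ[K] K} (h : Lv S v u) :
    ∃ ε, ε ≠ 0 ∧ Cm S 1 ε (· ≠ 1) := by
  obtain ⟨B, C, rfl, hB, hC⟩ := h.reg
  obtain ⟨D, d1, d2⟩ := exists_inv (B := C) (det_unip hC.1 ▸ one_ne_zero)
  have e : D - 1 = -D * (C - 1) := by rw [mul_sub, neg_mul, d2]; noncomm_ring
  have hD : Reg D := by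
    refine ⟨e ▸ Commute.isNilpotent_mul_left ?_ hC.1, ?_⟩
    · exact (Commute.sub_right (d2.trans d1.symm) (Commute.one_right _)).neg_left
    · rw [e, End.mul_eq_comp, LinearMap.ker_comp_of_ker_eq_bot _
        ((LinearMap.isUnit_iff_ker_eq_bot _).1 (IsUnit.of_mul_eq_one _ d2).neg)]
      exact hC.2
  have := Cm.of_sim d1 (hB.sim hD rfl) (P := (· ≠ 1)) fun f hf => det_sub_of_nil hB.1 hf
  rwa [det_unip hB.1] at this

theorem cm_one [FiniteDimensional K V] : Cm (1 : End K V) 1 1 (· ≠ 1) :=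
  ⟨1, 1, by simp, by simp, by simp, fun f hf => det_sub_of_nil (by simp) hf⟩

theorem exists_vu [FiniteDimensional K V] (h : 1 ≤ finrank K V) :
    ∃ (v : V) (u : V →ₗ[K] K), u v = 1 := by
  have : Nontrivial V := (finrank_pos_iff (R := K)).1 h
  obtain ⟨v, hv⟩ := exists_ne (0 : V)
  obtain ⟨ψ, hz, -⟩ := Submodule.exists_le_ker_of_notMem (p := (⊥ : Submodule K V)) (v := v) hv
  exact ⟨v, (ψ v)⁻¹ • ψ, by simp [hz]⟩

theorem stepB (hK : Big K) {V : Type u} [AddCommGroup V] [Module K V] [FiniteDimensional K V]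
    {S : End K V} (hd : LinearMap.det S = 1) (hn : 1 ≤ finrank K V) (h : S = 1 ∨ Good S) {f : K}
    (hf : f ≠ 0) (hf1 : f ≠ 1) : ∃ ε, ε ≠ 0 ∧ Cm S f ε fun g => g ≠ 1 ∧ g ≠ f := by
  obtain ⟨v, u, hv⟩ := exists_vu hn
  by_cases h1 : S = 1
  · obtain ⟨e, b, c, d, b1, -, -, -, -, b6, -, -⟩ := step1 S hv (by rw [h1]; exact hv)
    have : d - c ∘ₗ b = 1 := LinearMap.ext fun w => Subtype.ext (by
      rw [b6, sch_apply, h1]; simp)
    have := (this ▸ cm_one : Cm (d - c ∘ₗ b) 1 1 _).blk one_ne_zero one_ne_zero hf hf1 1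
    exact ⟨1, one_ne_zero, Cm.of_equiv e b1 (by simpa using this)⟩
  · have h2 : 2 ≤ finrank K V := by
      by_contra h2
      exact h1 (eq_one_of_finrank (by omega) hd)
    obtain ⟨φ, e, b, c, d, b1, -, -, b4, b5, b6, b7, b8⟩ := step_good hK hd h2 (h.resolve_left h1)
      (v := v) (fun h => by simp [h] at hv) (u := u) (fun h => by simp [h] at hv)
    obtain ⟨ε, hε, hc⟩ := (lev hK (finrank K V - 2) _ (by omega) _ b7 b6 _ b5 _ b4).cm
    have := hc.blk one_ne_zero hε hf hf1 1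
    exact ⟨ε, hε, Cm.of_equiv e b1 (by simpa using this)⟩

theorem cm_big (hK : Big K) {V : Type u} [AddCommGroup V] [Module K V] [FiniteDimensional K V]
    {S : End K V} (hd : LinearMap.det S = 1) (hn : 2 ≤ finrank K V)
    (hS : ¬ ∃ c : K, ∀ y, S y = c • y) : Cm S 1 1 fun _ => False := by
  obtain ⟨f, f0, f1, f2⟩ := hK 0 1 (-1)
  have key : ∀ {φ : V →ₗ[K] K} (e : V ≃ₗ[K] K × LinearMap.ker φ) (b : LinearMap.ker φ →ₗ[K] K)
      (c : K →ₗ[K] LinearMap.ker φ) (d : End K (LinearMap.ker φ)), (∀ y, e (S y) = blk 1 b c d (e y)) →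
      (d - c ∘ₗ b = 1 ∨ Good (d - c ∘ₗ b)) → LinearMap.det (d - c ∘ₗ b) = 1 →
      finrank K V = finrank K (LinearMap.ker φ) + 1 → Cm S 1 1 fun _ => False :=
    fun e b c d b1 b2 b3 b4 => by
      obtain ⟨ε, hε, hc⟩ := stepB hK b3 (by omega) b2 (inv_ne_zero f0) (inv_ne_one.2 f1)
      have := hc.blk (inv_ne_zero f0) hε f0 ⟨f1, fun h => by
        have : f * f = 1 := by nth_rewrite 1 [h]; exact inv_mul_cancel₀ f0
        exact (mul_self_eq_one_iff.1 this).elim f1 f2⟩ (ε⁻¹ • 1)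
      rw [LinearMap.det_smul, map_one, finrank_self, pow_one, pow_one, mul_one, mul_inv_cancel₀ f0,
        inv_mul_cancel₀ hε] at this
      exact Cm.of_equiv e b1 (this.mono fun _ h => h.elim)
  by_cases hr : Rk1 S
  · obtain ⟨φ, w, h0, hf⟩ := sq_of_rk1 hr hd
    obtain ⟨x, hx⟩ : ∃ x, φ x = 1 := by
      obtain ⟨x, hx⟩ : ∃ x, φ x ≠ 0 := by
        by_contra h
        push Not at h
        exact hS ⟨1, fun y => by simp [hf, h]⟩
      exact ⟨(φ x)⁻¹ • x, by simp [hx]⟩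
    obtain ⟨e, b, c, d, b1, -, -, -, -, b6, b7, b8⟩ := step1 S hx (by simp [hf, hx, h0])
    exact key e b c d b1 (Or.inl (LinearMap.ext fun w => Subtype.ext (by
      rw [b6, sch_apply]; simp [hf, h0]))) (b7.trans hd) b8
  · obtain ⟨v, u, hv⟩ := exists_vu (K := K) (V := V) (by omega)
    obtain ⟨φ, e, b, c, d, b1, -, -, -, -, b6, b7, b8⟩ := step_good hK hd hn (fun _ => ⟨hS, hr⟩)
      (v := v) (fun h => by simp [h] at hv) (u := u) (fun h => by simp [h] at hv)
    exact key e b c d b1 (Or.inr b6) b7 b8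

end

variable {K : Type*} [Field K]

open Matrix Polynomial in
theorem charpoly_smul_comp {n : Type*} [Fintype n] [DecidableEq n] (A : Matrix n n K) (c : K) :
    (c • A).charpoly.comp (C c * X) = C c ^ Fintype.card n * A.charpoly := by
  have : (charmatrix (c • A)).map (compRingHom (C c * X)) = C c • charmatrix A := by
    ext i j : 2
    by_cases h : i = j
    · subst h; simp [mul_sub]
    · simp [h]
  rw [charpoly, charpoly, ← coe_compRingHom_apply, RingHom.map_det, RingHom.mapMatrix_apply, this,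
    det_smul]

open Matrix Polynomial in
theorem scalar_comm [Finite K] {n : ℕ} (hn : 1 ≤ n) {c : K} (hc : c ^ n = 1) :
    ∃ a b : Matrix (Fin n) (Fin n) K, c • (b * a) = a * b ∧ a.det = 1 ∧ b.det = 1 := by
  classical
  have : Nonempty (Fin n) := ⟨⟨0, hn⟩⟩
  have := Fintype.ofFinite K
  obtain ⟨p, hp⟩ := CharP.exists K
  have hpp := CharP.char_is_prime K p
  have := Fact.mk hpp
  have c0 : c ≠ 0 := fun h => by rw [h, zero_pow (by omega)] at hc; exact zero_ne_one hc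
  obtain ⟨A, h1, h2⟩ := exists_isSS_charpoly (n := Fin n) (f := (X ^ n + C ((-1) ^ n) : K[X]))
    (monic_X_pow_add_C _ (by omega)) (by simp [-map_pow])
  have hA : A.det = 1 := by
    rw [det_eq_sign_charpoly_coeff, h2]
    rw [coeff_add, coeff_X_pow, if_neg (by omega), coeff_C_zero, Fintype.card_fin, zero_add, ← mul_pow]
    simp
  let g : GL (Fin n) K := GeneralLinearGroup.mkOfDetNeZero A (hA ▸ one_ne_zero)
  let g' : GL (Fin n) K := GeneralLinearGroup.mkOfDetNeZero (c • A) (by rw [det_smul, hA]; simp [c0])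
  have o1 := (GL_coprime_iff_isSS p g).2 h1
  have o2 : (orderOf g').Coprime p := by
    refine Nat.Coprime.coprime_dvd_left (orderOf_dvd_of_pow_eq_one (n := orderOf g * (Fintype.card K - 1)) ?_)
      (Nat.Coprime.mul_left o1 ?_)
    · apply Units.ext
      have : A ^ orderOf g = 1 := congrArg Units.val (pow_orderOf_eq_one g)
      show (c • A) ^ _ = 1
      rw [_root_.smul_pow, pow_mul A, this, one_pow, pow_mul', FiniteField.pow_card_sub_one_eq_one c c0, one_pow,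
        one_smul]
    · obtain ⟨k, -, hk⟩ := FiniteField.card K p
      have h3 : p ∣ Fintype.card K := hk ▸ dvd_pow_self p k.ne_zero
      have h4 : 1 ≤ Fintype.card K := Fintype.card_pos
      refine ((Nat.Prime.coprime_iff_not_dvd hpp).2 fun h => hpp.one_lt.ne' (Nat.dvd_one.1 ?_)).symm
      have := Nat.dvd_sub h3 h
      rwa [Nat.sub_sub_self h4] at this
  have h3 : (c • A).charpoly = A.charpoly := by
    have e1 := charpoly_smul_comp A c
    have e2 : A.charpoly.comp (C c * X) = A.charpoly := by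
      rw [h2]; simp [mul_pow, ← C_pow, hc, -map_pow]
    rw [Fintype.card_fin, ← C_pow, hc, C_1, one_mul, ← e2] at e1
    have e3 : ∀ q : K[X], (q.comp (C c * X)).comp (C c⁻¹ * X) = q := fun q => by
      rw [comp_assoc]; simp [← mul_assoc, ← C_mul, c0]
    rw [← e3 (c • A).charpoly, e1, e3]
  obtain ⟨a, ha⟩ := h1.detSurj.exists_det_one
    (ed_eq_of_isSS h1 ((GL_coprime_iff_isSS p g').1 o2) h3.symm)
  exact ⟨a, A, (smul_mul_assoc c A _).symm.trans ha.symm, a.2, hA⟩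

end Cfsg.Lib.Linear.Lev
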