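import Cfsg.Agent.Lib.Linear.OreA

/-! Commutators in `SL_n(q)`, II: factorisations `S = C* C` with respect to a symmetric form. -/

set_option autoImplicit false

namespace Cfsg.Lib.Linear.Lev
open Module Submodule Cfsg.Lib.Known

section
variable {K : Type*} [Field K] {V V' X W : Type*} [AddCommGroup V] [Module K V] [AddCommGroup V']
  [Module K V'] [AddCommGroup X] [Module K X] [AddCommGroup W] [Module K W]

/-- `S` is self-adjoint for the non-degenerate symmetric form `β` -/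
structure SA (β : V →ₗ[K] V →ₗ[K] K) (S : End K V) : Prop where
  symm : ∀ x y, β x y = β y x
  nd : ∀ x, (∀ y, β x y = 0) → x = 0
  adj : ∀ x y, β (S x) y = β x (S y)

/-- `S = C* C` with `C` of a special shape -/
def Fac (β : V →ₗ[K] V →ₗ[K] K) (S : End K V) : Prop :=
  ∃ C : End K V, (∀ x y, β (S x) y = β (C x) (C y)) ∧ IsNilpotent ((C - 1) * (C * C + 1)) ∧
    LinearMap.det C = 1

theorem fac_one [FiniteDimensional K V] (β : V →ₗ[K] V →ₗ[K] K) : Fac β 1 :=
  ⟨1, fun _ _ => rfl, by simp, by simp⟩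

theorem Fac.of_equiv (e : V ≃ₗ[K] V') {S : End K V} {S' : End K V'} (h : ∀ y, e (S y) = S' (e y))
    {β : V →ₗ[K] V →ₗ[K] K} {β' : V' →ₗ[K] V' →ₗ[K] K} (hβ : ∀ x y, β x y = β' (e x) (e y))
    (hl : Fac β' S') : Fac β S := by
  obtain ⟨C, h1, h2, h3⟩ := hl
  refine ⟨e.symm.conjAlgEquiv K C, fun x y => ?_, ?_, (sim_conjAlg e C).det.trans h3⟩
  · simp [LinearEquiv.conjAlgEquiv_apply, hβ, h, h1]
  · simpa using h2.map (e.symm.conjAlgEquiv K)

/-- orthogonal sum of two forms -/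
def pf (β : X →ₗ[K] X →ₗ[K] K) (γ : W →ₗ[K] W →ₗ[K] K) : X × W →ₗ[K] X × W →ₗ[K] K :=
  β.compl₁₂ (LinearMap.fst K X W) (LinearMap.fst K X W) +
    γ.compl₁₂ (LinearMap.snd K X W) (LinearMap.snd K X W)

@[simp] theorem pf_apply (β : X →ₗ[K] X →ₗ[K] K) (γ : W →ₗ[K] W →ₗ[K] K) (p q : X × W) :
    pf β γ p q = β p.1 q.1 + γ p.2 q.2 := rfl

theorem SA.blk [FiniteDimensional K X] [FiniteDimensional K W] {β : X →ₗ[K] X →ₗ[K] K}
    {γ : W →ₗ[K] W →ₗ[K] K} {a t : End K X} {b : W →ₗ[K] X} {c : X →ₗ[K] W} {d : End K W}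
    (h : SA (pf β γ) (blk a b c d)) (ht : a * t = 1) :
    SA β a ∧ SA γ (d - c ∘ₗ t ∘ₗ b) ∧
      (Fac β a → Fac γ (d - c ∘ₗ t ∘ₗ b) → Fac (pf β γ) (Lev.blk a b c d)) := by
  have t1 : ∀ x, a (t x) = x := fun x => LinearMap.congr_fun ht x
  have s1 : ∀ x y, β x y = β y x := fun x y => by simpa using h.symm (x, 0) (y, 0)
  have s2 : ∀ x y, γ x y = γ y x := fun x y => by simpa using h.symm (0, x) (0, y)
  have a1 : ∀ x y, β (a x) y = β x (a y) := fun x y => by simpa using h.adj (x, 0) (y, 0)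
  have a2 : ∀ x y, γ (c x) y = β x (b y) := fun x y => by simpa using h.adj (x, 0) (0, y)
  have a3 : ∀ x y, γ (d x) y = γ x (d y) := fun x y => by simpa using h.adj (0, x) (0, y)
  have a4 : ∀ x y, β (t x) y = β x (t y) := fun x y => by rw [← t1 y, ← a1, t1, t1]
  refine ⟨⟨s1, fun x hx => ?_, a1⟩, ⟨s2, fun x hx => ?_, fun x y => ?_⟩, ?_⟩
  · exact congrArg Prod.fst (h.nd (x, 0) fun y => by simp [hx])
  · exact congrArg Prod.snd (h.nd (0, x) fun y => by simp [hx])
  · simp only [LinearMap.sub_apply, LinearMap.comp_apply, map_sub, a3, a2]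
    rw [s2 x (c _), a2, a4, s1]
  · rintro ⟨C, h1, h2, h3⟩ ⟨D, k1, k2, k3⟩
    refine ⟨Lev.blk C (C ∘ₗ t ∘ₗ b) 0 D, fun p q => ?_, ?_, by rw [det_up, h3, k3, mul_one]⟩
    · simp only [pf_apply, blk_apply, LinearMap.comp_apply, ← map_add, LinearMap.zero_apply, zero_add]
      rw [← h1, ← k1]
      simp only [map_add, t1, LinearMap.add_apply, LinearMap.sub_apply, LinearMap.comp_apply, map_sub, a2]
      rw [a1 p.1 (t _), t1, a4]; ring
    · rw [blk_mul, blk_add_one, blk_sub_one, blk_mul]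
      simp only [LinearMap.comp_zero, LinearMap.zero_comp, add_zero, zero_add]
      exact nil_up _ h2 k2

theorem SA.step [FiniteDimensional K V] [FiniteDimensional K X] {β : V →ₗ[K] V →ₗ[K] K} {S : End K V}
    (h : SA β S) {i : X →ₗ[K] V} {p : V →ₗ[K] X} (hp : ∀ a, p (i a) = a)
    (ho : ∀ a w, p w = 0 → β (i a) w = 0) {t : End K X} (ht : (p ∘ₗ S ∘ₗ i) * t = 1) :
    ∃ S1 : End K (LinearMap.ker p), SA (β.compl₁₂ i i) (p ∘ₗ S ∘ₗ i) ∧
      SA (β.compl₁₂ (LinearMap.ker p).subtype (LinearMap.ker p).subtype) S1 ∧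
      LinearMap.det S = LinearMap.det (p ∘ₗ S ∘ₗ i) * LinearMap.det S1 ∧
      (∀ w w' : LinearMap.ker p, β (S1 w) w' = β (S w) w' - β (S (i (t (p (S w))))) w') ∧
      (Fac (β.compl₁₂ i i) (p ∘ₗ S ∘ₗ i) →
        Fac (β.compl₁₂ (LinearMap.ker p).subtype (LinearMap.ker p).subtype) S1 → Fac β S) := by
  have hb := spl_blk hp S
  have hβ : ∀ q q', pf (β.compl₁₂ i i) (β.compl₁₂ (LinearMap.ker p).subtype (LinearMap.ker p).subtype) q q' =
      β ((spl hp).symm q) ((spl hp).symm q') := fun q q' => by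
    simp [spl_symm, ho _ _ q'.2.2, h.symm q.2, ho _ _ q.2.2]
  have hb' : ∀ q, (spl hp).symm (Lev.blk _ _ _ _ q) = S ((spl hp).symm q) := fun q => by
    rw [LinearEquiv.symm_apply_eq, hb, LinearEquiv.apply_symm_apply]
  have hs : SA (pf (β.compl₁₂ i i) (β.compl₁₂ (LinearMap.ker p).subtype (LinearMap.ker p).subtype))
      (Lev.blk (p ∘ₗ S ∘ₗ i) (p ∘ₗ S ∘ₗ (LinearMap.ker p).subtype) (pk hp ∘ₗ S ∘ₗ i)
      (pk hp ∘ₗ S ∘ₗ (LinearMap.ker p).subtype)) :=
    ⟨fun x y => by rw [hβ, hβ, h.symm], fun x hx => (spl hp).symm.injective ((h.nd _ fun y => by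
      rw [← (spl hp).symm_apply_apply y, ← hβ, hx]).trans (map_zero _).symm),
      fun x y => by rw [hβ, hβ, hb', hb', h.adj]⟩
  obtain ⟨h1, h2, h3⟩ := hs.blk ht
  refine ⟨_, h1, h2, by rw [Sim.det ⟨spl hp, hb⟩, det_schur ht], fun w w' => ?_,
    fun f1 f2 => Fac.of_equiv (spl hp) hb (fun x y => by rw [hβ]; simp) (h3 f1 f2)⟩
  simp [ho _ _ w'.2]

theorem kd_adj [FiniteDimensional K V] {β : V →ₗ[K] V →ₗ[K] K} (hs : ∀ x y, β x y = β y x)
    (nd : ∀ x, (∀ y, β x y = 0) → x = 0) {B C : End K V} (h : ∀ x y, β (B x) y = β x (C y)) :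
    Sim B C := by
  refine sim_of_kd fun p _ _ k => ?_
  generalize p ^ k = a
  have h1 : ∀ x y, β (Polynomial.aeval B a x) y = β x (Polynomial.aeval C a y) := by
    induction a using Polynomial.induction_on' with
    | add p q hp hq => intro x y; simp [hp, hq]
    | monomial n c =>
      have : ∀ x y, β ((B ^ n) x) y = β x ((C ^ n) y) := by
        induction n with
        | zero => simp
        | succ n ih => intro x y; rw [pow_succ', pow_succ, End.mul_apply, End.mul_apply, h, ih]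
      intro x y
      simp [Polynomial.aeval_monomial, this]
  have h2 : LinearMap.ker (Polynomial.aeval B a) =
      LinearMap.BilinForm.orthogonal β (LinearMap.range (Polynomial.aeval C a)) := by
    ext x
    rw [LinearMap.mem_ker, LinearMap.BilinForm.mem_orthogonal_iff]
    refine ⟨fun hx => ?_, fun hx => nd _ fun y => ?_⟩
    · rintro _ ⟨y, rfl⟩
      show β _ x = 0
      rw [hs, ← h1, hx]; simp
    · rw [h1, hs]; exact hx _ ⟨y, rfl⟩
  have h3 := LinearMap.finrank_range_add_finrank_ker (Polynomial.aeval C a)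
  rw [kd, kd, h2, LinearMap.BilinForm.finrank_orthogonal ⟨nd, fun x hx => nd x fun y => hs x y ▸ hx y⟩]
  omega

theorem ker_pow_unit [FiniteDimensional K V] {u M : End K V} (hu : IsUnit u) (h : Commute u M) (k : ℕ) :
    LinearMap.ker ((u * M) ^ k) = LinearMap.ker (M ^ k) := by
  rw [h.mul_pow, End.mul_eq_comp, LinearMap.ker_comp_of_ker_eq_bot _
    ((LinearMap.isUnit_iff_ker_eq_bot _).1 (hu.pow k))]

end

section
open Polynomial
variable {K : Type*} [Field K] {V : Type*} [AddCommGroup V] [Module K V] [FiniteDimensional K V]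

theorem sim_inv (hI : ∀ p : K[X], p.Monic → Irreducible p → p ∣ X ^ 2 + 1 → p = X ^ 2 + 1 ∨ p = X - 1)
    {C D : End K V} (h1 : C * D = 1) (h2 : D * C = 1) (hn : IsNilpotent ((C - 1) * (C * C + 1))) :
    Sim C D := by
  have hD : IsUnit D := IsUnit.of_mul_eq_one _ h2
  have c0 : Commute D C := h2.trans h1.symm
  have e1 : D - 1 = -D * (C - 1) := by rw [mul_sub, neg_mul, h2]; noncomm_ring
  have e2 : D * D + 1 = (D * D) * (C * C + 1) := by
    rw [mul_add, mul_assoc D D (C * C), ← mul_assoc D C C, h2, one_mul, h2, mul_one, add_comm]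
  have c1 : Commute D (C - 1) := c0.sub_right (Commute.one_right _)
  have c2 : Commute D (C * C + 1) := (c0.mul_right c0).add_right (Commute.one_right _)
  have a1 : ∀ C : End K V, aeval C ((X - 1) * (X ^ 2 + 1) : K[X]) = (C - 1) * (C * C + 1) := fun C => by
    simp [pow_two]
  have hn' : IsNilpotent ((D - 1) * (D * D + 1)) := by
    have : (D - 1) * (D * D + 1) = (-D * (D * D)) * ((C - 1) * (C * C + 1)) := by
      rw [e1, e2, mul_assoc, ← mul_assoc (C - 1), ← (c1.mul_left c1).eq]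
      simp only [mul_assoc]
    rw [this]
    have c3 := c1.mul_right c2
    exact Commute.isNilpotent_mul_left (c3.neg_left.mul_left (c3.mul_left c3)) hn
  refine sim_of_kd fun p hp hp' k => ?_
  by_cases hd : p ∣ (X - 1) * (X ^ 2 + 1)
  · have : p = X ^ 2 + 1 ∨ p = X - 1 := by
      rcases hp'.prime.dvd_or_dvd hd with h | h
      · exact Or.inr (eq_of_monic_of_associated hp monic_X_sub_one
          (hp'.associated_of_dvd irreducible_X_sub_one h))
      · exact hI p hp hp' h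
    rcases this with rfl | rfl
    · have e : ∀ S : End K V, aeval S ((X ^ 2 + 1 : K[X]) ^ k) = (S * S + 1) ^ k := fun S => by
        simp [pow_two]
      rw [kd, kd, e, e, e2, ker_pow_unit (hD.mul hD) (c2.mul_left c2)]
    · have e : ∀ S : End K V, aeval S ((X - 1 : K[X]) ^ k) = (S - 1) ^ k := fun S => by simp
      rw [kd, kd, e, e, e1, ker_pow_unit hD.neg c1.neg_left]
  · have := ((hp'.coprime_iff_not_dvd).2 hd).pow_left (m := k)
    rw [kd_of_coprime (a1 C ▸ hn) this, kd_of_coprime (a1 D ▸ hn') this]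

theorem Fac.cm (hI : ∀ p : K[X], p.Monic → Irreducible p → p ∣ X ^ 2 + 1 → p = X ^ 2 + 1 ∨ p = X - 1)
    {β : V →ₗ[K] V →ₗ[K] K} {S : End K V} (h : SA β S) (hf : Fac β S) :
    ∃ ε, ε ≠ 0 ∧ Cm S 1 ε fun f => (f - 1) * (f ^ 2 + 1) ≠ 0 := by
  obtain ⟨C, h1, h2, h3⟩ := hf
  obtain ⟨D, d1, d2⟩ := exists_inv (B := C) (h3 ▸ one_ne_zero)
  have s1 : Sim (S * D) C := kd_adj h.symm h.nd fun x y => by
    rw [End.mul_apply, h1, ← End.mul_apply C, d1, End.one_apply]
  have := Cm.of_sim d1 (s1.trans (sim_inv hI d1 d2 h2)) (P := fun f => (f - 1) * (f ^ 2 + 1) ≠ 0)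
    fun f hf => by
      obtain ⟨e, he⟩ := s1
      rw [Sim.det (g := C - f • 1) ⟨e, fun v => by simp only [LinearMap.sub_apply, map_sub, he]; simp⟩]
      have := kd_of_coprime (S := C) (r := (X - 1) * (X ^ 2 + 1)) (a := X - Polynomial.C f)
        (by simpa [pow_two] using h2) ((irreducible_X_sub_C f).coprime_iff_not_dvd.2 fun hd => hf (by
          simpa using dvd_iff_isRoot.1 hd))
      rw [kd, Submodule.finrank_eq_zero] at this
      refine det_ne_of_unit ((LinearMap.isUnit_iff_ker_eq_bot _).2 ?_)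
      simpa [Algebra.algebraMap_eq_smul_one] using this
  rwa [mul_assoc, d2, mul_one, s1.det, h3] at this

/-- Frobenius functional -/
def Frob {A : Type*} [CommRing A] [Algebra K A] (τ : A →ₗ[K] K) : Prop :=
  ∀ a, (∀ b, τ (a * b) = 0) → a = 0

theorem Frob.mul {A : Type*} [CommRing A] [Algebra K A] {τ : A →ₗ[K] K} (h : Frob τ) {u : A}
    (hu : IsUnit u) : Frob (τ ∘ₗ LinearMap.mulLeft K u) := fun a ha =>
  (hu.mul_right_eq_zero).1 (h _ fun b => by simpa [mul_assoc] using ha b)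

theorem exists_frob {d : K[X]} (hd : d.Monic) : ∃ τ : AdjoinRoot d →ₗ[K] K, Frob τ := by
  refine ⟨lcoeff K (d.natDegree - 1) ∘ₗ AdjoinRoot.modByMonicHom hd, fun a ha => ?_⟩
  by_contra h0
  set g := AdjoinRoot.modByMonicHom hd a with hg
  have e : AdjoinRoot.mk d g = a := AdjoinRoot.mk_leftInverse hd a
  have g0 : g ≠ 0 := fun h => h0 (by rw [← e, h, map_zero])
  have hlt : g.natDegree < d.natDegree := by
    obtain ⟨q, rfl⟩ := AdjoinRoot.mk_surjective a
    exact natDegree_lt_natDegree g0 (degree_modByMonic_lt _ hd)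
  have := ha (AdjoinRoot.mk d (X ^ (d.natDegree - 1 - g.natDegree)))
  rw [← e, ← map_mul, LinearMap.comp_apply, AdjoinRoot.modByMonicHom_mk,
    (modByMonic_eq_self_iff hd).2 (degree_lt_degree (by rw [natDegree_mul_X_pow _ g0]; omega)),
    lcoeff_apply, coeff_mul_X_pow', if_pos (by omega),
    show d.natDegree - 1 - (d.natDegree - 1 - g.natDegree) = g.natDegree by omega] at this
  exact g0 (leadingCoeff_eq_zero.1 this)

theorem exists_sa {ι : Type*} [Fintype ι] {d : ι → K[X]} {S : End K V}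
    (e : V ≃ₗ[K] ∀ i, AdjoinRoot (d i)) (he : ∀ v, e (S v) = mdl d (e v))
    (τ : ∀ i, AdjoinRoot (d i) →ₗ[K] K) (hτ : ∀ i, Frob (τ i)) :
    ∃ β : V →ₗ[K] V →ₗ[K] K, SA β S ∧ ∀ x y, β x y = ∑ i, τ i (e x i * e y i) := by
  classical
  let β : V →ₗ[K] V →ₗ[K] K := ∑ i, ((LinearMap.mul K (AdjoinRoot (d i))).compr₂ (τ i)).compl₁₂
    (LinearMap.proj i ∘ₗ e.toLinearMap) (LinearMap.proj i ∘ₗ e.toLinearMap)
  have hβ : ∀ x y, β x y = ∑ i, τ i (e x i * e y i) := fun x y => by simp [β]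
  refine ⟨β, ⟨fun x y => by simp only [hβ, mul_comm], fun x hx => e.injective (funext fun i => ?_),
    fun x y => by simp only [hβ, he, mdl_apply, mul_assoc, mul_left_comm]⟩, hβ⟩
  rw [map_zero]
  refine hτ i _ fun b => ?_
  have := hx (e.symm (Pi.single i b))
  rwa [hβ, Finset.sum_eq_single i (fun j _ hj => by simp [hj]) (by simp), e.apply_symm_apply,
    Pi.single_eq_same] at this

theorem exists_sa' (S : End K V) : ∃ β : V →ₗ[K] V →ₗ[K] K, SA β S := by
  obtain ⟨s, hs, m, d, rfl, e, he⟩ := exists_hasED S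
  choose τ hτ using fun i => exists_frob (HasED.monic hs i)
  obtain ⟨β, h, -⟩ := exists_sa e he τ hτ
  exact ⟨β, h⟩

end

end Cfsg.Lib.Linear.Lev
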