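import Cfsg.Agent.Lib.Linear.OreB

/-! Commutators in `SL_n(q)`, III: the field with three elements. -/

set_option autoImplicit false

namespace Cfsg.Lib.Linear.Lev
open Module Submodule Cfsg.Lib.Known

section gen
variable {K : Type*} [Field K] {V : Type*} [AddCommGroup V] [Module K V] [FiniteDimensional K V]

theorem det_two (f : End K (K × K)) :
    LinearMap.det f = (f (1, 0)).1 * (f (0, 1)).2 - (f (0, 1)).1 * (f (1, 0)).2 := by
  rw [← LinearMap.det_toMatrix (Basis.finTwoProd K), Matrix.det_fin_two]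
  simp [LinearMap.toMatrix_apply, Basis.finTwoProd]

theorem finrank_span_two (x y : V) : finrank K (span K {x, y}) ≤ 2 := by
  classical
  have := finrank_span_finset_le_card (R := K) ({x, y} : Finset V)
  rw [Set.finrank, Finset.coe_pair] at this
  exact this.trans Finset.card_le_two

theorem finrank_span_one (x : V) : finrank K (span K {x}) ≤ 1 := by
  have := finrank_span_finset_le_card (R := K) ({x} : Finset V)
  rwa [Set.finrank, Finset.coe_singleton, Finset.card_singleton] at this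

theorem exists_mem_not {A B : Submodule K V} (h : finrank K B < finrank K A) : ∃ x ∈ A, x ∉ B := by
  by_contra hc
  push Not at hc
  exact absurd (Submodule.finrank_mono (s := A) (t := B) hc) (by omega)

theorem scalar_mod (U : Submodule K V) (T : End K V) (hU : finrank K U + 2 ≤ finrank K V)
    (h : ∀ y ∉ U, ∃ c : K, T y - c • y ∈ U) : ∃ c : K, ∀ y, T y - c • y ∈ U := by
  have hT : U ≤ U.comap T := fun u hu => by
    have key : ∀ z ∉ U, ∃ a : K, T u - a • z ∈ U := fun z hz => by
      obtain ⟨c, hc⟩ := h z hz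
      obtain ⟨c', hc'⟩ := h (u + z) fun h => hz (by simpa using U.sub_mem h hu)
      refine ⟨c' - c, ?_⟩
      convert U.add_mem (U.sub_mem hc' hc) (U.smul_mem c' hu) using 1
      rw [map_add]; module
    obtain ⟨z1, -, h1⟩ := exists_mem_not (A := ⊤) (B := U) (by rw [finrank_top]; omega)
    obtain ⟨z2, -, h2⟩ := exists_mem_not (A := ⊤) (B := U ⊔ span K {z1}) (by
      have := finrank_sup_add_finrank_inf_eq U (span K {z1})
      have := finrank_span_one (K := K) z1
      rw [finrank_top]; omega)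
    obtain ⟨a, ha⟩ := key z1 h1
    obtain ⟨b, hb⟩ := key z2 fun h => h2 (mem_sup_left h)
    by_cases hb0 : b = 0
    · simpa [hb0] using hb
    · refine (h2 ?_).elim
      have : z2 = b⁻¹ • ((T u - a • z1) - (T u - b • z2)) + (b⁻¹ * a) • z1 := by
        rw [sub_sub_sub_cancel_left, smul_sub, smul_smul, smul_smul, inv_mul_cancel₀ hb0]; module
      rw [this]
      exact add_mem (mem_sup_left (U.smul_mem _ (U.sub_mem ha hb)))
        (mem_sup_right (smul_mem _ _ (mem_span_singleton_self _)))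
  by_contra hc
  obtain ⟨x, hx⟩ := exists_not_eig (S := U.mapQ U T hT) fun ⟨c, h⟩ => hc ⟨c, fun y => by
    rw [← Submodule.Quotient.eq]; exact h (U.mkQ y)⟩
  obtain ⟨y, rfl⟩ := U.mkQ_surjective x
  by_cases hy : y ∈ U
  · exact hx ⟨0, by rw [mkQ_apply, (Submodule.Quotient.mk_eq_zero U).2 hy]; simp⟩
  · obtain ⟨c, h⟩ := h y hy
    exact hx ⟨c, (Submodule.Quotient.eq U).2 h⟩

/-- the map `(a, b) ↦ a x + b y` -/
def i2 (x y : V) : K × K →ₗ[K] V :=
  (LinearMap.toSpanSingleton K V x).coprod (LinearMap.toSpanSingleton K V y)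

omit [FiniteDimensional K V] in
@[simp] theorem i2_apply (x y : V) (a : K × K) : i2 x y a = a.1 • x + a.2 • y := rfl

omit [FiniteDimensional K V] in
theorem retr2 {x y : V} (U : Submodule K V) (h : ∀ a b : K, a • x + b • y ∈ U → a = 0 ∧ b = 0) :
    ∃ p : V →ₗ[K] K × K, (∀ a, p (i2 x y a) = a) ∧ ∀ u ∈ U, p u = 0 := by
  have key : ∀ {x y : V}, (∀ a b : K, a • x + b • y ∈ U → a = 0) →
      ∃ φ : V →ₗ[K] K, φ x = 1 ∧ φ y = 0 ∧ ∀ u ∈ U, φ u = 0 := fun {x y} h => by
    obtain ⟨ψ, hz, hψ⟩ := Submodule.exists_le_ker_of_notMem (p := U ⊔ span K {y}) (v := x) fun hm => by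
      obtain ⟨u, hu, z, hz, e⟩ := mem_sup.1 hm
      obtain ⟨c, rfl⟩ := mem_span_singleton.1 hz
      exact one_ne_zero (h 1 (-c) (by convert hu using 1; rw [← e]; module))
    have e1 : ψ y = 0 := hψ (mem_sup_right (mem_span_singleton_self y))
    exact ⟨(ψ x)⁻¹ • ψ, by simp [hz], by simp [e1], fun u hu => by
      simp [LinearMap.mem_ker.1 (hψ (mem_sup_left hu))]⟩
  obtain ⟨φ, a1, a2, a3⟩ := key fun a b hab => (h a b hab).1
  obtain ⟨ψ, b1, b2, b3⟩ := key (x := y) (y := x) fun a b hab => (h b a (by rwa [add_comm])).2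
  exact ⟨φ.prod ψ, fun a => by simp [a1, a2, b1, b2], fun u hu => by simp [a3 u hu, b3 u hu]⟩

theorem exists_pair (A U : Submodule K V) (h : finrank K U + 2 ≤ finrank K A) :
    ∃ x ∈ A, ∃ y ∈ A, ∀ a b : K, a • x + b • y ∈ U → a = 0 ∧ b = 0 := by
  obtain ⟨x, hx, h1⟩ := exists_mem_not (A := A) (B := U) (by omega)
  obtain ⟨y, hy, h2⟩ := exists_mem_not (A := A) (B := U ⊔ span K {x}) (by
    have := finrank_sup_add_finrank_inf_eq U (span K {x})
    have := finrank_span_one (K := K) x
    omega)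
  refine ⟨x, hx, y, hy, fun a b hab => ?_⟩
  have hb : b = 0 := by
    by_contra hb
    refine h2 ?_
    have : y = b⁻¹ • (a • x + b • y) + (-(b⁻¹ * a)) • x := by
      rw [smul_add, smul_smul, smul_smul, inv_mul_cancel₀ hb]; module
    rw [this]
    exact add_mem (mem_sup_left (U.smul_mem _ hab)) (mem_sup_right (smul_mem _ _ (mem_span_singleton_self _)))
  refine ⟨by_contra fun ha => h1 ?_, hb⟩
  rw [hb, zero_smul, add_zero] at hab
  exact (U.smul_mem_iff ha).1 hab

theorem exists_noniso (h2 : (2 : K) ≠ 0) {β : V →ₗ[K] V →ₗ[K] K} (hs : ∀ x y, β x y = β y x)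
    (nd : ∀ x, (∀ y, β x y = 0) → x = 0) (W U : Submodule K V) (hU : ∀ w ∈ W, ∀ u ∈ U, β w u = 0)
    (h : finrank K V < finrank K W + finrank K (W ⊔ U : Submodule K V)) : ∃ y ∈ W, β y y ≠ 0 := by
  by_contra hc
  push Not at hc
  have h1 : W ⊔ U ≤ LinearMap.BilinForm.orthogonal β W := sup_le (fun x hx y hy => by
    have := hc _ (W.add_mem hx hy)
    simp only [map_add, LinearMap.add_apply, hc x hx, hc y hy, hs x y] at this
    exact (mul_eq_zero.1 (by linear_combination this : 2 * β y x = 0)).resolve_left h2)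
    fun x hx y hy => hU y hy x hx
  have h3 := Submodule.finrank_mono h1
  rw [LinearMap.BilinForm.finrank_orthogonal ⟨nd, fun x hx => nd x fun y => hs x y ▸ hx y⟩] at h3
  have := Submodule.finrank_le W
  omega

theorem SA.nd' {β : V →ₗ[K] V →ₗ[K] K} {S : End K V} (h : SA β S) (hd : LinearMap.det S ≠ 0) (x : V)
    (hx : ∀ y, (β ∘ₗ S) x y = 0) : x = 0 := inj_of_det hd x (h.nd _ hx)

omit [FiniteDimensional K V] in
theorem SA.symm' {β : V →ₗ[K] V →ₗ[K] K} {S : End K V} (h : SA β S) (x y : V) :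
    (β ∘ₗ S) x y = (β ∘ₗ S) y x := (h.adj x y).trans (h.symm _ _)

/-- a one-dimensional step -/
theorem SA.step1 {β : V →ₗ[K] V →ₗ[K] K} {S : End K V} (h : SA β S) {x : V} (h0 : β x x ≠ 0)
    (h1 : β (S x) x = β x x) : ∃ (W : Submodule K V) (S1 : End K W), (∀ w, w ∈ W ↔ β x w = 0) ∧
      SA (β.compl₁₂ W.subtype W.subtype) S1 ∧ LinearMap.det S1 = LinearMap.det S ∧
      finrank K V = finrank K W + 1 ∧
      (∀ w : W, β (S1 w) w = β (S w) w - (β x x)⁻¹ * β (S x) w * β (S x) w) ∧
      (Fac (β.compl₁₂ W.subtype W.subtype) S1 → Fac β S) := by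
  have hp : ∀ a : K, ((β x x)⁻¹ • β x) (LinearMap.toSpanSingleton K V x a) = a := fun a => by
    simp; field_simp
  have ha : ((β x x)⁻¹ • β x) ∘ₗ S ∘ₗ LinearMap.toSpanSingleton K V x = 1 := by
    ext; simp [← h.adj, h1, h0]
  obtain ⟨S1, -, a2, a3, a4, a5⟩ := h.step hp (fun a w hw => by simpa [h0] using Or.inr hw) (t := 1)
    (by rw [ha, mul_one])
  rw [ha] at a3 a5
  refine ⟨_, S1, fun w => by simp [h0], a2, by simpa using a3.symm,
    by rw [finrank_spl hp, finrank_self, add_comm], fun w => ?_, a5 (fac_one _)⟩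
  rw [a4]; simp [h.adj x]

end gen

theorem dec2 : ∀ d0 d1 s00 s01 s10 s11 : ZMod 3, d0 ≠ 0 → d1 ≠ 0 → s10 * d1 = s01 * d0 →
    s00 * s11 - s01 * s10 = 1 → ∃ a b c d : ZMod 3, s00 * d0 = a * a * d0 + c * c * d1 ∧
      s10 * d1 = a * b * d0 + c * d * d1 ∧ s11 * d1 = b * b * d0 + d * d * d1 ∧ a * d - b * c = 1 ∧
      (a + d = 0 ∨ a + d = 2) := by decide +kernel

theorem dec3 : ∀ d0 d1 d2 : ZMod 3, d0 ≠ 0 → d1 ≠ 0 → d2 ≠ 0 → ∀ a b c d e f : ZMod 3,
    d0 * d1 * d2 * (a * d * f - a * e * e - b * b * f + b * e * c + c * b * e - c * d * c) = 1 →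
    ∃ x y z : ZMod 3, x * x * d0 + y * y * d1 + z * z * d2 ≠ 0 ∧ x * x * d0 + y * y * d1 + z * z * d2 =
      x * x * a + y * y * d + z * z * f + 2 * (x * y * b + x * z * c + y * z * e) := by decide +kernel

instance : Fact (Nat.Prime 3) := ⟨Nat.prime_three⟩

local notation "F3" => ZMod 3

section three
variable {V : Type*} [AddCommGroup V] [Module F3 V] [FiniteDimensional F3 V]
  {β : V →ₗ[F3] V →ₗ[F3] F3} {S : End F3 V}

theorem SA.orth (h : SA β S) {n : ℕ} (hn : finrank F3 V = n) : ∃ b : Basis (Fin n) F3 V,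
    (∀ i j, i ≠ j → β (b i) (b j) = 0) ∧ (∀ i, β (b i) (b i) ≠ 0) ∧
    ∀ y j, β y (b j) = b.repr y j * β (b j) (b j) := by
  subst hn
  let _ : Invertible (2 : F3) := invertibleOfNonzero (by decide)
  obtain ⟨b, hb⟩ := LinearMap.BilinForm.exists_orthogonal_basis (B := β) ⟨h.symm⟩
  have h1 : ∀ i j, i ≠ j → β (b i) (b j) = 0 := LinearMap.isOrthoᵢ_def.1 hb
  refine ⟨b, h1, fun i hi => b.ne_zero i (h.nd _ fun y => ?_), fun y j => ?_⟩
  · have : β (b i) = 0 := b.ext fun j => by
      by_cases hij : i = j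
      · exact hij ▸ hi
      · exact h1 i j hij
    rw [this]; rfl
  · conv_lhs => rw [← b.sum_repr y]
    simp only [map_sum, map_smul, LinearMap.sum_apply, LinearMap.smul_apply, smul_eq_mul]
    exact Finset.sum_eq_single j (fun i _ hi => by rw [h1 i j hi, mul_zero]) (by simp)

theorem fac_two (h : SA β S) (hn : finrank F3 V = 2) (hd : LinearMap.det S = 1) : Fac β S := by
  obtain ⟨b, h1, h2, h3⟩ := h.orth hn
  rw [← LinearMap.det_toMatrix b, Matrix.det_fin_two] at hd
  simp only [LinearMap.toMatrix_apply] at hd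
  have e1 := h.adj (b 0) (b 1)
  rw [h3, h.symm (b 0), h3 _ 0] at e1
  obtain ⟨a, c, d, e, k1, k2, k3, k4, k5⟩ := dec2 _ _ _ _ _ _ (h2 0) (h2 1) e1 hd
  have c0 : Matrix.toLin b b !![a, c; d, e] (b 0) = a • b 0 + d • b 1 := by
    simp [Matrix.toLin_self, Fin.sum_univ_two]
  have c1 : Matrix.toLin b b !![a, c; d, e] (b 1) = c • b 0 + e • b 1 := by
    simp [Matrix.toLin_self, Fin.sum_univ_two]
  have z1 := h1 0 1 (by decide)
  have z2 := h1 1 0 (by decide)
  refine ⟨Matrix.toLin b b !![a, c; d, e], ?_, ?_, by rw [LinearMap.det_toLin, Matrix.det_fin_two_of, k4]⟩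
  · have : β ∘ₗ S = β.compl₁₂ (Matrix.toLin b b !![a, c; d, e]) (Matrix.toLin b b !![a, c; d, e]) := by
      refine LinearMap.ext_basis b b fun i j => ?_
      rw [LinearMap.comp_apply, LinearMap.compl₁₂_apply, h3]
      fin_cases i <;> fin_cases j <;>
        simp only [Fin.zero_eta, Fin.mk_one, c0, c1, map_add, map_smul, LinearMap.add_apply,
          LinearMap.smul_apply, smul_eq_mul, z1, z2]
      exacts [by linear_combination k1, by linear_combination k2, by linear_combination k2 - e1,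
        by linear_combination k3]
    exact fun x y => LinearMap.congr_fun₂ this x y
  · have : IsNilpotent ((!![a, c; d, e] - 1) * (!![a, c; d, e] * !![a, c; d, e] + 1) :
        Matrix (Fin 2) (Fin 2) F3) := by
      rcases k5 with k5 | k5
      · have : (!![a, c; d, e] * !![a, c; d, e] + 1 : Matrix (Fin 2) (Fin 2) F3) = 0 := by
          ext i j; fin_cases i <;> fin_cases j <;> simp
          exacts [by linear_combination a * k5 - k4, by linear_combination c * k5,
            by linear_combination d * k5, by linear_combination e * k5 - k4]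
        rw [this, mul_zero]; exact IsNilpotent.zero
      · refine Commute.isNilpotent_mul_right (Commute.add_right ((Commute.sub_left ((Commute.refl _).mul_right (Commute.refl _)) (Commute.one_left _))) (Commute.one_right _)) ⟨2, ?_⟩
        ext i j; fin_cases i <;> fin_cases j <;> simp [pow_two, Matrix.mul_apply, Matrix.one_apply]
        exacts [by linear_combination a * k5 - k4, by linear_combination c * k5,
          by linear_combination d * k5, by linear_combination e * k5 - k4]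
    have := this.map (Matrix.toLinAlgEquiv b)
    rwa [map_mul, map_sub, map_add, map_mul, map_one] at this

theorem exists_three (h : SA β S) (hn : finrank F3 V = 3) (hd : LinearMap.det S = 1) :
    ∃ x, β x x ≠ 0 ∧ β (S x) x = β x x := by
  obtain ⟨b, h1, h2, h3⟩ := h.orth hn
  have sq : ∀ d : F3, d ≠ 0 → d * d = 1 := by decide
  have h4 : ∀ i j, b.repr (S (b i)) j = β (b j) (b j) * β (S (b i)) (b j) := fun i j => by
    rw [h3 (S _), mul_left_comm, sq _ (h2 j), mul_one]
  have h5 : ∀ i j, β (S (b i)) (b j) = β (S (b j)) (b i) := fun i j => h.symm' _ _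
  rw [← LinearMap.det_toMatrix b, Matrix.det_fin_three] at hd
  simp only [LinearMap.toMatrix_apply, h4, h5 1 0, h5 2 0, h5 2 1] at hd
  obtain ⟨x, y, z, k1, k2⟩ := dec3 _ _ _ (h2 0) (h2 1) (h2 2) (β (S (b 0)) (b 0)) (β (S (b 0)) (b 1))
    (β (S (b 0)) (b 2)) (β (S (b 1)) (b 1)) (β (S (b 1)) (b 2)) (β (S (b 2)) (b 2))
    (by linear_combination hd)
  have e : β (x • b 0 + y • b 1 + z • b 2) (x • b 0 + y • b 1 + z • b 2) =
      x * x * β (b 0) (b 0) + y * y * β (b 1) (b 1) + z * z * β (b 2) (b 2) := by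
    simp [h1]; ring
  refine ⟨x • b 0 + y • b 1 + z • b 2, e ▸ k1, ?_⟩
  rw [e, k2]
  simp [h5 1 0, h5 2 0, h5 2 1]; ring

theorem exists_plane (h : SA β S) (hn : 4 ≤ finrank F3 V) (hd : LinearMap.det S = 1)
    (H : ∀ x, β x x ≠ 0 → β (S x) x ≠ β x x) : ∃ x y, β x x ≠ 0 ∧ β y y ≠ 0 ∧ β x y = 0 ∧
      β (S x) y = 0 ∧ β (S x) x = -β x x ∧ β (S y) y = -β y y := by
  have hd0 : LinearMap.det S ≠ 0 := hd ▸ one_ne_zero
  have t2 : (2 : F3) ≠ 0 := by decide
  have fk : ∀ φ : V →ₗ[F3] F3, finrank F3 V ≤ finrank F3 (LinearMap.ker φ) + 1 := fun φ => by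
    have := LinearMap.finrank_range_add_finrank_ker φ
    have := (LinearMap.range φ).finrank_le
    rw [finrank_self] at this; omega
  have hs' : ∀ x y, β (S x) y = β (S y) x := h.symm'
  obtain ⟨x, x1, x2⟩ : ∃ x, β x x ≠ 0 ∧ β (S x) x ≠ 0 := by
    obtain ⟨y1, -, h1⟩ := exists_noniso t2 h.symm h.nd ⊤ ⊥ (by simp)
      (by rw [sup_bot_eq, finrank_top]; omega)
    obtain ⟨y2, m2, h2⟩ := exists_noniso t2 h.symm' (h.nd' hd0) (LinearMap.ker (β y1)) ⊥ (by simp)
      (by have := fk (β y1); rw [sup_bot_eq]; omega)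
    have m2' : β y1 y2 = 0 := m2
    have h2' : β (S y2) y2 ≠ 0 := h2
    by_contra hc
    push Not at hc
    have c1 := hc y1 h1
    have c2 : β y2 y2 = 0 := by_contra fun h => h2' (hc y2 h)
    have c3 := hc (y1 + y2) (by simp [m2', h.symm y2 y1, c2, h1])
    have c4 := hc (y1 - y2) (by simp [m2', h.symm y2 y1, c2, h1])
    simp only [map_add, map_sub, LinearMap.add_apply, LinearMap.sub_apply, c1] at c3 c4
    exact h2' ((mul_eq_zero.1 (by linear_combination c3 + c4 : 2 * β (S y2) y2 = 0)).resolve_left t2)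
  have neg : ∀ a b : F3, a ≠ 0 → b ≠ 0 → b ≠ a → b = -a := by decide
  have x3 := neg _ _ x1 x2 (H x x1)
  set W := LinearMap.ker (β x) ⊓ LinearMap.ker (β (S x)) with hW
  have w1 : finrank F3 V ≤ finrank F3 W + 2 := by
    have := finrank_sup_add_finrank_inf_eq (LinearMap.ker (β x)) (LinearMap.ker (β (S x)))
    have := (LinearMap.ker (β x) ⊔ LinearMap.ker (β (S x))).finrank_le
    have := fk (β x)
    have := fk (β (S x))
    rw [hW]; omega
  have w2 : finrank F3 W < finrank F3 (W ⊔ span F3 {x} : Submodule F3 V) :=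
    Submodule.finrank_lt_finrank_of_lt (left_lt_sup.2 fun hx => x1 (hx (mem_span_singleton_self x)).1)
  obtain ⟨y1, m1, h1⟩ := exists_noniso t2 h.symm h.nd W (span F3 {x}) (fun w hw u hu => by
    obtain ⟨c, rfl⟩ := mem_span_singleton.1 hu
    rw [map_smul, h.symm, LinearMap.mem_ker.1 hw.1, smul_zero]) (by omega)
  obtain ⟨y2, m2, h2⟩ := exists_noniso t2 h.symm' (h.nd' hd0) W (span F3 {x}) (fun w hw u hu => by
    obtain ⟨c, rfl⟩ := mem_span_singleton.1 hu
    rw [map_smul, h.symm', LinearMap.comp_apply, LinearMap.mem_ker.1 hw.2, smul_zero]) (by omega)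
  suffices ∃ y ∈ W, β y y ≠ 0 ∧ β (S y) y ≠ 0 by
    obtain ⟨y, m, k1, k2⟩ := this
    exact ⟨x, y, x1, k1, m.1, m.2, x3, neg _ _ k1 k2 (H y k1)⟩
  by_contra hc
  push Not at hc
  have val : ∀ y ∈ W, (β y y = 0 ∨ β y y = -β x x) ∧ (β (S y) y = 0 ∨ β (S y) y = β x x) := fun y hy => by
    have e1 : β x y = 0 := hy.1
    have e2 : β (S x) y = 0 := hy.2
    have := H (x + y)
    simp only [map_add, LinearMap.add_apply, e1, e2, h.symm y x, hs' y x, x3, add_zero, zero_add] at this
    have key : ∀ a u v : F3, a ≠ 0 → (u ≠ 0 → v = 0) → (a + u ≠ 0 → -a + v ≠ a + u) →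
        (u = 0 ∨ u = -a) ∧ (v = 0 ∨ v = a) := by decide
    exact key _ _ _ x1 (hc y hy) this
  have h2' : β (S y2) y2 ≠ 0 := h2
  have v1 := ((val y1 m1).1).resolve_left h1
  have v2 := ((val y2 m2).2).resolve_left h2'
  have v3 := hc y1 m1 h1
  have v4 : β y2 y2 = 0 := by_contra fun h => h2' (hc y2 m2 h)
  have p1 := val _ (W.add_mem m1 m2)
  have p2 := val _ (W.sub_mem m1 m2)
  have p3 := hc _ (W.add_mem m1 m2)
  simp only [map_add, map_sub, LinearMap.add_apply, LinearMap.sub_apply, v1, v2, v3, v4, h.symm y2 y1,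
    hs' y2 y1] at p1 p2 p3
  have key : ∀ a u v : F3, a ≠ 0 →
      (-a + u + (u + 0) = 0 ∨ -a + u + (u + 0) = -a) ∧ (0 + v + (v + a) = 0 ∨ 0 + v + (v + a) = a) →
      (-a - u - (u - 0) = 0 ∨ -a - u - (u - 0) = -a) ∧ (0 - v - (v - a) = 0 ∨ 0 - v - (v - a) = a) →
      (-a + u + (u + 0) ≠ 0 → 0 + v + (v + a) = 0) → False := by decide
  exact key _ _ _ x1 p1 p2 p3

end three

theorem fac3 (n : ℕ) : ∀ (V : Type) [AddCommGroup V] [Module F3 V] [FiniteDimensional F3 V],
    finrank F3 V = n → ∀ (β : V →ₗ[F3] V →ₗ[F3] F3) (S : End F3 V), SA β S → LinearMap.det S = 1 →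
    Fac β S := by
  induction n using Nat.strong_induction_on with
  | _ n ih =>
  intro V _ _ _ hn β S h hd
  by_cases h1 : n ≤ 1
  · rw [eq_one_of_finrank (hn ▸ h1) hd]; exact fac_one β
  by_cases h2 : n = 2
  · exact fac_two h (hn.trans h2) hd
  by_cases H : ∃ x, β x x ≠ 0 ∧ β (S x) x = β x x
  · obtain ⟨x, x1, x2⟩ := H
    obtain ⟨W, S1, -, a2, a3, a4, -, a5⟩ := h.step1 x1 x2
    exact a5 (ih _ (by omega) W rfl _ _ a2 (a3.trans hd))
  by_cases h3 : n = 3
  · exact (H (exists_three h (hn.trans h3) hd)).elim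
  push Not at H
  obtain ⟨x, y, x1, y1, e1, e2, x2, y2⟩ := exists_plane h (by omega) hd H
  have e3 : β y x = 0 := h.symm y x ▸ e1
  have e4 : β (S y) x = 0 := (h.symm' y x).trans e2
  let p : V →ₗ[F3] F3 × F3 := ((β x x)⁻¹ • β x).prod ((β y y)⁻¹ • β y)
  have hp : ∀ a, p (i2 x y a) = a := fun a => Prod.ext (by simp [p, e1]; field_simp)
    (by simp [p, e3]; field_simp)
  have ha : p ∘ₗ S ∘ₗ i2 x y = -1 := LinearMap.ext fun a => Prod.ext
    (by simp [p, ← h.adj, e2, x2]; field_simp) (by simp [p, ← h.adj, e4, y2]; field_simp)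
  obtain ⟨S1, a1, a2, a3, -, a5⟩ := h.step hp (fun a w hw => by
    have k1 := congrArg Prod.fst hw
    have k2 := congrArg Prod.snd hw
    simp [p, x1, y1] at k1 k2
    simp [k1, k2]) (t := -1) (by rw [ha]; exact LinearMap.ext fun a => by simp)
  have d1 : LinearMap.det (p ∘ₗ S ∘ₗ i2 x y) = 1 := by rw [ha, det_two]; simp
  have := finrank_spl hp
  simp only [finrank_prod, finrank_self] at this
  exact a5 (fac_two a1 (by simp) d1) (ih _ (by omega) _ rfl _ _ a2 (by rw [← hd, a3, d1, one_mul]))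

open Polynomial in
theorem irr3 (p : F3[X]) (hp : p.Monic) (hp' : Irreducible p) (h : p ∣ X ^ 2 + 1) :
    p = X ^ 2 + 1 ∨ p = X - 1 := by
  have h1 : (X ^ 2 + 1 : F3[X]).natDegree = 2 := by compute_degree!
  have h2 : Irreducible (X ^ 2 + 1 : F3[X]) := irreducible_of_degree_le_three_of_not_isRoot
    (by rw [h1]; decide) fun x => by
      simp only [IsRoot.def, eval_add, eval_pow, eval_X, eval_one]
      revert x; decide
  exact Or.inl (eq_of_monic_of_associated hp (by monicity!) (hp'.associated_of_dvd h2 h))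

theorem cm3_gl {V : Type} [AddCommGroup V] [Module F3 V] [FiniteDimensional F3 V] {S : End F3 V}
    (hd : LinearMap.det S = 1) : ∃ ε, ε ≠ 0 ∧ Cm S 1 ε (· = -1) := by
  obtain ⟨β, h⟩ := exists_sa' S
  obtain ⟨ε, h0, hc⟩ := (fac3 _ V rfl β S h hd).cm irr3 h
  exact ⟨ε, h0, hc.mono fun f hf => by rw [hf]; decide⟩

theorem cm_neg_one (ε : F3) (h : ε ≠ 0) : Cm (-1 : End F3 (F3 × F3)) 1 ε fun _ => False := by
  have : ε = 1 ∨ ε = -1 := by revert ε; decide
  rcases this with rfl | rfl
  · refine ⟨blk 0 1 (-1) 0, blk 1 1 1 (-1), LinearMap.ext fun p => Prod.ext ?_ ?_, ?_, ?_, fun _ h => h.elim⟩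
    · simp
    · simp [add_comm]
    · simp [det_two]
    · simp [det_two]; decide
  · refine ⟨blk 0 1 (-1) 0, blk 1 0 0 (-1), LinearMap.ext fun p => Prod.ext ?_ ?_, ?_, ?_, fun _ h => h.elim⟩
    all_goals simp [det_two]

theorem cm3 {V : Type} [AddCommGroup V] [Module F3 V] [FiniteDimensional F3 V] {S : End F3 V}
    (hd : LinearMap.det S = 1) (hn : 3 ≤ finrank F3 V) : Cm S 1 1 fun _ => False := by
  have sq : ∀ d : F3, d ≠ 0 → d * d = 1 := by decide
  rcases Nat.even_or_odd (finrank F3 V) with he | ho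
  swap
  · obtain ⟨ε, h0, B, k, h1, h2, h3, -⟩ := cm3_gl hd
    refine ⟨B, ε • k, by simp [h1], h2, ?_, fun _ h => h.elim⟩
    obtain ⟨m, hm⟩ := ho
    rw [LinearMap.det_smul, h3, hm, pow_succ, pow_mul, pow_two, sq ε h0, one_pow, one_mul, sq ε h0]
  have h4 : 4 ≤ finrank F3 V := by obtain ⟨m, hm⟩ := he; omega
  have hinj := inj_of_det (S := S) (hd ▸ one_ne_zero)
  by_cases hr : ∃ w, ∀ y, S y + y ∈ span F3 {w}
  · obtain ⟨w, hw⟩ := hr
    have k1 := LinearMap.finrank_range_add_finrank_ker (S + 1)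
    have k2 : finrank F3 (LinearMap.range (S + 1)) ≤ finrank F3 (span F3 {w}) :=
      Submodule.finrank_mono (by rintro _ ⟨y, rfl⟩; exact hw y)
    have k3 := finrank_span_one (K := F3) w
    obtain ⟨x, hx, y, hy, hxy⟩ := exists_pair (LinearMap.ker (S + 1)) (span F3 {w}) (by omega)
    obtain ⟨p, hp, hp'⟩ := retr2 _ hxy
    have sx : S x = -x := eq_neg_of_add_eq_zero_left hx
    have sy : S y = -y := eq_neg_of_add_eq_zero_left hy
    have si : ∀ a : F3 × F3, S (i2 x y a) = -i2 x y a := fun a => by simp [sx, sy, add_comm]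
    have hb := spl_blk hp S
    have e1 : p ∘ₗ S ∘ₗ i2 x y = -1 := LinearMap.ext fun a => by
      rw [LinearMap.comp_apply, LinearMap.comp_apply, si, map_neg, hp]; rfl
    have e2 : p ∘ₗ S ∘ₗ (LinearMap.ker p).subtype = 0 := LinearMap.ext fun a => by
      have := hp' _ (hw a)
      rwa [map_add, LinearMap.mem_ker.1 a.2, add_zero] at this
    have e3 : pk hp ∘ₗ S ∘ₗ i2 x y = 0 := LinearMap.ext fun a => Subtype.ext (by
      rw [LinearMap.comp_apply, LinearMap.comp_apply, si, coe_pk, map_neg, hp, map_neg]; simp)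
    rw [e1, e2, e3] at hb
    have d1 := Sim.det ⟨spl hp, hb⟩
    rw [hd, det_diag, det_two] at d1
    obtain ⟨ε, h0, hc⟩ := cm3_gl (S := pk hp ∘ₗ S ∘ₗ (LinearMap.ker p).subtype) (by simpa using d1.symm)
    have := (cm_neg_one ε h0).sum (hc.mono fun _ h => h.elim)
    rw [mul_one, sq ε h0] at this
    exact Cm.of_equiv _ hb this
  push Not at hr
  obtain ⟨x, y, hxy⟩ : ∃ x y : V, ∀ a b : F3, a • x + b • y ∈ span F3 {S x - x, S y - y} →
      a = 0 ∧ b = 0 := by
    by_cases hk : 2 ≤ finrank F3 (LinearMap.ker (S - 1))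
    · obtain ⟨x, hx, y, hy, hxy⟩ := exists_pair (LinearMap.ker (S - 1)) ⊥ (by simpa using hk)
      refine ⟨x, y, fun a b h => hxy a b ?_⟩
      have e1 : S x - x = 0 := hx
      have e2 : S y - y = 0 := hy
      simpa [e1, e2] using h
    have nk : LinearMap.ker (S + 1) ≠ ⊤ := fun h => by
      obtain ⟨y, hy⟩ := hr 0
      have : y ∈ LinearMap.ker (S + 1) := h ▸ mem_top
      exact hy (by rw [show S y + y = 0 from this]; exact zero_mem _)
    obtain ⟨x, x1, x2⟩ : ∃ x, x ∉ LinearMap.ker (S + 1) ∧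
        (LinearMap.range (S + 1) = ⊤ ∨ x ∉ LinearMap.range (S + 1)) := by
      by_cases h : LinearMap.range (S + 1) = ⊤
      · obtain ⟨x, -, hx⟩ := SetLike.exists_of_lt nk.lt_top
        exact ⟨x, hx, Or.inl h⟩
      · obtain ⟨x, h1, h2⟩ := two_sub nk h
        exact ⟨x, h1, Or.inr h2⟩
    have u2 := finrank_span_two (K := F3) x (S x - x)
    have cs : ∀ c : F3, c = 0 ∨ c = 1 ∨ c = -1 := by decide
    have t3 : ∀ v : V, v + v + v = 0 := fun v => by
      have : (3 : F3) • v = 0 := by rw [show (3 : F3) = 0 from rfl, zero_smul]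
      linear_combination (norm := module) this
    have rk : ∀ f : End F3 V, (∀ y, f y ∈ span F3 {x, S x - x}) → finrank F3 (LinearMap.range f) ≤ 2 :=
      fun f hf => (Submodule.finrank_mono (by rintro _ ⟨y, rfl⟩; exact hf y)).trans u2
    obtain ⟨y, y1, y2⟩ : ∃ y ∉ span F3 {x, S x - x}, ∀ c : F3, (S - 1) y - c • y ∉ span F3 {x, S x - x} := by
      by_contra hc
      push Not at hc
      obtain ⟨c, hc⟩ := scalar_mod _ (S - 1) (by omega) hc
      rcases cs c with rfl | rfl | rfl
      · have := rk (S - 1) (by simpa using hc)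
        have := LinearMap.finrank_range_add_finrank_ker (S - 1)
        omega
      · have h1 : ∀ y, (S + 1) y ∈ span F3 {x, S x - x} := fun y => by
          convert hc y using 1
          simp only [LinearMap.add_apply, LinearMap.sub_apply, End.one_apply]
          linear_combination (norm := module) t3 y
        rcases x2 with x2 | x2
        · have := rk _ h1
          rw [x2, finrank_top] at this; omega
        · obtain ⟨y, hy⟩ := hr (S x + x)
          obtain ⟨a, b, hab⟩ := mem_span_pair.1 (h1 y)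
          simp only [LinearMap.add_apply, End.one_apply] at hab
          have : a + b = 0 := by
            by_contra h0
            refine x2 ⟨(a + b)⁻¹ • (y - b • x), ?_⟩
            have : (S + 1) (y - b • x) = (a + b) • x := by
              simp only [LinearMap.add_apply, End.one_apply, map_sub, map_smul]
              linear_combination (norm := module) -hab - b • t3 x
            rw [map_smul, this, smul_smul, inv_mul_cancel₀ h0, one_smul]
          exact hy (mem_span_singleton.2 ⟨b, by linear_combination (norm := module) hab - this • x + b • t3 x⟩)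
      · have := rk S fun y => by simpa using hc y
        have := LinearMap.finrank_range_add_finrank_ker S
        rw [LinearMap.ker_eq_bot'.2 hinj, finrank_bot] at this
        omega
    refine ⟨x, y, fun a b h => ?_⟩
    obtain ⟨c, d, hcd⟩ := mem_span_pair.1 h
    have m1 : x ∈ span F3 {x, S x - x} := subset_span (by simp)
    have m2 : S x - x ∈ span F3 {x, S x - x} := subset_span (by simp)
    have d0 : d = 0 := by
      by_contra d0
      refine y2 (d * b) ?_
      have : (S - 1) y - (d * b) • y = (d * a) • x - (d * c) • (S x - x) := by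
        simp only [LinearMap.sub_apply, End.one_apply]
        linear_combination (norm := module) d • hcd - (sq d d0) • (S y - y)
      rw [this]; exact sub_mem (smul_mem _ _ m1) (smul_mem _ _ m2)
    have b0 : b = 0 := by
      by_contra b0
      refine y1 ?_
      have : y = (b * c) • (S x - x) - (b * a) • x := by
        rw [d0] at hcd
        linear_combination (norm := module) -b • hcd - (sq b b0) • y
      rw [this]; exact sub_mem (smul_mem _ _ m2) (smul_mem _ _ m1)
    refine ⟨by_contra fun a0 => x1 ?_, b0⟩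
    rw [d0, b0] at hcd
    have x0 : x ≠ 0 := fun h => x1 (h ▸ zero_mem _)
    have key : ∀ a c : F3, a ≠ 0 → c = 0 ∨ c = a ∨ c = -a := by decide
    rcases key a c a0 with h | h | h <;> rw [h] at hcd
    · exact (x0 (by linear_combination (norm := module) -a • hcd - (sq a a0) • x)).elim
    · show S x + x = 0
      linear_combination (norm := module) a • hcd - (sq a a0) • (S x - x - x) + t3 x
    · exact (x0 (hinj x (by linear_combination (norm := module) -a • hcd - (sq a a0) • S x))).elim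
  obtain ⟨p, hp, hp'⟩ := retr2 _ hxy
  have hb := spl_blk hp S
  have e1 : p ∘ₗ S ∘ₗ i2 x y = 1 := LinearMap.ext fun a => by
    have := hp' (a.1 • (S x - x) + a.2 • (S y - y)) (mem_span_pair.2 ⟨_, _, rfl⟩)
    have e : a.1 • (S x - x) + a.2 • (S y - y) = S (i2 x y a) - i2 x y a := by simp; module
    rwa [e, map_sub, hp, sub_eq_zero] at this
  rw [e1] at hb
  have d1 := Sim.det ⟨spl hp, hb⟩
  rw [hd, det_schur (t := 1) (mul_one _), map_one, one_mul, End.one_eq_id, LinearMap.id_comp] at d1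
  obtain ⟨ε, h0, hc⟩ := cm3_gl d1.symm
  have := hc.blk one_ne_zero h0 (f := -1) (by decide) rfl (blk (ε • 1) 0 0 1)
  rw [det_two] at this
  simp only [finrank_prod, finrank_self] at this
  exact Cm.of_equiv _ hb (by simpa [sq ε h0] using this.mono fun _ h => h.elim)

end Cfsg.Lib.Linear.Lev
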