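import Cfsg.Agent.Lib.Linear.OreC

/-! Commutators in `SL_n(q)`, IV: the field with two elements; Thompson's theorem. -/

set_option autoImplicit false

namespace Cfsg.Lib.Linear.Lev
open Module Submodule Cfsg.Lib.Known

local notation "F2" => ZMod 2

section two
variable {V : Type*} [AddCommGroup V] [Module F2 V]

theorem z2 (c : F2) : c = 0 ∨ c = 1 := by revert c; decide

theorem z2' {c : F2} (h : c ≠ 0) : c = 1 := (z2 c).resolve_left h

theorem add_self2 (v : V) : v + v = 0 := by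
  have : (2 : F2) • v = 0 := by rw [show (2 : F2) = 0 from rfl, zero_smul]
  linear_combination (norm := module) this

/-- the diagonal of a symmetric form -/
def dg (β : V →ₗ[F2] V →ₗ[F2] F2) (hs : ∀ x y, β x y = β y x) : V →ₗ[F2] F2 where
  toFun x := β x x
  map_add' x y := by
    simp only [map_add, LinearMap.add_apply, hs y x]
    linear_combination add_self2 (β x y)
  map_smul' c x := by rcases z2 c with rfl | rfl <;> simp

theorem dg_eq {β : V →ₗ[F2] V →ₗ[F2] F2} (hs : ∀ x y, β x y = β y x) {x : V} (hx : β x x = 1)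
    (h : ∀ y, β x y = 0 → β y y = 0) (y : V) : β x y = β y y := by
  have h1 := h (y + β x y • x) (by simp [hx, add_self2])
  have h2 : dg β hs (y + β x y • x) = β y y + β x y * β x x := by rw [map_add, map_smul]; rfl
  rw [hx, mul_one] at h2
  linear_combination h2.symm.trans h1 - add_self2 (β y y)

variable [FiniteDimensional F2 V] {β : V →ₗ[F2] V →ₗ[F2] F2} {S : End F2 V}

theorem fac2_bad (h : SA β S) (hd : LinearMap.det S = 1) (hn : finrank F2 V = 3) {w w' e : V}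
    (h1 : ∀ y, β w y = β y y) (h2 : ∀ y, β (S w') y = β (S y) y) (a1 : β w w = 1) (a2 : β w' w' = 1)
    (a3 : β (S w) w = 1) (a4 : β (S w') w' = 1) (hne : w ≠ w') (e1 : β e e = 1) (e2 : β (S e) e = 0) :
    Fac β S := by
  have hs' : ∀ x y, β (S x) y = β (S y) x := h.symm'
  obtain ⟨d, rfl⟩ : ∃ d, w = w' + d := ⟨w - w', by abel⟩
  have d0 : d ≠ 0 := fun h => hne (by rw [h, add_zero])
  set l := dg β h.symm
  set l' := dg (β ∘ₗ S) h.symm'
  have l1 : ∀ y, l y = β y y := fun _ => rfl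
  have l2 : ∀ y, l' y = β (S y) y := fun _ => rfl
  have b1 : l d = 0 := by
    have := map_add l w' d
    rw [l1, l1 w', a1, a2] at this; linear_combination -this
  have b2 : l' d = 0 := by
    have := map_add l' w' d
    rw [l2, l2 w', a3, a4] at this; linear_combination -this
  have li : LinearIndependent F2 ![w', d, e] := by
    rw [Fintype.linearIndependent_iff]
    intro g hg
    simp only [Fin.sum_univ_three, Matrix.cons_val_zero, Matrix.cons_val_one, Matrix.cons_val] at hg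
    have c1 := congrArg l' hg
    have c2 := congrArg l hg
    simp only [map_add, map_smul, b1, b2, l1 w', l1 e, l2 w', l2 e, a2, a4, e1, e2, smul_eq_mul, mul_one,
      mul_zero, add_zero, map_zero] at c1 c2
    rw [c1, zero_add] at c2
    rw [c1, c2, zero_smul, zero_smul, zero_add, add_zero] at hg
    intro i; fin_cases i
    exacts [c1, (smul_eq_zero.1 hg).resolve_right d0, c2]
  let b := basisOfLinearIndependentOfCardEqFinrank li (by simp [hn])
  have hb : ∀ i, b i = ![w', d, e] i := fun i => by simp [b]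
  have f1 : β d d = 0 := b1
  have f2 : β (S d) d = 0 := b2
  have f3 : β w' d = 0 := by simpa [f1] using h1 d
  have f4 : β (S w') d = 0 := (h2 d).trans f2
  have f5 : β d e = 1 := z2' fun h0 => d0 (h.nd d fun y => by
    have : β d = 0 := b.ext fun i => by
      rw [hb]; fin_cases i
      exacts [(h.symm _ _).trans f3, f1, h0]
    rw [this]; rfl)
  have f6 : β (S d) e = 1 := z2' fun h0 => d0 (h.nd' (hd ▸ one_ne_zero) d fun y => by
    have : β (S d) = 0 := b.ext fun i => by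
      rw [hb]; fin_cases i
      exacts [(hs' _ _).trans f4, f2, h0]
    show β (S d) y = 0
    rw [this]; rfl)
  have f7 : β w' e = 0 := by
    have := h1 e
    rw [map_add, LinearMap.add_apply, f5, e1] at this; linear_combination this
  have f8 : β (S w') e = 0 := (h2 e).trans e2
  let N : End F2 V := l'.smulRight d + (l + l').smulRight (w' + d)
  have n1 : N w' = d := by simp [N, l1, l2, a2, a4, add_self2]
  have n2 : N d = 0 := by simp [N, b1, b2]
  have n3 : N e = w' + d := by simp [N, l1, l2, e1, e2]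
  have hN : IsNilpotent (N + 1 - 1) := by
    rw [add_sub_cancel_right]
    refine ⟨3, b.ext fun i => ?_⟩
    rw [hb]; fin_cases i <;> simp [pow_succ, n1, n2, n3]
  refine ⟨N + 1, ?_, Commute.isNilpotent_mul_right ?_ hN, det_unip hN⟩
  · have : β ∘ₗ S = β.compl₁₂ (N + 1) (N + 1) := by
      refine LinearMap.ext_basis b b fun i j => ?_
      rw [LinearMap.comp_apply, LinearMap.compl₁₂_apply, hb, hb]
      fin_cases i <;> fin_cases j <;>
        simp [n1, n2, n3, a2, a4, e1, e2, f1, f2, f3, f4, f5, f6, f7, f8, h.symm d w', h.symm e w',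
          h.symm e d, hs' d w', hs' e w', hs' e d] <;> decide
    exact fun x y => LinearMap.congr_fun₂ this x y
  · exact ((((Commute.refl _).mul_right (Commute.refl _)).add_right (Commute.one_right _))).sub_left
      (Commute.one_left _)

end two

theorem fac2 (n : ℕ) : ∀ (V : Type) [AddCommGroup V] [Module F2 V] [FiniteDimensional F2 V],
    finrank F2 V = n → ∀ (β : V →ₗ[F2] V →ₗ[F2] F2) (S : End F2 V), SA β S → LinearMap.det S = 1 →
    (n ≤ 1 ∨ ((∃ x, β x x ≠ 0) ∧ ∃ x, β (S x) x ≠ 0)) → Fac β S := by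
  induction n using Nat.strong_induction_on with
  | _ n ih =>
  intro V _ _ _ hn β S h hd hna
  by_cases h1 : n ≤ 1
  · rw [eq_one_of_finrank (hn ▸ h1) hd]; exact fac_one β
  obtain ⟨⟨a, ha⟩, ⟨b, hb⟩⟩ := hna.resolve_left h1
  set l := dg β h.symm
  set l' := dg (β ∘ₗ S) h.symm'
  have l1 : ∀ y, l y = β y y := fun _ => rfl
  have l2 : ∀ y, l' y = β (S y) y := fun _ => rfl
  obtain ⟨x0, x1, x2⟩ : ∃ x, l x = 1 ∧ l' x = 1 := by
    rcases z2 (l' a) with h1 | h1
    · rcases z2 (l b) with h2 | h2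
      · exact ⟨a + b, by rw [map_add, h2, add_zero]; exact z2' ha, by rw [map_add, h1, zero_add]; exact z2' hb⟩
      · exact ⟨b, h2, z2' hb⟩
    · exact ⟨a, z2' ha, h1⟩
  by_cases H : ∃ x, l x = 1 ∧ l' x = 1 ∧ (n = 2 ∨ ((∃ y, β x y = 0 ∧ β y y ≠ 0) ∧
      ∃ y, β (S x) y = 0 ∧ β (S y) y ≠ 0))
  · obtain ⟨x, x1, x2, hx⟩ := H
    rw [l1] at x1
    rw [l2] at x2
    obtain ⟨W, S1, a1, a2, a3, a4, a5, a6⟩ := h.step1 (x := x) (x1 ▸ one_ne_zero) (x2.trans x1.symm)
    refine a6 (ih _ (by omega) W rfl _ _ a2 (a3.trans hd) (hx.imp (by omega) ?_))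
    rintro ⟨⟨y, y1, y2⟩, ⟨z, z1, z2⟩⟩
    refine ⟨⟨⟨y, (a1 y).2 y1⟩, y2⟩, ⟨⟨z + β x z • x, (a1 _).2 (by simp [x1, add_self2])⟩, ?_⟩⟩
    rw [LinearMap.compl₁₂_apply, subtype_apply, subtype_apply, a5]
    have := map_add l' z (β x z • x)
    rw [map_smul, l2, l2 z, l2 x] at this
    simp only [this]
    simp only [x1, x2, map_add, map_smul, z1, smul_eq_mul, mul_one, inv_one, one_mul, zero_add]
    have key : ∀ a b : F2, a ≠ 0 → a + b - b * b ≠ 0 := by decide
    exact key _ _ z2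
  push Not at H
  have bad : ∀ x, l x = 1 → l' x = 1 → (∀ y, β x y = l y) ∨ ∀ y, β (S x) y = l' y := fun x x1 x2 => by
    by_cases h1 : ∃ y, β x y = 0 ∧ β y y ≠ 0
    · exact Or.inr (dg_eq h.symm' x2 ((H x x1 x2).2 h1))
    · push Not at h1
      exact Or.inl (dg_eq h.symm x1 h1)
  have u1 : ∀ x y, (∀ z, β x z = l z) → (∀ z, β y z = l z) → x = y := fun x y hx hy =>
    sub_eq_zero.1 (h.nd _ fun z => by simp [hx, hy])
  have u2 : ∀ x y, (∀ z, β (S x) z = l' z) → (∀ z, β (S y) z = l' z) → x = y := fun x y hx hy =>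
    sub_eq_zero.1 (h.nd' (hd ▸ one_ne_zero) _ fun z => by simp [hx, hy])
  have n2 := (H x0 x1 x2).1
  set D := LinearMap.ker l ⊓ LinearMap.ker l' with hD
  have fk : ∀ φ : V →ₗ[F2] F2, finrank F2 V ≤ finrank F2 (LinearMap.ker φ) + 1 := fun φ => by
    have := LinearMap.finrank_range_add_finrank_ker φ
    have := (LinearMap.range φ).finrank_le
    rw [finrank_self] at this; omega
  have w1 : finrank F2 V ≤ finrank F2 D + 2 := by
    have := finrank_sup_add_finrank_inf_eq (LinearMap.ker l) (LinearMap.ker l')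
    have := (LinearMap.ker l ⊔ LinearMap.ker l').finrank_le
    have := fk l
    have := fk l'
    rw [hD]; omega
  have bd : ∀ d ∈ D, l (x0 + d) = 1 ∧ l' (x0 + d) = 1 := fun d hd => by
    rw [map_add, map_add, LinearMap.mem_ker.1 hd.1, LinearMap.mem_ker.1 hd.2, add_zero, add_zero]
    exact ⟨x1, x2⟩
  have w2 : finrank F2 D ≤ 1 := by
    by_contra hc
    obtain ⟨d1, m1, d2, m2, hd⟩ := exists_pair D ⊥ (by rw [finrank_bot]; omega)
    have k1 : x0 ≠ x0 + d1 := fun h => one_ne_zero (hd 1 0 (by simpa using h)).1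
    have k2 : x0 ≠ x0 + d2 := fun h => one_ne_zero (hd 0 1 (by simpa using h)).2
    have k3 : x0 + d1 ≠ x0 + d2 := fun h => one_ne_zero (hd 1 1 (by
      rw [one_smul, one_smul, add_left_cancel h, add_self2]; exact zero_mem _)).1
    rcases bad x0 x1 x2 with c0 | c0 <;> rcases bad _ (bd d1 m1).1 (bd d1 m1).2 with c1 | c1 <;>
      rcases bad _ (bd d2 m2).1 (bd d2 m2).2 with c2 | c2
    exacts [k1 (u1 _ _ c0 c1), k1 (u1 _ _ c0 c1), k2 (u1 _ _ c0 c2), k3 (u2 _ _ c1 c2),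
      k3 (u1 _ _ c1 c2), k2 (u2 _ _ c0 c2), k1 (u2 _ _ c0 c1), k1 (u2 _ _ c0 c1)]
  obtain ⟨d, m, d0⟩ := exists_mem_not (A := D) (B := ⊥) (by rw [finrank_bot]; omega)
  obtain ⟨e, e2, e1⟩ := exists_mem_not (A := LinearMap.ker l') (B := D) (by have := fk l'; omega)
  have e3 : l e = 1 := z2' fun h => e1 ⟨h, e2⟩
  have k1 : x0 ≠ x0 + d := fun h => d0 (by simpa using h)
  rcases bad x0 x1 x2 with c0 | c0 <;> rcases bad _ (bd d m).1 (bd d m).2 with c1 | c1
  · exact (k1 (u1 _ _ c0 c1)).elim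
  · exact fac2_bad h hd (by omega) c0 c1 x1 (bd d m).1 x2 (bd d m).2 k1 e3 e2
  · exact fac2_bad h hd (by omega) c1 c0 (bd d m).1 x1 (bd d m).2 x2 k1.symm e3 e2
  · exact (k1 (u2 _ _ c0 c1)).elim

section
open Polynomial

theorem irr2 (p : F2[X]) (hp : p.Monic) (hp' : Irreducible p) (h : p ∣ X ^ 2 + 1) :
    p = X ^ 2 + 1 ∨ p = X - 1 := by
  have : (X ^ 2 + 1 : F2[X]) = (X - 1) ^ 2 := by
    have : (2 : F2[X]) = 0 := CharP.cast_eq_zero F2[X] 2
    linear_combination X * this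
  exact Or.inr (eq_of_monic_of_associated hp monic_X_sub_one
    (hp'.associated_of_dvd irreducible_X_sub_one (hp'.prime.dvd_of_dvd_pow (this ▸ h))))

variable {K : Type*} [Field K] {d : K[X]}

theorem sq_span (τ : AdjoinRoot d →ₗ[K] K) (h1 : ∀ a, τ (a * a) = 0)
    (h2 : ∀ a, τ (AdjoinRoot.root d * a * a) = 0) (a : AdjoinRoot d) : τ a = 0 := by
  obtain ⟨q, rfl⟩ := AdjoinRoot.mk_surjective a
  induction q using Polynomial.induction_on' with
  | add p q hp hq => rw [map_add, map_add, hp, hq, add_zero]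
  | monomial n c =>
    rw [← smul_X_eq_monomial, ← AdjoinRoot.aeval_eq, map_smul, map_smul, map_pow, aeval_X]
    rcases Nat.even_or_odd' n with ⟨k, rfl | rfl⟩
    · rw [two_mul, pow_add, h1, smul_zero]
    · rw [pow_succ', two_mul, pow_add, ← mul_assoc, h2, smul_zero]

theorem frob_alt (hd : d.Monic) (h1 : 1 ≤ d.natDegree) (ht : IsUnit (AdjoinRoot.root d)) :
    ∃ τ : AdjoinRoot d →ₗ[K] K, Frob τ ∧ ∃ a, τ (a * a) ≠ 0 := by
  obtain ⟨τ, hτ⟩ := exists_frob hd
  by_cases h : ∃ a, τ (a * a) ≠ 0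
  · exact ⟨τ, hτ, h⟩
  push Not at h
  refine ⟨_, hτ.mul ht, by_contra fun hc => ?_⟩
  push Not at hc
  have := AdjoinRoot.nontrivial d (by rw [degree_eq_natDegree hd.ne_zero]; exact_mod_cast (by omega))
  exact one_ne_zero (hτ 1 fun b => sq_span τ h (fun a => by simpa [mul_assoc] using hc a) _)

theorem frob_alt' (hd : d.Monic) (h1 : 1 ≤ d.natDegree) (ht : IsUnit (AdjoinRoot.root d)) :
    ∃ τ : AdjoinRoot d →ₗ[K] K, Frob τ ∧ ∃ a, τ (AdjoinRoot.root d * a * a) ≠ 0 := by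
  obtain ⟨τ, hτ, a, ha⟩ := frob_alt hd h1 ht
  obtain ⟨u, hu⟩ := ht
  exact ⟨_, hτ.mul u⁻¹.isUnit, a, by simpa [← hu, ← mul_assoc] using ha⟩

theorem frob_both (hd : d.Monic) (h1 : 1 ≤ d.natDegree) (ht : IsUnit (AdjoinRoot.root d))
    {b : AdjoinRoot d} (hb : b * b ≠ 0) (hu : IsUnit (1 + AdjoinRoot.root d * b * b)) :
    ∃ τ : AdjoinRoot d →ₗ[K] K, Frob τ ∧ (∃ a, τ (a * a) ≠ 0) ∧
      ∃ a, τ (AdjoinRoot.root d * a * a) ≠ 0 := by
  obtain ⟨τ, hτ, a, ha⟩ := frob_alt hd h1 ht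
  by_cases h : ∃ a, τ (AdjoinRoot.root d * a * a) ≠ 0
  · exact ⟨τ, hτ, ⟨a, ha⟩, h⟩
  push Not at h
  refine ⟨_, hτ.mul hu, ⟨a, ?_⟩, by_contra fun hc => hb (hτ _ fun c => ?_)⟩
  · have : (1 + AdjoinRoot.root d * b * b) * (a * a) = a * a + AdjoinRoot.root d * (b * a) * (b * a) := by
      ring
    simpa [this, h] using ha
  · push Not at hc
    obtain ⟨u, hu⟩ := ht
    refine sq_span (τ ∘ₗ LinearMap.mulLeft K (b * b)) (fun a => ?_) (fun a => ?_) c
    · have e : (1 + AdjoinRoot.root d * b * b) * (AdjoinRoot.root d * ((u⁻¹ : _ˣ) * a) * ((u⁻¹ : _ˣ) * a)) =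
          AdjoinRoot.root d * ((u⁻¹ : _ˣ) * a) * ((u⁻¹ : _ˣ) * a) + b * b * (a * a) := by
        have : AdjoinRoot.root d * (u⁻¹ : _ˣ) = 1 := by rw [← hu]; simp
        linear_combination (b * b * a * a * (AdjoinRoot.root d * (u⁻¹ : _ˣ) + 1)) * this
      simpa [e, h, mul_assoc b b] using hc ((u⁻¹ : _ˣ) * a)
    · have e : b * b * (AdjoinRoot.root d * a * a) = AdjoinRoot.root d * (b * a) * (b * a) := by ring
      show τ (b * b * _) = 0
      rw [e, h]

theorem exists_sa2 {V : Type*} [AddCommGroup V] [Module F2 V] [FiniteDimensional F2 V] {S : End F2 V}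
    (hS : IsUnit S) (hn : 3 ≤ finrank F2 V) :
    ∃ β : V →ₗ[F2] V →ₗ[F2] F2, SA β S ∧ (∃ x, β x x ≠ 0) ∧ ∃ x, β (S x) x ≠ 0 := by
  classical
  obtain ⟨s, hs⟩ := exists_hasED S
  have hX := hs.isUnit_iff.1 hS
  obtain ⟨hs, m, d, rfl, e, he⟩ := hs
  have hm := HasED.monic hs
  have mem : ∀ i, d i ∈ Finset.univ.val.map d := fun i => Multiset.mem_map_of_mem _ (Finset.mem_univ_val i)
  have cop : ∀ i (c : F2), (d i).1 ≠ X - C c → IsUnit (AdjoinRoot.mk ((d i).1 ^ (d i).2) (X - C c)) :=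
    fun i c h => isUnit_mk_of_isCoprime (isCoprime_of_monic_irreducible (monic_X_sub_C c)
      (irreducible_X_sub_C c) (hs _ (mem i)).1 (hs _ (mem i)).2.1 h.symm).pow_right
  have ht : ∀ i, IsUnit (AdjoinRoot.root ((d i).1 ^ (d i).2)) := fun i => by
    simpa using cop i 0 (by simpa using hX _ (mem i))
  have h1 : ∀ i, 1 ≤ ((d i).1 ^ (d i).2).natDegree := fun i => by
    rw [natDegree_pow]
    exact Nat.mul_pos (hs _ (mem i)).2.2 (hs _ (mem i)).2.1.natDegree_pos
  have hf := e.finrank_eq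
  rw [finrank_mdl fun i => (hm i).ne_zero] at hf
  suffices ∃ τ : ∀ i, AdjoinRoot ((d i).1 ^ (d i).2) →ₗ[F2] F2, (∀ i, Frob (τ i)) ∧
      (∃ i a, τ i (a * a) ≠ 0) ∧ ∃ i a, τ i (AdjoinRoot.root _ * a * a) ≠ 0 by
    obtain ⟨τ, hτ, ⟨i, a, ha⟩, ⟨j, b, hb⟩⟩ := this
    obtain ⟨β, h, hβ⟩ := exists_sa e he τ hτ
    refine ⟨β, h, ⟨e.symm (Pi.single i a), ?_⟩, ⟨e.symm (Pi.single j b), ?_⟩⟩
    · rwa [hβ, Finset.sum_eq_single i (fun k _ hk => by simp [hk]) (by simp), e.apply_symm_apply,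
        Pi.single_eq_same]
    · rwa [hβ, Finset.sum_eq_single j (fun k _ hk => by simp [hk]) (by simp), he, mdl_apply,
        e.apply_symm_apply, Pi.single_eq_same]
  rcases m with _ | _ | m
  · simp at hf; omega
  · rw [Fin.sum_univ_one] at hf
    obtain ⟨b, hb, hu⟩ : ∃ b : AdjoinRoot ((d 0).1 ^ (d 0).2), b * b ≠ 0 ∧
        IsUnit (1 + AdjoinRoot.root _ * b * b) := by
      by_cases h : (d 0).1 = X - C 1
      · refine ⟨AdjoinRoot.mk _ (X - C 1), fun h0 => ?_, IsNilpotent.isUnit_one_add ?_⟩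
        · rw [← map_mul, AdjoinRoot.mk_eq_zero] at h0
          have := natDegree_le_of_dvd h0 (mul_ne_zero (X_sub_C_ne_zero 1) (X_sub_C_ne_zero 1))
          rw [natDegree_mul (X_sub_C_ne_zero 1) (X_sub_C_ne_zero 1), natDegree_X_sub_C] at this
          omega
        · refine Commute.isNilpotent_mul_left (Commute.all _ _) ⟨(d 0).2, ?_⟩
          rw [← map_pow, AdjoinRoot.mk_eq_zero, h]
      · have := AdjoinRoot.nontrivial ((d 0).1 ^ (d 0).2) (by
          rw [degree_eq_natDegree (hm 0).ne_zero]; exact_mod_cast (by omega))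
        refine ⟨1, by simp, ?_⟩
        convert cop 0 1 h using 1
        have : (1 : AdjoinRoot ((d 0).1 ^ (d 0).2)) + 1 = 0 := add_self2 _
        simp only [mul_one, map_sub, AdjoinRoot.mk_X, map_one]
        linear_combination this
    obtain ⟨τ, hτ, h2, h3⟩ := frob_both (hm 0) (h1 0) (ht 0) hb hu
    refine ⟨Fin.cases τ fun i => i.elim0, Fin.cases hτ fun i => i.elim0, ⟨0, ?_⟩, ⟨0, ?_⟩⟩
    exacts [h2, h3]
  · obtain ⟨τ, hτ, h2⟩ := frob_alt (hm 0) (h1 0) (ht 0)
    choose τ' hτ' h3 using fun i => frob_alt' (hm i) (h1 i) (ht i)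
    refine ⟨Fin.cases τ fun i => τ' i.succ, Fin.cases hτ fun i => hτ' i.succ, ⟨0, ?_⟩,
      ⟨Fin.succ 0, ?_⟩⟩
    exacts [h2, h3 _]

end

theorem cm2 {V : Type} [AddCommGroup V] [Module F2 V] [FiniteDimensional F2 V] {S : End F2 V}
    (hd : LinearMap.det S = 1) (hn : 3 ≤ finrank F2 V) : Cm S 1 1 fun _ => False := by
  obtain ⟨β, h, hna⟩ := exists_sa2 ((LinearMap.isUnit_iff_isUnit_det S).2 (hd ▸ isUnit_one)) hn
  obtain ⟨ε, h0, hc⟩ := (fac2 _ V rfl β S h hd (Or.inr hna)).cm irr2 h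
  exact z2' h0 ▸ hc.mono fun _ h => h.elim

open Matrix in
theorem Cm.sl {K : Type*} [Field K] {n : ℕ} {g : SpecialLinearGroup (Fin n) K} {P : K → Prop}
    (h : Cm (toLin' g.1) 1 1 P) : ∃ a b : SpecialLinearGroup (Fin n) K, g = a * b * a⁻¹ * b⁻¹ := by
  obtain ⟨B, k, h1, h2, h3, -⟩ := h
  obtain ⟨B, rfl⟩ := toLin'.surjective B
  obtain ⟨k, rfl⟩ := toLin'.surjective k
  rw [LinearMap.det_toLin'] at h2 h3
  refine ⟨⟨B, h2⟩, ⟨k, h3⟩, eq_mul_inv_of_mul_eq (eq_mul_inv_of_mul_eq ?_)⟩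
  refine Subtype.ext (toLin'.injective (?_ : toLin' (g.1 * k * B) = toLin' (B * k)))
  simpa [toLin'_mul, End.mul_eq_comp] using h1

open Matrix in
theorem comm_of_ringEquiv {F K : Type*} [Field F] [Field K] (e : F ≃+* K) {n : ℕ}
    (h : ∀ g : SpecialLinearGroup (Fin n) K, ∃ a b : SpecialLinearGroup (Fin n) K, g = a * b * a⁻¹ * b⁻¹)
    (g : SpecialLinearGroup (Fin n) F) : ∃ a b : SpecialLinearGroup (Fin n) F, g = a * b * a⁻¹ * b⁻¹ := by
  obtain ⟨a, b, hab⟩ := h (SpecialLinearGroup.map e.toRingHom g)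
  refine ⟨SpecialLinearGroup.map e.symm.toRingHom a, SpecialLinearGroup.map e.symm.toRingHom b, ?_⟩
  rw [← map_inv, ← map_inv, ← map_mul, ← map_mul, ← map_mul, ← hab]
  ext i j; simp

open Matrix in
theorem thompson {F : Type*} [Field F] [Fintype F] (n : ℕ) (hn : 2 ≤ n) (hex : n = 2 → 4 ≤ Fintype.card F)
    (g : SpecialLinearGroup (Fin n) F) : ∃ a b : SpecialLinearGroup (Fin n) F, g = a * b * a⁻¹ * b⁻¹ := by
  by_cases h4 : 4 ≤ Fintype.card F
  · by_cases hs : ∃ c : F, ∀ y, toLin' g.1 y = c • y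
    · obtain ⟨c, hc⟩ := hs
      have e : g.1 = c • 1 := toLin'.injective (LinearMap.ext fun y => by rw [hc]; simp)
      have hd := g.2
      rw [e, det_smul, det_one, mul_one, Fintype.card_fin] at hd
      obtain ⟨a, b, h1, h2, h3⟩ := scalar_comm (by omega) hd
      refine ⟨⟨a, h2⟩, ⟨b, h3⟩, eq_mul_inv_of_mul_eq (eq_mul_inv_of_mul_eq ?_)⟩
      refine Subtype.ext (?_ : g.1 * b * a = a * b)
      simpa [e] using h1
    · exact (cm_big (big_of_card (by rw [Cardinal.mk_fintype]; exact_mod_cast h4))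
        (by rw [LinearMap.det_toLin', g.2]) (by simpa using hn) hs).sl
  have h3 : 3 ≤ n := by
    by_contra h
    exact h4 (hex (by omega))
  have := Fintype.one_lt_card (α := F)
  obtain h | h : Fintype.card F = 2 ∨ Fintype.card F = 3 := by omega
  · exact comm_of_ringEquiv (ZMod.ringEquivOfPrime F Nat.prime_two h).symm
      (fun g => (cm2 (by rw [LinearMap.det_toLin', g.2]) (by simpa using h3)).sl) g
  · exact comm_of_ringEquiv (ZMod.ringEquivOfPrime F Nat.prime_three h).symm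
      (fun g => (cm3 (by rw [LinearMap.det_toLin', g.2]) (by simpa using h3)).sl) g

end Cfsg.Lib.Linear.Lev
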