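import Cfsg.Agent.Lib.Linear.Oz0

/-! The fusion context for a standard double cover of the orthogonal group `Ω₈⁺(2)`. -/

set_option autoImplicit false

namespace Cfsg.Lib.Oz.Y

open Matrix

abbrev Mat := Matrix (Fin 8) (Fin 8) ℚ

theorem neg_one_mem : (-1 : GG) ∈ Wp := by
  have h : ∀ i j : Fin 8, i < j → dr i j 1 1 ∈ roots ∧ dr i j 1 (-1) ∈ roots := by decide +kernel
  have e : (-1 : GG) = rf (dr 0 1 1 1) * rf (dr 0 1 1 (-1)) * (rf (dr 2 3 1 1) * rf (dr 2 3 1 (-1))) *
      (rf (dr 4 5 1 1) * rf (dr 4 5 1 (-1))) * (rf (dr 6 7 1 1) * rf (dr 6 7 1 (-1))) := by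
    refine Units.ext ?_
    simp only [Units.val_mul, rf_val (root_norm _ (h 0 1 (by decide)).1), rf_val (root_norm _ (h 0 1 (by decide)).2),
      rf_val (root_norm _ (h 2 3 (by decide)).1), rf_val (root_norm _ (h 2 3 (by decide)).2),
      rf_val (root_norm _ (h 4 5 (by decide)).1), rf_val (root_norm _ (h 4 5 (by decide)).2),
      rf_val (root_norm _ (h 6 7 (by decide)).1), rf_val (root_norm _ (h 6 7 (by decide)).2)]
    decide +kernel
  rw [e]
  exact Wp.mul_mem (Wp.mul_mem (Wp.mul_mem (rf_mul_mem (h 0 1 (by decide)).1 (h 0 1 (by decide)).2)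
    (rf_mul_mem (h 2 3 (by decide)).1 (h 2 3 (by decide)).2)) (rf_mul_mem (h 4 5 (by decide)).1 (h 4 5 (by decide)).2))
    (rf_mul_mem (h 6 7 (by decide)).1 (h 6 7 (by decide)).2)

/-- `-1` as an element of the rotation group. -/
def ng : Wp := ⟨-1, neg_one_mem⟩

/-- The data used in the fusion argument; `z = ι ng`. -/
structure Ctx {G : Type*} [Group G] (ι : Wp →* G) : Prop where
  inj : Function.Injective ι
  act : ∀ h : G, Commute h (ι ng) → ∃ w ∈ W, ∀ y y' : Wp, (y' : GG) = w * y * w⁻¹ → h * ι y * h⁻¹ = ι y'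
  cyc : ∀ k : G, (∀ y, Commute k (ι y)) → k * k = 1 → k = 1 ∨ k = ι ng
  two : ∀ x ∈ Subgroup.closure {h : G | Commute h (ι ng) ∧ Odd (orderOf h)}, x * x = 1 → x ∈ ι.range

theorem tr_idem {A : Mat} (h : A * A = A) : ∃ n : ℕ, trace A = n ∧ (n = 0 → A = 0) := by
  have hi : IsIdempotentElem (toLin' A) := by
    change toLin' A * toLin' A = _
    rw [Module.End.mul_eq_comp, ← toLin'_mul, h]
  have hp := (LinearMap.isProj_range_iff_isIdempotentElem _).2 hi
  refine ⟨_, by rw [← trace_toLin'_eq, hp.trace], fun h0 => ?_⟩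
  have : LinearMap.range (toLin' A) = ⊥ := Submodule.finrank_eq_zero.1 h0
  exact toLin'.injective (by rw [map_zero]; exact LinearMap.range_eq_bot.1 this)

theorem idem_half {A : Mat} (h : A * A = 1) : ((1 / 2 : ℚ) • (1 + A)) * ((1 / 2 : ℚ) • (1 + A)) = (1 / 2 : ℚ) • (1 + A) := by
  simp only [smul_mul_smul_comm, mul_add, add_mul, mul_one, one_mul, h]
  module

theorem eq_neg_one {A : Mat} (h : A * A = 1) (ht : trace A = -8) : A = -1 := by
  obtain ⟨n, h1, h2⟩ := tr_idem (idem_half h)
  rw [trace_smul, trace_add, trace_one, ht] at h1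
  have h3 := h2 (by norm_num at h1; exact_mod_cast h1.symm)
  rw [smul_eq_zero] at h3
  exact eq_neg_of_add_eq_zero_right (h3.resolve_left (by norm_num))

theorem eq_one {A : Mat} (h : A * A = 1) (ht : trace A = 8) : A = 1 :=
  neg_injective (eq_neg_one (by rw [neg_mul_neg, h]) (by rw [trace_neg, ht]))

theorem tr_le {A : Mat} (h : A * A = 1) : -8 ≤ trace A := by
  obtain ⟨n, h1, -⟩ := tr_idem (idem_half h)
  rw [trace_smul, trace_add, trace_one] at h1
  have : (0 : ℚ) ≤ n := n.cast_nonneg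
  simp only [Fintype.card_fin, smul_eq_mul] at h1
  push_cast at h1
  linarith

theorem tr4 {A B C D : Mat} (hA : A * A = 1) (hB : B * B = 1) (hC : C * C = 1) (hD : D * D = 1)
    (ab : Commute A B) (ac : Commute A C) (ad : Commute A D) (bc : Commute B C) (bd : Commute B D) (cd : Commute C D) :
    ∃ n : ℕ, 8 + trace A + trace B + trace C + trace D + trace (A * B) + trace (A * C) + trace (A * D) +
      trace (B * C) + trace (B * D) + trace (C * D) + trace (A * B * C) + trace (A * B * D) + trace (A * C * D) +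
      trace (B * C * D) + trace (A * B * C * D) = 16 * n := by
  have c : ∀ {X Y : Mat}, Commute X Y → Commute ((1 / 2 : ℚ) • (1 + X)) ((1 / 2 : ℚ) • (1 + Y)) := fun h =>
    (((Commute.one_left _).add_left ((Commute.one_right _).add_right h)).smul_left _).smul_right _
  have i1 : IsIdempotentElem _ := idem_half hA
  have i2 : IsIdempotentElem _ := idem_half hB
  have i3 : IsIdempotentElem _ := idem_half hC
  have i4 : IsIdempotentElem _ := idem_half hD
  have i := ((i1.mul_of_commute (c ab) i2).mul_of_commute ((c ac).mul_left (c bc)) i3).mul_of_commute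
    (((c ad).mul_left (c bd)).mul_left (c cd)) i4
  obtain ⟨n, h1, -⟩ := tr_idem i.eq
  refine ⟨n, ?_⟩
  simp only [smul_mul_smul_comm, mul_add, add_mul, mul_one, one_mul, trace_smul, trace_add, trace_one,
    Fintype.card_fin, smul_eq_mul] at h1
  push_cast at h1
  linarith

end Cfsg.Lib.Oz.Y
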