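import Cfsg.Agent.Lib.Linear.Oy0

/-! Fusion for the double cover of `Ω₈⁺(2)`: the action of the centraliser of `z`, and pulling back. -/

set_option autoImplicit false

namespace Cfsg.Lib.Oz.Y

open Matrix

/-- The facts on the Weyl group that are used. -/
structure Fx : Prop where
  mem_Wp : ∀ {g : GG}, g ∈ Wp ↔ g ∈ W ∧ det (g : Mat) = 1
  μ_inj : Function.Injective μ
  μ_mem : ∀ {m : MG}, Ev m → Equiv.Perm.sign m.right = 1 → μ m ∈ Wp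
  root_W : ∀ {g : GG} {v : V}, g ∈ W → v ∈ roots → (g : Mat) *ᵥ v ∈ roots
  conj_rf : ∀ {g : GG} {v : V}, g ∈ W → v ∈ roots → g * rf v * g⁻¹ = rf ((g : Mat) *ᵥ v)
  cent : ∀ {g : GG}, g ∈ W → (∀ y ∈ Wp, g * y = y * g) → g = 1 ∨ g = -1
  T2 : ∀ {a b : V}, a ∈ roots → b ∈ roots → a ⬝ᵥ b = 0 →
    ∃ g ∈ Wp, (g : Mat) *ᵥ a = dr 0 1 1 (-1) ∧ (g : Mat) *ᵥ b = dr 0 1 1 1
  T3 : ∀ {a b c : V}, a ∈ roots → b ∈ roots → c ∈ roots → a ⬝ᵥ b = 0 → a ⬝ᵥ c = 0 → b ⬝ᵥ c = 0 →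
    ∃ g ∈ Wp, (g : Mat) *ᵥ a = dr 0 1 1 (-1) ∧ (g : Mat) *ᵥ b = dr 0 1 1 1 ∧ (g : Mat) *ᵥ c = dr 2 3 1 (-1)
  orth : ∀ {a b : V}, a ∈ roots → b ∈ roots → (rf a * rf b = rf b * rf a ∨ rf a * rf b = -(rf b * rf a)) →
    a ⬝ᵥ b = 0 ∨ rf a = rf b
  classify : ∀ {u : GG}, u ∈ W → (u * u = 1 ∨ u * u = -1) → ∃ c ∈ Wp, ∃ m ∈ reps, c * u * c⁻¹ = μ m

variable {G : Type*} [Group G] {ι : Wp →* G}

variable (ι) in
/-- `h` acts on the image of `ι` as `w`. -/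
def Acts (h : G) (w : GG) : Prop := w ∈ W ∧ ∀ y y' : Wp, (y' : GG) = w * y * w⁻¹ → h * ι y * h⁻¹ = ι y'

theorem Fx.nrm (F : Fx) {w : GG} (hw : w ∈ W) (y : Wp) : w * y * w⁻¹ ∈ Wp := by
  refine F.mem_Wp.2 ⟨W.mul_mem (W.mul_mem hw (Wp_le_W y.2)) (W.inv_mem hw), ?_⟩
  rw [Units.val_mul, Units.val_mul, det_units_conj, (F.mem_Wp.1 y.2).2]

theorem Fx.rf_not (F : Fx) {v : V} (h : v ∈ roots) : rf v ∉ Wp := by
  intro h1
  have h2 := (F.mem_Wp.1 h1).2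
  have h3 : rm v = 1 + replicateCol Unit (-v) * replicateRow Unit v := by
    rw [← vecMulVec_eq, rm]
    ext i j
    simp [vecMulVec_apply, sub_eq_add_neg]
  rw [rf_val (root_norm v h), h3, det_one_add_replicateCol_mul_replicateRow, dotProduct_neg, root_norm v h] at h2
  norm_num at h2

theorem ng_comm (y : Wp) : ng * y = y * ng := Subtype.ext (by simp [ng])

theorem ng_sq : ng * ng = 1 := Subtype.ext (by simp [ng])

theorem z_sq : ι ng * ι ng = 1 := by rw [← map_mul, ng_sq, map_one]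

theorem z_comm (y : Wp) : Commute (ι y) (ι ng) := by
  rw [Commute, SemiconjBy, ← map_mul, ← map_mul, ng_comm]

namespace Acts

theorem of (y : Wp) : Acts ι (ι y) y :=
  ⟨Wp_le_W y.2, fun a b h => by rw [← map_inv, ← map_mul, ← map_mul]; exact congrArg ι (Subtype.ext h.symm)⟩

variable {h k : G} {w u : GG}

theorem mul (F : Fx) (a : Acts ι h w) (b : Acts ι k u) : Acts ι (h * k) (w * u) :=
  ⟨W.mul_mem a.1 b.1, fun y y' e => by
    rw [← a.2 ⟨_, F.nrm b.1 y⟩ y' (by rw [e]; group), ← b.2 y ⟨_, F.nrm b.1 y⟩ rfl]; group⟩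

theorem inv (a : Acts ι h w) : Acts ι h⁻¹ w⁻¹ :=
  ⟨W.inv_mem a.1, fun y y' e => by rw [← a.2 y' y (by rw [e]; group)]; group⟩

theorem neg (a : Acts ι h w) : Acts ι h (-w) :=
  ⟨by rw [← neg_one_mul]; exact W.mul_mem (Wp_le_W neg_one_mem) a.1, fun y y' e => a.2 y y' (by rw [e]; simp)⟩

theorem comm (a : Acts ι h w) {y : Wp} (e : w * y = y * w) : Commute h (ι y) := by
  have := a.2 y y (by rw [e]; group)
  exact mul_inv_eq_iff_eq_mul.1 this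

theorem comm_z (a : Acts ι h w) : Commute h (ι ng) := a.comm (by simp [ng])

theorem conj (F : Fx) (a : Acts ι h w) (c : Wp) : Acts ι (ι c * h * (ι c)⁻¹) (c * w * (c : GG)⁻¹) :=
  ((of c).mul F a).mul F (of c).inv

theorem one (F : Fx) (C : Ctx ι) (a : Acts ι 1 w) : w = 1 ∨ w = -1 :=
  F.cent a.1 fun y hy => by
    have := congrArg Subtype.val (C.inj (((a.2 ⟨y, hy⟩ ⟨_, F.nrm a.1 ⟨y, hy⟩⟩ rfl).symm.trans (by group)) :
      ι _ = ι ⟨y, hy⟩))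
    exact mul_inv_eq_iff_eq_mul.1 this

theorem uniq (F : Fx) (C : Ctx ι) (a : Acts ι h w) (b : Acts ι h u) : w = u ∨ w = -u := by
  have := a.mul F b.inv
  rw [mul_inv_cancel] at this
  exact (this.one F C).imp (fun e => mul_inv_eq_one.1 e) fun e => by rw [mul_inv_eq_iff_eq_mul.1 e]; simp

/-- An involution acting as an involution of `Wp` is one of its two lifts. -/
theorem lift (F : Fx) (C : Ctx ι) {y : Wp} (a : Acts ι h y) (h2 : h * h = 1) (y2 : y * y = 1) :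
    h = ι y ∨ h = ι (ng * y) := by
  have b := (of y).inv.mul F a
  rw [inv_mul_cancel] at b
  have c := (a.comm (y := y) rfl).inv_right.symm
  have e : (ι y)⁻¹ * (ι y)⁻¹ = 1 := by rw [← _root_.mul_inv_rev, ← map_mul, y2, map_one, inv_one]
  rcases C.cyc _ (fun x => b.comm (by simp)) (by rw [c.symm.mul_mul_mul_comm, e, h2, one_mul]) with e | e
  · exact Or.inl (inv_mul_eq_one.1 e).symm
  · exact Or.inr (by rw [ng_comm, map_mul, ← e]; group)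

theorem cj (F : Fx) (a : Acts ι h w) (c : Wp) :
    ι c * h * (ι c)⁻¹ = ι (c * ⟨_, F.nrm a.1 c⁻¹⟩) * h := by
  rw [map_mul, ← a.2 c⁻¹ ⟨_, F.nrm a.1 c⁻¹⟩ rfl, map_inv]; group

end Acts

theorem Ctx.acts (C : Ctx ι) {h : G} (e : Commute h (ι ng)) : ∃ w, Acts ι h w :=
  let ⟨w, a, b⟩ := C.act h e
  ⟨w, a, b⟩

theorem Ctx.z_ne (C : Ctx ι) : ι ng ≠ 1 := fun h => by
  have := congrArg (fun y : Wp => ((y : GG) : Mat) 0 0) (C.inj (h.trans (map_one ι).symm))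
  norm_num [ng] at this

theorem sq_of_conj {t : G} (h : IsConj (ι ng) t) : t * t = 1 := by
  obtain ⟨g, rfl⟩ := isConj_iff.1 h
  rw [show g * ι ng * g⁻¹ * (g * ι ng * g⁻¹) = g * (ι ng * ι ng) * g⁻¹ by group, z_sq]; group

theorem Ctx.ne_one (C : Ctx ι) {t : G} (h : IsConj (ι ng) t) : t ≠ 1 := by
  rintro rfl
  exact C.z_ne (isConj_one_left.1 h)

variable (ι) in
open Classical in
/-- The matrix of `g⁻¹ x g`. -/
noncomputable def T (g x : G) : Mat := if h : g⁻¹ * x * g ∈ ι.range then (h.choose : GG) else 0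

variable (ι) in
/-- `x` lies in the conjugate by `g` of the image of `ι`. -/
def P (g x : G) : Prop := g⁻¹ * x * g ∈ ι.range

variable (F : Fx) (C : Ctx ι) {g x y h : G}
include C

theorem T_eq {Y : Wp} (e : ι Y = g⁻¹ * x * g) : T ι g x = (Y : GG) := by
  have h : g⁻¹ * x * g ∈ ι.range := ⟨Y, e⟩
  rw [T, dif_pos h, C.inj (h.choose_spec.trans e.symm)]

theorem P.mul (a : P ι g x) (b : P ι g y) : P ι g (x * y) ∧ T ι g (x * y) = T ι g x * T ι g y := by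
  obtain ⟨X, hX⟩ := a
  obtain ⟨Y, hY⟩ := b
  have e : ι (X * Y) = g⁻¹ * (x * y) * g := by rw [map_mul, hX, hY]; group
  exact ⟨⟨_, e⟩, by rw [T_eq C e, T_eq C hX, T_eq C hY]; rfl⟩

theorem P.one : P ι g 1 ∧ T ι g 1 = 1 :=
  have e : ι 1 = g⁻¹ * 1 * g := by simp
  ⟨⟨_, e⟩, by rw [T_eq C e]; rfl⟩

theorem P.self : P ι g (g * ι ng * g⁻¹) ∧ T ι g (g * ι ng * g⁻¹) = -1 :=
  have e : ι ng = g⁻¹ * (g * ι ng * g⁻¹) * g := by group
  ⟨⟨_, e⟩, by rw [T_eq C e]; rfl⟩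

theorem P.inj (a : P ι g x) (b : P ι g y) (e : T ι g x = T ι g y) : x = y := by
  obtain ⟨X, hX⟩ := a
  obtain ⟨Y, hY⟩ := b
  rw [T_eq C hX, T_eq C hY] at e
  rw [Subtype.ext (Units.ext e), hY] at hX
  simpa using hX.symm

omit C in
theorem comm_pull (e : Commute h (g * ι ng * g⁻¹)) : Commute (g⁻¹ * h * g) (ι ng) := by
  have := e.map (MulAut.conj g⁻¹)
  simpa [mul_assoc] using this

theorem P.comm {a r : G} (ha : Commute a (g * ι ng * g⁻¹)) (hr : Commute r (g * ι ng * g⁻¹)) (r3 : r ^ 3 = 1)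
    (e : x = a * r * a⁻¹ * r⁻¹) (x2 : x * x = 1) : P ι g x := by
  have o : ∀ s : G, Commute s (g * ι ng * g⁻¹) → s ^ 3 = 1 →
      g⁻¹ * s * g ∈ Subgroup.closure {h : G | Commute h (ι ng) ∧ Odd (orderOf h)} := fun s h1 h2 =>
    Subgroup.subset_closure ⟨comm_pull h1, Odd.of_dvd_nat (by decide : Odd 3) (orderOf_dvd_of_pow_eq_one (by
      rw [show g⁻¹ * s * g = g⁻¹ * s * g⁻¹⁻¹ by group, conj_pow, h2]; group))⟩
  refine C.two _ ?_ (by rw [show g⁻¹ * x * g * (g⁻¹ * x * g) = g⁻¹ * (x * x) * g by group, x2]; group)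
  rw [show g⁻¹ * x * g = g⁻¹ * (a * r * a⁻¹) * g * (g⁻¹ * r * g)⁻¹ by rw [e]; group]
  exact Subgroup.mul_mem _ (o _ ((ha.mul_left hr).mul_left ha.inv_left) (by rw [conj_pow, r3]; group))
    (Subgroup.inv_mem _ (o _ hr r3))

include F

theorem P.conj (e : Commute h (g * ι ng * g⁻¹)) (a : P ι g x) :
    P ι g (h * x * h⁻¹) ∧ trace (T ι g (h * x * h⁻¹)) = trace (T ι g x) := by
  obtain ⟨X, hX⟩ := a
  obtain ⟨w, hw⟩ := C.acts (comm_pull e)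
  have e : ι ⟨_, F.nrm hw.1 X⟩ = g⁻¹ * (h * x * h⁻¹) * g := by rw [← hw.2 X _ rfl, hX]; group
  refine ⟨⟨_, e⟩, ?_⟩
  rw [T_eq C e, T_eq C hX]
  exact trace_units_conj w _

end Cfsg.Lib.Oz.Y
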