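import Cfsg.Agent.Lib.Linear.Oy1

/-! Fusion for the double cover of `Ω₈⁺(2)`: trace arguments for monomial involutions. -/

set_option autoImplicit false

namespace Cfsg.Lib.Oz.Y

open Matrix

/-- A signed permutation from a list of signs and a list of transpositions. -/
def mq (l : List (Fin 8)) (s : List (Fin 8 × Fin 8)) : MG := mm l (s.map fun p => Equiv.swap p.1 p.2).prod

/-- The signed permutation lies in the rotation group. -/
def Gd (a : MG) : Prop := Ev a ∧ Equiv.Perm.sign a.right = 1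

instance (a : MG) : Decidable (Gd a) := inferInstanceAs (Decidable (_ ∧ _))

theorem Fx.gd (F : Fx) {a : MG} (h : Gd a) : μ a ∈ Wp := F.μ_mem h.1 h.2

variable {G : Type*} [Group G] {ι : Wp →* G}

variable (ι) in
open Classical in
/-- The element of `G` given by a signed permutation. -/
noncomputable def el (a : MG) : G := if h : μ a ∈ Wp then ι ⟨μ a, h⟩ else 1

theorem el_eq {a : MG} (h : μ a ∈ Wp) : el ι a = ι ⟨μ a, h⟩ := dif_pos h

theorem mem_mul {a b : MG} (ha : μ a ∈ Wp) (hb : μ b ∈ Wp) : μ (a * b) ∈ Wp := by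
  rw [map_mul]; exact Wp.mul_mem ha hb

theorem mem_inv {a : MG} (ha : μ a ∈ Wp) : μ a⁻¹ ∈ Wp := by
  rw [map_inv]; exact Wp.inv_mem ha

theorem el_mul {a b : MG} (ha : μ a ∈ Wp) (hb : μ b ∈ Wp) : el ι (a * b) = el ι a * el ι b := by
  rw [el_eq ha, el_eq hb, el_eq (mem_mul ha hb), ← map_mul ι]
  exact congrArg ι (Subtype.ext (map_mul μ a b))

theorem el_inv {a : MG} (ha : μ a ∈ Wp) : el ι a⁻¹ = (el ι a)⁻¹ := by
  rw [el_eq ha, el_eq (mem_inv ha), ← map_inv ι]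
  exact congrArg ι (Subtype.ext (map_inv μ a))

theorem el_one : el ι 1 = 1 := by
  rw [el_eq (by rw [map_one]; exact Wp.one_mem), ← map_one ι]
  exact congrArg ι (Subtype.ext (map_one μ))

theorem mN_mem : μ mN ∈ Wp := μ_mN ▸ neg_one_mem

theorem el_mN : el ι mN = ι ng := by
  rw [el_eq mN_mem]
  exact congrArg ι (Subtype.ext μ_mN)

theorem el_conj {a c : MG} (ha : μ a ∈ Wp) (hc : μ c ∈ Wp) : el ι (c * a * c⁻¹) = el ι c * el ι a * (el ι c)⁻¹ := by
  rw [el_mul (mem_mul hc ha) (mem_inv hc), el_mul hc ha, el_inv hc]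

theorem el_acts {a : MG} (ha : μ a ∈ Wp) : Acts ι (el ι a) (μ a) := el_eq (ι := ι) ha ▸ Acts.of (ι := ι) ⟨μ a, ha⟩

theorem el_isConj (F : Fx) {a b : MG} (c : MG) (h : Gd a ∧ Gd c ∧ b = c * a * c⁻¹) : IsConj (el ι a) (el ι b) := by
  rw [h.2.2, el_conj (F.gd h.1) (F.gd h.2.1)]
  exact isConj_iff.2 ⟨_, rfl⟩

variable (ι) in
/-- The monomial element lies in the conjugate of the image. -/
def PE (g : G) (a : MG) : Prop := μ a ∈ Wp ∧ P ι g (el ι a)

variable (ι) in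
/-- Trace of the pulled back element. -/
noncomputable def τ (g : G) (a : MG) : ℚ := trace (T ι g (el ι a))

theorem commE {t : G} {m c : MG} (A : Acts ι t (μ m)) (hc : μ c ∈ Wp) (h : c * m = m * c) : Commute (el ι c) t := by
  rw [el_eq hc]
  exact (A.comm (y := ⟨μ c, hc⟩) (by rw [← map_mul μ, ← h, map_mul])).symm

variable (F : Fx) (C : Ctx ι) {g : G} {m a b c d : MG}
include C

theorem PE.mul (ha : PE ι g a) (hb : PE ι g b) :
    PE ι g (a * b) ∧ T ι g (el ι (a * b)) = T ι g (el ι a) * T ι g (el ι b) := by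
  rw [PE, el_mul ha.1 hb.1]
  exact ⟨⟨mem_mul ha.1 hb.1, (ha.2.mul C hb.2).1⟩, (ha.2.mul C hb.2).2⟩

theorem PE.one : PE ι g 1 ∧ T ι g (el ι 1) = 1 := by
  rw [PE, el_one, map_one]
  exact ⟨⟨Wp.one_mem, (P.one C).1⟩, (P.one C).2⟩

theorem PE.sq (ha : PE ι g a) (h : a * a = 1) : T ι g (el ι a) * T ι g (el ι a) = 1 := by
  rw [← (ha.mul C ha).2, h, (PE.one C).2]

theorem PE.self (hm : μ m ∈ Wp) (ht : g * ι ng * g⁻¹ = el ι m) : PE ι g m ∧ T ι g (el ι m) = -1 := by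
  rw [PE, ← ht]
  exact ⟨⟨hm, (P.self C).1⟩, (P.self C).2⟩

theorem PE.neg (hm : μ m ∈ Wp) (ht : g * ι ng * g⁻¹ = el ι m) (ha : PE ι g a) : τ ι g (a * m) = -τ ι g a := by
  rw [τ, (ha.mul C (PE.self C hm ht).1).2, (PE.self C hm ht).2, mul_neg, mul_one, trace_neg, τ]

theorem tr4E (ha : PE ι g a) (hb : PE ι g b) (hc : PE ι g c) (hd : PE ι g d)
    (h : a * a = 1 ∧ b * b = 1 ∧ c * c = 1 ∧ d * d = 1 ∧ a * b = b * a ∧ a * c = c * a ∧ a * d = d * a ∧
      b * c = c * b ∧ b * d = d * b ∧ c * d = d * c) (p q r s : ℚ) (hp : p * p = 1) (hq : q * q = 1) (hr : r * r = 1)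
    (hs : s * s = 1) : ∃ n : ℕ, 8 + p * τ ι g a + q * τ ι g b + r * τ ι g c + s * τ ι g d + p * q * τ ι g (a * b) +
      p * r * τ ι g (a * c) + p * s * τ ι g (a * d) + q * r * τ ι g (b * c) + q * s * τ ι g (b * d) +
      r * s * τ ι g (c * d) + p * q * r * τ ι g (a * b * c) + p * q * s * τ ι g (a * b * d) +
      p * r * s * τ ι g (a * c * d) + q * r * s * τ ι g (b * c * d) + p * q * r * s * τ ι g (a * b * c * d) =
      16 * n := by
  obtain ⟨h1, h2, h3, h4, h5, h6, h7, h8, h9, h10⟩ := h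
  have e : ∀ {x : MG} {u : ℚ}, PE ι g x → x * x = 1 → u * u = 1 →
      (u • T ι g (el ι x)) * (u • T ι g (el ι x)) = 1 := fun hx h hu => by
    rw [smul_mul_smul_comm, hx.sq C h, hu, one_smul]
  have k : ∀ {x y : MG} {u v : ℚ}, PE ι g x → PE ι g y → x * y = y * x →
      Commute (u • T ι g (el ι x)) (v • T ι g (el ι y)) := fun hx hy h => by
    refine (Commute.smul_left ?_ _).smul_right _
    rw [Commute, SemiconjBy, ← (hx.mul C hy).2, h, (hy.mul C hx).2]
  obtain ⟨n, hn⟩ := tr4 (e ha h1 hp) (e hb h2 hq) (e hc h3 hr) (e hd h4 hs) (k ha hb h5) (k ha hc h6) (k ha hd h7)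
    (k hb hc h8) (k hb hd h9) (k hc hd h10)
  refine ⟨n, ?_⟩
  simp only [τ, (ha.mul C hb).2, (ha.mul C hc).2, (ha.mul C hd).2, (hb.mul C hc).2, (hb.mul C hd).2, (hc.mul C hd).2,
    ((ha.mul C hb).1.mul C hc).2, ((ha.mul C hb).1.mul C hd).2, ((ha.mul C hc).1.mul C hd).2,
    ((hb.mul C hc).1.mul C hd).2, (((ha.mul C hb).1.mul C hc).1.mul C hd).2]
  simpa only [smul_mul_smul_comm, trace_smul, smul_eq_mul] using hn

include F

theorem PE.inj (ha : PE ι g a) (hb : PE ι g b) (e : T ι g (el ι a) = T ι g (el ι b)) : a = b := by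
  have := ha.2.inj C hb.2 e
  rw [el_eq ha.1, el_eq hb.1] at this
  exact F.μ_inj (congrArg Subtype.val (C.inj this))

theorem PE.ne8 (ha : PE ι g a) (h : a * a = 1 ∧ a ≠ 1) : τ ι g a ≠ 8 := fun e =>
  h.2 (ha.inj F C (PE.one C).1 ((eq_one (ha.sq C h.1) e).trans (PE.one C).2.symm))

variable (A : Acts ι (g * ι ng * g⁻¹) (μ m))
include A

theorem PE.comm (v r : MG) (h : Gd v ∧ Gd r ∧ v * m = m * v ∧ r * m = m * r ∧ r * r * r = 1 ∧
    a = v * r * v⁻¹ * r⁻¹ ∧ a * a = 1) : PE ι g a := by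
  obtain ⟨h1, h2, h3, h4, h5, h6, h7⟩ := h
  have v0 := F.gd h1
  have r0 := F.gd h2
  have a0 : μ a ∈ Wp := h6 ▸ mem_mul (mem_mul (mem_mul v0 r0) (mem_inv v0)) (mem_inv r0)
  refine ⟨a0, P.comm C (commE A v0 h3) (commE A r0 h4) ?_ ?_ (by rw [← el_mul a0 a0, h7, el_one])⟩
  · rw [pow_three', ← el_mul r0 r0, ← el_mul (mem_mul r0 r0) r0, h5, el_one]
  · rw [h6, el_mul (mem_mul (mem_mul v0 r0) (mem_inv v0)) (mem_inv r0), el_conj r0 v0, el_inv r0]

theorem PE.conj (ha : PE ι g a) (c : MG) (h : Gd c ∧ c * m = m * c ∧ b = c * a * c⁻¹) :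
    PE ι g b ∧ τ ι g b = τ ι g a := by
  obtain ⟨h1, h2, rfl⟩ := h
  have c0 := F.gd h1
  have := ha.2.conj F C (commE A c0 h2)
  rw [← el_conj ha.1 c0] at this
  exact ⟨⟨mem_mul (mem_mul c0 ha.1) (mem_inv c0), this.1⟩, this.2⟩

omit A in
theorem PE.zero (hm : μ m ∈ Wp) (ht : g * ι ng * g⁻¹ = el ι m) (ha : PE ι g a) (c : MG)
    (h : Gd c ∧ c * m = m * c ∧ a * m = c * a * c⁻¹) : τ ι g a = 0 := by
  have h1 := (ha.conj F C (ht ▸ el_acts hm) c h).2
  rw [ha.neg C hm ht] at h1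
  linarith

omit A

theorem noA : ¬ IsConj (ι ng) (el ι mA) := by
  intro h
  obtain ⟨g, ht⟩ := isConj_iff.1 h
  have hm := F.gd (a := mA) (by decide +kernel)
  have A : Acts ι (g * ι ng * g⁻¹) (μ mA) := ht ▸ el_acts hm
  have ha : PE ι g (mq [0,1] []) := PE.comm F C A (mq [1,2] []) (mq [] [(0,1),(1,2)]) (by decide +kernel)
  have hb : PE ι g (mq [0,2] []) := PE.comm F C A (mq [2,7] []) (mq [] [(0,1),(1,2)]) (by decide +kernel)
  have hc : PE ι g (mq [4,5] []) := PE.comm F C A (mq [5,6] []) (mq [] [(4,5),(5,6)]) (by decide +kernel)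
  have hd : PE ι g (mq [4,6] []) := PE.comm F C A (mq [6,7] []) (mq [] [(4,5),(5,6)]) (by decide +kernel)
  have e0 := ha.zero F C hm ht (mq [] [(0,2),(1,3)]) (by decide +kernel)
  have e1 := hb.zero F C hm ht (mq [] [(0,1),(2,3)]) (by decide +kernel)
  have e3 : τ ι g ((mq [4,6] [])) = _ := (hc.conj F C A (mq [] [(5,6),(6,7)]) (by decide +kernel)).2
  have e4 := (ha.mul C hb).1.zero F C hm ht (mq [] [(0,1),(2,3)]) (by decide +kernel)
  have e5 := (ha.mul C hc).1.zero F C hm ht (mq [] [(0,2),(1,3)]) (by decide +kernel)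
  have e6 := (ha.mul C hd).1.zero F C hm ht (mq [] [(0,2),(1,3)]) (by decide +kernel)
  have e7 := (hb.mul C hc).1.zero F C hm ht (mq [] [(0,1),(2,3)]) (by decide +kernel)
  have e8 := (hb.mul C hd).1.zero F C hm ht (mq [] [(0,1),(2,3)]) (by decide +kernel)
  have e9 : τ ι g ((mq [4,5] []) * (mq [4,6] [])) = _ := (hc.conj F C A (mq [] [(4,5),(5,6)]) (by decide +kernel)).2
  have e10 := ((ha.mul C hb).1.mul C hc).1.zero F C hm ht (mq [] [(0,1),(2,3)]) (by decide +kernel)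
  have e11 := ((ha.mul C hb).1.mul C hd).1.zero F C hm ht (mq [] [(0,1),(2,3)]) (by decide +kernel)
  have e12 := ((ha.mul C hc).1.mul C hd).1.zero F C hm ht (mq [] [(0,2),(1,3)]) (by decide +kernel)
  have e13 := ((hb.mul C hc).1.mul C hd).1.zero F C hm ht (mq [] [(0,1),(2,3)]) (by decide +kernel)
  have e14 := (((ha.mul C hb).1.mul C hc).1.mul C hd).1.zero F C hm ht (mq [] [(0,1),(2,3)]) (by decide +kernel)
  obtain ⟨n, hn⟩ := tr4E C ha hb hc hd (by decide +kernel) 1 1 1 1 (by norm_num) (by norm_num) (by norm_num) (by norm_num)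
  obtain ⟨k, hk⟩ := tr4E C ha hb hc hd (by decide +kernel) 1 1 (-1) 1 (by norm_num) (by norm_num) (by norm_num)
    (by norm_num)
  have h8 := hc.ne8 F C (by decide +kernel)
  have : (3 * k + n : ℚ) = 2 := by linarith
  have h2 : 3 * k + n = 2 := by exact_mod_cast this
  obtain rfl : k = 0 := by omega
  exact h8 (by push_cast at hk; linarith)

theorem noB : ¬ IsConj (ι ng) (el ι (mN * mX)) := by
  intro h
  obtain ⟨g, ht⟩ := isConj_iff.1 h
  have hm := F.gd (a := mN * mX) (by decide +kernel)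
  have A : Acts ι (g * ι ng * g⁻¹) (μ (mN * mX)) := ht ▸ el_acts hm
  have ha : PE ι g (mq [2,3] []) := PE.comm F C A (mq [3,4] []) (mq [] [(2,3),(3,4)]) (by decide +kernel)
  have hb : PE ι g (mq [2,4] []) := PE.comm F C A (mq [4,7] []) (mq [] [(2,3),(3,4)]) (by decide +kernel)
  have hc : PE ι g (mq [2,5] []) := PE.comm F C A (mq [5,7] []) (mq [] [(2,3),(3,5)]) (by decide +kernel)
  have hd : PE ι g (mq [2,6] []) := PE.comm F C A (mq [6,7] []) (mq [] [(2,3),(3,6)]) (by decide +kernel)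
  have e1 : τ ι g ((mq [2,4] [])) = _ := (ha.conj F C A (mq [] [(3,4),(6,7)]) (by decide +kernel)).2
  have e2 : τ ι g ((mq [2,5] [])) = _ := (ha.conj F C A (mq [] [(3,5),(4,5)]) (by decide +kernel)).2
  have e3 : τ ι g ((mq [2,6] [])) = _ := (ha.conj F C A (mq [] [(3,6),(4,6)]) (by decide +kernel)).2
  have e4 : τ ι g ((mq [2,3] []) * (mq [2,4] [])) = _ := (ha.conj F C A (mq [] [(2,3),(3,4)]) (by decide +kernel)).2
  have e5 : τ ι g ((mq [2,3] []) * (mq [2,5] [])) = _ := (ha.conj F C A (mq [] [(2,3),(3,5)]) (by decide +kernel)).2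
  have e6 : τ ι g ((mq [2,3] []) * (mq [2,6] [])) = _ := (ha.conj F C A (mq [] [(2,3),(3,6)]) (by decide +kernel)).2
  have e7 : τ ι g ((mq [2,4] []) * (mq [2,5] [])) = _ := (ha.conj F C A (mq [] [(2,4),(3,5)]) (by decide +kernel)).2
  have e8 : τ ι g ((mq [2,4] []) * (mq [2,6] [])) = _ := (ha.conj F C A (mq [] [(2,4),(3,6)]) (by decide +kernel)).2
  have e9 : τ ι g ((mq [2,5] []) * (mq [2,6] [])) = _ := (ha.conj F C A (mq [] [(2,5),(3,6)]) (by decide +kernel)).2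
  have e10 := ((ha.mul C hb).1.mul C hc).1.neg C hm ht
  rw [(ha.conj F C A (mq [] [(2,6),(3,7)]) (by decide +kernel)).2] at e10
  have e11 := ((ha.mul C hb).1.mul C hd).1.neg C hm ht
  rw [(ha.conj F C A (mq [] [(2,5),(3,7)]) (by decide +kernel)).2] at e11
  have e12 := ((ha.mul C hc).1.mul C hd).1.neg C hm ht
  rw [(ha.conj F C A (mq [] [(2,4),(3,7)]) (by decide +kernel)).2] at e12
  have e13 := ((hb.mul C hc).1.mul C hd).1.neg C hm ht
  rw [(ha.conj F C A (mq [] [(2,3),(3,7)]) (by decide +kernel)).2] at e13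
  have e14 := (((ha.mul C hb).1.mul C hc).1.mul C hd).1.neg C hm ht
  rw [(ha.conj F C A (mq [] [(3,7),(4,7)]) (by decide +kernel)).2] at e14
  obtain ⟨n, hn⟩ := tr4E C ha hb hc hd (by decide +kernel) 1 1 1 1 (by norm_num) (by norm_num) (by norm_num) (by norm_num)
  obtain ⟨k, hk⟩ := tr4E C ha hb hc hd (by decide +kernel) (-1) (-1) 1 1 (by norm_num) (by norm_num) (by norm_num)
    (by norm_num)
  have : (5 * k + 3 * n : ℚ) = 4 := by linarith
  have h2 : 5 * k + 3 * n = 4 := by exact_mod_cast this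
  omega

theorem noX (ht : g * ι ng * g⁻¹ = el ι mX) (ha : PE ι g (mq [0,2] [])) : False := by
  have hm := F.gd (a := mX) (by decide +kernel)
  have A : Acts ι (g * ι ng * g⁻¹) (μ mX) := ht ▸ el_acts hm
  have hb : PE ι g (mq [2,3] []) := PE.comm F C A (mq [3,4] []) (mq [] [(2,3),(3,4)]) (by decide +kernel)
  have hc : PE ι g (mq [2,4] []) := PE.comm F C A (mq [4,7] []) (mq [] [(2,3),(3,4)]) (by decide +kernel)
  have hd : PE ι g (mq [2,5] []) := PE.comm F C A (mq [5,7] []) (mq [] [(2,3),(3,5)]) (by decide +kernel)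
  have e0 := ha.zero F C hm ht (mq [] [(0,1),(6,7)]) (by decide +kernel)
  have e2 : τ ι g ((mq [2,4] [])) = _ := (hb.conj F C A (mq [] [(3,4),(6,7)]) (by decide +kernel)).2
  have e3 : τ ι g ((mq [2,5] [])) = _ := (hb.conj F C A (mq [] [(3,5),(4,5)]) (by decide +kernel)).2
  have e4 := (ha.mul C hb).1.zero F C hm ht (mq [] [(0,1),(6,7)]) (by decide +kernel)
  have e5 := (ha.mul C hc).1.zero F C hm ht (mq [] [(0,1),(6,7)]) (by decide +kernel)
  have e6 := (ha.mul C hd).1.zero F C hm ht (mq [] [(0,1),(6,7)]) (by decide +kernel)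
  have e7 : τ ι g ((mq [2,3] []) * (mq [2,4] [])) = _ := (hb.conj F C A (mq [] [(2,3),(3,4)]) (by decide +kernel)).2
  have e8 : τ ι g ((mq [2,3] []) * (mq [2,5] [])) = _ := (hb.conj F C A (mq [] [(2,3),(3,5)]) (by decide +kernel)).2
  have e9 : τ ι g ((mq [2,4] []) * (mq [2,5] [])) = _ := (hb.conj F C A (mq [] [(2,4),(3,5)]) (by decide +kernel)).2
  have e10 := ((ha.mul C hb).1.mul C hc).1.zero F C hm ht (mq [] [(0,1),(6,7)]) (by decide +kernel)
  have e11 := ((ha.mul C hb).1.mul C hd).1.zero F C hm ht (mq [] [(0,1),(6,7)]) (by decide +kernel)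
  have e12 := ((ha.mul C hc).1.mul C hd).1.zero F C hm ht (mq [] [(0,1),(6,7)]) (by decide +kernel)
  have e14 := (((ha.mul C hb).1.mul C hc).1.mul C hd).1.zero F C hm ht (mq [] [(0,1),(6,7)]) (by decide +kernel)
  obtain ⟨n, hn⟩ := tr4E C ha hb hc hd (by decide +kernel) 1 (-1) (-1) (-1) (by norm_num) (by norm_num) (by norm_num)
    (by norm_num)
  have he := ((hb.mul C hc).1.mul C hd).1
  have h8 := he.ne8 F C (by decide +kernel)
  have h9 := tr_le (he.sq C (by decide +kernel))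
  change _ ≤ τ ι g _ at h9
  have : (n : ℚ) ≤ 1 := by linarith
  have h2 : n ≤ 1 := by exact_mod_cast this
  interval_cases n
  · exact h8 (by push_cast at hn; linarith)
  · have := eq_neg_one (he.sq C (by decide +kernel)) (show τ ι g _ = -8 by push_cast at hn; linarith)
    exact absurd (he.inj F C (PE.self C hm ht).1 (this.trans (PE.self C hm ht).2.symm)) (by decide +kernel)

theorem z_E (A : Acts ι (g * ι ng * g⁻¹) (μ mE)) : PE ι g mN :=
  (by decide +kernel : (mq [0,1,4,5] []) * (mq [2,3,6,7] []) = mN) ▸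
    ((PE.comm F C A (mq [4,5] []) (mq [] [(0,2),(1,3),(2,4),(3,5)]) (by decide +kernel)).mul C
      (PE.comm F C A (mq [6,7] []) (mq [3,7] [(2,4),(3,5),(4,6),(5,7)]) (by decide +kernel))).1

theorem z_J (A : Acts ι (g * ι ng * g⁻¹) (μ mJ)) : PE ι g mN :=
  (by decide +kernel : (mq [2,3,6,7] []) * (mq [0,1,4,5] []) = mN) ▸
    ((PE.comm F C A (mq [6,7] []) (mq [] [(2,4),(3,5),(4,6),(5,7)]) (by decide +kernel)).mul C
      (PE.comm F C A (mq [4,5] []) (mq [] [(0,2),(1,3),(2,4),(3,5)]) (by decide +kernel))).1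

theorem z_J2 (A : Acts ι (g * ι ng * g⁻¹) (μ mJ')) : PE ι g mN :=
  (by decide +kernel : (mq [2,3,6,7] []) * (mq [0,1,4,5] []) = mN) ▸
    ((PE.comm F C A (mq [6,7] []) (mq [] [(2,4),(3,5),(4,6),(5,7)]) (by decide +kernel)).mul C
      (PE.comm F C A (mq [4,5] []) (mq [] [(0,3),(1,2),(2,4),(3,5)]) (by decide +kernel))).1

theorem b_mS (A : Acts ι (g * ι ng * g⁻¹) (μ mS)) : PE ι g (mN * mX) :=
  (by decide +kernel : mq [2,3] [] * mq [4,5] [] * mq [6,7] [] = mN * mX) ▸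
    (((PE.comm F C A (mq [3,4] []) (mq [] [(2,3),(3,4)]) (by decide +kernel)).mul C
      (PE.comm F C A (mq [5,6] []) (mq [] [(4,5),(5,6)]) (by decide +kernel))).1.mul C
      (PE.comm F C A (mq [5,7] []) (mq [] [(5,6),(6,7)]) (by decide +kernel))).1

theorem b_mX (A : Acts ι (g * ι ng * g⁻¹) (μ mX)) : PE ι g (mN * mX) :=
  (by decide +kernel : mq [2,3] [] * mq [4,5] [] * mq [6,7] [] = mN * mX) ▸
    (((PE.comm F C A (mq [3,4] []) (mq [] [(2,3),(3,4)]) (by decide +kernel)).mul C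
      (PE.comm F C A (mq [5,6] []) (mq [] [(4,5),(5,6)]) (by decide +kernel))).1.mul C
      (PE.comm F C A (mq [5,7] []) (mq [] [(5,6),(6,7)]) (by decide +kernel))).1

theorem a_G (A : Acts ι (g * ι ng * g⁻¹) (μ (mq [] [(0,1),(2,3),(4,5)]))) : PE ι g mA ∧ τ ι g mA ≠ -4 := by
  have ha : PE ι g mA := PE.comm F C A (mq [0,1] []) (mq [] [(0,2),(1,3),(2,4),(3,5)]) (by decide +kernel)
  obtain ⟨hb, e1⟩ := ha.conj F C A (b := (mq [2,3,4,5] [])) (mq [] [(0,4),(1,5)]) (by decide +kernel)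
  have e2 : τ ι g (mA * (mq [2,3,4,5] [])) = _ := (ha.conj F C A (mq [] [(2,4),(3,5)]) (by decide +kernel)).2
  obtain ⟨n, hn⟩ := tr4E C ha hb (PE.one C).1 (PE.one C).1 (by decide +kernel) 1 1 1 1 (by norm_num) (by norm_num)
    (by norm_num) (by norm_num)
  have e3 : τ ι g 1 = 8 := by rw [τ, (PE.one C).2]; simp
  simp only [mul_one] at hn
  have : (0 : ℚ) ≤ n := n.cast_nonneg
  exact ⟨ha, fun e => by linarith⟩

end Cfsg.Lib.Oz.Y
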