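import Cfsg.Agent.Lib.Linear.Oy2

/-! Fusion for the double cover of `Ω₈⁺(2)`: the types of the conjugates of `z` commuting with `z`. -/

set_option autoImplicit false

namespace Cfsg.Lib.Oz.Y

open Matrix

variable {G : Type*} [Group G] {ι : Wp →* G}

variable (ι) in
/-- Conjugates of `z` commuting with `z`, other than `z`. -/
def D (t : G) : Prop := IsConj (ι ng) t ∧ Commute t (ι ng) ∧ t ≠ ι ng

theorem isConj_cj (g x : G) : IsConj x (g * x * g⁻¹) := isConj_iff.2 ⟨g, rfl⟩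

theorem isConj_cj' (g x : G) : IsConj x (g⁻¹ * x * g) := isConj_iff.2 ⟨g⁻¹, by rw [inv_inv]⟩

theorem D.cj {t h : G} (d : D ι t) (e : Commute h (ι ng)) : D ι (h * t * h⁻¹) :=
  ⟨d.1.trans (isConj_cj _ _), (e.mul_left d.2.1).mul_left e.inv_left, fun h1 => d.2.2 (by
    rw [mul_inv_eq_iff_eq_mul, ← e.eq] at h1
    exact mul_left_cancel h1)⟩

theorem D.pull {g x : G} (h1 : IsConj (ι ng) x) (h2 : Commute x (g * ι ng * g⁻¹)) (h3 : x ≠ g * ι ng * g⁻¹) :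
    D ι (g⁻¹ * x * g) :=
  ⟨h1.trans (isConj_cj' _ _), comm_pull h2, fun h => h3 (by rw [← h]; group)⟩

abbrev a1 : V := dr 0 1 1 (-1)
abbrev a2 : V := dr 0 1 1 1
abbrev a3 : V := dr 2 3 1 (-1)
abbrev a4 : V := dr 2 3 1 1
abbrev a5 : V := dr 4 5 1 (-1)

theorem a1r : a1 ∈ roots := by decide +kernel
theorem a2r : a2 ∈ roots := by decide +kernel
theorem a3r : a3 ∈ roots := by decide +kernel
theorem a4r : a4 ∈ roots := by decide +kernel
theorem a5r : a5 ∈ roots := by decide +kernel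

theorem μ_rf {m : MG} {v : V} (h : v ∈ roots ∧ mon m = rm v) : μ m = rf v :=
  Units.ext (by rw [μ_val, rf_val (root_norm v h.1), h.2])

theorem μ_mS : μ mS = rf a1 := μ_rf (by decide +kernel)

theorem μ_a2 : μ (mX * mS) = rf a2 := μ_rf (by decide +kernel)

theorem μ_mX : μ mX = rf a1 * rf a2 := by
  rw [← μ_mS, ← μ_a2, ← map_mul]
  exact congrArg μ (by decide +kernel)

theorem rf3 {c : GG} {a b d : V} (F : Fx) (hc : c ∈ Wp) (ha : a ∈ roots) (hb : b ∈ roots) (hd : d ∈ roots) :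
    c * (rf a * rf b * rf d) * c⁻¹ = rf ((c : Mat) *ᵥ a) * rf ((c : Mat) *ᵥ b) * rf ((c : Mat) *ᵥ d) := by
  rw [← F.conj_rf (Wp_le_W hc) ha, ← F.conj_rf (Wp_le_W hc) hb, ← F.conj_rf (Wp_le_W hc) hd]; group

variable (F : Fx) (C : Ctx ι) {g t x h : G}
include F

theorem notWp {m : MG} (h : Gd (m * mS)) : μ m ∉ Wp := fun h1 =>
  F.rf_not a1r (by
    have := Wp.mul_mem (Wp.inv_mem h1) (F.gd h)
    rwa [map_mul, inv_mul_cancel_left, μ_mS] at this)

include C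

theorem rng_conj (e : Commute h (ι ng)) (hx : x ∈ ι.range) : h * x * h⁻¹ ∈ ι.range := by
  obtain ⟨w, hw⟩ := C.acts e
  obtain ⟨y, rfl⟩ := hx
  exact ⟨_, (hw.2 y ⟨_, F.nrm hw.1 y⟩ rfl).symm⟩

theorem inner (d : D ι t) (ht : t ∈ ι.range) :
    ∃ c : Wp, ι c * t * (ι c)⁻¹ = el ι mX ∨ ι c * t * (ι c)⁻¹ = el ι mE := by
  obtain ⟨Y, rfl⟩ := ht
  have Y2 : Y * Y = 1 := C.inj (by rw [map_mul, sq_of_conj d.1, map_one])
  obtain ⟨c, hc, m, hm, e⟩ := F.classify (Wp_le_W Y.2) (Or.inl (congrArg Subtype.val Y2))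
  have m0 : μ m ∈ Wp := e ▸ F.nrm (Wp_le_W hc) Y
  have e1 : ι ⟨c, hc⟩ * ι Y * (ι ⟨c, hc⟩)⁻¹ = el ι m := by
    rw [el_eq m0]; exact (Acts.of ⟨c, hc⟩).2 _ _ e.symm
  have d1 := d.cj (z_comm ⟨c, hc⟩)
  have m2 : m * m = 1 := F.μ_inj (by
    rw [map_mul, ← e, map_one, conj_mul, show (Y : GG) * Y = 1 from congrArg Subtype.val Y2]; group)
  rw [e1] at d1
  simp only [reps, List.mem_cons, List.not_mem_nil, or_false] at hm
  rcases hm with rfl | rfl | rfl | rfl | rfl | rfl | rfl | rfl | rfl | rfl | rfl | rfl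
  · exact absurd el_one (C.ne_one d1.1)
  · exact absurd el_mN d1.2.2
  · exact absurd m0 (notWp F (by decide +kernel))
  · exact absurd m0 (notWp F (by decide +kernel))
  · exact ⟨_, Or.inl e1⟩
  · exact absurd d1.1 (noB F C)
  · exact absurd m0 (notWp F (by decide +kernel))
  · exact absurd m0 (notWp F (by decide +kernel))
  · exact absurd d1.1 (noA F C)
  · exact ⟨_, Or.inr e1⟩
  · exact absurd m2 (by decide +kernel)
  · exact absurd m2 (by decide +kernel)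

theorem sym1 (d : D ι (g * ι ng * g⁻¹)) (ht : g * ι ng * g⁻¹ ∈ ι.range) : P ι g (ι ng) := by
  obtain ⟨c, hc⟩ := inner F C d ht
  have e : ι c * (g * ι ng * g⁻¹) * (ι c)⁻¹ = ι c * g * ι ng * (ι c * g)⁻¹ := by group
  rw [e] at hc
  have : P ι (ι c * g) (el ι mN) := by
    rcases hc with hc | hc
    · have hm := F.gd (a := mX) (by decide +kernel)
      exact ((by decide +kernel : mN * mX * mX = mN) ▸
        ((b_mX F C (hc ▸ el_acts hm)).mul C (PE.self C hm hc).1).1).2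
    · exact (z_E F C (hc ▸ el_acts (F.gd (by decide +kernel)))).2
  rw [el_mN, P] at this
  rwa [P, show g⁻¹ * ι ng * g = (ι c * g)⁻¹ * (ι c * ι ng * (ι c)⁻¹ * ι c) * g by group, (z_comm c).eq,
    show (ι c * g)⁻¹ * (ι ng * ι c * (ι c)⁻¹ * ι c) * g = (ι c * g)⁻¹ * ι ng * (ι c * g) by group]

theorem sym2 (d : D ι (g * ι ng * g⁻¹)) (hz : P ι g (ι ng)) : g * ι ng * g⁻¹ ∈ ι.range := by
  have := sym1 F C (g := g⁻¹) (by rw [inv_inv]; exact D.pull (IsConj.refl _) d.2.1.symm d.2.2.symm)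
    (by rw [inv_inv]; exact hz)
  rwa [P, inv_inv] at this

theorem elE : IsConj (el ι mE * ι ng) (el ι mE) := by
  rw [← el_mN, ← el_mul (F.gd (by decide +kernel)) mN_mem]
  exact el_isConj F (mq [1,3,5,7] []) (by decide +kernel)

theorem noG (d : D ι t) (A : Acts ι t (μ (mq [] [(0,1),(2,3),(4,5)]))) : False := by
  obtain ⟨g, rfl⟩ := isConj_iff.1 d.1
  obtain ⟨ha, h4⟩ := a_G F C A
  obtain ⟨Y, hY⟩ := ha.2
  have e := A.cj F ⟨_, F.gd (a := mq [0,2] []) (by decide +kernel)⟩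
  have e1 : el ι mA = ι (⟨_, F.gd (a := mq [0,2] []) (by decide +kernel)⟩ *
      ⟨_, F.nrm A.1 ⟨_, F.gd (a := mq [0,2] []) (by decide +kernel)⟩⁻¹⟩) := by
    rw [el_eq ha.1]
    refine congrArg ι (Subtype.ext ?_)
    simp only [Subgroup.coe_mul, Subgroup.coe_inv, ← map_inv μ, ← map_mul μ]
    exact congrArg μ (by decide +kernel)
  rw [← e1] at e
  have e2 : g⁻¹ * (el ι mA * (g * ι ng * g⁻¹)) * g = ι Y * ι ng := by rw [hY]; group
  have d2 : D ι (ι Y * ι ng) := by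
    rw [← e2]
    refine D.pull (e ▸ d.1.trans (isConj_cj _ _)) ((commE A ha.1 (by decide +kernel)).mul_left (Commute.refl _))
      fun h => ?_
    exact absurd (ha.inj F C (PE.one C).1 (by rw [mul_eq_right.1 h, el_one])) (by decide +kernel)
  obtain ⟨c, hc | hc⟩ := inner F C d2 ⟨Y * ng, map_mul _ _ _⟩
  · rw [el_eq (F.gd (by decide +kernel)), ← map_mul, ← map_inv, ← map_mul, ← map_mul] at hc
    have h5 := congrArg (fun y : Wp => trace ((y : GG) : Mat)) (C.inj hc)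
    simp only [Subgroup.coe_mul, Subgroup.coe_inv, Units.val_mul, trace_units_conj, ng, Units.val_neg,
      Units.val_one, mul_neg, mul_one, trace_neg, neg_mul, μ_val] at h5
    rw [(by decide +kernel : trace (mon mX) = 4)] at h5
    exact h4 (by rw [τ, T_eq C hY]; linarith)
  · refine noA F C ((((d2.cj (z_comm c)).1.trans (hc ▸ (elE F C).symm)).trans ?_).trans (hY ▸ isConj_cj' g _).symm)
    have : ι c * (ι Y * ι ng) * (ι c)⁻¹ * ι ng = ι c * ι Y * (ι c)⁻¹ := by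
      rw [mul_assoc _ _ (ι ng), (z_comm c).inv_left.eq,
        show ι c * (ι Y * ι ng) * (ι ng * (ι c)⁻¹) = ι c * ι Y * (ι ng * ι ng) * (ι c)⁻¹ by group, z_sq, mul_one]
    rw [this]
    exact (isConj_cj _ _).symm

theorem Acts.unconj {w : GG} (c : Wp) (a : Acts ι (ι c * t * (ι c)⁻¹) (c * w * (c : GG)⁻¹)) : Acts ι t w := by
  have := a.conj F c⁻¹
  rwa [map_inv, Subgroup.coe_inv, show (ι c)⁻¹ * (ι c * t * (ι c)⁻¹) * (ι c)⁻¹⁻¹ = t by group,
    show (c : GG)⁻¹ * (c * w * (c : GG)⁻¹) * (c : GG)⁻¹⁻¹ = w by group] at this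

theorem Acts.negN {m : MG} (a : Acts ι t (μ (mN * m))) : Acts ι t (μ m) := by
  have := a.neg
  rwa [map_mul, μ_mN, neg_one_mul, neg_neg] at this

theorem noC (d : D ι t) (h : Acts ι t (μ mC)) : False := by
  obtain ⟨u, hu, u1, u2, u3⟩ := F.T3 a1r a3r a4r (by decide +kernel) (by decide +kernel) (by decide +kernel)
  obtain ⟨v, hv, v1, v2, v3⟩ := F.T3 a1r a3r a5r (by decide +kernel) (by decide +kernel) (by decide +kernel)
  have e1 : μ mC = rf a1 * rf a3 * rf a4 := by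
    rw [← μ_mS, ← μ_rf (m := mq [] [(2,3)]) (v := a3) (by decide +kernel),
      ← μ_rf (m := mq [2,3] [(2,3)]) (v := a4) (by decide +kernel), ← map_mul, ← map_mul]
    exact congrArg μ (by decide +kernel)
  have e2 : μ (mq [] [(0,1),(2,3),(4,5)]) = rf a1 * rf a3 * rf a5 := by
    rw [← μ_mS, ← μ_rf (m := mq [] [(2,3)]) (v := a3) (by decide +kernel),
      ← μ_rf (m := mq [] [(4,5)]) (v := a5) (by decide +kernel), ← map_mul, ← map_mul]
    exact congrArg μ (by decide +kernel)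
  have e3 : u * μ mC * u⁻¹ = v * μ (mq [] [(0,1),(2,3),(4,5)]) * v⁻¹ := by
    rw [e1, e2, rf3 F hu a1r a3r a4r, rf3 F hv a1r a3r a5r, u1, u2, u3, v1, v2, v3]
  have h1 := h.conj F ⟨u, hu⟩
  rw [show ((⟨u, hu⟩ : Wp) : GG) = u from rfl, e3] at h1
  obtain ⟨s, hs⟩ : ∃ s, ι ⟨u, hu⟩ * t * (ι ⟨u, hu⟩)⁻¹ = ι ⟨v, hv⟩ * s * (ι ⟨v, hv⟩)⁻¹ :=
    ⟨(ι ⟨v, hv⟩)⁻¹ * (ι ⟨u, hu⟩ * t * (ι ⟨u, hu⟩)⁻¹) * (ι ⟨v, hv⟩)⁻¹⁻¹, by group⟩
  have d1 := (d.cj (z_comm ⟨u, hu⟩)).cj (z_comm ⟨v, hv⟩).inv_left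
  rw [hs] at h1 d1
  rw [show (ι ⟨v, hv⟩)⁻¹ * (ι ⟨v, hv⟩ * s * (ι ⟨v, hv⟩)⁻¹) * (ι ⟨v, hv⟩)⁻¹⁻¹ = s by group] at d1
  exact noG F C d1 (Acts.unconj F C ⟨v, hv⟩ h1)

theorem outer (d : D ι t) (ht : t ∉ ι.range) : ∃ v ∈ roots, Acts ι t (rf v) := by
  obtain ⟨w, A⟩ := C.acts d.2.1
  have A2 := A.mul F A
  rw [sq_of_conj d.1] at A2
  obtain ⟨c0, hc, m, hm, e⟩ := F.classify A.1 (A2.one F C)
  obtain ⟨c, rfl⟩ : ∃ c : Wp, (c : GG) = c0 := ⟨⟨c0, hc⟩, rfl⟩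
  have A1 := A.conj F c
  have d1 := d.cj (z_comm c)
  have n1 : ι c * t * (ι c)⁻¹ ∉ ι.range := fun h => ht (by
    have := rng_conj F C (z_comm c).inv_left h
    rwa [show (ι c)⁻¹ * (ι c * t * (ι c)⁻¹) * (ι c)⁻¹⁻¹ = t by group] at this)
  rw [e] at A1
  have k1 : Gd m ∧ m * m = 1 → False := fun h => by
    rcases Acts.lift F C (y := ⟨_, F.gd h.1⟩) A1 (sq_of_conj d1.1)
      (Subtype.ext (by rw [Subgroup.coe_mul, ← map_mul μ, h.2, map_one]; rfl)) with h | h <;> exact n1 ⟨_, h.symm⟩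
  have k3 : Acts ι (ι c * t * (ι c)⁻¹) (μ mS) → ∃ v ∈ roots, Acts ι t (rf v) := fun h => by
    have hw := W.inv_mem (Wp_le_W c.2)
    refine ⟨_, F.root_W hw a1r, Acts.unconj F C c ?_⟩
    rwa [← F.conj_rf hw a1r, show (c : GG) * ((c : GG)⁻¹ * rf a1 * (c : GG)⁻¹⁻¹) * (c : GG)⁻¹ = rf a1 by group,
      ← μ_mS]
  obtain ⟨g, hg⟩ := isConj_iff.1 d1.1
  have k5 : PE ι g mN → False := fun h => n1 (hg ▸ sym2 F C (hg ▸ d1) (el_mN (ι := ι) ▸ h.2))
  simp only [reps, List.mem_cons, List.not_mem_nil, or_false] at hm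
  rcases hm with rfl | rfl | rfl | rfl | rfl | rfl | rfl | rfl | rfl | rfl | rfl | rfl
  · exact (k1 (by decide +kernel)).elim
  · exact (k1 (by decide +kernel)).elim
  · exact k3 A1
  · exact k3 (A1.negN F C)
  · exact (k1 (by decide +kernel)).elim
  · exact (k1 (by decide +kernel)).elim
  · exact (noC F C d1 A1).elim
  · exact (noC F C d1 (A1.negN F C)).elim
  · exact (k1 (by decide +kernel)).elim
  · exact (k1 (by decide +kernel)).elim
  · exact (k5 (z_J F C (hg ▸ A1))).elim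
  · exact (k5 (z_J2 F C (hg ▸ A1))).elim

/-- If all commuting conjugates are inner there are none. -/
theorem fin_inner (H : ∀ t, D ι t → t ∈ ι.range) (d : D ι t) : False := by
  have nX : ¬ IsConj (ι ng) (el ι mX) := fun h => by
    obtain ⟨g, hg⟩ := isConj_iff.1 h
    have h0 := F.gd (a := mq [0,2] []) (by decide +kernel)
    have hm := F.gd (a := mX) (by decide +kernel)
    refine noX F C hg ⟨h0, H _ (D.pull (h.trans (el_isConj F (mq [] [(1,2),(3,4)]) (by decide +kernel)))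
      (commE (hg ▸ el_acts hm) h0 (by decide +kernel)) fun e => ?_)⟩
    rw [hg, el_eq h0, el_eq hm] at e
    exact absurd (F.μ_inj (congrArg Subtype.val (C.inj e))) (by decide +kernel)
  have nE : ¬ IsConj (ι ng) (el ι mE) := fun h => by
    obtain ⟨g, hg⟩ := isConj_iff.1 h
    have h0 := F.gd (a := mq [] [(0,2),(1,3)]) (by decide +kernel)
    have hm := F.gd (a := mE) (by decide +kernel)
    have d1 : D ι (g⁻¹ * el ι (mq [] [(0,2),(1,3)] * mE) * g) := by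
      refine D.pull (h.trans (el_isConj F (mq [] [(1,3),(2,3)]) (by decide +kernel)))
        (commE (hg ▸ el_acts hm) (mem_mul h0 hm) (by decide +kernel)) fun e => ?_
      rw [hg, el_eq (mem_mul h0 hm), el_eq hm] at e
      exact absurd (F.μ_inj (congrArg Subtype.val (C.inj e))) (by decide +kernel)
    obtain ⟨c, hc | hc⟩ := inner F C d1 (H _ d1)
    · exact nX (hc ▸ (d1.cj (z_comm c)).1)
    have e1 : el ι mE * ι ng = (ι c * g⁻¹) * el ι (mq [] [(0,2),(1,3)]) * (ι c * g⁻¹)⁻¹ := by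
      rw [← hc, el_mul h0 hm, ← hg, mul_assoc _ _ (ι ng), (z_comm c).inv_left.eq,
        show ι c * (g⁻¹ * (el ι (mq [] [(0,2),(1,3)]) * (g * ι ng * g⁻¹)) * g) * (ι ng * (ι c)⁻¹) =
          ι c * g⁻¹ * el ι (mq [] [(0,2),(1,3)]) * g * (ι ng * ι ng) * (ι c)⁻¹ by group, z_sq]
      group
    have r1 : dr 0 2 1 (-1) ∈ roots := by decide +kernel
    have r2 : dr 1 3 1 (-1) ∈ roots := by decide +kernel
    obtain ⟨u, hu, u1, u2⟩ := F.T2 r1 r2 (by decide +kernel)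
    have e2 : ι ⟨u, hu⟩ * el ι (mq [] [(0,2),(1,3)]) * (ι ⟨u, hu⟩)⁻¹ = el ι mX := by
      rw [el_eq h0, el_eq (F.gd (a := mX) (by decide +kernel))]
      refine (Acts.of _).2 _ _ ?_
      change μ mX = u * μ _ * u⁻¹
      rw [μ_mX, ← show _ = a1 from u1, ← show _ = a2 from u2, ← F.conj_rf (Wp_le_W hu) r1, ← F.conj_rf (Wp_le_W hu) r2,
        ← μ_rf (m := mq [] [(0,2)]) (v := dr 0 2 1 (-1)) (by decide +kernel),
        ← μ_rf (m := mq [] [(1,3)]) (v := dr 1 3 1 (-1)) (by decide +kernel),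
        (by decide +kernel : mq [] [(0,2),(1,3)] = mq [] [(0,2)] * mq [] [(1,3)]), map_mul]
      group
    exact nX (((h.trans (elE F C).symm).trans (e1 ▸ (isConj_cj _ _).symm)).trans (e2 ▸ isConj_cj _ _))
  obtain ⟨c, hc | hc⟩ := inner F C d (H _ d)
  · exact nX (hc ▸ (d.cj (z_comm c)).1)
  · exact nE (hc ▸ (d.cj (z_comm c)).1)

end Cfsg.Lib.Oz.Y
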