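import Cfsg.Agent.Lib.Linear.OzB

/-! Transitivity of the rotation subgroup of `W(E8)` on orthogonal frames of roots. -/

set_option autoImplicit false

namespace Cfsg.Lib.Oz

open Matrix

theorem rf_mulVec {v : V} (hv : v ∈ roots) (x : V) :
    (rf v : Matrix (Fin 8) (Fin 8) ℚ) *ᵥ x = x - (v ⬝ᵥ x) • v := by
  rw [rf_val (root_norm v hv), rm, sub_mulVec, one_mulVec, vecMulVec_mulVec]
  simp

theorem sub_root {a c : V} (ha : a ∈ roots) (hc : c ∈ roots) (h : c ⬝ᵥ a = 1) :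
    a - c ∈ roots ∧ (rf (a - c) : Matrix (Fin 8) (Fin 8) ℚ) *ᵥ a = c := by
  have h1 : a - c ∈ roots := by simpa [rf_mulVec hc, h] using root_W (rf_mem hc) ha
  refine ⟨h1, ?_⟩
  rw [rf_mulVec h1, sub_dotProduct, root_norm a ha, h]
  norm_num

theorem move {a a0 : V} (S : List V) (ha : a ∈ roots) (h0 : a0 ∈ roots) (hS : ∀ s ∈ S, a ⬝ᵥ s = 0)
    (hS0 : ∀ s ∈ S, a0 ⬝ᵥ s = 0 ∧ dr 4 5 1 1 ⬝ᵥ s = 0) (h1 : dr 4 5 1 1 ⬝ᵥ a0 = 0)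
    (h : a = -a0 ∨ ∃ c ∈ roots, c ⬝ᵥ a0 = 1 ∧ (∀ s ∈ S, c ⬝ᵥ s = 0) ∧ c ⬝ᵥ a = 1) :
    ∃ g ∈ Wp, (g : Matrix (Fin 8) (Fin 8) ℚ) *ᵥ a = a0 ∧ ∀ s ∈ S, (g : Matrix (Fin 8) (Fin 8) ℚ) *ᵥ s = s := by
  have hd : dr 4 5 1 1 ∈ roots := by decide +kernel
  rcases h with rfl | ⟨c, hc, c0, cS, ca⟩
  · refine ⟨_, rf_mul_mem hd h0, ?_, fun s hs => ?_⟩
    · rw [Units.val_mul, ← mulVec_mulVec, rf_mulVec h0, dotProduct_neg, root_norm a0 h0,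
        show -a0 - (-2 : ℚ) • a0 = a0 by module, rf_mulVec hd, h1, zero_smul, sub_zero]
    · rw [Units.val_mul, ← mulVec_mulVec, rf_mulVec h0, (hS0 s hs).1, zero_smul, sub_zero, rf_mulVec hd, (hS0 s hs).2,
        zero_smul, sub_zero]
  · obtain ⟨r1, e1⟩ := sub_root ha hc ca
    obtain ⟨r2, e2⟩ := sub_root hc h0 (dotProduct_comm c a0 ▸ c0)
    refine ⟨_, rf_mul_mem r2 r1, by rw [Units.val_mul, ← mulVec_mulVec, e1, e2], fun s hs => ?_⟩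
    rw [Units.val_mul, ← mulVec_mulVec, rf_mulVec r1, sub_dotProduct, hS s hs, cS s hs, sub_zero, zero_smul, sub_zero,
      rf_mulVec r2, sub_dotProduct, (hS0 s hs).1, cS s hs, sub_zero, zero_smul, sub_zero]

theorem chk1 : ∀ a ∈ roots, a = -dr 0 1 1 (-1) ∨
    ∃ c ∈ roots.filter (fun c => c ⬝ᵥ dr 0 1 1 (-1) = 1), c ⬝ᵥ a = 1 := by decide +kernel

theorem chk2 : ∀ a ∈ roots, a ⬝ᵥ dr 0 1 1 (-1) = 0 → a = -dr 0 1 1 1 ∨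
    ∃ c ∈ roots.filter (fun c => c ⬝ᵥ dr 0 1 1 1 = 1 ∧ c ⬝ᵥ dr 0 1 1 (-1) = 0), c ⬝ᵥ a = 1 := by decide +kernel

theorem chk3 : ∀ a ∈ roots, a ⬝ᵥ dr 0 1 1 (-1) = 0 → a ⬝ᵥ dr 0 1 1 1 = 0 → a = -dr 2 3 1 (-1) ∨
    ∃ c ∈ roots.filter (fun c => c ⬝ᵥ dr 2 3 1 (-1) = 1 ∧ c ⬝ᵥ dr 0 1 1 (-1) = 0 ∧ c ⬝ᵥ dr 0 1 1 1 = 0),
      c ⬝ᵥ a = 1 := by decide +kernel

theorem T1 {a : V} (ha : a ∈ roots) : ∃ g ∈ Wp, (g : Matrix (Fin 8) (Fin 8) ℚ) *ᵥ a = dr 0 1 1 (-1) := by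
  obtain ⟨g, hg, e, -⟩ := move (a0 := dr 0 1 1 (-1)) [] ha (by decide +kernel) (by simp) (by simp) (by decide +kernel)
    ((chk1 a ha).imp_right fun ⟨c, hc, e⟩ => by
      simp only [List.mem_filter, decide_eq_true_eq] at hc
      exact ⟨c, hc.1, hc.2, by simp, e⟩)
  exact ⟨g, hg, e⟩

theorem T2 {a b : V} (ha : a ∈ roots) (hb : b ∈ roots) (hab : a ⬝ᵥ b = 0) : ∃ g ∈ Wp,
    (g : Matrix (Fin 8) (Fin 8) ℚ) *ᵥ a = dr 0 1 1 (-1) ∧ (g : Matrix (Fin 8) (Fin 8) ℚ) *ᵥ b = dr 0 1 1 1 := by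
  obtain ⟨g, hg, e⟩ := T1 ha
  have hb' := root_W (Wp_le_W hg) hb
  have o : ((g : Matrix (Fin 8) (Fin 8) ℚ) *ᵥ b) ⬝ᵥ dr 0 1 1 (-1) = 0 := by
    rw [← e, orth_W (Wp_le_W hg), dotProduct_comm, hab]
  obtain ⟨g', hg', e', f⟩ := move (a0 := dr 0 1 1 1) [dr 0 1 1 (-1)] hb' (by decide +kernel) (by simpa using o)
    (by decide +kernel) (by decide +kernel) ((chk2 _ hb' o).imp_right fun ⟨c, hc, e⟩ => by
      simp only [List.mem_filter, decide_eq_true_eq] at hc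
      exact ⟨c, hc.1, hc.2.1, by simpa using hc.2.2, e⟩)
  exact ⟨g' * g, Wp.mul_mem hg' hg, by rw [Units.val_mul, ← mulVec_mulVec, e, f _ (by simp)],
    by rw [Units.val_mul, ← mulVec_mulVec, e']⟩

theorem T3 {a b c : V} (ha : a ∈ roots) (hb : b ∈ roots) (hc : c ∈ roots) (hab : a ⬝ᵥ b = 0) (hac : a ⬝ᵥ c = 0)
    (hbc : b ⬝ᵥ c = 0) : ∃ g ∈ Wp, (g : Matrix (Fin 8) (Fin 8) ℚ) *ᵥ a = dr 0 1 1 (-1) ∧
      (g : Matrix (Fin 8) (Fin 8) ℚ) *ᵥ b = dr 0 1 1 1 ∧ (g : Matrix (Fin 8) (Fin 8) ℚ) *ᵥ c = dr 2 3 1 (-1) := by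
  obtain ⟨g, hg, e1, e2⟩ := T2 ha hb hab
  have hc' := root_W (Wp_le_W hg) hc
  have o1 : ((g : Matrix (Fin 8) (Fin 8) ℚ) *ᵥ c) ⬝ᵥ dr 0 1 1 (-1) = 0 := by
    rw [← e1, orth_W (Wp_le_W hg), dotProduct_comm, hac]
  have o2 : ((g : Matrix (Fin 8) (Fin 8) ℚ) *ᵥ c) ⬝ᵥ dr 0 1 1 1 = 0 := by
    rw [← e2, orth_W (Wp_le_W hg), dotProduct_comm, hbc]
  obtain ⟨g', hg', e', f⟩ := move (a0 := dr 2 3 1 (-1)) [dr 0 1 1 (-1), dr 0 1 1 1] hc' (by decide +kernel)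
    (by simpa using ⟨o1, o2⟩) (by decide +kernel) (by decide +kernel)
    ((chk3 _ hc' o1 o2).imp_right fun ⟨c, hc, e⟩ => by
      simp only [List.mem_filter, decide_eq_true_eq] at hc
      exact ⟨c, hc.1, hc.2.1, by simpa using hc.2.2, e⟩)
  exact ⟨g' * g, Wp.mul_mem hg' hg, by rw [Units.val_mul, ← mulVec_mulVec, e1, f _ (by simp)],
    by rw [Units.val_mul, ← mulVec_mulVec, e2, f _ (by simp)], by rw [Units.val_mul, ← mulVec_mulVec, e']⟩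

end Cfsg.Lib.Oz
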