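import Cfsg.Agent.Lib.Linear.OzC1
import Cfsg.Agent.Lib.Linear.OzT

/-! Classes of elements of the Weyl group of type E8 with square `±1`. -/

set_option autoImplicit false

namespace Cfsg.Lib.Oz

theorem classify {u : GG} (hu : u ∈ W) (h : u * u = 1 ∨ u * u = -1) :
    ∃ c ∈ Wp, ∃ m ∈ reps, c * u * c⁻¹ = μ m :=
  classify_of (fun ha hb hab => T2 ha hb hab) hu h

end Cfsg.Lib.Oz
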