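import Cfsg.Agent.Lib.Linear.Oz0

/-! Odd-order elements of the Weyl group of type E8 fixing four orthogonal roots. -/

set_option autoImplicit false

namespace Cfsg.Lib.Oz

open Matrix

theorem n_rm_mul (a b : V) : rm a * rm b = 1 - vecMulVec a a - vecMulVec b b + (a ⬝ᵥ b) • vecMulVec a b := by
  have e : vecMulVec a a * vecMulVec b b = (a ⬝ᵥ b) • vecMulVec a b := by
    rw [vecMulVec_mul_vecMulVec]
    ext i j
    simp [vecMulVec_apply]
    ring
  simp only [rm, sub_mul, mul_sub, one_mul, mul_one, e]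
  abel

theorem orth_of_comm {a b : V} (ha : a ∈ roots) (hb : b ∈ roots)
    (h : rf a * rf b = rf b * rf a ∨ rf a * rf b = -(rf b * rf a)) : a ⬝ᵥ b = 0 ∨ rf a = rf b := by
  have na := root_norm a ha
  have nb := root_norm b hb
  rcases h with h | h
  · refine or_iff_not_imp_left.2 fun t0 => Units.ext ?_
    have h1 := congrArg Units.val h
    simp only [Units.val_mul, rf_val na, rf_val nb, n_rm_mul, dotProduct_comm b a] at h1
    have h2 : ∀ i j, a i * b j = b i * a j := fun i j => by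
      have := congrFun (congrFun h1 i) j
      simp only [Matrix.add_apply, Matrix.sub_apply, Matrix.smul_apply, vecMulVec_apply, smul_eq_mul] at this
      apply mul_left_cancel₀ t0
      linarith
    have h3 : ∀ i, 2 * b i = (a ⬝ᵥ b) * a i := fun i => by
      rw [← na, dotProduct, dotProduct, Finset.sum_mul, Finset.sum_mul]
      exact Finset.sum_congr rfl fun j _ => by rw [mul_assoc, mul_assoc, h2 j i]
    have h4 : (a ⬝ᵥ b) * (a ⬝ᵥ b) = 4 := by
      have : (a ⬝ᵥ b) * (a ⬝ᵥ b) = 2 * (b ⬝ᵥ b) := by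
        generalize ht : a ⬝ᵥ b = t at h3 ⊢
        conv_lhs => arg 1; rw [← ht]
        rw [dotProduct, dotProduct, Finset.sum_mul, Finset.mul_sum]
        exact Finset.sum_congr rfl fun j _ => by linear_combination (-b j) * h3 j
      rw [this, nb]; norm_num
    rw [rf_val na, rf_val nb, rm, rm]
    congr 1
    ext i j
    simp only [vecMulVec_apply]
    linear_combination (-1 / 4 * a i * a j) * h4 - (1 / 4 * (a ⬝ᵥ b) * a i) * h3 j - (1 / 2 * b j) * h3 i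
  · exfalso
    have h1 := congrArg (fun g : GG => trace (g : Matrix (Fin 8) (Fin 8) ℚ)) h
    simp only [Units.val_mul, Units.val_neg, rf_val na, rf_val nb, n_rm_mul, trace_neg, trace_add, trace_sub, trace_smul,
      trace_vecMulVec, na, nb, trace_one, Fintype.card_fin, dotProduct_comm b a, smul_eq_mul, Nat.cast_ofNat] at h1
    nlinarith [mul_self_nonneg (a ⬝ᵥ b)]

theorem n_dot (x y : V) : x ⬝ᵥ y = x 0 * y 0 + x 1 * y 1 + x 2 * y 2 + x 3 * y 3 + x 4 * y 4 + x 5 * y 5 + x 6 * y 6 + x 7 * y 7 := by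
  simp [dotProduct, Fin.sum_univ_eight]

theorem n_rf_neg : rf (dr 2 3 (-1) (-1)) = rf (dr 2 3 1 1) := Units.ext (by
  rw [rf_val (by decide +kernel), rf_val (by decide +kernel)]
  decide +kernel)

theorem n_co {b : V} (h1 : b ⬝ᵥ dr 0 1 1 (-1) = 0) (h2 : b ⬝ᵥ dr 0 1 1 1 = 0) (h3 : b ⬝ᵥ dr 2 3 1 (-1) = 0) :
    b 0 = 0 ∧ b 1 = 0 ∧ b 2 = b 3 := by
  simp [n_dot, dr] at h1 h2 h3
  refine ⟨?_, ?_, ?_⟩ <;> linarith

theorem n_five : ∀ b ∈ roots, b 0 = 0 → b 1 = 0 → b 2 = b 3 → b 2 = 0 ∨ b = dr 2 3 1 1 ∨ b = dr 2 3 (-1) (-1) := by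
  decide +kernel

theorem five (b : Fin 5 → V)
    (hb : ∀ i, b i ∈ roots ∧ b i ⬝ᵥ dr 0 1 1 (-1) = 0 ∧ b i ⬝ᵥ dr 0 1 1 1 = 0 ∧ b i ⬝ᵥ dr 2 3 1 (-1) = 0)
    (ho : ∀ i j, i ≠ j → b i ⬝ᵥ b j = 0) : ∃ i, rf (b i) = rf (dr 2 3 1 1) := by
  by_contra hn
  have h0 : ∀ i, b i 0 = 0 ∧ b i 1 = 0 ∧ b i 2 = 0 ∧ b i 3 = 0 := fun i => by
    obtain ⟨c0, c1, c2⟩ := n_co (hb i).2.1 (hb i).2.2.1 (hb i).2.2.2
    rcases n_five _ (hb i).1 c0 c1 c2 with h | h | h
    · exact ⟨c0, c1, h, c2 ▸ h⟩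
    · exact (hn ⟨i, by rw [h]⟩).elim
    · exact (hn ⟨i, by rw [h, n_rf_neg]⟩).elim
  let c : Fin 5 → Fin 4 → ℚ := fun i => ![b i 4, b i 5, b i 6, b i 7]
  have hc : ∀ i j, c i ⬝ᵥ c j = b i ⬝ᵥ b j := fun i j => by
    obtain ⟨a0, a1, a2, a3⟩ := h0 i
    simp [n_dot, c, a0, a1, a2, a3, add_assoc]
  have li : LinearIndependent ℚ c := by
    refine Fintype.linearIndependent_iff.2 fun g hg j => ?_
    have := congrArg (· ⬝ᵥ c j) hg
    simp only [sum_dotProduct, smul_dotProduct, hc, zero_dotProduct, smul_eq_mul] at this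
    rw [Finset.sum_eq_single j (fun i _ h => by rw [ho i j h, mul_zero]) (by simp), root_norm _ (hb j).1] at this
    linarith
  have := li.fintype_card_le_finrank
  simp at this

theorem n_odd {u : GG} (ho : Odd (orderOf u)) {t : V}
    (h : (u : Matrix (Fin 8) (Fin 8) ℚ) *ᵥ ((u : Matrix (Fin 8) (Fin 8) ℚ) *ᵥ t) = t) :
    (u : Matrix (Fin 8) (Fin 8) ℚ) *ᵥ t = t := by
  have h1 : ∀ n, ((u ^ (2 * n) : GG) : Matrix (Fin 8) (Fin 8) ℚ) *ᵥ t = t := fun n => by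
    induction n with
    | zero => simp
    | succ n ih =>
      rw [Nat.mul_succ, pow_succ, pow_succ, Units.val_mul, Units.val_mul, ← mulVec_mulVec, ← mulVec_mulVec, h, ih]
  obtain ⟨k, hk⟩ := ho
  have h2 : ((u ^ (2 * k + 1) : GG) : Matrix (Fin 8) (Fin 8) ℚ) *ᵥ t = t := by rw [← hk, pow_orderOf_eq_one]; simp
  rwa [pow_succ', Units.val_mul, ← mulVec_mulVec, h1] at h2

theorem n_inj (u : GG) {x y : V} (h : (u : Matrix (Fin 8) (Fin 8) ℚ) *ᵥ x = (u : Matrix (Fin 8) (Fin 8) ℚ) *ᵥ y) : x = y := by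
  have := congrArg (((u⁻¹ : GG) : Matrix (Fin 8) (Fin 8) ℚ) *ᵥ ·) h
  simpa only [mulVec_mulVec, Units.inv_mul, one_mulVec] using this

theorem n_two {u : GG} (ho : Odd (orderOf u)) (P : V → Prop) (hP : ∀ x, P x → P ((u : Matrix (Fin 8) (Fin 8) ℚ) *ᵥ x))
    {l : List V} (hl : l.length ≤ 2) (h : ∀ x, P x → x ∈ l) {t : V} (ht : P t) :
    (u : Matrix (Fin 8) (Fin 8) ℚ) *ᵥ t = t := by
  have a := h _ ht
  have b := h _ (hP _ ht)
  have c := h _ (hP _ (hP _ ht))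
  have : (u : Matrix (Fin 8) (Fin 8) ℚ) *ᵥ t = t ∨ (u : Matrix (Fin 8) (Fin 8) ℚ) *ᵥ ((u : Matrix (Fin 8) (Fin 8) ℚ) *ᵥ t) = t ∨
      (u : Matrix (Fin 8) (Fin 8) ℚ) *ᵥ ((u : Matrix (Fin 8) (Fin 8) ℚ) *ᵥ t) = (u : Matrix (Fin 8) (Fin 8) ℚ) *ᵥ t := by
    generalize (u : Matrix (Fin 8) (Fin 8) ℚ) *ᵥ ((u : Matrix (Fin 8) (Fin 8) ℚ) *ᵥ t) = z at *
    generalize (u : Matrix (Fin 8) (Fin 8) ℚ) *ᵥ t = y at *
    rcases l with _ | ⟨p, _ | ⟨q, _ | ⟨r, l⟩⟩⟩
    · simp at a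
    · simp only [List.mem_singleton] at a b
      exact Or.inl (b.trans a.symm)
    · simp only [List.mem_cons, List.not_mem_nil, or_false] at a b c
      rcases a with rfl | rfl <;> rcases b with b | b <;> rcases c with c | c <;> simp [b, c]
    · simp at hl
  rcases this with h | h | h
  · exact h
  · exact n_odd ho h
  · exact n_inj u h

/-- test roots -/
def nT : List V := [dr 0 4 1 1, dr 0 5 1 1, dr 0 6 1 1, dr 0 7 1 1]

/-- an invariant set of roots -/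
def nR : List V := nT ++ [dr 0 4 1 (-1), dr 0 5 1 (-1), dr 0 6 1 (-1), dr 0 7 1 (-1), hr 0, hr 48, hr 80, hr 96, hr 144, hr 160,
  hr 192, hr 240]

/-- the condition defining `nR` -/
def nP (x : V) : Prop := x 1 = 1 - x 0 ∧ x 2 = x 1 ∧ x 3 = x 1

instance (x : V) : Decidable (nP x) := inferInstanceAs (Decidable (_ ∧ _))

theorem nR_of : ∀ x ∈ roots, nP x → x ∈ nR := by decide +kernel

/-- explicit dot product -/
def nd (x y : V) : ℚ := x 0 * y 0 + x 1 * y 1 + x 2 * y 2 + x 3 * y 3 + x 4 * y 4 + x 5 * y 5 + x 6 * y 6 + x 7 * y 7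

/-- at most two candidates -/
def ncnt (F : List V) (t : V) : Bool := Nat.ble (nR.filter fun x => F.all fun v => nd x v == nd t v).length 2

/-- adaptive closure -/
def nad : List V → List V → List V
  | F, [] => F
  | F, t :: ts => bif ncnt F t then nad (t :: F) ts else nad F ts

theorem n_run : ∀ b ∈ roots, b 0 = 0 → b 1 = 0 → b 2 = 0 → b 3 = 0 →
    nT.all (ncnt (nad [dr 0 1 1 (-1), b] (nT ++ [hr 0]))) = true := by
  decide +kernel

end Cfsg.Lib.Oz
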