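import Cfsg.Agent.Lib.Linear.Oy3
import Cfsg.Agent.Lib.Linear.OzC
import Cfsg.Agent.Lib.Linear.OzN

/-! Fusion for the double cover of `Ω₈⁺(2)`: conjugates of `z` acting as reflections, and the conclusion. -/

set_option autoImplicit false

namespace Cfsg.Lib.Oz.Y

open Matrix

theorem fx : Fx := ⟨mem_Wp, μ_inj, μ_mem_Wp, root_W, conj_rf, cent_Wp, T2, T3, orth_of_comm, classify⟩

variable {G : Type*} [Group G] {ι : Wp →* G}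

variable (ι) in
/-- `v` lies in the component belonging to the conjugate `u` of `z`. -/
def In (u v : G) : Prop := ∃ g, g * ι ng * g⁻¹ = u ∧ P ι g v

variable (ι) in
/-- Commuting conjugates of `z` outside each other's component. -/
def Adj (u v : G) : Prop := IsConj (ι ng) u ∧ IsConj (ι ng) v ∧ Commute u v ∧ ¬ In ι u v

variable (ι) in
/-- A lift of the reflections. -/
structure Sec (σ : V → G) : Prop where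
  act : ∀ {β}, β ∈ roots → Acts ι (σ β) (rf β)
  mul : ∀ {β γ} (hβ : β ∈ roots) (hγ : γ ∈ roots), σ β * σ γ = ι ⟨rf β * rf γ, rf_mul_mem hβ hγ⟩

variable {u v w h s t : G} {σ : V → G} {α β γ : V}

theorem In.cj (h : G) (a : In ι u v) : In ι (h * u * h⁻¹) (h * v * h⁻¹) := by
  obtain ⟨g, rfl, a⟩ := a
  exact ⟨h * g, by group, by rwa [P, show (h * g)⁻¹ * (h * v * h⁻¹) * (h * g) = g⁻¹ * v * g by group]⟩

theorem In.uncj (a : In ι (h * u * h⁻¹) (h * v * h⁻¹)) : In ι u v := by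
  have := a.cj h⁻¹
  rwa [show h⁻¹ * (h * u * h⁻¹) * h⁻¹⁻¹ = u by group, show h⁻¹ * (h * v * h⁻¹) * h⁻¹⁻¹ = v by group] at this

theorem In.of_rng (a : v ∈ ι.range) : In ι (ι ng) v := ⟨1, by group, by rwa [P, inv_one, one_mul, mul_one]⟩

theorem Adj.cj (h : G) (a : Adj ι u v) : Adj ι (h * u * h⁻¹) (h * v * h⁻¹) :=
  ⟨a.1.trans (isConj_cj _ _), a.2.1.trans (isConj_cj _ _), a.2.2.1.conj h, fun b => a.2.2.2 b.uncj⟩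

theorem Adj.uncj (a : Adj ι (h * u * h⁻¹) (h * v * h⁻¹)) : Adj ι u v := by
  have := a.cj h⁻¹
  rwa [show h⁻¹ * (h * u * h⁻¹) * h⁻¹⁻¹ = u by group, show h⁻¹ * (h * v * h⁻¹) * h⁻¹⁻¹ = v by group] at this

theorem Adj.D (a : Adj ι (ι ng) t) : D ι t ∧ t ∉ ι.range :=
  ⟨⟨a.2.1, a.2.2.1.symm, fun e => a.2.2.2 (In.of_rng ⟨ng, e.symm⟩)⟩, fun e => a.2.2.2 (In.of_rng e)⟩

theorem z_cj (c : Wp) : ι c * ι ng * (ι c)⁻¹ = ι ng := mul_inv_eq_iff_eq_mul.2 (z_comm c).eq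

theorem Sec.sq (S : Sec ι σ) (hβ : β ∈ roots) : σ β * σ β = 1 := by
  rw [S.mul hβ hβ, ← map_one ι]
  exact congrArg ι (Subtype.ext (rf_mul_self β))

theorem Sec.eq (S : Sec ι σ) (hβ : β ∈ roots) (hγ : γ ∈ roots) (e : rf β = rf γ) : σ β = σ γ :=
  mul_right_cancel (b := σ γ) (by
    rw [S.mul hβ hγ, S.mul hγ hγ]
    exact congrArg ι (Subtype.ext (congrArg (· * rf γ) e)))

theorem Sec.comm (S : Sec ι σ) (hβ : β ∈ roots) (hγ : γ ∈ roots) (e : rf β * rf γ = rf γ * rf β) :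
    Commute (σ β) (σ γ) := by
  rw [Commute, SemiconjBy, S.mul hβ hγ, S.mul hγ hβ]
  exact congrArg ι (Subtype.ext e)

theorem Sec.cj (S : Sec ι σ) (hβ : β ∈ roots) (c : Wp) : ι c * σ β * (ι c)⁻¹ = σ (((c : GG) : Mat) *ᵥ β) := by
  have h1 := root_W (Wp_le_W c.2) hβ
  rw [(S.act hβ).cj fx c, ← mul_one (σ (_ *ᵥ β)), ← S.sq hβ, ← mul_assoc, S.mul h1 hβ]
  refine congrArg (fun y => ι y * σ β) (Subtype.ext ?_)
  simp only [Subgroup.coe_mul, Subgroup.coe_inv]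
  rw [← conj_rf (Wp_le_W c.2) hβ, rf_inv]; group

theorem exists_sec (hα : α ∈ roots) (A : Acts ι t (rf α)) (t2 : t * t = 1) : ∃ σ, Sec ι σ ∧ σ α = t := by
  classical
  refine ⟨fun β => if h : β ∈ roots then ι ⟨rf β * rf α, rf_mul_mem h hα⟩ * t else 1,
    ⟨fun {β} hβ => ?_, fun {β γ} hβ hγ => ?_⟩, ?_⟩
  · have := (Acts.of (ι := ι) ⟨rf β * rf α, rf_mul_mem hβ hα⟩).mul fx A
    rw [dif_pos hβ]
    rwa [show ((⟨rf β * rf α, rf_mul_mem hβ hα⟩ : Wp) : GG) * rf α = rf β by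
      change rf β * rf α * rf α = _; rw [mul_assoc, rf_mul_self, mul_one]] at this
  · have := A.2 ⟨rf γ * rf α, rf_mul_mem hγ hα⟩ ⟨rf α * rf γ, rf_mul_mem hα hγ⟩ (by
      change rf α * rf γ = rf α * (rf γ * rf α) * (rf α)⁻¹; group)
    rw [inv_eq_of_mul_eq_one_right t2] at this
    rw [dif_pos hβ, dif_pos hγ, mul_assoc, ← mul_assoc t, this, ← map_mul]
    refine congrArg ι (Subtype.ext ?_)
    change rf β * rf α * (rf α * rf γ) = rf β * rf γ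
    rw [mul_assoc, ← mul_assoc (rf α), rf_mul_self, one_mul]
  · simp only [dif_pos hα]
    rw [show (⟨rf α * rf α, rf_mul_mem hα hα⟩ : Wp) = 1 from Subtype.ext (rf_mul_self α), map_one, one_mul]

theorem Sec.adj (S : Sec ι σ) (hα : α ∈ roots) (a : Adj ι (ι ng) (σ α)) (hβ : β ∈ roots) : Adj ι (ι ng) (σ β) := by
  obtain ⟨c, hc, e⟩ := T1 hα
  obtain ⟨d, hd, e'⟩ := T1 hβ
  have := a.cj (ι ⟨c, hc⟩)
  rw [z_cj, S.cj hα, show ((⟨c, hc⟩ : Wp) : GG) = c from rfl, e, ← e', ← z_cj ⟨d, hd⟩] at this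
  exact Adj.uncj (h := ι ⟨d, hd⟩) (by rwa [S.cj hβ])

variable (C : Ctx ι)
include C

theorem In.indep {g : G} (e : g * ι ng * g⁻¹ = u) (a : In ι u v) : P ι g v := by
  obtain ⟨k, hk, a⟩ := a
  have := rng_conj fx C (h := g⁻¹ * k) (by
    rw [Commute, SemiconjBy, show g⁻¹ * k * ι ng = g⁻¹ * (k * ι ng * k⁻¹) * k by group, hk, ← e]; group) a
  rwa [show g⁻¹ * k * (k⁻¹ * v * k) * (g⁻¹ * k)⁻¹ = g⁻¹ * v * g by group] at this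

theorem In.self (a : IsConj (ι ng) u) : In ι u u := by
  obtain ⟨g, rfl⟩ := isConj_iff.1 a
  exact ⟨g, rfl, (P.self C).1⟩

theorem In.mul (a : In ι u v) (b : In ι u w) : In ι u (v * w) := by
  obtain ⟨g, e, a⟩ := a
  exact ⟨g, e, (a.mul C (b.indep C e)).1⟩

theorem In.symm (hv : IsConj (ι ng) v) (c : Commute u v) (a : In ι u v) : In ι v u := by
  obtain ⟨g, rfl, a⟩ := a
  by_cases e : v = g * ι ng * g⁻¹
  · exact e ▸ In.self C hv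
  obtain ⟨k, rfl⟩ := isConj_iff.1 hv
  have e1 : g⁻¹ * (k * ι ng * k⁻¹) * g = g⁻¹ * k * ι ng * (g⁻¹ * k)⁻¹ := by group
  have := sym1 fx C (g := g⁻¹ * k) (e1 ▸ D.pull hv c.symm e) (e1 ▸ a)
  exact ⟨k, rfl, by rwa [P, show k⁻¹ * (g * ι ng * g⁻¹) * k = (g⁻¹ * k)⁻¹ * ι ng * (g⁻¹ * k) by group]⟩

theorem Adj.symm (a : Adj ι u v) : Adj ι v u :=
  ⟨a.2.1, a.1, a.2.2.1.symm, fun b => a.2.2.2 (b.symm C a.1 a.2.2.1.symm)⟩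

theorem Adj.of_D (d : Y.D ι t) (ht : t ∉ ι.range) : Adj ι (ι ng) t :=
  ⟨IsConj.refl _, d.1, d.2.1.symm, fun a => ht (by
    have := a.indep C (g := 1) (by group)
    rwa [P, inv_one, one_mul, mul_one] at this)⟩

theorem Adj.sec (a : Adj ι (ι ng) t) : ∃ σ, Sec ι σ ∧ (∀ β ∈ roots, Adj ι (ι ng) (σ β)) ∧ ∃ α ∈ roots, σ α = t := by
  obtain ⟨α, hα, A⟩ := outer fx C a.D.1 a.D.2
  obtain ⟨σ, S, e⟩ := exists_sec hα A (sq_of_conj a.2.1)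
  exact ⟨σ, S, fun β => S.adj hα (e ▸ a), α, hα, e⟩

variable (S : Sec ι σ) (H : ∀ β ∈ roots, Adj ι (ι ng) (σ β))
include S H

theorem k1 (hα : α ∈ roots) (hβ : β ∈ roots) (o : α ⬝ᵥ β = 0) : In ι (σ α) (σ β * ι ng) := by
  obtain ⟨c, hc, e1, e2⟩ := T2 hα hβ o
  obtain ⟨g, hg⟩ := isConj_iff.1 (H _ a1r).2.1
  have b := (b_mS fx C (g := g) (by rw [hg, μ_mS]; exact S.act a1r)).2
  have hm := fx.gd (a := mX) (by decide +kernel)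
  rw [el_mul mN_mem hm, el_mN, el_eq hm, show (⟨μ mX, hm⟩ : Wp) = ⟨_, rf_mul_mem a1r a2r⟩ from Subtype.ext μ_mX,
    ← S.mul a1r a2r] at b
  have b1 := (In.self C (H _ a1r).2.1).mul C ⟨g, hg, b⟩
  rw [← mul_assoc, ← mul_assoc, ← (H _ a1r).2.2.1.eq, mul_assoc (ι ng), S.sq a1r, mul_one, (H _ a2r).2.2.1.eq] at b1
  refine In.uncj (h := ι ⟨c, hc⟩) ?_
  rw [← conj_mul, z_cj, S.cj hα, S.cj hβ]
  change In ι (σ ((c : Mat) *ᵥ α)) (σ ((c : Mat) *ᵥ β) * _)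
  rwa [e1, e2]

theorem n1 (hα : α ∈ roots) (hβ : β ∈ roots) (o : α ⬝ᵥ β = 0) : Adj ι (σ α) (σ β) := by
  refine ⟨(H _ hα).2.1, (H _ hβ).2.1, S.comm hα hβ (c_comm hα hβ o), fun a => ((H _ hα).symm C).2.2.2 ?_⟩
  have := a.mul C (k1 C S H hα hβ o)
  rwa [← mul_assoc, S.sq hβ, one_mul] at this

omit H in
theorem n0 (hα : α ∈ roots) (hβ : β ∈ roots) (c : Commute (σ α) (σ β)) : α ⬝ᵥ β = 0 ∨ rf α = rf β := by
  have := c.eq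
  rw [S.mul hα hβ, S.mul hβ hα] at this
  exact orth_of_comm hα hβ (Or.inl (congrArg Subtype.val (C.inj this)))

omit H in
theorem n3 (hα : α ∈ roots) (hβ : β ∈ roots) (a : Adj ι (σ α) (σ β)) : α ⬝ᵥ β = 0 :=
  (n0 C S hα hβ a.2.2.1).resolve_right fun e => a.2.2.2 (S.eq hα hβ e ▸ In.self C a.1)

theorem n2 (hα : α ∈ roots) (a : Adj ι (ι ng) s) (b : Adj ι (σ α) s) : (∃ β ∈ roots, s = σ β) ∨ s = σ α * ι ng := by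
  obtain ⟨β, hβ, A⟩ := outer fx C a.D.1 a.D.2
  have A1 := A.mul fx (S.act hα)
  have o := orth_of_comm hβ hα (A1.uniq fx C (b.2.2.1.eq ▸ (S.act hα).mul fx A))
  have e : rf β * rf α = rf α * rf β := o.elim (c_comm hβ hα) fun e => by rw [e]
  rcases Acts.lift fx C (y := ⟨_, rf_mul_mem hβ hα⟩) A1
    (by rw [b.2.2.1.mul_mul_mul_comm, sq_of_conj a.2.1, S.sq hα, one_mul])
    (Subtype.ext (by
      change rf β * rf α * (rf β * rf α) = 1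
      rw [mul_assoc, ← mul_assoc (rf α), ← e, mul_assoc, rf_mul_self, mul_one, rf_mul_self])) with h | h
  · exact Or.inl ⟨β, hβ, mul_right_cancel (h.trans (S.mul hβ hα).symm)⟩
  · rw [map_mul, ← S.mul hβ hα, ← mul_assoc, (H _ hβ).2.2.1.eq] at h
    rcases o with o | o
    · exact absurd (mul_right_cancel h ▸ k1 C S H hα hβ (by rw [dotProduct_comm, o])) b.2.2.2
    · exact Or.inr (S.eq hβ hα o ▸ mul_right_cancel h)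

theorem n4 (a : Adj ι (ι ng) s) (b : Adj ι (σ a1) s) (c : Adj ι (σ a2) s) : ∃ β ∈ roots, s = σ β :=
  (n2 C S H a1r a b).resolve_right fun e => c.2.2.2 (e ▸ k1 C S H a2r a1r (by decide +kernel))

omit C S H in
theorem rf_eq (hβ : β ∈ roots) (hγ : γ ∈ roots) : rf β = rf γ ↔ rm β = rm γ := by
  rw [← Units.val_inj, rf_val (root_norm _ hβ), rf_val (root_norm _ hγ)]

omit C S H in
variable (ι) in
/-- The configuration of common neighbours of a clique of size four. -/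
def Phi (N : G → Prop) : Prop :=
  ∃ φ, N φ ∧ (∀ u, N u → u = φ ∨ Adj ι φ u) ∧ (∀ ψ, N ψ → (∀ u, N u → Commute ψ u) → ψ = φ) ∧
    ∃ u v, N u ∧ N v ∧ ¬ Commute u v

omit C S H in
theorem Phi.tr {N N' : G → Prop} (h : G) (e : ∀ u, N u ↔ N' (h * u * h⁻¹)) (a : Phi ι N') : Phi ι N := by
  obtain ⟨φ, p1, p2, p3, u, v, p4, p5, p6⟩ := a
  have k : ∀ x, h * (h⁻¹ * x * h) * h⁻¹ = x := fun x => by group
  refine ⟨h⁻¹ * φ * h, (e _).2 (by rwa [k]), fun x hx => (p2 _ ((e x).1 hx)).imp (fun q => by rw [← q]; group)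
    fun q => Adj.uncj (h := h) (by rwa [k]), fun ψ q1 q2 => ?_, h⁻¹ * u * h, h⁻¹ * v * h, (e _).2 (by rwa [k]),
    (e _).2 (by rwa [k]), fun q => p6 (by have := q.conj h; rwa [k, k] at this)⟩
  rw [← p3 _ ((e ψ).1 q1) fun x hx => by
    have := (q2 (h⁻¹ * x * h) ((e _).2 (by rwa [k]))).conj h
    rwa [k] at this]
  group

omit C S H in
theorem chk_a : ∀ γ ∈ roots, a1 ⬝ᵥ γ = 0 ∧ a2 ⬝ᵥ γ = 0 ∧ a3 ⬝ᵥ γ = 0 → rm γ = rm a4 ∨ (a4 ⬝ᵥ γ = 0 ∧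
    ∃ δ ∈ roots, (a1 ⬝ᵥ δ = 0 ∧ a2 ⬝ᵥ δ = 0 ∧ a3 ⬝ᵥ δ = 0) ∧ γ ⬝ᵥ δ ≠ 0 ∧ rm γ ≠ rm δ) := by decide +kernel

omit C S H in
theorem chk_b : ∀ γ ∈ roots, a1 ⬝ᵥ γ = 0 ∧ a2 ⬝ᵥ γ = 0 ∧ a3 ⬝ᵥ γ = 0 ∧ a5 ⬝ᵥ γ = 0 →
    rm (mon (mq [1,7] [(2,4),(3,5)]) *ᵥ γ) ≠ rm γ ∧
    ∀ δ ∈ roots, a1 ⬝ᵥ δ = 0 ∧ a2 ⬝ᵥ δ = 0 ∧ a3 ⬝ᵥ δ = 0 ∧ a5 ⬝ᵥ δ = 0 → γ ⬝ᵥ δ = 0 ∨ rm γ = rm δ := by
  decide +kernel

theorem phi_std : Phi ι fun u => Adj ι (ι ng) u ∧ Adj ι (σ a1) u ∧ Adj ι (σ a2) u ∧ Adj ι (σ a3) u := by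
  have i : ∀ δ ∈ roots, a1 ⬝ᵥ δ = 0 ∧ a2 ⬝ᵥ δ = 0 ∧ a3 ⬝ᵥ δ = 0 →
      Adj ι (ι ng) (σ δ) ∧ Adj ι (σ a1) (σ δ) ∧ Adj ι (σ a2) (σ δ) ∧ Adj ι (σ a3) (σ δ) := fun δ hδ o =>
    ⟨H _ hδ, n1 C S H a1r hδ o.1, n1 C S H a2r hδ o.2.1, n1 C S H a3r hδ o.2.2⟩
  have j : ∀ u, Adj ι (ι ng) u ∧ Adj ι (σ a1) u ∧ Adj ι (σ a2) u ∧ Adj ι (σ a3) u →
      ∃ γ ∈ roots, u = σ γ ∧ a1 ⬝ᵥ γ = 0 ∧ a2 ⬝ᵥ γ = 0 ∧ a3 ⬝ᵥ γ = 0 := fun u q => by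
    obtain ⟨γ, hγ, rfl⟩ := n4 C S H q.1 q.2.1 q.2.2.1
    exact ⟨γ, hγ, rfl, n3 C S a1r hγ q.2.1, n3 C S a2r hγ q.2.2.1, n3 C S a3r hγ q.2.2.2⟩
  have nc : ∀ γ ∈ roots, ∀ δ ∈ roots, γ ⬝ᵥ δ ≠ 0 ∧ rm γ ≠ rm δ → ¬ Commute (σ γ) (σ δ) := fun γ hγ δ hδ q c =>
    (n0 C S hγ hδ c).elim q.1 fun e => q.2 ((rf_eq hγ hδ).1 e)
  have r6 : dr 4 6 1 1 ∈ roots := by decide +kernel
  refine ⟨σ a4, i _ a4r (by decide +kernel), fun u q => ?_, fun u q q' => ?_, σ a5, σ (dr 4 6 1 1),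
    i _ a5r (by decide +kernel), i _ r6 (by decide +kernel), nc _ a5r _ r6 (by decide +kernel)⟩
  · obtain ⟨γ, hγ, rfl, o⟩ := j u q
    exact (chk_a γ hγ o).imp (fun e => S.eq hγ a4r ((rf_eq hγ a4r).2 e)) fun e => n1 C S H a4r hγ e.1
  · obtain ⟨γ, hγ, rfl, o⟩ := j u q
    rcases chk_a γ hγ o with e | ⟨-, δ, hδ, e1, e2⟩
    · exact S.eq hγ a4r ((rf_eq hγ a4r).2 e)
    · exact absurd (q' _ (i δ hδ e1)) (nc γ hγ δ hδ e2)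

theorem phi_T1 : Phi ι fun u => Adj ι (σ a1) u ∧ Adj ι (σ a2) u ∧ Adj ι (σ a3) u ∧ Adj ι (σ a5) u := by
  obtain ⟨g, hg⟩ := isConj_iff.1 (H _ a1r).2.1.symm
  have z2 : Adj ι (ι ng) (g * σ a2 * g⁻¹) := hg ▸ (n1 C S H a1r a2r (by decide +kernel)).cj g
  obtain ⟨σ', S', H', α, hα, e⟩ := z2.sec C
  have k : ∀ γ ∈ roots, a1 ⬝ᵥ γ = 0 → a2 ⬝ᵥ γ = 0 → ∃ β ∈ roots, g * σ γ * g⁻¹ = σ' β := fun γ hγ o1 o2 =>
    (n2 C S' H' hα (hg ▸ (n1 C S H a1r hγ o1).cj g) (e ▸ (n1 C S H a2r hγ o2).cj g)).resolve_right fun q =>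
      (H _ hγ).D.2 ⟨_, by
        rw [e, ← hg, conj_mul, S.mul a2r a1r] at q
        exact (mul_left_cancel (mul_right_cancel q)).symm⟩
  obtain ⟨β, hβ, e3⟩ := k _ a3r (by decide +kernel) (by decide +kernel)
  obtain ⟨γ, hγ, e5⟩ := k _ a5r (by decide +kernel) (by decide +kernel)
  obtain ⟨c, hc, c1, c2, c3⟩ := T3 hα hβ hγ
    (n3 C S' hα hβ (e ▸ e3 ▸ (n1 C S H a2r a3r (by decide +kernel)).cj g))
    (n3 C S' hα hγ (e ▸ e5 ▸ (n1 C S H a2r a5r (by decide +kernel)).cj g))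
    (n3 C S' hβ hγ (e3 ▸ e5 ▸ (n1 C S H a3r a5r (by decide +kernel)).cj g))
  have q : ∀ x, ι ⟨c, hc⟩ * g * x * (ι ⟨c, hc⟩ * g)⁻¹ = ι ⟨c, hc⟩ * (g * x * g⁻¹) * (ι ⟨c, hc⟩)⁻¹ := fun x => by group
  have q1 : ι ⟨c, hc⟩ * g * σ a1 * (ι ⟨c, hc⟩ * g)⁻¹ = ι ng := by rw [q, hg, z_cj]
  have q2 : ι ⟨c, hc⟩ * g * σ a2 * (ι ⟨c, hc⟩ * g)⁻¹ = σ' a1 := by rw [q, ← e, S'.cj hα]; exact congrArg σ' c1
  have q3 : ι ⟨c, hc⟩ * g * σ a3 * (ι ⟨c, hc⟩ * g)⁻¹ = σ' a2 := by rw [q, e3, S'.cj hβ]; exact congrArg σ' c2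
  have q5 : ι ⟨c, hc⟩ * g * σ a5 * (ι ⟨c, hc⟩ * g)⁻¹ = σ' a3 := by rw [q, e5, S'.cj hγ]; exact congrArg σ' c3
  refine (phi_std C S' H').tr (ι ⟨c, hc⟩ * g) fun u => ?_
  rw [← q1, ← q2, ← q3, ← q5]
  exact ⟨fun a => ⟨a.1.cj _, a.2.1.cj _, a.2.2.1.cj _, a.2.2.2.cj _⟩,
    fun a => ⟨a.1.uncj, a.2.1.uncj, a.2.2.1.uncj, a.2.2.2.uncj⟩⟩

theorem no_sec : False := by
  obtain ⟨φ, p1, p2, p3, u, v, p4, p5, p6⟩ := phi_T1 C S H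
  have j : ∀ u, Adj ι (ι ng) u → Adj ι (σ a1) u ∧ Adj ι (σ a2) u ∧ Adj ι (σ a3) u ∧ Adj ι (σ a5) u →
      ∃ γ ∈ roots, u = σ γ ∧ a1 ⬝ᵥ γ = 0 ∧ a2 ⬝ᵥ γ = 0 ∧ a3 ⬝ᵥ γ = 0 ∧ a5 ⬝ᵥ γ = 0 := fun u z q => by
    obtain ⟨γ, hγ, rfl⟩ := n4 C S H z q.1 q.2.1
    exact ⟨γ, hγ, rfl, n3 C S a1r hγ q.1, n3 C S a2r hγ q.2.1, n3 C S a3r hγ q.2.2.1, n3 C S a5r hγ q.2.2.2⟩
  rcases p2 (ι ng) ⟨(H _ a1r).symm C, (H _ a2r).symm C, (H _ a3r).symm C, (H _ a5r).symm C⟩ with rfl | a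
  · rcases p2 u p4 with rfl | hu
    · exact p6 ((p2 v p5).elim (fun e => e ▸ Commute.refl _) fun e => e.2.2.1)
    rcases p2 v p5 with rfl | hv
    · exact p6 hu.2.2.1.symm
    obtain ⟨γ, hγ, rfl, o⟩ := j u hu p4
    obtain ⟨δ, hδ, rfl, o'⟩ := j v hv p5
    exact p6 (S.comm hγ hδ (((chk_b γ hγ o).2 δ hδ o').elim (c_comm hγ hδ) fun e => by rw [(rf_eq hγ hδ).2 e]))
  obtain ⟨γ, hγ, rfl, o⟩ := j φ (a.symm C) p1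
  have hl := fx.gd (a := mq [1,7] [(2,4),(3,5)]) (by decide +kernel)
  obtain ⟨l, el⟩ : ∃ l : Wp, ((l : GG) : Mat) = mon (mq [1,7] [(2,4),(3,5)]) := ⟨⟨_, hl⟩, μ_val _⟩
  have q : ∀ β ∈ roots, ∀ δ, mon (mq [1,7] [(2,4),(3,5)]) *ᵥ β = δ → ι l * σ β * (ι l)⁻¹ = σ δ :=
    fun β hβ δ e => by rw [S.cj hβ, el, e]
  have q1 := q _ a1r a2 (by decide +kernel)
  have q2 := q _ a2r a1 (by decide +kernel)
  have q3 := q _ a3r a5 (by decide +kernel)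
  have q5 := q _ a5r a3 (by decide +kernel)
  have h1 : mon (mq [1,7] [(2,4),(3,5)]) *ᵥ γ ∈ roots := el ▸ root_W (Wp_le_W l.2) hγ
  have e := p3 (ι l * σ γ * (ι l)⁻¹) ⟨q2 ▸ p1.2.1.cj _, q1 ▸ p1.1.cj _, q5 ▸ p1.2.2.2.cj _, q3 ▸ p1.2.2.1.cj _⟩
    fun x hx => by
      have k : ι l * ((ι l)⁻¹ * x * ι l) * (ι l)⁻¹ = x := by group
      have := (p2 ((ι l)⁻¹ * x * ι l) ⟨Adj.uncj (h := ι l) (by rw [k, q1]; exact hx.2.1),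
        Adj.uncj (h := ι l) (by rw [k, q2]; exact hx.1), Adj.uncj (h := ι l) (by rw [k, q3]; exact hx.2.2.2),
        Adj.uncj (h := ι l) (by rw [k, q5]; exact hx.2.2.1)⟩).elim (fun e => e ▸ Commute.refl _) fun e => e.2.2.1
      have := this.conj (ι l)
      rwa [k] at this
  rw [q γ hγ _ rfl] at e
  have e1 := S.mul h1 hγ
  rw [e, S.mul hγ hγ] at e1
  exact (chk_b γ hγ o).1 ((rf_eq h1 hγ).1 (mul_right_cancel (congrArg Subtype.val (C.inj e1))).symm)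

omit C S H in
/-- No conjugate of `z` other than `z` commutes with `z`. -/
theorem Ctx.no_conj (h : Ctx ι) (g : G) (c : Commute (ι ng) (g * ι ng * g⁻¹)) : g * ι ng * g⁻¹ = ι ng := by
  by_contra e
  refine fin_inner fx h (fun t d => by_contra fun ht => ?_) ⟨isConj_cj _ _, c.symm, e⟩
  obtain ⟨σ, S, H, -⟩ := (Adj.of_D h d ht).sec h
  exact no_sec h S H

end Cfsg.Lib.Oz.Y
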