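import Mathlib

/-! The Weyl group of type E8 as a group of rational matrices; the monomial subgroup. -/

set_option autoImplicit false

namespace Cfsg.Lib.Oz

open Matrix

abbrev V := Fin 8 → ℚ

abbrev GG := GL (Fin 8) ℚ

/-- `a e_i + b e_j` -/
def dr (i j : Fin 8) (a b : ℚ) : V := fun k => if k = i then a else if k = j then b else 0

/-- the half-integer vector with minus signs at the set bits of `n` -/
def hr (n : ℕ) : V := fun k => if n.testBit k then -1 / 2 else 1 / 2

/-- the 240 roots -/
def roots : List V :=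
  ((List.finRange 8).flatMap fun i => ((List.finRange 8).filter fun j => i < j).flatMap fun j =>
    [dr i j 1 1, dr i j 1 (-1), dr i j (-1) 1, dr i j (-1) (-1)]) ++
  ((List.range 256).filter fun n => ((List.range 8).filter fun k => n.testBit k).length % 2 = 0).map hr

/-- matrix of the reflection in a vector of norm 2 -/
def rm (v : V) : Matrix (Fin 8) (Fin 8) ℚ := 1 - vecMulVec v v

theorem rm_sq {v : V} (h : v ⬝ᵥ v = 2) : rm v * rm v = 1 := by
  have e : vecMulVec v v * vecMulVec v v = (2 : ℚ) • vecMulVec v v := by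
    rw [vecMulVec_mul_vecMulVec, h]
    ext i j
    simp [vecMulVec_apply]
    ring
  simp only [rm, sub_mul, mul_sub, one_mul, mul_one, e, two_smul]
  abel

/-- the reflection as a unit -/
def rf (v : V) : GG := if h : v ⬝ᵥ v = 2 then ⟨rm v, rm v, rm_sq h, rm_sq h⟩ else 1

theorem rf_val {v : V} (h : v ⬝ᵥ v = 2) : (rf v : Matrix (Fin 8) (Fin 8) ℚ) = rm v := by
  simp [rf, h]

theorem rf_mul_self (v : V) : rf v * rf v = 1 := by
  by_cases h : v ⬝ᵥ v = 2
  · exact Units.ext (by simp [rf_val h, rm_sq h])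
  · simp [rf, h]

theorem root_norm : ∀ v ∈ roots, v ⬝ᵥ v = 2 := by decide +kernel

/-- the Weyl group -/
def W : Subgroup GG := Subgroup.closure {g | ∃ v ∈ roots, g = rf v}

/-- its rotation subgroup -/
def Wp : Subgroup GG := Subgroup.closure {g | ∃ u ∈ roots, ∃ v ∈ roots, g = rf u * rf v}

theorem rf_mem {v : V} (h : v ∈ roots) : rf v ∈ W := Subgroup.subset_closure ⟨v, h, rfl⟩

theorem rf_mul_mem {u v : V} (hu : u ∈ roots) (hv : v ∈ roots) : rf u * rf v ∈ Wp :=
  Subgroup.subset_closure ⟨u, hu, v, hv, rfl⟩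

theorem Wp_le_W : Wp ≤ W := by
  refine (Subgroup.closure_le _).2 ?_
  rintro _ ⟨u, hu, v, hv, rfl⟩
  exact W.mul_mem (rf_mem hu) (rf_mem hv)

/-- signed permutations -/
abbrev MG := (Fin 8 → ℤˣ) ⋊[mulAutArrow] Equiv.Perm (Fin 8)

/-- matrix of a signed permutation -/
def mon (m : MG) : Matrix (Fin 8) (Fin 8) ℚ :=
  fun i j => if i = m.right j then ((m.left i : ℤ) : ℚ) else 0

theorem mon_one : mon 1 = 1 := by
  ext i j
  simp [mon, one_apply]

theorem mon_mul (m n : MG) : mon (m * n) = mon m * mon n := by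
  ext i j
  simp only [mon, mul_apply, SemidirectProduct.mul_left, SemidirectProduct.mul_right, mul_ite, mul_zero,
    Finset.sum_ite_eq', Finset.mem_univ, if_true, Equiv.Perm.mul_apply, ite_mul, zero_mul]
  by_cases h : i = m.right (n.right j)
  · subst h
    have : (mulAutArrow m.right n.left) (m.right (n.right j)) = n.left (n.right j) := by
      change n.left (m.right⁻¹ (m.right (n.right j))) = _
      simp
    simp [this]
  · simp [h]

/-- signed permutations as invertible matrices -/
def μ : MG →* GG := MonoidHom.toHomUnits ⟨⟨mon, mon_one⟩, mon_mul⟩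

theorem μ_val (m : MG) : (μ m : Matrix (Fin 8) (Fin 8) ℚ) = mon m := rfl

/-- signs `-1` at the positions in `l` (applied after the permutation) -/
def mm (l : List (Fin 8)) (σ : Equiv.Perm (Fin 8)) : MG := ⟨fun i => if i ∈ l then -1 else 1, σ⟩

/-- even number of minus signs -/
def Ev (m : MG) : Prop := ∏ i, m.left i = 1

instance (m : MG) : Decidable (Ev m) := inferInstanceAs (Decidable (_ = _))

instance : DecidableEq MG := fun a b =>
  decidable_of_iff (a.left = b.left ∧ a.right = b.right) SemidirectProduct.ext_iff.symm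

/-- the fixed-point-free involution (01)(23)(45)(67) -/
def p4 : Equiv.Perm (Fin 8) := Equiv.swap 0 1 * Equiv.swap 2 3 * Equiv.swap 4 5 * Equiv.swap 6 7

def mN : MG := mm [0, 1, 2, 3, 4, 5, 6, 7] 1
def mS : MG := mm [] (Equiv.swap 0 1)
def mX : MG := mm [0, 1] 1
def mC : MG := mm [2, 3] (Equiv.swap 0 1)
def mA : MG := mm [0, 1, 2, 3] 1
def mE : MG := mm [6, 7] p4
def mJ : MG := mm [0, 2, 4, 6] p4
def mJ' : MG := mm [1, 2, 4, 6] p4

/-- representatives of the elements with square `±1` -/
def reps : List MG := [1, mN, mS, mN * mS, mX, mN * mX, mC, mN * mC, mA, mE, mJ, mJ']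

theorem μ_mN : μ mN = -1 := Units.ext (by
  rw [μ_val]
  decide +kernel)

example : ∀ m ∈ reps, Ev m ∧ (m * m = 1 ∨ m * m = mN) := by decide +kernel

example : mJ' = mS * mJ * mS := by decide +kernel

example : roots.length = 240 := by decide +kernel

end Cfsg.Lib.Oz
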