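import Cfsg.Agent.Lib.Linear.Oz0

/-! Basic facts on the Weyl group of type E8. -/

set_option autoImplicit false

namespace Cfsg.Lib.Oz

open Matrix

variable {g : GG} {v : V} {m : MG}

theorem det_rm (h : v ⬝ᵥ v = 2) : det (rm v) = -1 := by
  have e : rm v = 1 + replicateCol Unit (-v) * replicateRow Unit v := by
    rw [← vecMulVec_eq]
    ext i j
    simp [rm, vecMulVec_apply, sub_eq_add_neg]
  rw [e, det_one_add_replicateCol_mul_replicateRow, dotProduct_neg, h]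
  norm_num

theorem det_rf (h : v ∈ roots) : det (rf v : Matrix (Fin 8) (Fin 8) ℚ) = -1 := by
  rw [rf_val (root_norm v h), det_rm (root_norm v h)]

theorem rf_inv (v : V) : (rf v)⁻¹ = rf v := inv_eq_of_mul_eq_one_right (rf_mul_self v)

/-- induction over words in the reflections -/
theorem W_ind {P : GG → Prop} (h1 : P 1) (h2 : ∀ v ∈ roots, ∀ g ∈ W, P g → P (rf v * g)) (hg : g ∈ W) : P g := by
  induction hg using Subgroup.closure_induction_left with
  | one => exact h1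
  | mul_left x hx y hy ih => obtain ⟨v, hv, rfl⟩ := hx; exact h2 v hv y hy ih
  | inv_mul_cancel x hx y hy ih => obtain ⟨v, hv, rfl⟩ := hx; rw [rf_inv]; exact h2 v hv y hy ih

theorem par_W (hg : g ∈ W) : (g ∈ Wp ∧ det (g : Matrix (Fin 8) (Fin 8) ℚ) = 1) ∨
    ((∀ v ∈ roots, rf v * g ∈ Wp) ∧ det (g : Matrix (Fin 8) (Fin 8) ℚ) = -1) := by
  refine W_ind (P := fun g => (g ∈ Wp ∧ det (g : Matrix (Fin 8) (Fin 8) ℚ) = 1) ∨
    ((∀ v ∈ roots, rf v * g ∈ Wp) ∧ det (g : Matrix (Fin 8) (Fin 8) ℚ) = -1)) (.inl ⟨one_mem _, by simp⟩) ?_ hg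
  rintro u hu g - (⟨h1, h2⟩ | ⟨h1, h2⟩)
  · exact .inr ⟨fun v hv => mul_assoc (rf v) _ _ ▸ Wp.mul_mem (rf_mul_mem hv hu) h1,
      by rw [Units.val_mul, det_mul, det_rf hu, h2]; norm_num⟩
  · exact .inl ⟨h1 u hu, by rw [Units.val_mul, det_mul, det_rf hu, h2]; norm_num⟩

theorem det_W (hg : g ∈ W) :
    det (g : Matrix (Fin 8) (Fin 8) ℚ) = 1 ∨ det (g : Matrix (Fin 8) (Fin 8) ℚ) = -1 :=
  (par_W hg).imp And.right And.right

theorem det_Wp (hg : g ∈ Wp) : det (g : Matrix (Fin 8) (Fin 8) ℚ) = 1 := by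
  induction hg using Subgroup.closure_induction with
  | mem x hx =>
    obtain ⟨u, hu, v, hv, rfl⟩ := hx
    rw [Units.val_mul, det_mul, det_rf hu, det_rf hv]; norm_num
  | one => simp
  | mul x y _ _ hx hy => rw [Units.val_mul, det_mul, hx, hy, one_mul]
  | inv x _ hx =>
    have := congrArg (fun t : GG => det (t : Matrix (Fin 8) (Fin 8) ℚ)) (inv_mul_cancel x)
    simp only [Units.val_mul, det_mul, hx, mul_one, Units.val_one, det_one] at this
    exact this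

theorem mem_Wp : g ∈ Wp ↔ g ∈ W ∧ det (g : Matrix (Fin 8) (Fin 8) ℚ) = 1 :=
  ⟨fun h => ⟨Wp_le_W h, det_Wp h⟩, fun h => ((par_W h.1).resolve_right fun e => by
    have := h.2.symm.trans e.2
    norm_num at this).1⟩

theorem μ_inj : Function.Injective μ := by
  rw [injective_iff_map_eq_one]
  intro m h
  have e : mon m = 1 := congrArg Units.val h
  have h1 : ∀ j, m.right j = j := fun j => by
    by_contra n
    have := congrFun (congrFun e (m.right j)) j
    simp [mon, one_apply, n] at this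
  refine SemidirectProduct.ext (funext fun j => ?_) (Equiv.ext h1)
  have := congrFun (congrFun e j) j
  simpa [mon, h1] using this

theorem dr_mem : ∀ i j : Fin 8, i ≠ j → ∀ a ∈ [(1 : ℚ), -1], ∀ b ∈ [(1 : ℚ), -1], dr i j a b ∈ roots := by
  decide +kernel

theorem μ_swap {i j : Fin 8} (h : i ≠ j) : μ (SemidirectProduct.inr (Equiv.swap i j)) = rf (dr i j 1 (-1)) :=
  Units.ext (by
    rw [μ_val, rf_val (root_norm _ (dr_mem i j h _ (by simp) _ (by simp)))]
    revert i j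
    decide +kernel)

theorem μ_inr (σ : Equiv.Perm (Fin 8)) : μ (SemidirectProduct.inr σ) ∈ W ∧
    det (μ (SemidirectProduct.inr σ) : Matrix (Fin 8) (Fin 8) ℚ) = ((Equiv.Perm.sign σ : ℤ) : ℚ) := by
  induction σ using Equiv.Perm.swap_induction_on with
  | one => simp
  | swap_mul f x y h ih =>
    have hr := dr_mem x y h 1 (by simp) (-1) (by simp)
    rw [map_mul, map_mul, μ_swap h]
    exact ⟨W.mul_mem (rf_mem hr) ih.1, by
      rw [Units.val_mul, det_mul, det_rf hr, ih.2, map_mul, Equiv.Perm.sign_swap h]; simp⟩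

/-- the sign change at `0` and `i` -/
def pr (i : Fin 8) : Fin 8 → ℤˣ := fun k => if (k = i) = (k = 0) then 1 else -1

theorem μ_pr (i : Fin 8) : μ (SemidirectProduct.inl (pr i)) ∈ Wp := by
  by_cases h : 0 = i
  · have : pr i = 1 := by subst h; decide
    rw [this, map_one, map_one]
    exact one_mem _
  · have h1 := dr_mem 0 i h 1 (by simp) 1 (by simp)
    have h2 := dr_mem 0 i h 1 (by simp) (-1) (by simp)
    have : μ (SemidirectProduct.inl (pr i)) = rf (dr 0 i 1 1) * rf (dr 0 i 1 (-1)) := Units.ext (by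
      rw [μ_val, Units.val_mul, rf_val (root_norm _ h1), rf_val (root_norm _ h2)]
      clear h1 h2
      revert i
      decide +kernel)
    exact this ▸ rf_mul_mem h1 h2

theorem μ_inl {f : Fin 8 → ℤˣ} (h : ∏ i, f i = 1) : μ (SemidirectProduct.inl f) ∈ Wp := by
  have e : f = ∏ i, if f i = 1 then 1 else pr i := by
    revert f
    decide +kernel
  have : f ∈ Wp.comap (μ.comp SemidirectProduct.inl) := by
    rw [e]
    refine prod_mem fun i _ => ?_
    split_ifs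
    · exact one_mem _
    · exact μ_pr i
  exact this

theorem μ_mem_W (h : Ev m) : μ m ∈ W := by
  rw [← SemidirectProduct.inl_left_mul_inr_right m, map_mul]
  exact W.mul_mem (Wp_le_W (μ_inl h)) (μ_inr _).1

theorem μ_mem_Wp (h : Ev m) (hs : Equiv.Perm.sign m.right = 1) : μ m ∈ Wp := by
  rw [← SemidirectProduct.inl_left_mul_inr_right m, map_mul]
  exact Wp.mul_mem (μ_inl h) (mem_Wp.2 ⟨(μ_inr _).1, by rw [(μ_inr _).2, hs]; simp⟩)

theorem rm_T (v : V) : (rm v)ᵀ = rm v := by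
  simp [rm, transpose_vecMulVec]

theorem T_mul (hg : g ∈ W) : (g : Matrix (Fin 8) (Fin 8) ℚ)ᵀ * g = 1 := by
  refine W_ind (P := fun g => (g : Matrix (Fin 8) (Fin 8) ℚ)ᵀ * g = 1) (by simp) ?_ hg
  intro v hv g _ h
  rw [Units.val_mul, rf_val (root_norm v hv), transpose_mul, rm_T, mul_assoc, ← mul_assoc (rm v),
    rm_sq (root_norm v hv), one_mul, h]

theorem inv_val (hg : g ∈ W) : ((g⁻¹ : GG) : Matrix (Fin 8) (Fin 8) ℚ) = (g : Matrix (Fin 8) (Fin 8) ℚ)ᵀ := by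
  rw [← one_mul ((g⁻¹ : GG) : Matrix (Fin 8) (Fin 8) ℚ), ← T_mul hg, mul_assoc, Units.mul_inv, mul_one]

theorem orth_W (hg : g ∈ W) (u v : V) :
    ((g : Matrix (Fin 8) (Fin 8) ℚ) *ᵥ u) ⬝ᵥ ((g : Matrix (Fin 8) (Fin 8) ℚ) *ᵥ v) = u ⬝ᵥ v := by
  rw [dotProduct_mulVec, vecMul_mulVec, T_mul hg, vecMul_one]

theorem rm_mulVec (u v : V) : rm u *ᵥ v = v - (u ⬝ᵥ v) • u := by
  ext i
  simp [rm, sub_mulVec, mulVec, dotProduct, vecMulVec_apply, one_apply, sub_mul, Finset.sum_sub_distrib,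
    Finset.mul_sum, Finset.sum_mul]
  exact Finset.sum_congr rfl fun j _ => by ring

/-- the root lattice -/
def Lat (v : V) : Prop := ∃ (p k : ℤ) (a : Fin 8 → ℤ), (∀ i, v i = a i + p / 2) ∧ ∑ i, v i = 2 * k

theorem lat_root (h : v ∈ roots) : Lat v := by
  have : ∀ v ∈ roots, (2 * v 0).den = 1 ∧ ((∑ i, v i) / 2).den = 1 ∧ ∀ i, (v i - v 0).den = 1 := by
    decide +kernel
  obtain ⟨h1, h2, h3⟩ := this v h
  refine ⟨(2 * v 0).num, ((∑ i, v i) / 2).num, fun i => (v i - v 0).num, fun i => ?_, ?_⟩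
  · rw [Rat.coe_int_num_of_den_eq_one h1, Rat.coe_int_num_of_den_eq_one (h3 i)]; ring
  · rw [Rat.coe_int_num_of_den_eq_one h2]; ring

theorem Lat.dot {u v : V} (hu : Lat u) (hv : Lat v) : ∃ n : ℤ, u ⬝ᵥ v = n := by
  obtain ⟨p, k, a, h1, h2⟩ := hu
  obtain ⟨q, l, b, h3, h4⟩ := hv
  refine ⟨∑ i, a i * b i + q * k + p * l - 2 * p * q, ?_⟩
  simp only [dotProduct, Fin.sum_univ_eight, h1, h3] at h2 h4 ⊢
  push_cast
  linear_combination ((q : ℚ) / 2) * h2 + ((p : ℚ) / 2) * h4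

theorem Lat.sub {u v : V} (hu : Lat u) (hv : Lat v) (n : ℤ) : Lat (v - (n : ℚ) • u) := by
  obtain ⟨p, k, a, h1, h2⟩ := hu
  obtain ⟨q, l, b, h3, h4⟩ := hv
  refine ⟨q - n * p, l - n * k, fun i => b i - n * a i, fun i => ?_, ?_⟩
  · simp only [Pi.sub_apply, Pi.smul_apply, smul_eq_mul, h1, h3]; push_cast; ring
  · simp only [Pi.sub_apply, Pi.smul_apply, smul_eq_mul, Finset.sum_sub_distrib, ← Finset.mul_sum, h2, h4]
    push_cast; ring

theorem enum0 : ∀ a ∈ [(-2 : ℤ), 0, 2], ∀ b ∈ [(-2 : ℤ), 0, 2], ∀ c ∈ [(-2 : ℤ), 0, 2], ∀ d ∈ [(-2 : ℤ), 0, 2],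
    ∀ e ∈ [(-2 : ℤ), 0, 2], ∀ f ∈ [(-2 : ℤ), 0, 2], ∀ g ∈ [(-2 : ℤ), 0, 2], ∀ h ∈ [(-2 : ℤ), 0, 2],
    a * a + b * b + c * c + d * d + e * e + f * f + g * g + h * h = 8 →
      (fun i => ((![a, b, c, d, e, f, g, h] i : ℤ) : ℚ) / 2) ∈ roots := by
  decide +kernel

theorem enum1 : ∀ a ∈ [(-1 : ℤ), 1], ∀ b ∈ [(-1 : ℤ), 1], ∀ c ∈ [(-1 : ℤ), 1], ∀ d ∈ [(-1 : ℤ), 1],
    ∀ e ∈ [(-1 : ℤ), 1], ∀ f ∈ [(-1 : ℤ), 1], ∀ g ∈ [(-1 : ℤ), 1], ∀ h ∈ [(-1 : ℤ), 1],
    (a + b + c + d + e + f + g + h) % 4 = 0 →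
      (fun i => ((![a, b, c, d, e, f, g, h] i : ℤ) : ℚ) / 2) ∈ roots := by
  decide +kernel

theorem Lat.root (h : Lat v) (hn : v ⬝ᵥ v = 2) : v ∈ roots := by
  obtain ⟨p, k, a, h1, h2⟩ := h
  obtain ⟨w, hw⟩ : ∃ w : Fin 8 → ℤ, ∀ i, w i = 2 * a i + p := ⟨_, fun _ => rfl⟩
  have e : v = fun i => ((![w 0, w 1, w 2, w 3, w 4, w 5, w 6, w 7] i : ℤ) : ℚ) / 2 := by
    have : ![w 0, w 1, w 2, w 3, w 4, w 5, w 6, w 7] = w := by
      ext i; fin_cases i <;> rfl
    ext i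
    rw [this, h1, hw]; push_cast; ring
  have n8 : ∑ i, w i * w i = 8 := by
    have : ((∑ i, w i * w i : ℤ) : ℚ) = 8 := by
      simp only [dotProduct, Fin.sum_univ_eight, h1] at hn ⊢
      simp only [hw]
      push_cast
      linear_combination 4 * hn
    exact_mod_cast this
  have s4 : ∑ i, w i = 4 * k := by
    have : ((∑ i, w i : ℤ) : ℚ) = 4 * k := by
      simp only [Fin.sum_univ_eight, h1] at h2 ⊢
      simp only [hw]
      push_cast
      linear_combination 2 * h2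
    exact_mod_cast this
  have bd : ∀ i, -3 < w i ∧ w i < 3 := fun i => by
    have := Finset.single_le_sum (f := fun i => w i * w i) (fun i _ => mul_self_nonneg _) (Finset.mem_univ i)
    rw [n8] at this
    constructor <;> nlinarith
  rw [Fin.sum_univ_eight] at n8 s4
  rw [e]
  rcases Int.emod_two_eq_zero_or_one p with hp | hp
  · have m : ∀ i, w i ∈ [(-2 : ℤ), 0, 2] := fun i => by
      have := bd i
      have := hw i
      simp only [List.mem_cons, List.not_mem_nil]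
      omega
    exact enum0 _ (m 0) _ (m 1) _ (m 2) _ (m 3) _ (m 4) _ (m 5) _ (m 6) _ (m 7) n8
  · have m : ∀ i, w i ∈ [(-1 : ℤ), 1] := fun i => by
      have := bd i
      have := hw i
      simp only [List.mem_cons, List.not_mem_nil]
      omega
    exact enum1 _ (m 0) _ (m 1) _ (m 2) _ (m 3) _ (m 4) _ (m 5) _ (m 6) _ (m 7) (by omega)

theorem root_rf {u : V} (hu : u ∈ roots) (hv : v ∈ roots) : (rf u : Matrix (Fin 8) (Fin 8) ℚ) *ᵥ v ∈ roots := by
  refine Lat.root ?_ (by rw [orth_W (rf_mem hu), root_norm v hv])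
  obtain ⟨n, hn⟩ := (lat_root hu).dot (lat_root hv)
  rw [rf_val (root_norm u hu), rm_mulVec, hn]
  exact (lat_root hu).sub (lat_root hv) n

theorem root_W (hg : g ∈ W) (hv : v ∈ roots) : (g : Matrix (Fin 8) (Fin 8) ℚ) *ᵥ v ∈ roots := by
  refine W_ind (P := fun g => (g : Matrix (Fin 8) (Fin 8) ℚ) *ᵥ v ∈ roots) (by simpa using hv) ?_ hg
  intro u hu g _ h
  rw [Units.val_mul, ← mulVec_mulVec]
  exact root_rf hu h

theorem conj_rf (hg : g ∈ W) (hv : v ∈ roots) : g * rf v * g⁻¹ = rf ((g : Matrix (Fin 8) (Fin 8) ℚ) *ᵥ v) :=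
  Units.ext (by
    rw [Units.val_mul, Units.val_mul, rf_val (root_norm v hv), rf_val (root_norm _ (root_W hg hv)), rm, rm,
      mul_sub, sub_mul, mul_one, Units.mul_inv, inv_val hg, mul_vecMulVec, vecMulVec_mul, vecMul_transpose])

theorem mul_mon (A : Matrix (Fin 8) (Fin 8) ℚ) (m : MG) (i j : Fin 8) :
    (A * mon m) i j = A i (m.right j) * ((m.left (m.right j) : ℤ) : ℚ) := by
  simp [mul_apply, mon]

theorem mon_mul' (A : Matrix (Fin 8) (Fin 8) ℚ) (m : MG) (i j : Fin 8) :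
    (mon m * A) (m.right i) j = ((m.left (m.right i) : ℤ) : ℚ) * A i j := by
  simp [mul_apply, mon]

theorem cent_Wp (hg : g ∈ W) (h : ∀ y ∈ Wp, g * y = y * g) : g = 1 ∨ g = -1 := by
  have key : ∀ m : MG, Ev m → Equiv.Perm.sign m.right = 1 → ∀ i j,
      (g : Matrix (Fin 8) (Fin 8) ℚ) (m.right i) (m.right j) * ((m.left (m.right j) : ℤ) : ℚ) =
        ((m.left (m.right i) : ℤ) : ℚ) * (g : Matrix (Fin 8) (Fin 8) ℚ) i j := fun m h1 h2 i j => by
    have := congrArg (fun t : GG => (t : Matrix (Fin 8) (Fin 8) ℚ) (m.right i) j) (h _ (μ_mem_Wp h1 h2))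
    simpa only [Units.val_mul, μ_val, mul_mon, mon_mul'] using this
  have off : ∀ i j, i ≠ j → (g : Matrix (Fin 8) (Fin 8) ℚ) i j = 0 := fun i j n => by
    obtain ⟨k, k1, k2, k3⟩ : ∃ k, Ev (mm [i, k] 1) ∧ (mm [i, k] 1).left i = -1 ∧ (mm [i, k] 1).left j = 1 := by
      revert i j
      decide +kernel
    have := key _ k1 (map_one _) i j
    change (g : Matrix (Fin 8) (Fin 8) ℚ) i j * (((mm [i, k] 1).left j : ℤ) : ℚ) =
      (((mm [i, k] 1).left i : ℤ) : ℚ) * _ at this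
    rw [k2, k3] at this
    push_cast at this
    linarith
  have dg : ∀ i, (g : Matrix (Fin 8) (Fin 8) ℚ) i i = (g : Matrix (Fin 8) (Fin 8) ℚ) 0 0 := fun i => by
    obtain ⟨k, k1, k2⟩ : ∃ k, Equiv.Perm.sign (Equiv.swap k i * Equiv.swap 0 k) = 1 ∧
        (Equiv.swap k i * Equiv.swap 0 k) 0 = i := by
      revert i
      decide +kernel
    have := key (SemidirectProduct.inr _) (by simp [Ev]) k1 0 0
    simpa [k2] using this
  have e : (g : Matrix (Fin 8) (Fin 8) ℚ) = (g : Matrix (Fin 8) (Fin 8) ℚ) 0 0 • 1 := by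
    ext i j
    by_cases n : i = j
    · subst n; simp [dg i]
    · simp [off i j n, one_apply, n]
  have sq := congrFun (congrFun (T_mul hg) 0) 0
  rw [e] at sq
  simp at sq
  rcases mul_self_eq_one_iff.1 sq with c | c
  · exact .inl (Units.ext (by rw [e, c]; simp))
  · exact .inr (Units.ext (by rw [e, c]; simp))

end Cfsg.Lib.Oz
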