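import Cfsg.Agent.Lib.Linear.OzB

/-! Elements of the monomial group with square `±1` are conjugate to one of the representatives. -/

set_option autoImplicit false
set_option maxRecDepth 100000

namespace Cfsg.Lib.Oz

open Matrix Equiv

def pl (l : List (Fin 8 × Fin 8)) : Perm (Fin 8) := (l.map fun p => swap p.1 p.2).prod

def sg (n : ℕ) : Fin 8 → ℤˣ := fun i => if n.testBit i then -1 else 1

def mk' (n : ℕ) (l : List (Fin 8 × Fin 8)) : MG := ⟨sg n, pl l⟩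

theorem sign_pl {l : List (Fin 8 × Fin 8)} (h : ∀ p ∈ l, p.1 ≠ p.2) (he : l.length % 2 = 0) : Perm.sign (pl l) = 1 := by
  rw [pl, Perm.sign_prod_list_swap, List.length_map, Even.neg_one_pow (Nat.even_iff.2 he)]
  intro g hg
  obtain ⟨p, hp, rfl⟩ := List.mem_map.1 hg
  exact ⟨p.1, p.2, h p hp, rfl⟩

/-- conjugate under `Wp` to a representative -/
def RR (m : MG) : Prop := ∃ c ∈ Wp, ∃ r ∈ reps, c * μ m * c⁻¹ = μ r

theorem RR.conj {t m m' : MG} (ht : Ev t) (hs : Perm.sign t.right = 1) (e : t * m = m' * t) (h : RR m') : RR m := by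
  obtain ⟨c, hc, r, hr, h⟩ := h
  refine ⟨c * μ t, mul_mem hc (μ_mem_Wp ht hs), r, hr, ?_⟩
  rw [← h, mul_assoc c, ← map_mul, e, map_mul]; group

theorem RR.of_rf {m r : MG} {u v : V} (hu : u ∈ roots) (hv : v ∈ roots) (hr : r ∈ reps)
    (e : rm u * rm v * mon m = mon r * (rm u * rm v)) : RR m := by
  refine ⟨rf u * rf v, rf_mul_mem hu hv, r, hr, ?_⟩
  rw [mul_inv_eq_iff_eq_mul]
  refine Units.ext ?_
  simp only [Units.val_mul, rf_val (root_norm u hu), rf_val (root_norm v hv), μ_val]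
  exact e

def xs : List MG := [mk' 12 [(0, 1), (2, 3)], mk' 48 [(0, 1), (2, 3)], mk' 243 [(0, 1), (2, 3)], mk' 192 [(0, 1), (2, 3), (6, 7)], mk' 63 [(0, 1), (2, 3), (6, 7)], mk' 240 [(0, 1), (2, 3), (4, 5), (6, 7)]]

theorem c_h0 : hr 0 ∈ roots ∧ hr 15 ∈ roots ∧ hr 51 ∈ roots := by decide +kernel

theorem c_x0 : RR (mk' 12 [(0, 1), (2, 3)]) :=
  RR.of_rf (r := mX) c_h0.1 c_h0.2.1 (by simp [reps]) (by decide +kernel)

theorem c_x1 : RR (mk' 48 [(0, 1), (2, 3)]) :=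
  RR.of_rf (r := mE) c_h0.1 c_h0.2.1 (by simp [reps]) (by decide +kernel)

theorem c_x2 : RR (mk' 243 [(0, 1), (2, 3)]) :=
  RR.of_rf (r := mN * mX) c_h0.1 c_h0.2.1 (by simp [reps]) (by decide +kernel)

theorem c_x3 : RR (mk' 192 [(0, 1), (2, 3), (6, 7)]) :=
  RR.of_rf (r := mC) c_h0.1 c_h0.2.2 (by simp [reps]) (by decide +kernel)

theorem c_x4 : RR (mk' 63 [(0, 1), (2, 3), (6, 7)]) :=
  RR.of_rf (r := mN * mC) c_h0.1 c_h0.2.2 (by simp [reps]) (by decide +kernel)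

theorem c_x5 : RR (mk' 240 [(0, 1), (2, 3), (4, 5), (6, 7)]) :=
  RR.of_rf (r := mA) c_h0.1 c_h0.2.2 (by simp [reps]) (by decide +kernel)

theorem c_tg : ∀ m ∈ reps ++ xs, RR m := by
  intro m hm
  rcases List.mem_append.1 hm with h | h
  · exact ⟨1, one_mem _, m, h, by simp⟩
  · simp only [xs, List.mem_cons, List.not_mem_nil, or_false] at h
    rcases h with rfl | rfl | rfl | rfl | rfl | rfl
    exacts [c_x0, c_x1, c_x2, c_x3, c_x4, c_x5]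

def Chk (π : Perm (Fin 8)) (C : List (ℕ × ℕ × List (Fin 8 × Fin 8) × ℕ)) : Prop :=
  (∀ c ∈ C, Ev (mk' c.2.1 c.2.2.1) ∧ (∀ p ∈ c.2.2.1, p.1 ≠ p.2) ∧ c.2.2.1.length % 2 = 0 ∧ c.2.2.2 < 18 ∧
    mk' c.2.1 c.2.2.1 * ⟨sg c.1, π⟩ = (reps ++ xs).getD c.2.2.2 1 * mk' c.2.1 c.2.2.1) ∧
  ∀ n ∈ List.range 256, Ev ⟨sg n, π⟩ → ((⟨sg n, π⟩ : MG) * ⟨sg n, π⟩ = 1 ∨ (⟨sg n, π⟩ : MG) * ⟨sg n, π⟩ = mN) →
    n ∈ C.map (·.1)

instance (π : Perm (Fin 8)) (C : List (ℕ × ℕ × List (Fin 8 × Fin 8) × ℕ)) : Decidable (Chk π C) := by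
  unfold Chk; infer_instance

theorem c_sg : ∀ a b c d e f g h : ℤˣ, ∃ n ∈ List.range 256, ![a, b, c, d, e, f, g, h] = sg n := by
  decide +kernel

theorem Chk.rr {π : Perm (Fin 8)} {C : List (ℕ × ℕ × List (Fin 8 × Fin 8) × ℕ)} (h : Chk π C) {m : MG}
    (hm : m.right = π) (he : Ev m) (h2 : m * m = 1 ∨ m * m = mN) : RR m := by
  obtain ⟨n, hn, e⟩ := c_sg (m.left 0) (m.left 1) (m.left 2) (m.left 3) (m.left 4) (m.left 5) (m.left 6) (m.left 7)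
  obtain rfl : m = ⟨sg n, π⟩ := by
    refine SemidirectProduct.ext ?_ hm
    show m.left = sg n
    rw [← e]; funext i; fin_cases i <;> rfl
  obtain ⟨c, hc, rfl⟩ := List.mem_map.1 (h.2 n hn he h2)
  obtain ⟨h1, h3, h4, h5, h6⟩ := h.1 c hc
  refine RR.conj h1 (sign_pl h3 h4) h6 (c_tg _ ?_)
  rw [List.getD_eq_getElem _ _ (by simpa [reps, xs] using h5)]
  exact List.getElem_mem _

def C0 : List (ℕ × ℕ × List (Fin 8 × Fin 8) × ℕ) := [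
  (0, 0, [], 0), (3, 0, [], 4), (5, 0, [(0, 1), (1, 2)], 4), (6, 0, [(0, 2), (1, 2)], 4), 
  (9, 0, [(0, 1), (1, 3)], 4), (10, 0, [(0, 3), (1, 3)], 4), (12, 0, [(0, 2), (1, 3)], 4), (15, 0, [], 8), 
  (17, 0, [(0, 1), (1, 4)], 4), (18, 0, [(0, 4), (1, 4)], 4), (20, 0, [(0, 2), (1, 4)], 4), 
  (23, 0, [(0, 2), (1, 3), (2, 3), (3, 4)], 8), (24, 0, [(0, 3), (1, 4)], 4), (27, 0, [(0, 2), (2, 4)], 8), 
  (29, 0, [(0, 1), (1, 4)], 8), (30, 0, [(0, 4), (1, 2)], 8), (33, 0, [(0, 1), (1, 5)], 4), 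
  (34, 0, [(0, 5), (1, 5)], 4), (36, 0, [(0, 2), (1, 5)], 4), (39, 0, [(0, 2), (1, 3), (2, 3), (3, 5)], 8), 
  (40, 0, [(0, 3), (1, 5)], 4), (43, 0, [(0, 2), (2, 5)], 8), (45, 0, [(0, 1), (1, 5)], 8), 
  (46, 0, [(0, 5), (1, 2)], 8), (48, 0, [(0, 4), (1, 5)], 4), (51, 0, [(0, 2), (1, 3), (2, 4), (3, 5)], 8), 
  (53, 0, [(0, 3), (1, 5), (2, 5), (3, 4)], 8), (54, 0, [(0, 5), (1, 3), (3, 4), (4, 5)], 8), 
  (57, 0, [(0, 1), (1, 5), (2, 4), (4, 5)], 8), (58, 0, [(0, 5), (1, 2), (2, 4), (4, 5)], 8), 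
  (60, 0, [(0, 4), (1, 5)], 8), (63, 0, [(0, 6), (1, 7)], 5), (65, 0, [(0, 1), (1, 6)], 4), 
  (66, 0, [(0, 6), (1, 6)], 4), (68, 0, [(0, 2), (1, 6)], 4), (71, 0, [(0, 2), (1, 3), (2, 3), (3, 6)], 8), 
  (72, 0, [(0, 3), (1, 6)], 4), (75, 0, [(0, 2), (2, 6)], 8), (77, 0, [(0, 1), (1, 6)], 8), 
  (78, 0, [(0, 6), (1, 2)], 8), (80, 0, [(0, 4), (1, 6)], 4), (83, 0, [(0, 2), (1, 3), (2, 4), (3, 6)], 8), 
  (85, 0, [(0, 3), (1, 6), (2, 6), (3, 4)], 8), (86, 0, [(0, 6), (1, 3), (3, 4), (4, 6)], 8), 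
  (89, 0, [(0, 1), (1, 6), (2, 4), (4, 6)], 8), (90, 0, [(0, 6), (1, 2), (2, 4), (4, 6)], 8), 
  (92, 0, [(0, 4), (1, 6)], 8), (95, 0, [(0, 5), (1, 7)], 5), (96, 0, [(0, 5), (1, 6)], 4), 
  (99, 0, [(0, 2), (1, 3), (2, 5), (3, 6)], 8), (101, 0, [(0, 3), (1, 6), (2, 6), (3, 5)], 8), 
  (102, 0, [(0, 6), (1, 3), (3, 5), (5, 6)], 8), (105, 0, [(0, 1), (1, 6), (2, 5), (5, 6)], 8), 
  (106, 0, [(0, 6), (1, 2), (2, 5), (5, 6)], 8), (108, 0, [(0, 5), (1, 6)], 8), (111, 0, [(0, 4), (1, 7)], 5), 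
  (113, 0, [(0, 3), (1, 6), (2, 4), (3, 5), (4, 5), (5, 6)], 8), 
  (114, 0, [(0, 6), (1, 3), (2, 4), (3, 5), (4, 6), (5, 6)], 8), 
  (116, 0, [(0, 5), (1, 6), (2, 6), (3, 4), (4, 5), (5, 6)], 8), (119, 0, [(0, 3), (1, 7)], 5), 
  (120, 0, [(0, 5), (1, 6), (2, 4), (4, 5)], 8), (123, 0, [(0, 2), (1, 7)], 5), (125, 0, [(0, 7), (1, 7)], 5), 
  (126, 0, [(0, 1), (1, 7)], 5), (129, 0, [(0, 1), (1, 7)], 4), (130, 0, [(0, 7), (1, 7)], 4), 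
  (132, 0, [(0, 2), (1, 7)], 4), (135, 0, [(0, 2), (1, 3), (2, 3), (3, 7)], 8), (136, 0, [(0, 3), (1, 7)], 4), 
  (139, 0, [(0, 2), (2, 7)], 8), (141, 0, [(0, 1), (1, 7)], 8), (142, 0, [(0, 7), (1, 2)], 8), 
  (144, 0, [(0, 4), (1, 7)], 4), (147, 0, [(0, 2), (1, 3), (2, 4), (3, 7)], 8), 
  (149, 0, [(0, 3), (1, 7), (2, 7), (3, 4)], 8), (150, 0, [(0, 7), (1, 3), (3, 4), (4, 7)], 8), 
  (153, 0, [(0, 1), (1, 7), (2, 4), (4, 7)], 8), (154, 0, [(0, 7), (1, 2), (2, 4), (4, 7)], 8), 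
  (156, 0, [(0, 4), (1, 7)], 8), (159, 0, [(0, 5), (1, 6)], 5), (160, 0, [(0, 5), (1, 7)], 4), 
  (163, 0, [(0, 2), (1, 3), (2, 5), (3, 7)], 8), (165, 0, [(0, 3), (1, 7), (2, 7), (3, 5)], 8), 
  (166, 0, [(0, 7), (1, 3), (3, 5), (5, 7)], 8), (169, 0, [(0, 1), (1, 7), (2, 5), (5, 7)], 8), 
  (170, 0, [(0, 7), (1, 2), (2, 5), (5, 7)], 8), (172, 0, [(0, 5), (1, 7)], 8), (175, 0, [(0, 4), (1, 6)], 5), 
  (177, 0, [(0, 3), (1, 7), (2, 4), (3, 5), (4, 5), (5, 7)], 8), 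
  (178, 0, [(0, 7), (1, 3), (2, 4), (3, 5), (4, 7), (5, 7)], 8), 
  (180, 0, [(0, 5), (1, 7), (2, 7), (3, 4), (4, 5), (5, 7)], 8), (183, 0, [(0, 3), (1, 6)], 5), 
  (184, 0, [(0, 5), (1, 7), (2, 4), (4, 5)], 8), (187, 0, [(0, 2), (1, 6)], 5), (189, 0, [(0, 6), (1, 6)], 5), 
  (190, 0, [(0, 1), (1, 6)], 5), (192, 0, [(0, 6), (1, 7)], 4), (195, 0, [(0, 2), (1, 3), (2, 6), (3, 7)], 8), 
  (197, 0, [(0, 3), (1, 7), (2, 7), (3, 6)], 8), (198, 0, [(0, 7), (1, 3), (3, 6), (6, 7)], 8), 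
  (201, 0, [(0, 1), (1, 7), (2, 6), (6, 7)], 8), (202, 0, [(0, 7), (1, 2), (2, 6), (6, 7)], 8), 
  (204, 0, [(0, 6), (1, 7)], 8), (207, 0, [(0, 4), (1, 5)], 5), 
  (209, 0, [(0, 3), (1, 7), (2, 4), (3, 6), (4, 6), (6, 7)], 8), 
  (210, 0, [(0, 7), (1, 3), (2, 4), (3, 6), (4, 7), (6, 7)], 8), 
  (212, 0, [(0, 6), (1, 7), (2, 7), (3, 4), (4, 6), (6, 7)], 8), (215, 0, [(0, 3), (1, 5)], 5), 
  (216, 0, [(0, 6), (1, 7), (2, 4), (4, 6)], 8), (219, 0, [(0, 2), (1, 5)], 5), (221, 0, [(0, 5), (1, 5)], 5), 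
  (222, 0, [(0, 1), (1, 5)], 5), (225, 0, [(0, 3), (1, 7), (2, 5), (3, 6), (5, 6), (6, 7)], 8), 
  (226, 0, [(0, 7), (1, 3), (2, 5), (3, 6), (5, 7), (6, 7)], 8), 
  (228, 0, [(0, 6), (1, 7), (2, 7), (3, 5), (5, 6), (6, 7)], 8), (231, 0, [(0, 3), (1, 4)], 5), 
  (232, 0, [(0, 6), (1, 7), (2, 5), (5, 6)], 8), (235, 0, [(0, 2), (1, 4)], 5), (237, 0, [(0, 4), (1, 4)], 5), 
  (238, 0, [(0, 1), (1, 4)], 5), (240, 0, [(0, 6), (1, 7), (2, 4), (3, 5), (4, 6), (5, 7)], 8), 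
  (243, 0, [(0, 2), (1, 3)], 5), (245, 0, [(0, 3), (1, 3)], 5), (246, 0, [(0, 1), (1, 3)], 5), 
  (249, 0, [(0, 2), (1, 2)], 5), (250, 0, [(0, 1), (1, 2)], 5), (252, 0, [], 5), (255, 0, [], 1)]

theorem c_chk0 : Chk (pl []) C0 := by decide +kernel

def C1 : List (ℕ × ℕ × List (Fin 8 × Fin 8) × ℕ) := [
  (0, 0, [], 2), (3, 6, [], 2), (12, 0, [], 6), (15, 6, [], 6), (20, 0, [(0, 1), (3, 4)], 6), 
  (23, 10, [(0, 1), (3, 4)], 6), (24, 0, [(0, 1), (2, 4)], 6), (27, 6, [(0, 1), (2, 4)], 6), 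
  (36, 0, [(0, 1), (3, 5)], 6), (39, 10, [(0, 1), (3, 5)], 6), (40, 0, [(0, 1), (2, 5)], 6), 
  (43, 6, [(0, 1), (2, 5)], 6), (48, 0, [(2, 4), (3, 5)], 6), (51, 6, [(2, 4), (3, 5)], 6), 
  (60, 6, [(2, 6), (3, 7)], 7), (63, 0, [(2, 6), (3, 7)], 7), (68, 0, [(0, 1), (3, 6)], 6), 
  (71, 10, [(0, 1), (3, 6)], 6), (72, 0, [(0, 1), (2, 6)], 6), (75, 6, [(0, 1), (2, 6)], 6), 
  (80, 0, [(2, 4), (3, 6)], 6), (83, 6, [(2, 4), (3, 6)], 6), (92, 6, [(2, 5), (3, 7)], 7), 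
  (95, 0, [(2, 5), (3, 7)], 7), (96, 0, [(2, 5), (3, 6)], 6), (99, 6, [(2, 5), (3, 6)], 6), 
  (108, 6, [(2, 4), (3, 7)], 7), (111, 0, [(2, 4), (3, 7)], 7), (116, 6, [(0, 1), (2, 7)], 7), 
  (119, 0, [(0, 1), (2, 7)], 7), (120, 10, [(0, 1), (3, 7)], 7), (123, 0, [(0, 1), (3, 7)], 7), 
  (132, 0, [(0, 1), (3, 7)], 6), (135, 10, [(0, 1), (3, 7)], 6), (136, 0, [(0, 1), (2, 7)], 6), 
  (139, 6, [(0, 1), (2, 7)], 6), (144, 0, [(2, 4), (3, 7)], 6), (147, 6, [(2, 4), (3, 7)], 6), 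
  (156, 6, [(2, 5), (3, 6)], 7), (159, 0, [(2, 5), (3, 6)], 7), (160, 0, [(2, 5), (3, 7)], 6), 
  (163, 6, [(2, 5), (3, 7)], 6), (172, 6, [(2, 4), (3, 6)], 7), (175, 0, [(2, 4), (3, 6)], 7), 
  (180, 6, [(0, 1), (2, 6)], 7), (183, 0, [(0, 1), (2, 6)], 7), (184, 10, [(0, 1), (3, 6)], 7), 
  (187, 0, [(0, 1), (3, 6)], 7), (192, 0, [(2, 6), (3, 7)], 6), (195, 6, [(2, 6), (3, 7)], 6), 
  (204, 6, [(2, 4), (3, 5)], 7), (207, 0, [(2, 4), (3, 5)], 7), (212, 6, [(0, 1), (2, 5)], 7), 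
  (215, 0, [(0, 1), (2, 5)], 7), (216, 10, [(0, 1), (3, 5)], 7), (219, 0, [(0, 1), (3, 5)], 7), 
  (228, 6, [(0, 1), (2, 4)], 7), (231, 0, [(0, 1), (2, 4)], 7), (232, 10, [(0, 1), (3, 4)], 7), 
  (235, 0, [(0, 1), (3, 4)], 7), (240, 6, [], 7), (243, 0, [], 7), (252, 6, [], 3), (255, 0, [], 3)]

theorem c_chk1 : Chk (pl [(0, 1)]) C1 := by decide +kernel

def C2 : List (ℕ × ℕ × List (Fin 8 × Fin 8) × ℕ) := [
  (0, 20, [], 12), (3, 0, [(0, 2), (1, 3)], 12), (12, 0, [], 12), (15, 18, [], 12), (48, 0, [], 13), 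
  (51, 18, [], 13), (60, 20, [], 13), (63, 6, [(0, 2), (1, 3)], 13), (80, 0, [(0, 1), (5, 6)], 13), 
  (83, 34, [(0, 1), (5, 6)], 13), (92, 36, [(0, 1), (5, 6)], 13), (95, 6, [(0, 3), (1, 2), (2, 3), (5, 6)], 13), 
  (96, 0, [(0, 1), (4, 6)], 13), (99, 18, [(0, 1), (4, 6)], 13), (108, 20, [(0, 1), (4, 6)], 13), 
  (111, 6, [(0, 3), (1, 2), (2, 3), (4, 6)], 13), (144, 0, [(0, 1), (5, 7)], 13), (147, 34, [(0, 1), (5, 7)], 13), 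
  (156, 36, [(0, 1), (5, 7)], 13), (159, 6, [(0, 3), (1, 2), (2, 3), (5, 7)], 13), (160, 0, [(0, 1), (4, 7)], 13), 
  (163, 18, [(0, 1), (4, 7)], 13), (172, 20, [(0, 1), (4, 7)], 13), (175, 6, [(0, 3), (1, 2), (2, 3), (4, 7)], 13), 
  (192, 0, [(4, 6), (5, 7)], 13), (195, 18, [(4, 6), (5, 7)], 13), (204, 20, [(0, 1), (4, 7), (5, 6), (6, 7)], 13), 
  (207, 6, [(0, 2), (1, 3), (4, 6), (5, 7)], 13), (240, 18, [], 14), (243, 0, [], 14), 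
  (252, 0, [(0, 2), (1, 3)], 14), (255, 20, [], 14)]

theorem c_chk2 : Chk (pl [(0, 1), (2, 3)]) C2 := by decide +kernel

def C3 : List (ℕ × ℕ × List (Fin 8 × Fin 8) × ℕ) := [
  (0, 96, [(0, 6), (1, 7), (4, 6), (5, 7)], 15), (3, 0, [(0, 6), (1, 7), (4, 6), (5, 7)], 15), 
  (12, 0, [(0, 2), (1, 3), (2, 6), (3, 7), (4, 6), (5, 7)], 15), 
  (15, 30, [(0, 6), (1, 7), (2, 6), (3, 7), (4, 6), (5, 7)], 15), (48, 114, [(0, 6), (1, 7), (4, 6), (5, 7)], 15), 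
  (51, 18, [(0, 6), (1, 7), (4, 6), (5, 7)], 15), (60, 18, [(0, 2), (1, 3), (2, 6), (3, 7), (4, 6), (5, 7)], 15), 
  (63, 6, [(0, 6), (1, 7), (2, 6), (3, 7), (4, 6), (5, 7)], 15), 
  (192, 6, [(0, 6), (1, 7), (2, 6), (3, 7), (4, 6), (5, 7)], 16), 
  (195, 18, [(0, 2), (1, 3), (2, 6), (3, 7), (4, 6), (5, 7)], 16), (204, 18, [(0, 6), (1, 7), (4, 6), (5, 7)], 16), 
  (207, 114, [(0, 6), (1, 7), (4, 6), (5, 7)], 16), (240, 30, [(0, 6), (1, 7), (2, 6), (3, 7), (4, 6), (5, 7)], 16), 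
  (243, 0, [(0, 2), (1, 3), (2, 6), (3, 7), (4, 6), (5, 7)], 16), (252, 0, [(0, 6), (1, 7), (4, 6), (5, 7)], 16), 
  (255, 96, [(0, 6), (1, 7), (4, 6), (5, 7)], 16)]

theorem c_chk3 : Chk (pl [(0, 1), (2, 3), (4, 5)]) C3 := by decide +kernel

def C4 : List (ℕ × ℕ × List (Fin 8 × Fin 8) × ℕ) := [
  (0, 96, [(0, 6), (1, 7), (4, 6), (5, 7)], 17), (3, 0, [(0, 6), (1, 7)], 9), 
  (12, 0, [(0, 2), (1, 3), (2, 6), (3, 7)], 9), (15, 0, [(0, 6), (1, 7), (2, 4), (3, 5), (4, 6), (5, 7)], 17), 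
  (48, 0, [(0, 4), (1, 5), (4, 6), (5, 7)], 9), (51, 0, [(0, 6), (1, 7)], 17), 
  (60, 0, [(0, 2), (1, 3), (2, 6), (3, 7)], 17), (63, 6, [(0, 6), (1, 7), (2, 6), (3, 7), (4, 6), (5, 7)], 9), 
  (85, 0, [], 10), (86, 0, [], 11), (89, 0, [(0, 2), (1, 3)], 11), (90, 0, [(0, 3), (1, 2)], 10), 
  (101, 0, [(0, 4), (1, 5)], 11), (102, 0, [(0, 5), (1, 4)], 10), (105, 0, [(0, 4), (1, 5), (2, 5), (3, 4)], 10), 
  (106, 0, [(0, 5), (1, 4), (2, 5), (3, 4)], 11), (149, 0, [(0, 6), (1, 7)], 11), (150, 0, [(0, 7), (1, 6)], 10), 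
  (153, 0, [(0, 6), (1, 7), (2, 7), (3, 6)], 10), (154, 0, [(0, 7), (1, 6), (2, 7), (3, 6)], 11), 
  (165, 0, [(0, 6), (1, 7), (4, 7), (5, 6)], 10), (166, 0, [(0, 7), (1, 6), (4, 7), (5, 6)], 11), 
  (169, 0, [(0, 6), (1, 7), (2, 6), (3, 7), (4, 7), (5, 6)], 11), 
  (170, 0, [(0, 7), (1, 6), (2, 6), (3, 7), (4, 7), (5, 6)], 10), (192, 0, [], 9), (195, 0, [(0, 4), (1, 5)], 17), 
  (204, 0, [(0, 2), (1, 3), (2, 4), (3, 5)], 17), (207, 6, [(0, 2), (1, 3)], 9), (240, 0, [], 17), 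
  (243, 18, [(0, 4), (1, 5)], 9), (252, 6, [(0, 4), (1, 5), (2, 4), (3, 5)], 9), (255, 6, [(0, 2), (1, 3)], 17)]

theorem c_chk4 : Chk (pl [(0, 1), (2, 3), (4, 5), (6, 7)]) C4 := by decide +kernel

theorem Ev.mul {a b : MG} (ha : Ev a) (hb : Ev b) : Ev (a * b) := by
  have : ∀ i, (a * b).left i = a.left i * b.left (a.right⁻¹ i) := fun i => rfl
  unfold Ev at *
  simp only [this, Finset.prod_mul_distrib, ha, one_mul]
  rw [← hb]; exact Equiv.prod_comp a.right⁻¹ b.left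

theorem c_std {π : Perm (Fin 8)} {C : List (ℕ × ℕ × List (Fin 8 × Fin 8) × ℕ)} (h : Chk π C)
    (hp : π * π = 1) (hs : swap 0 1 * π = π * swap 0 1) {m : MG} (hm : m.right.support.card = π.support.card)
    (he : Ev m) (h2 : m * m = 1 ∨ m * m = mN) : RR m := by
  have h3 : m.right ^ 2 = 1 := by
    rw [sq, ← SemidirectProduct.mul_right]; rcases h2 with e | e <;> rw [e] <;> rfl
  have h4 : π ^ 2 = 1 := by rw [sq, hp]
  have e1 := Perm.cycleType_of_pow_prime_eq_one (p := 2) h3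
  have e2 := Perm.cycleType_of_pow_prime_eq_one (p := 2) h4
  have e3 : m.right.cycleType = π.cycleType := by
    rw [← Perm.sum_cycleType, ← Perm.sum_cycleType, e1, e2, Multiset.sum_replicate, Multiset.sum_replicate] at hm
    rw [e1, e2, show Multiset.card m.right.cycleType = Multiset.card π.cycleType by simpa using hm]
  obtain ⟨σ, hσ⟩ := isConj_iff.1 (Perm.isConj_iff_cycleType_eq.2 e3)
  obtain ⟨τ, hτ, h5⟩ : ∃ τ : Perm (Fin 8), τ * m.right * τ⁻¹ = π ∧ Perm.sign τ = 1 := by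
    rcases Int.units_eq_one_or (Perm.sign σ) with e | e
    · exact ⟨σ, hσ, e⟩
    · refine ⟨swap 0 1 * σ, ?_, by simp [e]⟩
      calc swap 0 1 * σ * m.right * (swap 0 1 * σ)⁻¹ = swap 0 1 * (σ * m.right * σ⁻¹) * (swap 0 1)⁻¹ := by group
        _ = π := by rw [hσ, hs, mul_inv_cancel_right]
  have ev : ∀ ρ : Perm (Fin 8), Ev (SemidirectProduct.inr ρ) := fun ρ => by simp [Ev]
  have cN : ∀ t : MG, t * mN = mN * t := fun t => μ_inj (by simp [μ_mN])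
  refine RR.conj (t := SemidirectProduct.inr τ) (m' := SemidirectProduct.inr τ * m * SemidirectProduct.inr τ⁻¹)
    (ev τ) h5 (by rw [map_inv, inv_mul_cancel_right]) (h.rr hτ (((ev τ).mul he).mul (ev _)) ?_)
  rw [map_inv, conj_mul]
  rcases h2 with e | e
  · left; simp [e]
  · right; rw [e, cN, mul_inv_cancel_right]

theorem classify_mon {m : MG} (he : Ev m) (h2 : m * m = 1 ∨ m * m = mN) : RR m := by
  have h3 : m.right ^ 2 = 1 := by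
    rw [sq, ← SemidirectProduct.mul_right]; rcases h2 with e | e <;> rw [e] <;> rfl
  have e1 := Perm.cycleType_of_pow_prime_eq_one (p := 2) h3
  have e2 : m.right.support.card = Multiset.card m.right.cycleType * 2 := by
    rw [← Perm.sum_cycleType, e1, Multiset.sum_replicate]; simp
  have e3 : m.right.support.card ≤ 8 := (Finset.card_le_univ _).trans (by simp)
  have : m.right.support.card = 0 ∨ m.right.support.card = 2 ∨ m.right.support.card = 4 ∨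
    m.right.support.card = 6 ∨ m.right.support.card = 8 := by omega
  rcases this with e | e | e | e | e
  · exact c_std c_chk0 (by decide +kernel) (by decide +kernel) (e.trans (by decide +kernel)) he h2
  · exact c_std c_chk1 (by decide +kernel) (by decide +kernel) (e.trans (by decide +kernel)) he h2
  · exact c_std c_chk2 (by decide +kernel) (by decide +kernel) (e.trans (by decide +kernel)) he h2
  · exact c_std c_chk3 (by decide +kernel) (by decide +kernel) (e.trans (by decide +kernel)) he h2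
  · exact c_std c_chk4 (by decide +kernel) (by decide +kernel) (e.trans (by decide +kernel)) he h2

end Cfsg.Lib.Oz
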