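import Cfsg.Agent.Lib.Linear.Oz0

/-! Elements of the Weyl group commuting with `diag(-1,-1,1,..,1)` are monomial (root-preserving form). -/

set_option autoImplicit false

namespace Cfsg.Lib.Oz

open Matrix

theorem ux_int : ∀ r ∈ roots, (r 0 = 0 ∨ r 0 = 1 ∨ r 0 = -1) → ∀ k, r k = 0 ∨ r k = 1 ∨ r k = -1 := by
  decide +kernel

theorem ux_two : ∀ r ∈ roots, (∀ k : Fin 8, k ≠ 0 → k ≠ 1 → r k = 0) →
    (r 0 = 1 ∨ r 0 = -1) ∧ (r 1 = 1 ∨ r 1 = -1) := by
  decide +kernel

theorem ux_ev : ∀ r ∈ roots, (∃ k, r k = 0) ∨ ∏ k, (2 * r k) = 1 := by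
  decide +kernel

theorem ux_dr : ∀ i j : Fin 8, i ≠ j → dr i j 1 1 ∈ roots ∧ dr i j 1 (-1) ∈ roots := by
  decide +kernel

theorem ux_hr : hr 0 ∈ roots := by decide +kernel

theorem ux_mv (u : Matrix (Fin 8) (Fin 8) ℚ) {i j : Fin 8} (h : i ≠ j) (b : ℚ) (k : Fin 8) :
    (u *ᵥ dr i j 1 b) k = u k i + b * u k j := by
  have : dr i j 1 b = Pi.single i 1 + b • Pi.single j 1 := by
    funext l
    by_cases h1 : l = i
    · subst h1; simp [dr, h]
    · by_cases h2 : l = j
      · subst h2; simp [dr, h1]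
      · simp [dr, h1, h2]
  rw [this, mulVec_add, mulVec_smul]
  simp

theorem UX' {u : GG} (hr' : ∀ v ∈ roots, (u : Matrix (Fin 8) (Fin 8) ℚ) *ᵥ v ∈ roots)
    (h : u * μ mX = μ mX * u) : ∃ m, Ev m ∧ u = μ m := by
  set U : Matrix (Fin 8) (Fin 8) ℚ := u.val with hU
  have hc : U * mon mX = mon mX * U := by
    have := congrArg (fun g : GG => (g : Matrix (Fin 8) (Fin 8) ℚ)) h
    simpa [μ_val] using this
  have hd : mon mX = diagonal fun i => if i = 0 ∨ i = 1 then (-1 : ℚ) else 1 := by decide +kernel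
  have hz : ∀ i j : Fin 8, (i = 0 ∨ i = 1) → j ≠ 0 → j ≠ 1 → U i j = 0 ∧ U j i = 0 := by
    intro i j hi h0 h1
    have a := congrFun (congrFun hc i) j
    have b := congrFun (congrFun hc j) i
    rw [hd, mul_diagonal, diagonal_mul] at a b
    simp only [hi, h0, h1, if_true, or_self, if_false] at a b
    constructor <;> linarith
  have rp : ∀ i j : Fin 8, i ≠ j → (fun k => U k i + U k j) ∈ roots ∧ (fun k => U k i - U k j) ∈ roots := by
    intro i j hij
    have a := hr' _ (ux_dr i j hij).1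
    have b := hr' _ (ux_dr i j hij).2
    have e1 : U *ᵥ dr i j 1 1 = fun k => U k i + U k j := by funext k; rw [ux_mv U hij]; ring
    have e2 : U *ᵥ dr i j 1 (-1) = fun k => U k i - U k j := by funext k; rw [ux_mv U hij]; ring
    rw [e1] at a; rw [e2] at b
    exact ⟨a, b⟩
  have nn : ∀ i j : Fin 8, i ≠ j → ∑ k, U k i * U k j = 0 ∧ ∑ k, U k i * U k i + ∑ k, U k j * U k j = 2 := by
    intro i j hij
    have a := root_norm _ (rp i j hij).1
    have b := root_norm _ (rp i j hij).2
    simp only [dotProduct, add_mul, mul_add, sub_mul, mul_sub, Finset.sum_add_distrib, Finset.sum_sub_distrib] at a b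
    have c : ∑ k, U k j * U k i = ∑ k, U k i * U k j := Finset.sum_congr rfl fun k _ => mul_comm _ _
    constructor <;> linarith
  have n1 : ∀ i : Fin 8, ∑ k, U k i * U k i = 1 := by
    intro i
    obtain ⟨j, l, h1, h2, h3⟩ : ∃ j l : Fin 8, i ≠ j ∧ i ≠ l ∧ j ≠ l := by revert i; decide
    have a := (nn i j h1).2
    have b := (nn i l h2).2
    have c := (nn j l h3).2
    linarith
  have t1 := ux_two _ (rp 0 1 (by decide)).1 (fun k h0 h1 => by
    simp [(hz 0 k (Or.inl rfl) h0 h1).2, (hz 1 k (Or.inr rfl) h0 h1).2])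
  have t2 := ux_two _ (rp 0 1 (by decide)).2 (fun k h0 h1 => by
    simp [(hz 0 k (Or.inl rfl) h0 h1).2, (hz 1 k (Or.inr rfl) h0 h1).2])
  have tri : ∀ a b : ℚ, (a + b = 1 ∨ a + b = -1) → (a - b = 1 ∨ a - b = -1) →
      (a = 0 ∨ a = 1 ∨ a = -1) ∧ (b = 0 ∨ b = 1 ∨ b = -1) := by
    intro a b h1 h2
    rcases h1 with h1 | h1 <;> rcases h2 with h2 | h2
    · exact ⟨Or.inr (Or.inl (by linarith)), Or.inl (by linarith)⟩
    · exact ⟨Or.inl (by linarith), Or.inr (Or.inl (by linarith))⟩
    · exact ⟨Or.inl (by linarith), Or.inr (Or.inr (by linarith))⟩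
    · exact ⟨Or.inr (Or.inr (by linarith)), Or.inl (by linarith)⟩
  have s0 := tri _ _ t1.1 t2.1
  have s1 := tri _ _ t1.2 t2.2
  have ent : ∀ k i : Fin 8, U k i = 0 ∨ U k i = 1 ∨ U k i = -1 := by
    intro k i
    by_cases hi : i = 0 ∨ i = 1
    · by_cases hk : k = 0 ∨ k = 1
      · rcases hi with rfl | rfl <;> rcases hk with rfl | rfl
        exacts [s0.1, s1.1, s0.2, s1.2]
      · push Not at hk
        exact Or.inl (hz i k hi hk.1 hk.2).2
    · push Not at hi
      by_cases hk : k = 0 ∨ k = 1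
      · exact Or.inl (hz k i hk hi.1 hi.2).1
      · push Not at hk
        have a := ux_int _ (rp 0 i hi.1.symm).1 (by
          simp only [(hz 0 i (Or.inl rfl) hi.1 hi.2).1, add_zero]; exact s0.1) k
        simpa only [(hz 0 k (Or.inl rfl) hk.1 hk.2).2, zero_add] using a
  have col : ∀ i : Fin 8, ∃ l, (U l i = 1 ∨ U l i = -1) ∧ ∀ k, k ≠ l → U k i = 0 := by
    intro i
    have ex : ∃ l, U l i ≠ 0 := by
      by_contra hh
      push Not at hh
      have := n1 i
      simp [hh] at this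
    obtain ⟨l, hl⟩ := ex
    have hl' : U l i = 1 ∨ U l i = -1 := (ent l i).resolve_left hl
    refine ⟨l, hl', fun k hk => ?_⟩
    have a := n1 i
    rw [← Finset.add_sum_erase _ _ (Finset.mem_univ l)] at a
    have b : U l i * U l i = 1 := by rcases hl' with e | e <;> rw [e] <;> norm_num
    have c : ∑ k ∈ Finset.univ.erase l, U k i * U k i = 0 := by linarith
    rw [Finset.sum_eq_zero_iff_of_nonneg (fun k _ => mul_self_nonneg _)] at c
    exact mul_self_eq_zero.1 (c k (by simp [hk]))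
  choose σ hσ hσ' using col
  have inj : Function.Injective σ := by
    intro i j e
    by_contra hij
    have a := (nn i j hij).1
    rw [Finset.sum_eq_single (σ i) (fun k _ hk => by rw [hσ' i k hk, zero_mul]) (by simp)] at a
    have b := hσ i
    have c := hσ j
    rw [← e] at c
    rcases b with b | b <;> rcases c with c | c <;> rw [b, c] at a <;> norm_num at a
  let p : Equiv.Perm (Fin 8) := Equiv.ofBijective σ (Finite.injective_iff_bijective.1 inj)
  let m : MG := ⟨fun l => if U l (p.symm l) = 1 then 1 else -1, p⟩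
  have hm : U = mon m := by
    ext k i
    by_cases hk : k = σ i
    · subst hk
      have e : p.symm (σ i) = i := p.symm_apply_apply i
      have e' : p i = σ i := rfl
      simp only [mon, m, e, e', if_true]
      rcases hσ i with b | b <;> rw [b] <;> norm_num
    · have e' : p i = σ i := rfl
      simp only [mon, m, e', hk, if_false]
      exact hσ' i k hk
  refine ⟨m, ?_, Units.ext (by rw [μ_val, ← hm])⟩
  have hv : ∀ k, (U *ᵥ hr 0) k = ((m.left k : ℤ) : ℚ) / 2 := by
    intro k
    rw [hm]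
    simp only [mulVec, dotProduct, mon, hr, Nat.zero_testBit, Bool.false_eq_true, if_false, ite_mul, zero_mul]
    rw [Finset.sum_eq_single (m.right.symm k) (fun j _ hj => if_neg fun e => hj (by rw [e]; simp)) (by simp)]
    simp [div_eq_mul_inv]
  rcases ux_ev _ (hr' _ ux_hr) with ⟨k, hk⟩ | hp
  · rw [hv] at hk
    rcases Int.units_eq_one_or (m.left k) with e | e <;> rw [e] at hk <;> norm_num at hk
  · simp only [hv] at hp
    have : ∏ k, ((m.left k : ℤ) : ℚ) = 1 := by
      rw [← hp]; exact Finset.prod_congr rfl fun k _ => by ring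
    have e2 : ((∏ k, m.left k : ℤˣ) : ℤ) = 1 := by
      have : (((∏ k, m.left k : ℤˣ) : ℤ) : ℚ) = 1 := by push_cast; exact this
      exact_mod_cast this
    exact Units.ext e2

end Cfsg.Lib.Oz
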