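import Cfsg.Agent.Lib.Linear.OzC0
import Cfsg.Agent.Lib.Linear.OzU0

/-! Elements of the Weyl group with square `±1` stabilise a pair of orthogonal root lines. -/

set_option autoImplicit false

namespace Cfsg.Lib.Oz

open Matrix

theorem c_dot {a b : V} (ha : a ∈ roots) (hb : b ∈ roots) :
    a ⬝ᵥ b = 0 ∨ a ⬝ᵥ b = 1 ∨ a ⬝ᵥ b = -1 ∨ b = a ∨ b = -a := by
  obtain ⟨n, hn⟩ := (lat_root ha).dot (lat_root hb)
  have h1 := root_norm a ha
  have h2 := root_norm b hb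
  have e1 : (b - a) ⬝ᵥ (b - a) = 4 - 2 * n := by
    rw [sub_dotProduct, dotProduct_sub, dotProduct_sub, dotProduct_comm b a, h1, h2, hn]; ring
  have e2 : (b + a) ⬝ᵥ (b + a) = 4 + 2 * n := by
    rw [add_dotProduct, dotProduct_add, dotProduct_add, dotProduct_comm b a, h1, h2, hn]; ring
  have p1 : 0 ≤ (b - a) ⬝ᵥ (b - a) := Finset.sum_nonneg fun i _ => mul_self_nonneg _
  have p2 : 0 ≤ (b + a) ⬝ᵥ (b + a) := Finset.sum_nonneg fun i _ => mul_self_nonneg _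
  have q1 : n ≤ 2 := by
    have : (n : ℚ) ≤ 2 := by linarith
    exact_mod_cast this
  have q2 : -2 ≤ n := by
    have : (-2 : ℚ) ≤ n := by linarith
    exact_mod_cast this
  rw [hn]
  interval_cases n
  · refine .inr (.inr (.inr (.inr (eq_neg_of_add_eq_zero_left (dotProduct_self_eq_zero.1 ?_)))))
    rw [e2]; norm_num
  · simp
  · simp
  · simp
  · refine .inr (.inr (.inr (.inl (sub_eq_zero.1 (dotProduct_self_eq_zero.1 ?_)))))
    rw [e1]; norm_num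

theorem c_orth {a : V} (ha : a ∈ roots) : ∃ b ∈ roots, a ⬝ᵥ b = 0 := by
  have h1 : ∀ a ∈ roots, ∃ b ∈ [dr 0 1 1 1, dr 0 1 1 (-1), dr 2 3 1 1, dr 4 5 1 1], a ⬝ᵥ b = 0 := by decide +kernel
  have h2 : ∀ b ∈ [dr 0 1 1 1, dr 0 1 1 (-1), dr 2 3 1 1, dr 4 5 1 1], b ∈ roots := by decide +kernel
  obtain ⟨b, hb, h⟩ := h1 a ha
  exact ⟨b, h2 b hb, h⟩

theorem c_neg (a : V) : rf (-a) = rf a := by
  have : rm (-a) = rm a := by simp [rm]
  by_cases h : a ⬝ᵥ a = 2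
  · exact Units.ext (by rw [rf_val h, rf_val (by simpa using h), this])
  · rw [rf, rf, dif_neg h, dif_neg (by simpa using h)]

theorem c_comm {a b : V} (ha : a ∈ roots) (hb : b ∈ roots) (h : a ⬝ᵥ b = 0) : rf a * rf b = rf b * rf a := by
  have := conj_rf (rf_mem ha) hb
  rw [rf_val (root_norm a ha), rm_mulVec, h, zero_smul, sub_zero] at this
  exact mul_inv_eq_iff_eq_mul.1 this

theorem c_step {u : GG} (hu : u ∈ W) (h : u * u = 1) {b : V} (hb : b ∈ roots)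
    (h0 : b ⬝ᵥ ((u : Matrix (Fin 8) (Fin 8) ℚ) *ᵥ b) ≠ 0) :
    ∃ c ∈ roots, ((u : Matrix (Fin 8) (Fin 8) ℚ) *ᵥ c = c ∨ (u : Matrix (Fin 8) (Fin 8) ℚ) *ᵥ c = -c) ∧
      ∀ a : V, a ⬝ᵥ b = 0 → a ⬝ᵥ ((u : Matrix (Fin 8) (Fin 8) ℚ) *ᵥ b) = 0 → a ⬝ᵥ c = 0 := by
  have hc := root_W hu hb
  have h2 : (u : Matrix (Fin 8) (Fin 8) ℚ) *ᵥ ((u : Matrix (Fin 8) (Fin 8) ℚ) *ᵥ b) = b := by
    rw [mulVec_mulVec, ← Units.val_mul, h]; simp
  have hr := root_rf hb hc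
  rw [rf_val (root_norm b hb), rm_mulVec] at hr
  rcases c_dot hb hc with e | e | e | e | e
  · exact absurd e h0
  · refine ⟨_, hr, .inr ?_, fun a h3 h4 => ?_⟩
    · rw [e, one_smul, mulVec_sub, h2, neg_sub]
    · rw [e, one_smul, dotProduct_sub, h3, h4, sub_zero]
  · refine ⟨_, hr, .inl ?_, fun a h3 h4 => ?_⟩
    · rw [e, neg_smul, one_smul, sub_neg_eq_add, mulVec_add, h2, add_comm]
    · rw [e, neg_smul, one_smul, sub_neg_eq_add, dotProduct_add, h3, h4, add_zero]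
  · exact ⟨b, hb, .inl e, fun a h3 _ => h3⟩
  · exact ⟨b, hb, .inr e, fun a h3 _ => h3⟩

theorem c_pair {u : GG} (hu : u ∈ W) (h : u * u = 1 ∨ u * u = -1) :
    ∃ a ∈ roots, ∃ b ∈ roots, a ⬝ᵥ b = 0 ∧ u * (rf a * rf b) * u⁻¹ = rf a * rf b := by
  have h2 : ∀ b : V, (u : Matrix (Fin 8) (Fin 8) ℚ) *ᵥ ((u : Matrix (Fin 8) (Fin 8) ℚ) *ᵥ b) = b ∨
      (u : Matrix (Fin 8) (Fin 8) ℚ) *ᵥ ((u : Matrix (Fin 8) (Fin 8) ℚ) *ᵥ b) = -b := fun b => by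
    rw [mulVec_mulVec, ← Units.val_mul]
    rcases h with e | e <;> rw [e]
    · left; simp
    · right; simp [neg_mulVec]
  by_cases h0 : ∃ b ∈ roots, b ⬝ᵥ ((u : Matrix (Fin 8) (Fin 8) ℚ) *ᵥ b) = 0
  · obtain ⟨b, hb, h0⟩ := h0
    have hc := root_W hu hb
    refine ⟨b, hb, _, hc, h0, ?_⟩
    rw [← conj_mul, conj_rf hu hb, conj_rf hu hc, c_comm hb hc h0]
    rcases h2 b with e | e <;> rw [e]
    rw [c_neg]
  push Not at h0
  obtain ⟨a0, ha0, -⟩ := c_orth ux_hr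
  rcases h with h | h
  · obtain ⟨a, ha, hua, -⟩ := c_step hu h ha0 (h0 a0 ha0)
    obtain ⟨b, hb, hab⟩ := c_orth ha
    obtain ⟨c, hc, huc, h3⟩ := c_step hu h hb (h0 b hb)
    refine ⟨a, ha, c, hc, h3 a hab ?_, ?_⟩
    · have := orth_W hu a b
      rcases hua with e | e <;> rw [e, hab] at this
      · exact this
      · simpa using this
    · rw [← conj_mul, conj_rf hu ha, conj_rf hu hc]
      rcases hua with e | e <;> rcases huc with e' | e' <;> simp only [e, e', c_neg]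
  · refine absurd ?_ (h0 a0 ha0)
    have e1 := orth_W hu a0 ((u : Matrix (Fin 8) (Fin 8) ℚ) *ᵥ a0)
    rw [mulVec_mulVec, ← Units.val_mul, h] at e1
    simp only [Units.val_neg, Units.val_one, neg_mulVec, one_mulVec, dotProduct_neg] at e1
    rw [dotProduct_comm] at e1
    linarith

theorem c_mX : rf (dr 0 1 1 (-1)) * rf (dr 0 1 1 1) = μ mX := Units.ext (by
  rw [Units.val_mul, rf_val (by decide +kernel), rf_val (by decide +kernel), μ_val]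
  decide +kernel)

theorem classify_of (T2 : ∀ {a b : V}, a ∈ roots → b ∈ roots → a ⬝ᵥ b = 0 → ∃ g ∈ Wp,
      (g : Matrix (Fin 8) (Fin 8) ℚ) *ᵥ a = dr 0 1 1 (-1) ∧ (g : Matrix (Fin 8) (Fin 8) ℚ) *ᵥ b = dr 0 1 1 1)
    {u : GG} (hu : u ∈ W) (h : u * u = 1 ∨ u * u = -1) : ∃ c ∈ Wp, ∃ m ∈ reps, c * u * c⁻¹ = μ m := by
  obtain ⟨a, ha, b, hb, hab, e⟩ := c_pair hu h
  obtain ⟨g, hg, ga, gb⟩ := T2 ha hb hab
  have hgW := Wp_le_W hg
  have e1 : g * (rf a * rf b) * g⁻¹ = μ mX := by rw [← conj_mul, conj_rf hgW ha, conj_rf hgW hb, ga, gb, c_mX]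
  obtain ⟨m, hm, e2⟩ := UX' (u := g * u * g⁻¹) (fun _ hv => root_W (mul_mem (mul_mem hgW hu) (inv_mem hgW)) hv) (by
    rw [← e1, conj_mul, conj_mul, mul_inv_eq_iff_eq_mul.1 e])
  obtain ⟨c, hc, r, hr, e3⟩ := classify_mon hm (h.imp
    (fun h => μ_inj (by rw [map_mul, ← e2, conj_mul, h]; simp))
    (fun h => μ_inj (by rw [map_mul, ← e2, conj_mul, h, μ_mN]; simp)))
  exact ⟨c * g, mul_mem hc hg, r, hr, by rw [← e3, ← e2]; group⟩

end Cfsg.Lib.Oz
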