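import Cfsg.Agent.Lib.Linear.OzB

/-! The action calculus for a standard double cover of `Ω₈⁺(2)`. -/

set_option autoImplicit false

namespace Cfsg.Lib.Oz

open Matrix

theorem neg_one_mem : (-1 : GG) ∈ Wp := μ_mN ▸ μ_mem_Wp (by decide +kernel) (by decide +kernel)

theorem neg_mem_W {g : GG} (h : g ∈ W) : -g ∈ W := by
  simpa using W.mul_mem (Wp_le_W neg_one_mem) h

theorem neg_mem_Wp {g : GG} (h : g ∈ Wp) : -g ∈ Wp := by
  simpa using Wp.mul_mem neg_one_mem h

theorem conj_mem {w y : GG} (hw : w ∈ W) (hy : y ∈ Wp) : w * y * w⁻¹ ∈ Wp := by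
  rw [mem_Wp] at hy ⊢
  refine ⟨W.mul_mem (W.mul_mem hw hy.1) (W.inv_mem hw), ?_⟩
  rw [Units.val_mul, Units.val_mul, det_mul, det_mul, hy.2, mul_one, ← det_mul, ← Units.val_mul]
  simp

theorem sq_mem {w : GG} (hw : w ∈ W) : w * w ∈ Wp := by
  rw [mem_Wp]
  refine ⟨W.mul_mem hw hw, ?_⟩
  rw [Units.val_mul, det_mul]
  rcases det_W hw with h | h <;> simp [h]

theorem neg_ne_self (g : GG) : -g ≠ g := by
  intro h
  have h1 : (-1 : GG) = 1 := by simpa using congrArg (· * g⁻¹) h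
  have := congrArg (fun u : GG => (u : Matrix (Fin 8) (Fin 8) ℚ) 0 0) h1
  simp at this
  norm_num at this

/-- trace -/
def tr (g : GG) : ℚ := trace (g : Matrix (Fin 8) (Fin 8) ℚ)

theorem tr_conj (w y : GG) : tr (w * y * w⁻¹) = tr y := by
  simp only [tr, Units.val_mul]
  rw [trace_mul_comm, ← mul_assoc, ← Units.val_mul]
  simp

theorem tr_neg (y : GG) : tr (-y) = - tr y := by simp [tr]

theorem tr_one : tr 1 = 8 := by simp [tr]

theorem tr16 {a b c d : GG} (ha : a * a = 1) (hb : b * b = 1) (hc : c * c = 1) (hd : d * d = 1)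
    (ab : Commute a b) (ac : Commute a c) (ad : Commute a d) (bc : Commute b c) (bd : Commute b d)
    (cd : Commute c d) : ∃ k : ℕ, 8 + tr a + tr b + tr (a * b) + tr c + tr (a * c) + tr (b * c) +
      tr (a * b * c) + tr d + tr (a * d) + tr (b * d) + tr (a * b * d) + tr (c * d) + tr (a * c * d) +
      tr (b * c * d) + tr (a * b * c * d) = 16 * k := by
  have id : ∀ {x : GG}, x * x = 1 →
      IsIdempotentElem ((1 / 2 : ℚ) • (1 + (x : Matrix (Fin 8) (Fin 8) ℚ))) := by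
    intro x hx
    have hx' : (x : Matrix (Fin 8) (Fin 8) ℚ) * x = 1 := by rw [← Units.val_mul, hx]; rfl
    simp only [IsIdempotentElem, smul_mul_smul_comm, add_mul, mul_add, one_mul, mul_one, hx']
    module
  have cm : ∀ {x y : GG}, Commute x y → Commute ((1 / 2 : ℚ) • (1 + (x : Matrix (Fin 8) (Fin 8) ℚ)))
      ((1 / 2 : ℚ) • (1 + (y : Matrix (Fin 8) (Fin 8) ℚ))) := by
    intro x y h
    have h' : Commute (x : Matrix (Fin 8) (Fin 8) ℚ) y := h.units_val
    exact (((Commute.one_left _).add_left ((Commute.one_right _).add_right h')).smul_left _).smul_right _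
  have e := IsIdempotentElem.mul_of_commute (((cm ad).mul_left (cm bd)).mul_left (cm cd))
    (IsIdempotentElem.mul_of_commute ((cm ac).mul_left (cm bc))
      (IsIdempotentElem.mul_of_commute (cm ab) (id ha) (id hb)) (id hc)) (id hd)
  set P := (1 / 2 : ℚ) • (1 + (a : Matrix (Fin 8) (Fin 8) ℚ)) * ((1 / 2 : ℚ) • (1 + (b : Matrix (Fin 8) (Fin 8) ℚ))) *
    ((1 / 2 : ℚ) • (1 + (c : Matrix (Fin 8) (Fin 8) ℚ))) * ((1 / 2 : ℚ) • (1 + (d : Matrix (Fin 8) (Fin 8) ℚ))) with hP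
  have e2 : IsIdempotentElem (toLin' P) := by
    rw [IsIdempotentElem, Module.End.mul_eq_comp, ← toLin'_mul, e.eq]
  have e3 := (LinearMap.IsIdempotentElem.isProj_range _ e2).trace
  rw [trace_toLin'_eq] at e3
  refine ⟨Module.finrank ℚ (LinearMap.range (toLin' P)), ?_⟩
  rw [← e3, hP]
  simp only [tr, Units.val_mul, smul_mul_smul_comm, add_mul, mul_add, one_mul, mul_one, trace_smul,
    trace_add, trace_one, smul_eq_mul, Fintype.card_fin]
  push_cast
  ring

/-- even signed permutations of determinant one -/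
def Ee (m : MG) : Prop := Ev m ∧ Equiv.Perm.sign m.right = 1

instance (m : MG) : Decidable (Ee m) := inferInstanceAs (Decidable (_ ∧ _))

theorem Ee.mem {m : MG} (h : Ee m) : μ m ∈ Wp := μ_mem_Wp h.1 h.2

/-- the setting -/
structure St {G : Type*} [Group G] (z : G) (lm : GG → G) : Prop where
  mul : ∀ a ∈ Wp, ∀ b ∈ Wp, lm (a * b) = lm a * lm b
  inj : ∀ a ∈ Wp, ∀ b ∈ Wp, lm a = lm b → a = b
  hz : lm (-1) = z
  act : ∀ n, Commute n z → ∃ w ∈ W, ∀ y ∈ Wp, n * lm y * n⁻¹ = lm (w * y * w⁻¹)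
  uq : ∀ k, (∀ y ∈ Wp, k * lm y * k⁻¹ = lm y) → k * k = 1 → k = 1 ∨ k = z
  odd : ∀ y ∈ Subgroup.closure {h : G | Odd (orderOf h) ∧ Commute h z}, y * y = 1 → ∃ a ∈ Wp, y = lm a
  odd2 : ∀ y ∈ Subgroup.closure {h : G | Odd (orderOf h) ∧ ∀ y ∈ Wp, h * lm y * h⁻¹ = lm y},
    y * y = 1 → y = 1

/-- `n` acts on `L` as `w` -/
def Act {G : Type*} [Group G] (lm : GG → G) (n : G) (w : GG) : Prop :=
  w ∈ W ∧ ∀ y ∈ Wp, n * lm y * n⁻¹ = lm (w * y * w⁻¹)

variable {G : Type*} [Group G] {z : G} {lm : GG → G}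

theorem St.one (h : St z lm) : lm 1 = 1 := by
  have := h.mul 1 Wp.one_mem 1 Wp.one_mem
  simpa using this

theorem St.inv (h : St z lm) {a : GG} (ha : a ∈ Wp) : lm a⁻¹ = (lm a)⁻¹ := by
  rw [eq_inv_iff_mul_eq_one, ← h.mul _ (Wp.inv_mem ha) _ ha, inv_mul_cancel, h.one]

theorem St.neg (h : St z lm) {a : GG} (ha : a ∈ Wp) : lm (-a) = lm a * z := by
  rw [← h.hz, ← h.mul _ ha _ neg_one_mem]; simp

theorem St.cz (h : St z lm) {a : GG} (ha : a ∈ Wp) : Commute (lm a) z := by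
  rw [← h.hz, Commute, SemiconjBy, ← h.mul _ ha _ neg_one_mem, ← h.mul _ neg_one_mem _ ha]; simp

theorem St.zz (h : St z lm) : z * z = 1 := by
  rw [← h.hz, ← h.mul _ neg_one_mem _ neg_one_mem]; simp [h.one]

theorem St.z_ne (h : St z lm) : z ≠ 1 := by
  intro e
  exact neg_ne_self 1 (h.inj _ neg_one_mem _ Wp.one_mem (by rw [h.hz, h.one, e]))

theorem St.conj (h : St z lm) {a b : GG} (ha : a ∈ Wp) (hb : b ∈ Wp) :
    lm (a * b * a⁻¹) = lm a * lm b * (lm a)⁻¹ := by
  rw [h.mul _ (Wp.mul_mem ha hb) _ (Wp.inv_mem ha), h.mul _ ha _ hb, h.inv ha]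

theorem St.self (h : St z lm) {a : GG} (ha : a ∈ Wp) : Act lm (lm a) a :=
  ⟨Wp_le_W ha, fun _ hy => (h.conj ha hy).symm⟩

theorem St.ex (h : St z lm) {n : G} (hn : Commute n z) : ∃ w, Act lm n w := h.act n hn

theorem Act.mul {n n' : G} {w w' : GG} (a : Act lm n w) (b : Act lm n' w') : Act lm (n * n') (w * w') := by
  refine ⟨W.mul_mem a.1 b.1, fun y hy => ?_⟩
  have := a.2 _ (conj_mem b.1 hy)
  rw [← b.2 y hy] at this
  simpa [mul_assoc] using this

theorem Act.inv {n : G} {w : GG} (a : Act lm n w) : Act lm n⁻¹ w⁻¹ := by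
  refine ⟨W.inv_mem a.1, fun y hy => ?_⟩
  have := a.2 _ (conj_mem (W.inv_mem a.1) hy)
  simp only [mul_assoc, inv_inv, mul_inv_cancel, mul_one, mul_inv_cancel_left] at this ⊢
  rw [← this]; group

theorem Act.neg {n : G} {w : GG} (a : Act lm n w) : Act lm n (-w) :=
  ⟨neg_mem_W a.1, fun y hy => by simpa [inv_neg] using a.2 y hy⟩

theorem act_one : Act lm 1 1 := ⟨W.one_mem, fun y _ => by simp⟩

theorem Act.pow {n : G} {w : GG} (a : Act lm n w) (k : ℕ) : Act lm (n ^ k) (w ^ k) := by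
  induction k with
  | zero => simpa using act_one
  | succ k ih => simpa [pow_succ] using ih.mul a

theorem St.uniq (h : St z lm) {n : G} {w w' : GG} (a : Act lm n w) (b : Act lm n w') :
    w' = w ∨ w' = -w := by
  have c := a.inv.mul b
  rcases cent_Wp c.1 (fun y hy => by
    have := h.inj _ hy _ (conj_mem c.1 hy) (by simpa using c.2 y hy)
    rw [eq_comm, mul_inv_eq_iff_eq_mul] at this
    exact this) with e | e
  · left; rw [inv_mul_eq_one] at e; exact e.symm
  · right; rw [inv_mul_eq_iff_eq_mul] at e; simpa using e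

theorem St.comm (h : St z lm) {n : G} {w y : GG} (a : Act lm n w) (hy : y ∈ Wp) :
    Commute n (lm y) ↔ w * y = y * w := by
  constructor
  · intro c
    have := h.inj _ hy _ (conj_mem a.1 hy) (by rw [← a.2 y hy, c.eq]; simp)
    rw [eq_comm, mul_inv_eq_iff_eq_mul] at this
    exact this
  · intro c
    have := a.2 y hy
    rw [c, mul_inv_cancel_right, mul_inv_eq_iff_eq_mul] at this
    exact this

theorem Act.cz (h : St z lm) {n : G} {w : GG} (a : Act lm n w) : Commute n z := by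
  rw [← h.hz, h.comm a neg_one_mem]; simp

theorem St.sq (h : St z lm) {n : G} {w : GG} (a : Act lm n w) (hn : n * n = 1) :
    w * w = 1 ∨ w * w = -1 :=
  h.uniq act_one (hn ▸ a.mul a)

theorem St.triv (h : St z lm) {n : G} (a : Act lm n 1) (hn : n * n = 1) : n = 1 ∨ n = z :=
  h.uq n (fun y hy => by simpa using a.2 y hy) hn

theorem St.inL (h : St z lm) {n : G} {w : GG} (a : Act lm n w) (hw : w ∈ Wp) (hn : n * n = 1)
    (ww : w * w = 1) : n = lm w ∨ n = lm (-w) := by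
  have c : Commute n (lm w) := (h.comm a hw).2 rfl
  have l2 : lm w * lm w = 1 := by rw [← h.mul _ hw _ hw, ww, h.one]
  rcases h.triv (ww ▸ a.mul (h.self hw)) (by
    calc n * lm w * (n * lm w) = n * n * (lm w * lm w) := by
          rw [mul_assoc, ← mul_assoc (lm w), ← c.eq]; simp [mul_assoc]
      _ = 1 := by rw [hn, l2, one_mul]) with e | e
  · left
    rw [mul_eq_one_iff_eq_inv] at e
    rw [e, inv_eq_iff_mul_eq_one, l2]
  · right
    rw [h.neg hw, (h.cz hw).eq, ← e, mul_assoc, l2, mul_one]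

/-- an element of odd order acts as a matrix of odd order -/
theorem St.ex_odd (h : St z lm) {n : G} (hn : Commute n z) {k : ℕ} (hk : Odd k) (nk : n ^ k = 1) :
    ∃ w, Act lm n w ∧ w ^ k = 1 := by
  obtain ⟨w, a⟩ := h.ex hn
  rcases h.uniq act_one (nk ▸ a.pow k) with e | e
  · exact ⟨w, a, e⟩
  · exact ⟨-w, a.neg, by rw [hk.neg_pow, e, neg_neg]⟩

theorem St.comm_pm (h : St z lm) {n n' : G} {w w' : GG} (a : Act lm n w) (b : Act lm n' w')
    (c : Commute n n') : w * w' = w' * w ∨ w * w' = -(w' * w) :=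
  h.uniq (b.mul a) (c.eq ▸ a.mul b)

theorem St.comm_odd (h : St z lm) {n n' : G} {w w' : GG} (a : Act lm n w) (b : Act lm n' w')
    (c : Commute n n') {k : ℕ} (hk : Odd k) (wk : w ^ k = 1) : w * w' = w' * w := by
  rcases h.comm_pm a b c with e | e
  · exact e
  · exfalso
    have e1 : w'⁻¹ * w * w' = -w := by rw [mul_assoc, e]; simp
    have e2 : (w'⁻¹ * w * w') ^ k = 1 := by
      have := conj_pow (a := w'⁻¹) (b := w) (i := k)
      simp only [inv_inv] at this
      rw [this, wk]; simp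
    rw [e1, hk.neg_pow, wk] at e2
    exact neg_ne_self 1 e2

end Cfsg.Lib.Oz
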