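import Cfsg.Agent.Lib.Linear.OzF1
import Cfsg.Agent.Lib.Linear.OzC

/-! Traces and pull-backs. -/

set_option autoImplicit false

namespace Cfsg.Lib.Oz

open Matrix

variable {G : Type*} [Group G] {z : G} {lm : GG → G}

abbrev sw (a b : Fin 8) : Equiv.Perm (Fin 8) := Equiv.swap a b

theorem Ev.mul' {a b : MG} (h1 : Ev a) (h2 : Ev b) : Ev (a * b) := by
  simp only [Ev, SemidirectProduct.mul_left, Pi.mul_apply, Finset.prod_mul_distrib] at h1 h2 ⊢
  rw [h1, one_mul, ← h2]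
  exact Equiv.prod_comp a.right⁻¹ b.left

theorem Ee.mul {a b : MG} (ha : Ee a) (hb : Ee b) : Ee (a * b) :=
  ⟨ha.1.mul' hb.1, by simp [ha.2, hb.2]⟩

theorem ee_one : Ee 1 := by decide +kernel

theorem ee_N : Ee mN := by decide +kernel

/-- image of a monomial element -/
def lg (lm : GG → G) (m : MG) : G := lm (μ m)

theorem St.lg_mul (h : St z lm) {a b : MG} (ha : Ee a) (hb : Ee b) : lg lm (a * b) = lg lm a * lg lm b := by
  simp only [lg, map_mul]
  exact h.mul _ ha.mem _ hb.mem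

theorem St.lg_one (h : St z lm) : lg lm 1 = 1 := by simp only [lg, map_one, h.one]

theorem St.lg_N (h : St z lm) : lg lm mN = z := by simp only [lg, μ_mN, h.hz]

theorem St.lg_inj (h : St z lm) {a b : MG} (ha : Ee a) (hb : Ee b) (e : lg lm a = lg lm b) : a = b :=
  μ_inj (h.inj _ ha.mem _ hb.mem e)

theorem St.lg_conj (h : St z lm) {a c : MG} (ha : Ee a) (hc : Ee c) :
    lg lm (c * a * c⁻¹) = lg lm c * lg lm a * (lg lm c)⁻¹ := by
  simp only [lg, map_mul, map_inv]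
  exact h.conj hc.mem ha.mem

theorem St.lg_comm (h : St z lm) {t : G} {u m : MG} (a : Act lm t (μ u)) (hm : Ee m) (c : m * u = u * m) :
    Commute (lg lm m) t :=
  ((h.comm a hm.mem).2 (by rw [← map_mul, ← map_mul, c])).symm

theorem St.lg_sq (h : St z lm) {m : MG} (hm : Ee m) (mm : m * m = 1) : lg lm m * lg lm m = 1 := by
  rw [← h.lg_mul hm hm, mm, h.lg_one]

theorem St.lg_act (h : St z lm) {m : MG} (hm : Ee m) : Act lm (lg lm m) (μ m) := h.self hm.mem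

/-- membership in `L` -/
def InL (lm : GG → G) (n : G) : Prop := ∃ y ∈ Wp, n = lm y

theorem InL.mul (h : St z lm) {a b : G} (ha : InL lm a) (hb : InL lm b) : InL lm (a * b) := by
  obtain ⟨x, hx, rfl⟩ := ha
  obtain ⟨y, hy, rfl⟩ := hb
  exact ⟨_, Wp.mul_mem hx hy, (h.mul _ hx _ hy).symm⟩

theorem St.inL_z (h : St z lm) : InL lm z := ⟨_, neg_one_mem, h.hz.symm⟩

theorem InL.cz (h : St z lm) {a : G} (ha : InL lm a) : Commute a z := by
  obtain ⟨x, hx, rfl⟩ := ha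
  exact h.cz hx

open Classical in
/-- trace of an element of `L` -/
noncomputable def tv (lm : GG → G) (n : G) : ℚ := if h : InL lm n then tr h.choose else 0

theorem St.tv_lm (h : St z lm) {y : GG} (hy : y ∈ Wp) : tv lm (lm y) = tr y := by
  have e : InL lm (lm y) := ⟨y, hy, rfl⟩
  rw [tv, dif_pos e, ← h.inj _ hy _ e.choose_spec.1 e.choose_spec.2]

theorem St.tv_conj (h : St z lm) {c n : G} (hc : Commute c z) (hn : InL lm n) :
    tv lm (c * n * c⁻¹) = tv lm n := by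
  obtain ⟨y, hy, rfl⟩ := hn
  obtain ⟨w, a⟩ := h.ex hc
  rw [a.2 y hy, h.tv_lm hy, h.tv_lm (conj_mem a.1 hy), tr_conj]

theorem St.tv_z (h : St z lm) {n : G} (hn : InL lm n) : tv lm (n * z) = - tv lm n := by
  obtain ⟨y, hy, rfl⟩ := hn
  rw [← h.neg hy, h.tv_lm hy, h.tv_lm (neg_mem_Wp hy), tr_neg]

theorem St.tv16 (h : St z lm) {a b c d : G} (la : InL lm a) (lb : InL lm b) (lc : InL lm c) (ld : InL lm d)
    (ha : a * a = 1) (hb : b * b = 1) (hc : c * c = 1) (hd : d * d = 1)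
    (ab : Commute a b) (ac : Commute a c) (ad : Commute a d) (bc : Commute b c) (bd : Commute b d)
    (cd : Commute c d) : ∃ k : ℕ, 8 + tv lm a + tv lm b + tv lm (a * b) + tv lm c + tv lm (a * c) +
      tv lm (b * c) + tv lm (a * b * c) + tv lm d + tv lm (a * d) + tv lm (b * d) + tv lm (a * b * d) +
      tv lm (c * d) + tv lm (a * c * d) + tv lm (b * c * d) + tv lm (a * b * c * d) = 16 * k := by
  obtain ⟨a, la, rfl⟩ := la
  obtain ⟨b, lb, rfl⟩ := lb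
  obtain ⟨c, lc, rfl⟩ := lc
  obtain ⟨d, ld, rfl⟩ := ld
  have sq : ∀ {x : GG}, x ∈ Wp → lm x * lm x = 1 → x * x = 1 := fun hx e =>
    h.inj _ (Wp.mul_mem hx hx) _ Wp.one_mem (by rw [h.mul _ hx _ hx, e, h.one])
  have cm : ∀ {x y : GG}, x ∈ Wp → y ∈ Wp → Commute (lm x) (lm y) → Commute x y := fun hx hy e =>
    (h.comm (h.self hx) hy).1 e
  obtain ⟨k, hk⟩ := tr16 (sq la ha) (sq lb hb) (sq lc hc) (sq ld hd) (cm la lb ab) (cm la lc ac) (cm la ld ad)
    (cm lb lc bc) (cm lb ld bd) (cm lc ld cd)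
  refine ⟨k, ?_⟩
  simp (disch := repeat first | assumption | apply Wp.mul_mem) only [← h.mul, h.tv_lm]
  exact hk

theorem μ_mS : μ mS = rf (dr 0 1 1 (-1)) := by
  rw [← μ_swap (by decide)]
  congr 1

theorem ee_of_mem {m : MG} (h : Ev m) (hm : μ m ∈ Wp) : Ee m := by
  refine ⟨h, ?_⟩
  rcases Int.units_eq_one_or (Equiv.Perm.sign m.right) with e | e
  · exact e
  · exfalso
    have h1 : μ (m * mS) ∈ Wp := μ_mem_Wp (h.mul' (by decide +kernel)) (by simp [e, mS, mm])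
    have h2 : μ mS ∈ Wp := by simpa using Wp.mul_mem (Wp.inv_mem hm) h1
    have h3 := det_Wp h2
    rw [μ_mS, det_rf (by decide +kernel)] at h3
    norm_num at h3

theorem reps_facts : ∀ m ∈ reps, Ev m ∧ (Ee m → m * m = 1 → m ∈ [1, mN, mX, mN * mX, mA, mE]) := by
  decide +kernel

theorem tr_reps : tr (μ mX) = 4 ∧ tr (μ (mN * mX)) = -4 ∧ tr (μ mA) = 0 ∧ tr (μ mE) = 0 := by
  simp only [tr, μ_val]
  decide +kernel

/-- conjugate by an element of `L` to the image of `m` -/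
def Cj (lm : GG → G) (n : G) (m : MG) : Prop := ∃ c ∈ Wp, lm c * n * (lm c)⁻¹ = lg lm m

theorem Cj.isConj {n : G} {m : MG} (h : Cj lm n m) : IsConj n (lg lm m) := by
  obtain ⟨c, -, e⟩ := h
  exact isConj_iff.2 ⟨_, e⟩

theorem St.cls (h : St z lm) {n : G} (hn : InL lm n) (nn : n * n = 1) (n1 : n ≠ 1) (nz : n ≠ z) :
    (Cj lm n mX ∧ tv lm n = 4) ∨ (Cj lm n (mN * mX) ∧ tv lm n = -4) ∨ (Cj lm n mA ∧ tv lm n = 0) ∨
      (Cj lm n mE ∧ tv lm n = 0) := by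
  obtain ⟨y, hy, rfl⟩ := hn
  have yy : y * y = 1 := h.inj _ (Wp.mul_mem hy hy) _ Wp.one_mem (by rw [h.mul _ hy _ hy, nn, h.one])
  obtain ⟨c, hc, m, hm, e⟩ := classify (Wp_le_W hy) (Or.inl yy)
  have h1 : μ m ∈ Wp := e ▸ conj_mem (Wp_le_W hc) hy
  have h2 : m * m = 1 := μ_inj (by rw [map_mul, ← e, map_one]; simp [mul_assoc, ← mul_assoc y y, yy])
  have h3 : Cj lm (lm y) m := ⟨c, hc, by rw [← h.conj hc hy, e]; rfl⟩
  have h4 : tv lm (lm y) = tr (μ m) := by rw [h.tv_lm hy, ← e, tr_conj]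
  have h5 := (reps_facts m hm).2 (ee_of_mem (reps_facts m hm).1 h1) h2
  simp only [List.mem_cons, List.not_mem_nil, or_false] at h5
  rcases h5 with rfl | rfl | rfl | rfl | rfl | rfl
  · refine (n1 ?_).elim
    rw [map_one, mul_inv_eq_one, mul_eq_left] at e
    rw [e, h.one]
  · refine (nz ?_).elim
    rw [μ_mN, mul_inv_eq_iff_eq_mul, neg_one_mul, ← mul_neg_one, mul_right_inj] at e
    rw [e, h.hz]
  · exact Or.inl ⟨h3, h4.trans tr_reps.1⟩
  · exact Or.inr (Or.inl ⟨h3, h4.trans tr_reps.2.1⟩)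
  · exact Or.inr (Or.inr (Or.inl ⟨h3, h4.trans tr_reps.2.2.1⟩))
  · exact Or.inr (Or.inr (Or.inr ⟨h3, h4.trans tr_reps.2.2.2⟩))

theorem St.vals (h : St z lm) {n : G} (hn : InL lm n) (nn : n * n = 1) (n1 : n ≠ 1) (nz : n ≠ z) :
    tv lm n = 4 ∨ tv lm n = -4 ∨ tv lm n = 0 := by
  rcases h.cls hn nn n1 nz with e | e | e | e <;> simp [e.2]

/-- pull back along `g` -/
def ps (g : G) : G →* G := (MulAut.conj g⁻¹).toMonoidHom

theorem ps_apply (g n : G) : ps g n = g⁻¹ * n * g := by simp [ps]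

theorem ps_inj (g : G) : Function.Injective (ps g) := (MulAut.conj g⁻¹).injective

theorem ps_t (g z : G) : ps g (g * z * g⁻¹) = z := by simp [ps_apply, mul_assoc]

theorem ps_isConj (g n : G) : IsConj n (ps g n) := isConj_iff.2 ⟨g⁻¹, by simp [ps_apply]⟩

/-- a list of elements of order three commuting with `u` -/
def Gl (u : MG) (l : List MG) : Prop := ∀ h ∈ l, Ee h ∧ h ^ 3 = 1 ∧ h * u = u * h

instance (u : MG) (l : List MG) : Decidable (Gl u l) := inferInstanceAs (Decidable (∀ h ∈ l, _))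

theorem St.lg_pow (h : St z lm) {m : MG} (hm : Ee m) (k : ℕ) : Ee (m ^ k) ∧ lg lm (m ^ k) = lg lm m ^ k := by
  induction k with
  | zero => simpa using ⟨ee_one, h.lg_one⟩
  | succ k ih => rw [pow_succ, pow_succ, h.lg_mul ih.1 hm, ih.2]; exact ⟨ih.1.mul hm, rfl⟩

theorem odd_of_three {x : G} (h : x ^ 3 = 1) : Odd (orderOf x) :=
  Odd.of_dvd_nat (by decide : Odd 3) (orderOf_dvd_of_pow_eq_one h)

theorem St.good (h : St z lm) {g t : G} (gt : ps g t = z) {u : MG} (a : Act lm t (μ u)) {l : List MG}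
    (hl : Gl u l) {y : MG} (e : l.prod = y) (yy : y * y = 1) : InL lm (ps g (lg lm y)) := by
  have key : ∀ l : List MG, Gl u l → Ee l.prod ∧
      ps g (lg lm l.prod) ∈ Subgroup.closure {h : G | Odd (orderOf h) ∧ Commute h z} := by
    intro l
    induction l with
    | nil => intro _; simpa [h.lg_one] using ee_one
    | cons x l ih =>
      intro hl
      obtain ⟨e1, e2⟩ := ih fun y hy => hl y (List.mem_cons_of_mem _ hy)
      obtain ⟨x1, x2, x3⟩ := hl x List.mem_cons_self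
      rw [List.prod_cons, h.lg_mul x1 e1, map_mul]
      refine ⟨x1.mul e1, Subgroup.mul_mem _ (Subgroup.subset_closure ⟨odd_of_three ?_, ?_⟩) e2⟩
      · rw [← map_pow, ← (h.lg_pow x1 3).2, x2, h.lg_one, map_one]
      · exact gt ▸ (h.lg_comm a x1 x3).map (ps g)
  subst e
  obtain ⟨e1, e2⟩ := key l hl
  exact h.odd _ e2 (by rw [← map_mul, h.lg_sq e1 yy, map_one])

/-- `m` is pulled back into `L` -/
def Rg (lm : GG → G) (g : G) (m : MG) : Prop := Ee m ∧ InL lm (ps g (lg lm m))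

/-- second trace -/
noncomputable def τ (lm : GG → G) (g : G) (m : MG) : ℚ := tv lm (ps g (lg lm m))

theorem Rg.mul (h : St z lm) {g : G} {a b : MG} (ha : Rg lm g a) (hb : Rg lm g b) : Rg lm g (a * b) :=
  ⟨ha.1.mul hb.1, by rw [h.lg_mul ha.1 hb.1, map_mul]; exact ha.2.mul h hb.2⟩

theorem St.τ16 (h : St z lm) {g : G} {a b c d : MG} (la : Rg lm g a) (lb : Rg lm g b) (lc : Rg lm g c)
    (ld : Rg lm g d) (hh : a * a = 1 ∧ b * b = 1 ∧ c * c = 1 ∧ d * d = 1 ∧ a * b = b * a ∧ a * c = c * a ∧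
      a * d = d * a ∧ b * c = c * b ∧ b * d = d * b ∧ c * d = d * c) :
    ∃ k : ℕ, 8 + τ lm g a + τ lm g b + τ lm g (a * b) + τ lm g c + τ lm g (a * c) +
      τ lm g (b * c) + τ lm g (a * b * c) + τ lm g d + τ lm g (a * d) + τ lm g (b * d) + τ lm g (a * b * d) +
      τ lm g (c * d) + τ lm g (a * c * d) + τ lm g (b * c * d) + τ lm g (a * b * c * d) = 16 * k := by
  obtain ⟨ha, hb, hc, hd, ab, ac, ad, bc, bd, cd⟩ := hh
  have sq : ∀ {x : MG}, Ee x → x * x = 1 → ps g (lg lm x) * ps g (lg lm x) = 1 := fun hx e => by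
    rw [← map_mul, h.lg_sq hx e, map_one]
  have cm : ∀ {x y : MG}, Ee x → Ee y → x * y = y * x → Commute (ps g (lg lm x)) (ps g (lg lm y)) :=
    fun hx hy e => (h.lg_comm (h.lg_act hy) hx e).map _
  obtain ⟨k, hk⟩ := h.tv16 la.2 lb.2 lc.2 ld.2 (sq la.1 ha) (sq lb.1 hb) (sq lc.1 hc) (sq ld.1 hd)
    (cm la.1 lb.1 ab) (cm la.1 lc.1 ac) (cm la.1 ld.1 ad) (cm lb.1 lc.1 bc) (cm lb.1 ld.1 bd) (cm lc.1 ld.1 cd)
  refine ⟨k, ?_⟩
  have ea := la.1
  have eb := lb.1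
  have ec := lc.1
  have ed := ld.1
  simp (disch := repeat first | assumption | apply Ee.mul) only [τ, h.lg_mul, map_mul]
  exact hk

theorem St.τ_conj (h : St z lm) {g t : G} (gt : ps g t = z) {u : MG} (a : Act lm t (μ u)) {m : MG}
    (hm : Rg lm g m) (c : MG) {y : MG} (hc : Ee c ∧ c * u = u * c ∧ y = c * m * c⁻¹) :
    τ lm g y = τ lm g m := by
  obtain ⟨c1, c2, rfl⟩ := hc
  rw [τ, h.lg_conj hm.1 c1, map_mul, map_mul, map_inv]
  exact h.tv_conj (gt ▸ (h.lg_comm a c1 c2).map (ps g)) hm.2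

theorem St.τ_neg (h : St z lm) {g : G} {u : MG} (hu : Ee u) (gt : ps g (lg lm u) = z) {m : MG}
    (hm : Rg lm g m) : τ lm g (m * u) = - τ lm g m := by
  rw [τ, h.lg_mul hm.1 hu, map_mul, gt, h.tv_z hm.2, τ]

theorem St.τ_conj' (h : St z lm) {g : G} {u : MG} (hu : Ee u) (gt : ps g (lg lm u) = z) {m : MG}
    (hm : Rg lm g m) (c : MG) {y : MG} (hc : Ee c ∧ c * u = u * c ∧ y = c * (m * u) * c⁻¹) :
    τ lm g y = - τ lm g m := by
  rw [h.τ_conj gt (h.lg_act hu) (hm.mul h ⟨hu, gt ▸ h.inL_z⟩) c hc, h.τ_neg hu gt hm]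

theorem St.τ_zero (h : St z lm) {g : G} {u : MG} (hu : Ee u) (gt : ps g (lg lm u) = z) {m : MG}
    (hm : Rg lm g m) (c : MG) (hc : Ee c ∧ c * u = u * c ∧ m = c * (m * u) * c⁻¹) : τ lm g m = 0 := by
  have := h.τ_conj' hu gt hm c hc
  linarith

theorem St.ps_facts (h : St z lm) {g : G} {u : MG} (hu : Ee u) (gt : ps g (lg lm u) = z) {m : MG}
    (hm : Ee m) (hc : m * m = 1 ∧ m ≠ 1 ∧ m ≠ u) :
    ps g (lg lm m) * ps g (lg lm m) = 1 ∧ ps g (lg lm m) ≠ 1 ∧ ps g (lg lm m) ≠ z := by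
  refine ⟨by rw [← map_mul, h.lg_sq hm hc.1, map_one], fun e => hc.2.1 ?_, fun e => hc.2.2 ?_⟩
  · exact h.lg_inj hm ee_one (ps_inj g (by rw [e, h.lg_one, map_one]))
  · exact h.lg_inj hm hu (ps_inj g (by rw [e, gt]))

theorem St.τ_vals (h : St z lm) {g : G} {u : MG} (hu : Ee u) (gt : ps g (lg lm u) = z) {m : MG}
    (hm : Rg lm g m) (hc : m * m = 1 ∧ m ≠ 1 ∧ m ≠ u) : τ lm g m = 4 ∨ τ lm g m = -4 ∨ τ lm g m = 0 := by
  obtain ⟨e1, e2, e3⟩ := h.ps_facts hu gt hm.1 hc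
  exact h.vals hm.2 e1 e2 e3

theorem ex_ps {t : G} (h : IsConj z t) : ∃ g, ps g t = z := by
  obtain ⟨g, rfl⟩ := isConj_iff.1 h
  exact ⟨g, ps_t g z⟩

end Cfsg.Lib.Oz
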