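import Cfsg.Agent.Lib.Linear.OzF2

/-! Trace arguments. -/

set_option autoImplicit false

namespace Cfsg.Lib.Oz

open Matrix

variable {G : Type*} [Group G] {z : G} {lm : GG → G}

theorem St.rg (h : St z lm) {g t : G} (gt : ps g t = z) {u : MG} (a : Act lm t (μ u)) (l : List MG) {y : MG}
    (hl : Gl u l ∧ l.prod = y ∧ y * y = 1 ∧ Ee y) : Rg lm g y :=
  ⟨hl.2.2.2, h.good gt a hl.1 hl.2.1 hl.2.2.1⟩

theorem St.notA (h : St z lm) : ¬ IsConj z (lg lm mA) := by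
  intro hz
  obtain ⟨g, gt⟩ := ex_ps hz
  have hu : Ee mA := by decide +kernel
  have a := h.lg_act hu
  have ru : Rg lm g mA := ⟨hu, gt ▸ h.inL_z⟩
  have p1 : Rg lm g (mm [0, 1] 1) :=
    h.rg gt a [mm [] (sw 0 1 * sw 1 2), mm [0, 2] (sw 0 2 * sw 1 2)] (by decide +kernel)
  have p2 : Rg lm g (mm [] (sw 0 1 * sw 2 3)) :=
    h.rg gt a [mm [] (sw 1 2 * sw 2 3), mm [] (sw 0 3 * sw 1 3)] (by decide +kernel)
  have v1 : Rg lm g (mm [4, 5] 1) :=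
    h.rg gt a [mm [] (sw 4 5 * sw 5 6), mm [4, 6] (sw 4 6 * sw 5 6)] (by decide +kernel)
  have v2 : Rg lm g (mm [] (sw 4 5 * sw 6 7)) :=
    h.rg gt a [mm [] (sw 5 6 * sw 6 7), mm [] (sw 4 7 * sw 5 7)] (by decide +kernel)
  have key : ∀ a b : MG, Rg lm g a → Rg lm g b →
      (a, b) ∈ [(mm [4, 5] 1, mm [] (sw 4 5 * sw 6 7)), (mm [4, 5] 1 * mA, mm [] (sw 4 5 * sw 6 7)),
        (mm [4, 5] 1, mm [] (sw 4 5 * sw 6 7) * mA)] →
      ∃ k : ℕ, 8 + τ lm g a + τ lm g b + τ lm g (a * b) = 16 * k := by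
    intro a b ra rb hab
    obtain ⟨k, hk⟩ := h.τ16 ra rb p1 p2 (by
      simp only [List.mem_cons, List.not_mem_nil, or_false, Prod.mk.injEq] at hab
      rcases hab with ⟨rfl, rfl⟩ | ⟨rfl, rfl⟩ | ⟨rfl, rfl⟩ <;> decide +kernel)
    refine ⟨k, ?_⟩
    have z0 := h.τ_zero hu gt p1 (mm [] (sw 0 2 * sw 1 3)) (by
      simp only [List.mem_cons, List.not_mem_nil, or_false, Prod.mk.injEq] at hab
      rcases hab with ⟨rfl, rfl⟩ | ⟨rfl, rfl⟩ | ⟨rfl, rfl⟩ <;> decide +kernel)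
    have z1 := h.τ_zero hu gt (ra.mul h p1) (mm [] (sw 0 2 * sw 1 3)) (by
      simp only [List.mem_cons, List.not_mem_nil, or_false, Prod.mk.injEq] at hab
      rcases hab with ⟨rfl, rfl⟩ | ⟨rfl, rfl⟩ | ⟨rfl, rfl⟩ <;> decide +kernel)
    have z2 := h.τ_zero hu gt (rb.mul h p1) (mm [] (sw 0 2 * sw 1 3)) (by
      simp only [List.mem_cons, List.not_mem_nil, or_false, Prod.mk.injEq] at hab
      rcases hab with ⟨rfl, rfl⟩ | ⟨rfl, rfl⟩ | ⟨rfl, rfl⟩ <;> decide +kernel)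
    have z3 := h.τ_zero hu gt ((ra.mul h rb).mul h p1) (mm [] (sw 0 2 * sw 1 3)) (by
      simp only [List.mem_cons, List.not_mem_nil, or_false, Prod.mk.injEq] at hab
      rcases hab with ⟨rfl, rfl⟩ | ⟨rfl, rfl⟩ | ⟨rfl, rfl⟩ <;> decide +kernel)
    have z4 := h.τ_zero hu gt p2 (mm [0, 2] 1) (by
      simp only [List.mem_cons, List.not_mem_nil, or_false, Prod.mk.injEq] at hab
      rcases hab with ⟨rfl, rfl⟩ | ⟨rfl, rfl⟩ | ⟨rfl, rfl⟩ <;> decide +kernel)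
    have z5 := h.τ_zero hu gt (ra.mul h p2) (mm [0, 2] 1) (by
      simp only [List.mem_cons, List.not_mem_nil, or_false, Prod.mk.injEq] at hab
      rcases hab with ⟨rfl, rfl⟩ | ⟨rfl, rfl⟩ | ⟨rfl, rfl⟩ <;> decide +kernel)
    have z6 := h.τ_zero hu gt (rb.mul h p2) (mm [0, 2] 1) (by
      simp only [List.mem_cons, List.not_mem_nil, or_false, Prod.mk.injEq] at hab
      rcases hab with ⟨rfl, rfl⟩ | ⟨rfl, rfl⟩ | ⟨rfl, rfl⟩ <;> decide +kernel)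
    have z7 := h.τ_zero hu gt ((ra.mul h rb).mul h p2) (mm [0, 2] 1) (by
      simp only [List.mem_cons, List.not_mem_nil, or_false, Prod.mk.injEq] at hab
      rcases hab with ⟨rfl, rfl⟩ | ⟨rfl, rfl⟩ | ⟨rfl, rfl⟩ <;> decide +kernel)
    have z8 := h.τ_zero hu gt (p1.mul h p2) (mm [0, 2] 1) (by
      simp only [List.mem_cons, List.not_mem_nil, or_false, Prod.mk.injEq] at hab
      rcases hab with ⟨rfl, rfl⟩ | ⟨rfl, rfl⟩ | ⟨rfl, rfl⟩ <;> decide +kernel)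
    have z9 := h.τ_zero hu gt ((ra.mul h p1).mul h p2) (mm [0, 2] 1) (by
      simp only [List.mem_cons, List.not_mem_nil, or_false, Prod.mk.injEq] at hab
      rcases hab with ⟨rfl, rfl⟩ | ⟨rfl, rfl⟩ | ⟨rfl, rfl⟩ <;> decide +kernel)
    have z10 := h.τ_zero hu gt ((rb.mul h p1).mul h p2) (mm [0, 2] 1) (by
      simp only [List.mem_cons, List.not_mem_nil, or_false, Prod.mk.injEq] at hab
      rcases hab with ⟨rfl, rfl⟩ | ⟨rfl, rfl⟩ | ⟨rfl, rfl⟩ <;> decide +kernel)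
    have z11 := h.τ_zero hu gt (((ra.mul h rb).mul h p1).mul h p2) (mm [0, 2] 1) (by
      simp only [List.mem_cons, List.not_mem_nil, or_false, Prod.mk.injEq] at hab
      rcases hab with ⟨rfl, rfl⟩ | ⟨rfl, rfl⟩ | ⟨rfl, rfl⟩ <;> decide +kernel)
    linarith
  obtain ⟨k1, e1⟩ := key _ _ v1 v2 (by simp)
  obtain ⟨k2, e2⟩ := key _ _ (v1.mul h ru) v2 (by simp)
  obtain ⟨k3, e3⟩ := key _ _ v1 (v2.mul h ru) (by simp)
  rw [h.τ_neg hu gt v1, h.τ_conj' hu gt (v1.mul h v2) 1 (y := mm [4, 5] 1 * mA * mm [] (sw 4 5 * sw 6 7))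
    (by decide +kernel)] at e2
  rw [h.τ_neg hu gt v2, h.τ_conj' hu gt (v1.mul h v2) 1 (y := mm [4, 5] 1 * (mm [] (sw 4 5 * sw 6 7) * mA))
    (by decide +kernel)] at e3
  rcases h.τ_vals hu gt v1 (by decide +kernel) with f1 | f1 | f1 <;>
  rcases h.τ_vals hu gt v2 (by decide +kernel) with f2 | f2 | f2 <;>
  rcases h.τ_vals hu gt (v1.mul h v2) (by decide +kernel) with f3 | f3 | f3 <;>
  · rw [f1, f2, f3] at e1 e2 e3
    norm_num at e1 e2 e3 <;> norm_cast at e1 e2 e3 <;> omega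

theorem St.notW (h : St z lm) : ¬ IsConj z (lg lm (mN * mX)) := by
  intro hz
  obtain ⟨g, gt⟩ := ex_ps hz
  have hu : Ee (mN * mX) := by decide +kernel
  have a := h.lg_act hu
  have r0 : Rg lm g (mm [2, 3] 1) :=
    h.rg gt a [mm [] (sw 2 3 * sw 3 4), mm [2, 4] (sw 2 4 * sw 3 4)] (by decide +kernel)
  have r1 : Rg lm g (mm [2, 4] 1) :=
    h.rg gt a [mm [] (sw 2 3 * sw 3 4), mm [3, 4] (sw 2 4 * sw 3 4)] (by decide +kernel)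
  have r2 : Rg lm g (mm [2, 5] 1) :=
    h.rg gt a [mm [] (sw 2 3 * sw 3 5), mm [3, 5] (sw 2 5 * sw 3 5)] (by decide +kernel)
  have r3 : Rg lm g (mm [2, 6] 1) :=
    h.rg gt a [mm [] (sw 2 3 * sw 3 6), mm [3, 6] (sw 2 6 * sw 3 6)] (by decide +kernel)
  obtain ⟨k, hk⟩ := h.τ16 r0 r1 r2 r3 (by decide +kernel)
  have e1 : τ lm g (mm [2, 4] 1) = τ lm g (mm [2, 3] 1) := h.τ_conj gt a r0 (mm [] (sw 3 4 * sw 4 5)) (by decide +kernel)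
  have e2 : τ lm g (mm [2, 3] 1 * mm [2, 4] 1) = τ lm g (mm [2, 3] 1) := h.τ_conj gt a r0 (mm [] (sw 2 3 * sw 3 4)) (by decide +kernel)
  have e3 : τ lm g (mm [2, 5] 1) = τ lm g (mm [2, 3] 1) := h.τ_conj gt a r0 (mm [] (sw 3 5 * sw 4 5)) (by decide +kernel)
  have e4 : τ lm g (mm [2, 3] 1 * mm [2, 5] 1) = τ lm g (mm [2, 3] 1) := h.τ_conj gt a r0 (mm [] (sw 2 3 * sw 3 5)) (by decide +kernel)
  have e5 : τ lm g (mm [2, 4] 1 * mm [2, 5] 1) = τ lm g (mm [2, 3] 1) := h.τ_conj gt a r0 (mm [] (sw 2 4 * sw 3 5)) (by decide +kernel)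
  have e6 : τ lm g (mm [2, 3] 1 * mm [2, 4] 1 * mm [2, 5] 1) = - τ lm g (mm [2, 3] 1) := h.τ_conj' hu gt r0 (mm [] (sw 2 6 * sw 3 7)) (by decide +kernel)
  have e7 : τ lm g (mm [2, 6] 1) = τ lm g (mm [2, 3] 1) := h.τ_conj gt a r0 (mm [] (sw 3 6 * sw 4 6)) (by decide +kernel)
  have e8 : τ lm g (mm [2, 3] 1 * mm [2, 6] 1) = τ lm g (mm [2, 3] 1) := h.τ_conj gt a r0 (mm [] (sw 2 3 * sw 3 6)) (by decide +kernel)
  have e9 : τ lm g (mm [2, 4] 1 * mm [2, 6] 1) = τ lm g (mm [2, 3] 1) := h.τ_conj gt a r0 (mm [] (sw 2 4 * sw 3 6)) (by decide +kernel)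
  have e10 : τ lm g (mm [2, 3] 1 * mm [2, 4] 1 * mm [2, 6] 1) = - τ lm g (mm [2, 3] 1) := h.τ_conj' hu gt r0 (mm [] (sw 2 5 * sw 3 7)) (by decide +kernel)
  have e11 : τ lm g (mm [2, 5] 1 * mm [2, 6] 1) = τ lm g (mm [2, 3] 1) := h.τ_conj gt a r0 (mm [] (sw 2 5 * sw 3 6)) (by decide +kernel)
  have e12 : τ lm g (mm [2, 3] 1 * mm [2, 5] 1 * mm [2, 6] 1) = - τ lm g (mm [2, 3] 1) := h.τ_conj' hu gt r0 (mm [] (sw 2 4 * sw 3 7)) (by decide +kernel)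
  have e13 : τ lm g (mm [2, 4] 1 * mm [2, 5] 1 * mm [2, 6] 1) = - τ lm g (mm [2, 3] 1) := h.τ_conj' hu gt r0 (mm [] (sw 2 3 * sw 3 7)) (by decide +kernel)
  have e14 : τ lm g (mm [2, 3] 1 * mm [2, 4] 1 * mm [2, 5] 1 * mm [2, 6] 1) = - τ lm g (mm [2, 3] 1) := h.τ_conj' hu gt r0 (mm [] (sw 3 7 * sw 4 7)) (by decide +kernel)
  have e : 8 + 5 * τ lm g (mm [2, 3] 1) = 16 * k := by linarith
  rcases h.τ_vals hu gt r0 (by decide +kernel) with f | f | f <;>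
  · rw [f] at e
    norm_num at e <;> norm_cast at e <;> omega

theorem St.cls' (h : St z lm) {n : G} (hn : InL lm n) (hz : IsConj z n) (nz : n ≠ z) :
    (Cj lm n mX ∧ tv lm n = 4) ∨ (Cj lm n mE ∧ tv lm n = 0) := by
  obtain ⟨c, hc⟩ := isConj_iff.1 hz
  have nn : n * n = 1 := by rw [← hc]; simp [mul_assoc, ← mul_assoc z z, h.zz]
  have n1 : n ≠ 1 := by
    rintro rfl
    exact h.z_ne (by simpa using hz)
  rcases h.cls hn nn n1 nz with e | e | e | e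
  · exact Or.inl e
  · exact (h.notW (hz.trans e.1.isConj)).elim
  · exact (h.notA (hz.trans e.1.isConj)).elim
  · exact Or.inr e

theorem St.lg_isConj (h : St z lm) {a b : MG} (c : MG) (hc : Ee a ∧ Ee c ∧ b = c * a * c⁻¹) :
    IsConj (lg lm a) (lg lm b) := by
  obtain ⟨ha, hc, rfl⟩ := hc
  exact isConj_iff.2 ⟨_, (h.lg_conj ha hc).symm⟩

theorem St.exX (h : St z lm) (hz : IsConj z (lg lm mX)) :
    ∃ g, ps g (lg lm mX) = z ∧ ps g z = lg lm mX := by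
  obtain ⟨g, gt⟩ := ex_ps hz
  have hu : Ee mX := by decide +kernel
  have a := h.lg_act hu
  have r0 : Rg lm g (mm [2, 3] 1) :=
    h.rg gt a [mm [] (sw 2 3 * sw 3 4), mm [2, 4] (sw 2 4 * sw 3 4)] (by decide +kernel)
  have r1 : Rg lm g (mm [2, 4] 1) :=
    h.rg gt a [mm [] (sw 2 3 * sw 3 4), mm [3, 4] (sw 2 4 * sw 3 4)] (by decide +kernel)
  have r2 : Rg lm g (mm [2, 5] 1) :=
    h.rg gt a [mm [] (sw 2 3 * sw 3 5), mm [3, 5] (sw 2 5 * sw 3 5)] (by decide +kernel)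
  have r3 : Rg lm g (mm [2, 6] 1) :=
    h.rg gt a [mm [] (sw 2 3 * sw 3 6), mm [3, 6] (sw 2 6 * sw 3 6)] (by decide +kernel)
  have r4 : Rg lm g (mm [4, 5] 1) :=
    h.rg gt a [mm [] (sw 4 5 * sw 5 6), mm [4, 6] (sw 4 6 * sw 5 6)] (by decide +kernel)
  have r5 : Rg lm g (mm [6, 7] 1) :=
    h.rg gt a [mm [] (sw 5 6 * sw 6 7), mm [5, 6] (sw 5 7 * sw 6 7)] (by decide +kernel)
  have r45 := r0.mul h r4
  have rw' := r45.mul h r5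
  obtain ⟨k, hk⟩ := h.τ16 r0 r1 r2 r3 (by decide +kernel)
  obtain ⟨k', hk'⟩ := h.τ16 r0 r4 r5 r1 (by decide +kernel)
  have X1_1 : τ lm g (mm [2, 4] 1) = τ lm g (mm [2, 3] 1) := h.τ_conj gt a r0 (mm [] (sw 3 4 * sw 4 5)) (by decide +kernel)
  have X1_2 : τ lm g (mm [2, 3] 1 * mm [2, 4] 1) = τ lm g (mm [2, 3] 1) := h.τ_conj gt a r0 (mm [] (sw 2 3 * sw 3 4)) (by decide +kernel)
  have X1_3 : τ lm g (mm [2, 5] 1) = τ lm g (mm [2, 3] 1) := h.τ_conj gt a r0 (mm [] (sw 3 5 * sw 4 5)) (by decide +kernel)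
  have X1_4 : τ lm g (mm [2, 3] 1 * mm [2, 5] 1) = τ lm g (mm [2, 3] 1) := h.τ_conj gt a r0 (mm [] (sw 2 3 * sw 3 5)) (by decide +kernel)
  have X1_5 : τ lm g (mm [2, 4] 1 * mm [2, 5] 1) = τ lm g (mm [2, 3] 1) := h.τ_conj gt a r0 (mm [] (sw 2 4 * sw 3 5)) (by decide +kernel)
  have X1_6 : τ lm g (mm [2, 3] 1 * mm [2, 4] 1 * mm [2, 5] 1) = τ lm g (mm [2, 3] 1 * mm [4, 5] 1) := h.τ_conj gt a r45 (mm [] 1) (by decide +kernel)
  have X1_7 : τ lm g (mm [2, 6] 1) = τ lm g (mm [2, 3] 1) := h.τ_conj gt a r0 (mm [] (sw 3 6 * sw 4 6)) (by decide +kernel)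
  have X1_8 : τ lm g (mm [2, 3] 1 * mm [2, 6] 1) = τ lm g (mm [2, 3] 1) := h.τ_conj gt a r0 (mm [] (sw 2 3 * sw 3 6)) (by decide +kernel)
  have X1_9 : τ lm g (mm [2, 4] 1 * mm [2, 6] 1) = τ lm g (mm [2, 3] 1) := h.τ_conj gt a r0 (mm [] (sw 2 4 * sw 3 6)) (by decide +kernel)
  have X1_10 : τ lm g (mm [2, 3] 1 * mm [2, 4] 1 * mm [2, 6] 1) = τ lm g (mm [2, 3] 1 * mm [4, 5] 1) := h.τ_conj gt a r45 (mm [] (sw 5 6 * sw 6 7)) (by decide +kernel)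
  have X1_11 : τ lm g (mm [2, 5] 1 * mm [2, 6] 1) = τ lm g (mm [2, 3] 1) := h.τ_conj gt a r0 (mm [] (sw 2 5 * sw 3 6)) (by decide +kernel)
  have X1_12 : τ lm g (mm [2, 3] 1 * mm [2, 5] 1 * mm [2, 6] 1) = τ lm g (mm [2, 3] 1 * mm [4, 5] 1) := h.τ_conj gt a r45 (mm [] (sw 4 5 * sw 5 6)) (by decide +kernel)
  have X1_13 : τ lm g (mm [2, 4] 1 * mm [2, 5] 1 * mm [2, 6] 1) = τ lm g (mm [2, 3] 1 * mm [4, 5] 1) := h.τ_conj gt a r45 (mm [] (sw 3 4 * sw 4 6)) (by decide +kernel)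
  have X1_14 : τ lm g (mm [2, 3] 1 * mm [2, 4] 1 * mm [2, 5] 1 * mm [2, 6] 1) = τ lm g (mm [2, 3] 1 * mm [4, 5] 1) := h.τ_conj gt a r45 (mm [] (sw 2 3 * sw 3 6)) (by decide +kernel)
  have X2_1 : τ lm g (mm [4, 5] 1) = τ lm g (mm [2, 3] 1) := h.τ_conj gt a r0 (mm [] (sw 2 4 * sw 3 5)) (by decide +kernel)
  have X2_3 : τ lm g (mm [6, 7] 1) = τ lm g (mm [2, 3] 1) := h.τ_conj gt a r0 (mm [] (sw 2 6 * sw 3 7)) (by decide +kernel)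
  have X2_4 : τ lm g (mm [2, 3] 1 * mm [6, 7] 1) = τ lm g (mm [2, 3] 1 * mm [4, 5] 1) := h.τ_conj gt a r45 (mm [] (sw 4 6 * sw 5 7)) (by decide +kernel)
  have X2_5 : τ lm g (mm [4, 5] 1 * mm [6, 7] 1) = τ lm g (mm [2, 3] 1 * mm [4, 5] 1) := h.τ_conj gt a r45 (mm [] (sw 2 6 * sw 3 7)) (by decide +kernel)
  have X2_7 : τ lm g (mm [2, 4] 1) = τ lm g (mm [2, 3] 1) := h.τ_conj gt a r0 (mm [] (sw 3 4 * sw 4 5)) (by decide +kernel)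
  have X2_8 : τ lm g (mm [2, 3] 1 * mm [2, 4] 1) = τ lm g (mm [2, 3] 1) := h.τ_conj gt a r0 (mm [] (sw 2 3 * sw 3 4)) (by decide +kernel)
  have X2_9 : τ lm g (mm [4, 5] 1 * mm [2, 4] 1) = τ lm g (mm [2, 3] 1) := h.τ_conj gt a r0 (mm [] (sw 3 5 * sw 4 5)) (by decide +kernel)
  have X2_10 : τ lm g (mm [2, 3] 1 * mm [4, 5] 1 * mm [2, 4] 1) = τ lm g (mm [2, 3] 1) := h.τ_conj gt a r0 (mm [] (sw 2 3 * sw 3 5)) (by decide +kernel)
  have X2_11 : τ lm g (mm [6, 7] 1 * mm [2, 4] 1) = τ lm g (mm [2, 3] 1 * mm [4, 5] 1) := h.τ_conj gt a r45 (mm [] (sw 3 6 * sw 5 7)) (by decide +kernel)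
  have X2_12 : τ lm g (mm [2, 3] 1 * mm [6, 7] 1 * mm [2, 4] 1) = τ lm g (mm [2, 3] 1 * mm [4, 5] 1) := h.τ_conj gt a r45 (mm [] (sw 2 6 * sw 5 7)) (by decide +kernel)
  have X2_13 : τ lm g (mm [4, 5] 1 * mm [6, 7] 1 * mm [2, 4] 1) = τ lm g (mm [2, 3] 1 * mm [4, 5] 1) := h.τ_conj gt a r45 (mm [] (sw 3 6 * sw 4 7)) (by decide +kernel)
  have X2_14 : τ lm g (mm [2, 3] 1 * mm [4, 5] 1 * mm [6, 7] 1 * mm [2, 4] 1) = τ lm g (mm [2, 3] 1 * mm [4, 5] 1) := h.τ_conj gt a r45 (mm [] (sw 2 6 * sw 4 7)) (by decide +kernel)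
  have e1 : 8 + 10 * τ lm g (mm [2, 3] 1) + 5 * τ lm g (mm [2, 3] 1 * mm [4, 5] 1) = 16 * k := by linarith
  have e2 : 8 + 7 * τ lm g (mm [2, 3] 1) + 7 * τ lm g (mm [2, 3] 1 * mm [4, 5] 1) +
      τ lm g (mm [2, 3] 1 * mm [4, 5] 1 * mm [6, 7] 1) = 16 * k' := by linarith
  have t1 : τ lm g (mm [2, 3] 1) = 4 ∨ τ lm g (mm [2, 3] 1) = 0 :=
    (h.cls' r0.2 ((hz.trans (h.lg_isConj (mm [] (sw 0 2 * sw 1 3)) (by decide +kernel))).trans (ps_isConj g _))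
      (h.ps_facts hu gt r0.1 (by decide +kernel)).2.2).imp And.right And.right
  have t3 : τ lm g (mm [2, 3] 1 * mm [4, 5] 1 * mm [6, 7] 1) = -4 := by
    rcases t1 with f1 | f1 <;>
    rcases h.τ_vals hu gt r45 (by decide +kernel) with f2 | f2 | f2 <;>
    rcases h.τ_vals hu gt rw' (by decide +kernel) with f3 | f3 | f3 <;>
    first
    | exact f3
    | (rw [f1, f2] at e1 e2
       rw [f3] at e2
       norm_num at e1 e2 <;> norm_cast at e1 e2 <;> omega)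
  have t4 := h.τ_neg hu gt rw'
  have r6 := rw'.mul h ⟨hu, gt ▸ h.inL_z⟩
  rw [show mm [2, 3] 1 * mm [4, 5] 1 * mm [6, 7] 1 * mX = mN by decide +kernel] at t4 r6
  have r7 := r6.2
  rw [τ, h.lg_N, t3] at t4
  rw [h.lg_N] at r7
  have nz : ps g z ≠ z := fun e => by
    have := h.lg_inj ee_N hu (ps_inj g (by rw [h.lg_N, e, gt]))
    revert this
    decide +kernel
  rcases h.cls' r7 (ps_isConj g z) nz with ⟨⟨c, hc, e⟩, -⟩ | ⟨-, e⟩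
  · refine ⟨g * (lm c)⁻¹, ?_, ?_⟩
    · have := (h.cz hc).eq
      rw [ps_apply] at gt ⊢
      calc (g * (lm c)⁻¹)⁻¹ * lg lm mX * (g * (lm c)⁻¹) = lm c * (g⁻¹ * lg lm mX * g) * (lm c)⁻¹ := by group
        _ = z := by rw [gt, this]; simp
    · rw [← e, ps_apply, ps_apply]; group
  · rw [e] at t4
    norm_num at t4

end Cfsg.Lib.Oz
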