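import Cfsg.Agent.Lib.Linear.Oz0

/-! Signed permutations commuting with `diag(-1,-1,1,..,1)`. -/

set_option autoImplicit false

namespace Cfsg.Lib.Oz

open Equiv

theorem mg_left (m n : MG) (i : Fin 8) : (m * n).left i = m.left i * n.left (m.right⁻¹ i) := rfl

theorem mg_right_pow (m : MG) (n : ℕ) : (m ^ n).right = m.right ^ n :=
  map_pow (SemidirectProduct.rightHom (N := Fin 8 → ℤˣ) (G := Perm (Fin 8)) (φ := mulAutArrow)) m n

theorem mg_pow_fix {m : MG} {i : Fin 8} (h : m.right i = i) (n : ℕ) : (m ^ n).left i = m.left i ^ n := by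
  induction n with
  | zero => rw [pow_zero, pow_zero]; rfl
  | succ n ih =>
    have : m.right⁻¹ i = i := by rw [Perm.inv_eq_iff_eq, h]
    rw [pow_succ', mg_left, this, ih, pow_succ']

theorem mg_pres {h : MG} (hx : h * mX = mX * h) (i : Fin 8) :
    (h.right i = 0 ∨ h.right i = 1) ↔ (i = 0 ∨ i = 1) := by
  have a := congrArg (fun m : MG => m.left (h.right i)) hx
  simp only [mg_left, Perm.coe_inv, Equiv.symm_apply_apply] at a
  have b' : (Equiv.symm mX.right) (h.right i) = h.right i := rfl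
  rw [b', mul_comm] at a
  have c := mul_right_cancel a
  have d : ∀ j k : Fin 8, mX.left j = mX.left k → ((k = 0 ∨ k = 1) ↔ (j = 0 ∨ j = 1)) := by decide +kernel
  exact d _ _ c

theorem mg_fix01 {h : MG} (hx : h * mX = mX * h) {n : ℕ} (ho : Odd n) (hn : h ^ n = 1) :
    h.right 0 = 0 ∧ h.right 1 = 1 ∧ h.left 0 = 1 ∧ h.left 1 = 1 := by
  have a0 := (mg_pres hx 0).2 (Or.inl rfl)
  have a1 := (mg_pres hx 1).2 (Or.inr rfl)
  have hr : h.right ^ n = 1 := by rw [← mg_right_pow, hn]; rfl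
  have f0 : h.right 0 = 0 := by
    refine a0.resolve_right fun e => ?_
    have e1 : h.right 1 = 0 := a1.resolve_right fun e' => by
      have := h.right.injective (e.trans e'.symm)
      exact absurd this (by decide)
    obtain ⟨k, rfl⟩ := ho
    have : ∀ k : ℕ, (h.right ^ (2 * k)) 1 = 1 := by
      intro k
      induction k with
      | zero => rfl
      | succ k ih => rw [mul_add, mul_one, pow_add, Perm.mul_apply, pow_two, Perm.mul_apply, e1, e, ih]
    have b := congrArg (fun s : Perm (Fin 8) => s 0) hr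
    simp only [pow_succ, Perm.mul_apply, e, this, Perm.one_apply] at b
    exact absurd b (by decide)
  have f1 : h.right 1 = 1 := a1.resolve_left fun e' => by
    have := h.right.injective (f0.trans e'.symm)
    exact absurd this (by decide)
  have sg : ∀ i, h.right i = i → h.left i = 1 := by
    intro i hi
    have b := mg_pow_fix hi n
    rw [hn] at b
    rcases Int.units_eq_one_or (h.left i) with e | e
    · exact e
    · rw [e, ho.neg_one_pow] at b
      exact absurd b (by change (1 : ℤˣ) ≠ -1; decide)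
  exact ⟨f0, f1, sg 0 f0, sg 1 f1⟩

theorem MGodd (h : MG) (hx : h * mX = mX * h) (ho : Odd (orderOf h)) : h * mS = mS * h := by
  obtain ⟨f0, f1, g0, g1⟩ := mg_fix01 hx ho (pow_orderOf_eq_one h)
  refine SemidirectProduct.ext (funext fun i => ?_) ?_
  · rw [mg_left, mg_left]
    have a : ∀ j, mS.left j = 1 := by decide +kernel
    have b : mS.right = swap 0 1 := rfl
    rw [a, a, b, mul_one, one_mul, swap_inv]
    by_cases h0 : i = 0
    · subst h0; rw [swap_apply_left, g0, g1]
    · by_cases h1 : i = 1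
      · subst h1; rw [swap_apply_right, g0, g1]
      · rw [swap_apply_of_ne_of_ne h0 h1]
  · change h.right * swap 0 1 = swap 0 1 * h.right
    rw [mul_swap_eq_swap_mul, f0, f1]

theorem mg_d1 : ∀ a : Fin 8, ∀ ε : Fin 8 → ℤˣ, (∀ i j, i ≠ 0 → i ≠ 1 → i ≠ a → j ≠ 0 → j ≠ 1 → j ≠ a → ε i = ε j) →
    ∑ i, (ε i : ℤ) ≠ 0 := by
  decide +kernel

theorem mg_d2 : ∀ a : Fin 8, ∀ ε : Fin 8 → ℤˣ, (∀ i j, i ≠ 0 → i ≠ 1 → i ≠ a → j ≠ 0 → j ≠ 1 → j ≠ a → ε i = ε j) →
    ε 0 = ε 1 → ∏ i, ε i = 1 → (⟨ε, swap 0 1⟩ : MG) ∈ [mS, mN * mS, mX * mS, mN * mX * mS] := by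
  have : ∀ a : Fin 8, ∀ ε : Fin 8 → ℤˣ, (∀ i j, i ≠ 0 → i ≠ 1 → i ≠ a → j ≠ 0 → j ≠ 1 → j ≠ a → ε i = ε j) →
      ε 0 = ε 1 → ∏ i, ε i = 1 → ε = mS.left ∨ ε = (mN * mS).left ∨ ε = (mX * mS).left ∨ ε = (mN * mX * mS).left := by
    set_option synthInstance.maxSize 1000 in
    set_option synthInstance.maxHeartbeats 200000 in
    decide +kernel
  intro a ε h1 h2 h3
  have r1 : (mN * mS).right = swap 0 1 := by decide +kernel
  have r2 : (mX * mS).right = swap 0 1 := by decide +kernel
  have r3 : (mN * mX * mS).right = swap 0 1 := by decide +kernel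
  simp only [List.mem_cons, List.not_mem_nil, or_false]
  rcases this a ε h1 h2 h3 with e | e | e | e
  · exact Or.inl (SemidirectProduct.ext e rfl)
  · exact Or.inr (Or.inl (SemidirectProduct.ext e r1.symm))
  · exact Or.inr (Or.inr (Or.inl (SemidirectProduct.ext e r2.symm)))
  · exact Or.inr (Or.inr (Or.inr (SemidirectProduct.ext e r3.symm)))

theorem MG5 (f m : MG) (_hf : Ev f) (hm : Ev m) (fx : f * mX = mX * f) (mx : m * mX = mX * m) (f5 : f ^ 5 = 1)
    (f1 : f ≠ 1) (fm : m * f = f * m) (m2 : m * m = 1 ∨ m * m = mN) :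
    (m.right = 1 ∧ ∑ i, (m.left i : ℤ) ≠ 0) ∨ m ∈ [mS, mN * mS, mX * mS, mN * mX * mS] := by
  obtain ⟨f0, f1', -, -⟩ := mg_fix01 fx (by decide : Odd 5) f5
  set σ := f.right with hσ
  set τ := m.right with hτ
  have s5 : σ ^ 5 = 1 := by rw [hσ, ← mg_right_pow, f5]; rfl
  have s1 : σ ≠ 1 := by
    intro e
    apply f1
    refine SemidirectProduct.ext (funext fun i => ?_) e
    have b := mg_pow_fix (m := f) (i := i) (by rw [← hσ, e]; rfl) 5
    rw [f5] at b
    rcases Int.units_eq_one_or (f.left i) with e | e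
    · exact e
    · rw [e] at b
      exact absurd b (by change (1 : ℤˣ) ≠ (-1) ^ 5; decide)
  haveI : Fact (Nat.Prime 5) := ⟨by norm_num⟩
  have o5 : orderOf σ = 5 := orderOf_eq_prime s5 s1
  have cyc : σ.IsCycle := Perm.isCycle_of_prime_order' (by rw [o5]; norm_num) (by rw [o5]; simp)
  have c5 : σ.support.card = 5 := by rw [← cyc.orderOf, o5]
  have t2 : τ * τ = 1 := by
    rcases m2 with e | e <;> exact congrArg SemidirectProduct.right e
  have ts : τ * σ = σ * τ := congrArg SemidirectProduct.right fm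
  have tsp : ∀ k : ℕ, ∀ x, τ ((σ ^ k) x) = (σ ^ k) (τ x) := fun k x => by
    have : τ * σ ^ k = σ ^ k * τ := (Commute.pow_right ts k).eq
    exact congrArg (fun s : Perm (Fin 8) => s x) this
  have tfix : ∀ x, σ x ≠ x → τ x = x := by
    intro x hx
    have hx' : σ (τ x) ≠ τ x := fun e => hx (τ.injective (by
      have := tsp 1 x
      rw [pow_one] at this
      rw [this, e]))
    obtain ⟨k, hk⟩ := cyc.exists_pow_eq hx hx'
    have a : (σ ^ (k + k)) x = x := by
      rw [pow_add, Perm.mul_apply, hk, ← tsp, hk, ← Perm.mul_apply, t2]; rfl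
    have b : σ ^ (k + k) = 1 := (cyc.pow_eq_one_iff' hx).2 a
    rw [← orderOf_dvd_iff_pow_eq_one, o5] at b
    have c : σ ^ k = 1 := by rw [← orderOf_dvd_iff_pow_eq_one, o5]; omega
    rw [← hk, c]; rfl
  obtain ⟨a, ha⟩ : ∃ a : Fin 8, ∀ i, i ≠ 0 → i ≠ 1 → i ≠ a → σ i ≠ i := by
    have c3 : (σ.supportᶜ \ {0, 1}).card = 1 := by
      rw [Finset.card_sdiff_of_subset (by
        intro x hx
        simp only [Finset.mem_insert, Finset.mem_singleton] at hx
        rcases hx with rfl | rfl <;> simp [f0, f1']), Finset.card_compl, c5]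
      rfl
    obtain ⟨a, ha⟩ := Finset.card_eq_one.1 c3
    refine ⟨a, fun i h0 h1 hi e => hi ?_⟩
    rw [← Finset.mem_singleton, ← ha]
    simp [e, h0, h1]
  have step : ∀ x, σ x ≠ x → m.left (σ x) = m.left x := by
    intro x hx
    have hx' : σ (σ x) ≠ σ x := fun e => hx (σ.injective e)
    have e := congrArg (fun n : MG => n.left (σ x)) fm
    simp only [mg_left] at e
    have e1 : m.right⁻¹ (σ x) = σ x := by rw [Perm.inv_eq_iff_eq]; exact (tfix _ hx').symm
    have e2 : f.right⁻¹ (σ x) = x := f.right.symm_apply_apply x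
    rw [e1, e2, mul_comm] at e
    exact mul_left_cancel e
  have stepk : ∀ x, σ x ≠ x → ∀ k : ℕ, m.left ((σ ^ k) x) = m.left x := by
    intro x hx k
    induction k with
    | zero => rfl
    | succ k ih =>
      have : σ ((σ ^ k) x) ≠ (σ ^ k) x := fun e => hx ((σ ^ k).injective (by
        rw [← Perm.mul_apply, ← pow_succ, pow_succ', Perm.mul_apply, e]))
      rw [pow_succ', Perm.mul_apply, step _ this, ih]
  have cst : ∀ i j, i ≠ 0 → i ≠ 1 → i ≠ a → j ≠ 0 → j ≠ 1 → j ≠ a → m.left i = m.left j := by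
    intro i j i0 i1 ia j0 j1 ja
    obtain ⟨k, hk⟩ := cyc.exists_pow_eq (ha i i0 i1 ia) (ha j j0 j1 ja)
    rw [← hk, stepk i (ha i i0 i1 ia)]
  have tout : ∀ i, i ≠ 0 → i ≠ 1 → τ i = i := by
    intro i i0 i1
    by_cases ia : i = a
    · by_contra hh
      have p := mg_pres mx i
      rw [← hτ] at p
      have q : ¬ (τ i = 0 ∨ τ i = 1) := fun e => by rcases p.1 e with e | e <;> contradiction
      push Not at q
      have r := tfix _ (ha (τ i) q.1 q.2 (by rw [← ia]; exact hh))
      exact hh (τ.injective r)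
    · exact tfix _ (ha i i0 i1 ia)
  have a0 : τ 0 = 0 ∨ τ 0 = 1 := (mg_pres mx 0).2 (Or.inl rfl)
  have a1 : τ 1 = 0 ∨ τ 1 = 1 := (mg_pres mx 1).2 (Or.inr rfl)
  rcases a0 with a0 | a0
  · left
    refine ⟨?_, mg_d1 a _ cst⟩
    have b1 : τ 1 = 1 := a1.resolve_left fun e' => absurd (τ.injective (a0.trans e'.symm)) (by decide)
    ext i
    by_cases h0 : i = 0
    · rw [h0, a0]; rfl
    · by_cases h1 : i = 1
      · rw [h1, b1]; rfl
      · rw [tout i h0 h1]; rfl
  · right
    have b1 : τ 1 = 0 := a1.resolve_right fun e' => absurd (τ.injective (a0.trans e'.symm)) (by decide)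
    have tw : τ = swap 0 1 := by
      ext i
      by_cases h0 : i = 0
      · rw [h0, a0]; rfl
      · by_cases h1 : i = 1
        · rw [h1, b1]; rfl
        · rw [tout i h0 h1, swap_apply_of_ne_of_ne h0 h1]
    have me : m = ⟨m.left, swap 0 1⟩ := SemidirectProduct.ext rfl tw
    have l2 : (m * m).left 2 = 1 := by
      rw [mg_left, ← hτ, tw]
      exact Int.units_mul_self _
    have mm1 : m * m = 1 := m2.resolve_right fun e => by
      rw [e] at l2
      exact absurd l2 (by decide +kernel)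
    have l0 : (m * m).left 0 = m.left 0 * m.left 1 := by rw [mg_left, ← hτ, tw]; rfl
    rw [mm1] at l0
    have e01 : m.left 0 = m.left 1 := by
      have : m.left 0 * m.left 1 = m.left 1 * m.left 1 := by rw [← l0, Int.units_mul_self]; rfl
      exact mul_right_cancel this
    rw [me]
    exact mg_d2 a _ cst e01 hm

end Cfsg.Lib.Oz
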