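import Cfsg.Agent.Lib.Linear.OzF3
import Cfsg.Agent.Lib.Linear.OzU0
import Cfsg.Agent.Lib.Linear.OzU1

/-! Every commuting conjugate acts as a reflection. -/

set_option autoImplicit false

namespace Cfsg.Lib.Oz

open Matrix

variable {G : Type*} [Group G] {z : G} {lm : GG → G}

theorem UX'' {u : GG} (hu : u ∈ W) (h : u * μ mX = μ mX * u) : ∃ m, Ev m ∧ u = μ m :=
  UX' (fun _ hv => root_W hu hv) h

theorem tr_diag {m : MG} (h : m.right = 1) : tr (μ m) = ((∑ i, (m.left i : ℤ) : ℤ) : ℚ) := by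
  simp [tr, μ_val, trace, mon, h]

theorem diag_sq {m : MG} (h : m.right = 1) : m * m = 1 := by
  ext i
  · rw [mg_left, h]; simp
  · simp [h]

theorem St.notX (h : St z lm) : ¬ IsConj z (lg lm mX) := by
  intro hz
  obtain ⟨g, gt, gz⟩ := h.exX hz
  have hu : Ee mX := by decide +kernel
  have a := h.lg_act hu
  have cz : ∀ m, Ee m → m * mX = mX * m → Commute (ps g (lg lm m)) z := fun m hm c =>
    gt ▸ (h.lg_comm a hm c).map (ps g)
  have ct : ∀ m, Ee m → Commute (ps g (lg lm m)) (lm (μ mX)) := fun m hm =>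
    (show ps g z = lm (μ mX) from gz) ▸ (h.cz hm.mem).map (ps g)
  have e1 : Ee (mm [0, 2] 1) := by decide +kernel
  have ef : Ee (mm [] (sw 3 4 * sw 4 5 * sw 5 6 * sw 6 7)) := by decide +kernel
  obtain ⟨u1, a1⟩ := h.ex (cz _ e1 (by decide +kernel))
  obtain ⟨uf, af, f5⟩ := h.ex_odd (cz _ ef (by decide +kernel)) (k := 5) (by decide) (by
    rw [← map_pow, ← (h.lg_pow ef 5).2, show mm [] (sw 3 4 * sw 4 5 * sw 5 6 * sw 6 7) ^ 5 = 1 by decide +kernel,
      h.lg_one, map_one])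
  have x1 := (h.comm a1 hu.mem).1 (ct _ e1)
  have xf := (h.comm af hu.mem).1 (ct _ ef)
  have c1f := h.comm_odd af a1 ((h.lg_comm (h.lg_act e1) ef (by decide +kernel)).map (ps g)) (by decide) f5
  obtain ⟨m, em, rfl⟩ := UX'' a1.1 x1
  obtain ⟨f0, ef0, rfl⟩ := UX'' af.1 xf
  have y2 : ps g (lg lm (mm [0, 2] 1)) * ps g (lg lm (mm [0, 2] 1)) = 1 := by
    rw [← map_mul, h.lg_sq e1 (by decide +kernel), map_one]
  have r0 : Rg lm g (mm [2, 3] 1) :=
    h.rg gt a [mm [] (sw 2 3 * sw 3 4), mm [2, 4] (sw 2 4 * sw 3 4)] (by decide +kernel)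
  -- commutation can be pulled back
  have back : ∀ {p q : MG}, Ee p → Ee q → Commute (ps g (lg lm p)) (ps g (lg lm q)) → p * q = q * p :=
    fun hp hq c => h.lg_inj (hp.mul hq) (hq.mul hp) (ps_inj g (by
      rw [h.lg_mul hp hq, h.lg_mul hq hp, map_mul, map_mul, c.eq]))
  have f1 : f0 ≠ 1 := by
    rintro rfl
    obtain ⟨y, hy, e⟩ := r0.2
    have := back ef r0.1 (e ▸ (h.comm af hy).2 (by simp))
    revert this
    decide +kernel
  have s1 : IsConj z (ps g (lg lm (mm [0, 2] 1))) :=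
    (hz.trans (h.lg_isConj (mm [] (sw 1 2 * sw 3 4)) (by decide +kernel))).trans (ps_isConj g _)
  have s2 : IsConj z (ps g (lg lm (mm [0, 2] 1)) * z) := by
    rw [← gt, ← map_mul, ← h.lg_mul e1 hu, gt]
    exact (hz.trans (h.lg_isConj (mm [] (sw 0 2 * sw 3 4)) (by decide +kernel))).trans (ps_isConj g _)
  rcases MG5 f0 m ef0 em (μ_inj (by simpa using xf)) (μ_inj (by simpa using x1))
    (μ_inj (by simpa using f5)) f1 (μ_inj (by simpa using c1f.symm))
    ((h.sq a1 y2).imp (fun e => μ_inj (by simpa using e)) (fun e => μ_inj (by simpa [μ_mN] using e))) with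
    ⟨m1, m2⟩ | hm
  · have hm : Ee m := ⟨em, by simp [m1]⟩
    have hL : InL lm (ps g (lg lm (mm [0, 2] 1))) ∧ tv lm (ps g (lg lm (mm [0, 2] 1))) ≠ 0 := by
      have t0 : tr (μ m) ≠ 0 := by rw [tr_diag m1]; exact_mod_cast m2
      rcases h.inL a1 hm.mem y2 (by rw [← map_mul, diag_sq m1, map_one]) with e | e
      · exact ⟨⟨_, hm.mem, e⟩, by rw [e, h.tv_lm hm.mem]; exact t0⟩
      · exact ⟨⟨_, neg_mem_Wp hm.mem, e⟩, by rw [e, h.tv_lm (neg_mem_Wp hm.mem), tr_neg]; simpa using t0⟩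
    obtain ⟨-, n1, nz⟩ := h.ps_facts hu gt e1 (by decide +kernel)
    have t1 := h.cls' hL.1 s1 nz
    have t2 := h.cls' (hL.1.mul h h.inL_z) s2 (by simpa using n1)
    rw [h.tv_z hL.1] at t2
    rcases t1 with ⟨-, t1⟩ | ⟨-, t1⟩
    · rcases t2 with ⟨-, t2⟩ | ⟨-, t2⟩ <;> linarith
    · exact hL.2 t1
  · have odd3 : ∀ p : MG, Ee p → p * mX = mX * p → p ^ 3 = 1 →
        ∃ u, Act lm (ps g (lg lm p)) u ∧ u * μ m = μ m * u := by
      intro p hp px p3
      obtain ⟨u, au, u3⟩ := h.ex_odd (cz _ hp px) (k := 3) (by decide) (by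
        rw [← map_pow, ← (h.lg_pow hp 3).2, p3, h.lg_one, map_one])
      have xu := (h.comm au hu.mem).1 (ct _ hp)
      obtain ⟨n, en, rfl⟩ := UX'' au.1 xu
      have nx : n * mX = mX * n := μ_inj (by simpa using xu)
      have ns : Commute n mS := MGodd n nx (odd_of_three (μ_inj (by simpa using u3)))
      have nN : Commute n mN := μ_inj (by simp [μ_mN])
      have nx' : Commute n mX := nx
      refine ⟨_, au, ?_⟩
      rw [← map_mul, ← map_mul]
      congr 1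
      simp only [List.mem_cons, List.not_mem_nil, or_false] at hm
      rcases hm with rfl | rfl | rfl | rfl
      · exact ns
      · exact nN.mul_right ns
      · exact nx'.mul_right ns
      · exact (nN.mul_right nx').mul_right ns
    have h1 : Ee (mm [] (sw 3 4 * sw 4 5)) := by decide +kernel
    have h2 : Ee (mm [] (sw 2 5 * sw 3 5)) := by decide +kernel
    obtain ⟨u, au, cu⟩ := odd3 _ h1 (by decide +kernel) (by decide +kernel)
    obtain ⟨v, av, cv⟩ := odd3 _ h2 (by decide +kernel) (by decide +kernel)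
    have r1 : Rg lm g (mm [] (sw 3 4 * sw 4 5) * mm [] (sw 2 5 * sw 3 5)) :=
      h.rg gt a [mm [] (sw 3 4 * sw 4 5), mm [] (sw 2 5 * sw 3 5)] (by decide +kernel)
    obtain ⟨y, hy, e⟩ := r1.2
    have auv := au.mul av
    rw [← map_mul, ← h.lg_mul h1 h2, e] at auv
    have cuv : Commute (u * v) (μ m) := Commute.mul_left cu cv
    have cy : μ m * y = y * μ m := by
      rcases h.uniq auv (h.self hy) with e' | e'
      · rw [e']; exact cuv.symm.eq
      · rw [e']; exact cuv.neg_left.symm.eq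
    have := back e1 r1.1 (e ▸ (h.comm a1 hy).2 cy)
    revert this
    decide +kernel

theorem St.notE (h : St z lm) : ¬ IsConj z (lg lm mE) := by
  intro hz
  obtain ⟨g, gt⟩ := ex_ps hz
  have hu : Ee mE := by decide +kernel
  have a := h.lg_act hu
  have r : Rg lm g (mm [0, 1, 2, 3, 6, 7] p4) :=
    h.rg gt a [mm [] (sw 0 2 * sw 1 3 * sw 2 4 * sw 3 5), mm [5, 6] (sw 2 6 * sw 3 7 * sw 4 7 * sw 5 6),
      mm [0, 1, 3, 7] (sw 0 6 * sw 1 7 * sw 2 7 * sw 3 6)] (by decide +kernel)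
  have s1 : IsConj z (ps g (lg lm (mm [0, 1, 2, 3, 6, 7] p4))) :=
    (hz.trans (h.lg_isConj (mm [0, 2, 4, 5, 6, 7] 1) (by decide +kernel))).trans (ps_isConj g _)
  obtain ⟨-, -, nz⟩ := h.ps_facts hu gt r.1 (by decide +kernel)
  rcases h.cls' r.2 s1 nz with ⟨e, -⟩ | ⟨⟨c, hc, e⟩, -⟩
  · exact h.notX (s1.trans e.isConj)
  · have s2 : IsConj (ps g (lg lm mA)) (lg lm (mE * mN)) := by
      rw [show mA = mm [0, 1, 2, 3, 6, 7] p4 * mE by decide +kernel, h.lg_mul r.1 hu, map_mul, gt,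
        h.lg_mul hu ee_N, h.lg_N, ← e]
      refine isConj_iff.2 ⟨lm c, ?_⟩
      rw [← mul_assoc, mul_assoc _ z, ← (h.cz hc).inv_left.eq, ← mul_assoc]
    exact h.notA ((hz.trans (h.lg_isConj (mm [1, 3, 5, 7] 1) (by decide +kernel))).trans
      ((ps_isConj g _).trans s2).symm)

theorem St.SL (h : St z lm) {n : G} (hn : InL lm n) (hz : IsConj z n) : n = z := by
  by_contra nz
  rcases h.cls' hn hz nz with ⟨e, -⟩ | ⟨e, -⟩
  · exact h.notX (hz.trans e.isConj)
  · exact h.notE (hz.trans e.isConj)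

theorem St.lg_conj_act (h : St z lm) {t : G} {u : MG} (a : Act lm t (μ u)) (tt : t * t = 1) {l : MG}
    (hl : Ee l) {y : MG} (hy : y = l * (u * l⁻¹ * u⁻¹)) : lg lm l * t * (lg lm l)⁻¹ = lg lm y * t := by
  have e := a.2 _ (Wp.inv_mem hl.mem)
  rw [hy, lg, lg, map_mul, h.mul _ hl.mem _ (by simpa using conj_mem a.1 (Wp.inv_mem hl.mem))]
  simp only [map_mul, map_inv]
  rw [← e, h.inv hl.mem, inv_eq_of_mul_eq_one_right tt]
  simp [mul_assoc, tt]

theorem St.kill (h : St z lm) {t : G} (hz : IsConj z t) {u : MG} (a : Act lm t (μ u)) (l : List MG) {y : MG}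
    (hl : Gl u l ∧ l.prod = y ∧ y * y = 1 ∧ Ee y) (y1 : y ≠ 1) (s : IsConj z (lg lm y * t)) : False := by
  obtain ⟨g, gt⟩ := ex_ps hz
  have r := h.rg gt a l hl
  have e := h.SL (r.2.mul h h.inL_z) (by
    rw [← gt, ← map_mul, gt]; exact s.trans (ps_isConj g _))
  rw [mul_eq_right] at e
  exact y1 (h.lg_inj r.1 ee_one (ps_inj g (by rw [e, h.lg_one, map_one])))

theorem St.notJ (h : St z lm) {t : G} (hz : IsConj z t) (nz : t ≠ z) {u : MG} (a : Act lm t (μ u))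
    (l : List MG) (hl : Gl u l ∧ l.prod = mN ∧ mN * mN = 1 ∧ Ee mN) : False := by
  obtain ⟨g, gt⟩ := ex_ps hz
  have r := (h.rg gt a l hl).2
  rw [h.lg_N] at r
  exact nz (ps_inj g (by rw [gt, h.SL r (ps_isConj g z)]))

theorem sq_of_isConj (h : St z lm) {n : G} (hz : IsConj z n) : n * n = 1 := by
  obtain ⟨c, hc⟩ := isConj_iff.1 hz
  rw [← hc]; simp [mul_assoc, ← mul_assoc z z, h.zz]

theorem St.act_conj (h : St z lm) {t : G} {u c : GG} (a : Act lm t u) (hc : c ∈ Wp) :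
    Act lm (lm c * t * (lm c)⁻¹) (c * u * c⁻¹) := ((h.self hc).mul a).mul (h.self hc).inv

/-- vector used to move `e₂ + e₃` to `e₄ - e₅` -/
def gam : V := hr 160

theorem cC : rf (gam - dr 4 5 1 (-1)) * rf (dr 2 3 1 1 - gam) * μ mC =
    μ (mm [] (sw 0 1 * sw 2 3 * sw 4 5)) * (rf (gam - dr 4 5 1 (-1)) * rf (dr 2 3 1 1 - gam)) := by
  refine Units.ext ?_
  simp only [Units.val_mul, μ_val, rf_val (root_norm (gam - dr 4 5 1 (-1)) (by decide +kernel)),
    rf_val (root_norm (dr 2 3 1 1 - gam) (by decide +kernel))]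
  decide +kernel

theorem St.notC (h : St z lm) {t : G} (hz : IsConj z t) (a : Act lm t (μ mC)) : False := by
  have hc : rf (gam - dr 4 5 1 (-1)) * rf (dr 2 3 1 1 - gam) ∈ Wp :=
    rf_mul_mem (by decide +kernel) (by decide +kernel)
  have a' := h.act_conj a hc
  rw [cC, mul_inv_cancel_right] at a'
  have hz' := hz.trans (isConj_iff.2 ⟨lm (rf (gam - dr 4 5 1 (-1)) * rf (dr 2 3 1 1 - gam)), rfl⟩)
  refine h.kill hz' a' [mm [] (sw 0 2 * sw 1 3 * sw 2 4 * sw 3 5), mm [0, 1, 2, 3] (sw 0 4 * sw 1 5 * sw 2 4 * sw 3 5)]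
    (y := mm [2, 3, 4, 5] 1) (by decide +kernel) (by decide +kernel) ?_
  rw [← h.lg_conj_act a' (sq_of_isConj h hz') (l := mm [3, 5] 1) (by decide +kernel) (by decide +kernel)]
  exact hz'.trans (isConj_iff.2 ⟨_, rfl⟩)

theorem St.notSz (h : St z lm) {t : G} (hz : IsConj z t) (a : Act lm t (μ mS)) : ¬ IsConj z (t * z) := by
  intro s
  refine h.kill hz a [mm [] (sw 2 3 * sw 3 4 * sw 5 6 * sw 6 7), mm [6, 7] (sw 2 3 * sw 3 5 * sw 4 6 * sw 6 7),
    mm [2, 3, 5, 7] (sw 2 7 * sw 3 5 * sw 4 7 * sw 5 6)] (y := mN * mX) (by decide +kernel) (by decide +kernel) ?_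
  have hl : Ee (mm [0, 2] 1) := by decide +kernel
  have e := h.lg_conj_act a (sq_of_isConj h hz) (y := mX) hl (by decide +kernel)
  rw [h.lg_mul ee_N (by decide +kernel), h.lg_N, mul_assoc, ← e]
  refine s.trans (isConj_iff.2 ⟨lg lm (mm [0, 2] 1), ?_⟩)
  rw [(a.cz h).eq, ← mul_assoc, lg, (h.cz hl.mem).eq]
  simp [mul_assoc]

/-- every other commuting conjugate of `z` acts as a reflection -/
theorem St.refl (h : St z lm) {t : G} (hz : IsConj z t) (c : Commute t z) (nz : t ≠ z) :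
    ∃ c ∈ Wp, Act lm (lm c * t * (lm c)⁻¹) (μ mS) := by
  obtain ⟨u, a⟩ := h.ex c
  obtain ⟨c, hc, m, hm, e⟩ := classify a.1 (h.sq a (sq_of_isConj h hz))
  have a' := h.act_conj a hc
  rw [e] at a'
  have hz' := hz.trans (isConj_iff.2 ⟨lm c, rfl⟩)
  have nz' : lm c * t * (lm c)⁻¹ ≠ z := fun e => nz (by
    rw [mul_inv_eq_iff_eq_mul, ← (h.cz hc).eq, mul_right_inj] at e
    exact e)
  have inl : ∀ m, Ee m → m * m = 1 → Act lm (lm c * t * (lm c)⁻¹) (μ m) → False := fun m hm mm a => by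
    refine nz' (h.SL ?_ hz')
    rcases h.inL a hm.mem (sq_of_isConj h hz') (by rw [← map_mul, mm, map_one]) with e | e
    · exact ⟨_, hm.mem, e⟩
    · exact ⟨_, neg_mem_Wp hm.mem, e⟩
  have ng : ∀ m, Act lm (lm c * t * (lm c)⁻¹) (μ (mN * m)) → Act lm (lm c * t * (lm c)⁻¹) (μ m) :=
    fun m a => by simpa [μ_mN] using a.neg
  simp only [reps, List.mem_cons, List.not_mem_nil, or_false] at hm
  rcases hm with rfl | rfl | rfl | rfl | rfl | rfl | rfl | rfl | rfl | rfl | rfl | rfl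
  · exact (inl _ (by decide +kernel) (by decide +kernel) a').elim
  · exact (inl _ (by decide +kernel) (by decide +kernel) a').elim
  · exact ⟨c, hc, a'⟩
  · exact ⟨c, hc, ng _ a'⟩
  · exact (inl _ (by decide +kernel) (by decide +kernel) a').elim
  · exact (inl _ (by decide +kernel) (by decide +kernel) a').elim
  · exact (h.notC hz' a').elim
  · exact (h.notC hz' (ng _ a')).elim
  · exact (inl _ (by decide +kernel) (by decide +kernel) a').elim
  · exact (inl _ (by decide +kernel) (by decide +kernel) a').elim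
  · exact (h.notJ hz' nz' a' [mm [] (sw 2 4 * sw 3 5 * sw 4 6 * sw 5 7), mm [2, 3, 6, 7] (sw 0 2 * sw 1 3 * sw 2 6 * sw 3 7),
      mm [4, 5, 6, 7] (sw 0 6 * sw 1 7 * sw 4 6 * sw 5 7)] (by decide +kernel)).elim
  · exact (h.notJ hz' nz' a' [mm [] (sw 2 4 * sw 3 5 * sw 4 6 * sw 5 7), mm [1, 2, 6, 7] (sw 0 2 * sw 1 3 * sw 2 6 * sw 3 7),
      mm [1, 4, 5, 6] (sw 0 6 * sw 1 7 * sw 4 6 * sw 5 7)] (by decide +kernel)).elim

theorem St.refl' (h : St z lm) {t : G} (hz : IsConj z t) (c : Commute t z) (nz : t ≠ z) :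
    (∃ b ∈ roots, Act lm t (rf b)) ∧ ¬ IsConj z (t * z) := by
  obtain ⟨c, hc, a⟩ := h.refl hz c nz
  have r0 : dr 0 1 1 (-1) ∈ roots := by decide +kernel
  constructor
  · have a' := h.act_conj a (Wp.inv_mem hc)
    rw [h.inv hc, μ_mS, conj_rf (W.inv_mem (Wp_le_W hc)) r0] at a'
    exact ⟨_, root_W (W.inv_mem (Wp_le_W hc)) r0, by simpa [mul_assoc] using a'⟩
  · intro s
    refine h.notSz (hz.trans (isConj_iff.2 ⟨lm c, rfl⟩)) a (s.trans (isConj_iff.2 ⟨lm c, ?_⟩))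
    rw [← mul_assoc, mul_assoc _ z, ← (h.cz hc).inv_left.eq, ← mul_assoc]

end Cfsg.Lib.Oz
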