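import Cfsg.Agent.Lib.Linear.OzN
import Cfsg.Agent.Lib.Linear.OzB

/-! Odd-order elements of the Weyl group of type E8 fixing four orthogonal roots. -/

set_option autoImplicit false

namespace Cfsg.Lib.Oz

open Matrix

theorem n_comm {u : GG} (hu : u ∈ W) (ho : Odd (orderOf u)) {v : V} (hv : v ∈ roots) (h : u * rf v = rf v * u) :
    (u : Matrix (Fin 8) (Fin 8) ℚ) *ᵥ v = v := by
  have nv := root_norm v hv
  have h1 := congrArg (fun g : GG => (g : Matrix (Fin 8) (Fin 8) ℚ) *ᵥ v) h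
  simp only [Units.val_mul, rf_val nv, ← mulVec_mulVec, rm, sub_mulVec, one_mulVec, vecMulVec_mulVec, nv, mulVec_sub,
    op_smul_eq_smul, mulVec_smul] at h1
  obtain ⟨c, hc⟩ : ∃ c : ℚ, (u : Matrix (Fin 8) (Fin 8) ℚ) *ᵥ v = c • v :=
    ⟨(v ⬝ᵥ (u : Matrix (Fin 8) (Fin 8) ℚ) *ᵥ v) / 2, by
      ext i
      have := congrFun h1 i
      simp only [Pi.sub_apply, Pi.smul_apply, smul_eq_mul] at this ⊢
      linarith⟩
  have h2 := orth_W hu v v
  rw [hc, smul_dotProduct, dotProduct_smul, nv, smul_eq_mul, smul_eq_mul] at h2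
  refine n_odd ho ?_
  rw [hc, mulVec_smul, hc, smul_smul, show c * c = 1 by linarith, one_smul]

theorem N4 {b : V} (hb : b ∈ roots) (h1 : b ⬝ᵥ dr 0 1 1 (-1) = 0) (h2 : b ⬝ᵥ dr 0 1 1 1 = 0) (h3 : b ⬝ᵥ dr 2 3 1 (-1) = 0)
    (h4 : rf b ≠ rf (dr 2 3 1 1)) {u : GG} (hu : u ∈ W) (ho : Odd (orderOf u))
    (hc : ∀ v ∈ [dr 0 1 1 (-1), dr 0 1 1 1, dr 2 3 1 (-1), b], u * rf v = rf v * u) : u = 1 := by
  obtain ⟨c0, c1, c2⟩ := n_co h1 h2 h3
  have c3 : b 2 = 0 := by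
    rcases n_five _ hb c0 c1 c2 with h | h | h
    · exact h
    · exact (h4 (by rw [h])).elim
    · exact (h4 (by rw [h, n_rf_neg])).elim
  have f1 := n_comm hu ho (v := dr 0 1 1 (-1)) (by decide +kernel) (hc _ (by simp))
  have f2 := n_comm hu ho (v := dr 0 1 1 1) (by decide +kernel) (hc _ (by simp))
  have f3 := n_comm hu ho (v := dr 2 3 1 (-1)) (by decide +kernel) (hc _ (by simp))
  have f4 := n_comm hu ho hb (hc _ (by simp))
  have fx : ∀ {v : V}, (u : Matrix (Fin 8) (Fin 8) ℚ) *ᵥ v = v → ∀ x, ((u : Matrix (Fin 8) (Fin 8) ℚ) *ᵥ x) ⬝ᵥ v = x ⬝ᵥ v :=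
    fun {v} h x => by
      conv_lhs => rw [← h]
      exact orth_W hu x v
  have f5 : (u : Matrix (Fin 8) (Fin 8) ℚ) *ᵥ dr 0 2 1 1 = dr 0 2 1 1 := by
    refine n_two ho (fun x => x ∈ roots ∧ x 0 = 1 ∧ x 1 = 0 ∧ x 2 - x 3 = 1) (fun x ⟨a, a0, a1, a2⟩ => ?_)
      (l := [dr 0 2 1 1, dr 0 3 1 (-1)]) le_rfl (fun x ⟨a, a0⟩ => ?_) (by decide +kernel)
    · have e1 := fx f1 x
      have e2 := fx f2 x
      have e3 := fx f3 x
      refine ⟨root_W hu a, ?_⟩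
      generalize (u : Matrix (Fin 8) (Fin 8) ℚ) *ᵥ x = y at *
      simp [n_dot, dr] at e1 e2 e3
      refine ⟨?_, ?_, ?_⟩ <;> linarith
    · revert x
      simp only [and_imp]
      decide +kernel
  have st : ∀ F : List V, (∀ v ∈ F, (u : Matrix (Fin 8) (Fin 8) ℚ) *ᵥ v = v) → ∀ t, t ∈ roots ∧ nP t → ncnt F t = true →
      (u : Matrix (Fin 8) (Fin 8) ℚ) *ᵥ t = t := fun F hF t ht h => by
    refine n_two ho (fun x => x ∈ roots ∧ nP x ∧ ∀ v ∈ F, x ⬝ᵥ v = t ⬝ᵥ v) (fun x ⟨a, ⟨a0, a1, a2⟩, a3⟩ => ?_)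
      (Nat.le_of_ble_eq_true h) (fun x ⟨a, a0, a1⟩ => ?_) ⟨ht.1, ht.2, fun _ _ => rfl⟩
    · refine ⟨root_W hu a, ?_, fun v hv => (fx (hF v hv) x).trans (a3 v hv)⟩
      have e1 := fx f1 x
      have e2 := fx f2 x
      have e3 := fx f3 x
      have e5 := fx f5 x
      generalize (u : Matrix (Fin 8) (Fin 8) ℚ) *ᵥ x = y at *
      simp [n_dot, dr] at e1 e2 e3 e5
      refine ⟨?_, ?_, ?_⟩ <;> linarith
    · refine List.mem_filter.2 ⟨nR_of x a a0, List.all_eq_true.2 fun v hv => beq_iff_eq.2 ?_⟩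
      rw [nd, nd, ← n_dot, ← n_dot, a1 v hv]
  have ad : ∀ ts F : List V, (∀ t ∈ ts, t ∈ roots ∧ nP t) → (∀ v ∈ F, (u : Matrix (Fin 8) (Fin 8) ℚ) *ᵥ v = v) →
      ∀ v ∈ nad F ts, (u : Matrix (Fin 8) (Fin 8) ℚ) *ᵥ v = v := fun ts => by
    induction ts with
    | nil => exact fun F _ h => h
    | cons t ts ih =>
      intro F h1 h2
      have h3 := fun s hs => h1 s (List.mem_cons_of_mem _ hs)
      rw [nad]
      cases h : ncnt F t
      · exact ih F h3 h2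
      · exact ih _ h3 (List.forall_mem_cons.2 ⟨st F h2 t (h1 t List.mem_cons_self) h, h2⟩)
  have hT : ∀ t ∈ nT ++ [hr 0], t ∈ roots ∧ nP t := by decide +kernel
  have f6 : ∀ t ∈ nT, (u : Matrix (Fin 8) (Fin 8) ℚ) *ᵥ t = t := fun t ht =>
    st _ (ad _ _ hT (by simp [f1, f4])) t (hT t (List.mem_append_left _ ht))
      (List.all_eq_true.1 (n_run b hb c0 c1 c3 (c2 ▸ c3)) t ht)
  simp only [nT, List.forall_mem_cons] at f6
  obtain ⟨g4, g5, g6, g7, -⟩ := f6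
  have key : ∀ x : V, (u : Matrix (Fin 8) (Fin 8) ℚ) *ᵥ x = x := fun x => by
    have e1 := fx f1 x
    have e2 := fx f2 x
    have e3 := fx f3 x
    have e5 := fx f5 x
    have e4 := fx g4 x
    have e6 := fx g5 x
    have e7 := fx g6 x
    have e8 := fx g7 x
    generalize (u : Matrix (Fin 8) (Fin 8) ℚ) *ᵥ x = y at *
    simp [n_dot, dr] at e1 e2 e3 e4 e5 e6 e7 e8
    ext i
    fin_cases i <;> simp <;> linarith
  refine Units.ext ?_
  ext i j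
  simpa [mulVec_single_one, Pi.single_apply, one_apply] using congrFun (key (Pi.single j 1)) i

end Cfsg.Lib.Oz
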