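import Cfsg.Agent.Lib.Linear.OzF4
import Cfsg.Agent.Lib.Linear.OzN4
import Cfsg.Agent.Lib.Linear.OzT

/-! The reflection case. -/

set_option autoImplicit false

namespace Cfsg.Lib.Oz

open Matrix

variable {G : Type*} [Group G] {z : G} {lm : GG → G}

/-- the elements of odd order centralising `l` generate a group of even order -/
def Blk (l : List G) : Prop :=
  ∃ y ∈ Subgroup.closure {h : G | Odd (orderOf h) ∧ ∀ s ∈ l, Commute h s}, y * y = 1 ∧ y ≠ 1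

theorem Blk.mono {l l' : List G} (hl : ∀ s ∈ l', s ∈ l) (b : Blk l) : Blk l' := by
  obtain ⟨y, hy, e⟩ := b
  refine ⟨y, Subgroup.closure_mono ?_ hy, e⟩
  intro h hh
  exact ⟨hh.1, fun s hs => hh.2 s (hl s hs)⟩

theorem Blk.map {l : List G} (g : G) (b : Blk l) : Blk (l.map (ps g)) := by
  obtain ⟨y, hy, e1, e2⟩ := b
  refine ⟨ps g y, ?_, by rw [← map_mul, e1, map_one], fun e => e2 (ps_inj g (by rw [e, map_one]))⟩
  have := Subgroup.mem_map_of_mem (ps g) hy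
  rw [MonoidHom.map_closure] at this
  refine Subgroup.closure_mono ?_ this
  rintro _ ⟨h, hh, rfl⟩
  refine ⟨by rw [orderOf_injective _ (ps_inj g)]; exact hh.1, fun s hs => ?_⟩
  obtain ⟨s, hs', rfl⟩ := List.mem_map.1 hs
  exact (hh.2 s hs').map _

theorem blk_ps {l : List G} (g : G) : Blk (l.map (ps g)) ↔ Blk l := by
  refine ⟨fun b => ?_, Blk.map g⟩
  have := b.map g⁻¹
  rwa [List.map_map, show ps g⁻¹ ∘ ps g = id from funext fun x => by simp [ps_apply, mul_assoc],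
    List.map_id] at this

theorem St.NB (h : St z lm) {s1 s2 s3 s4 : G} {b : V} (a1 : Act lm s1 (rf (dr 0 1 1 (-1))))
    (a2 : Act lm s2 (rf (dr 0 1 1 1))) (a3 : Act lm s3 (rf (dr 2 3 1 (-1)))) (a4 : Act lm s4 (rf b))
    (hb : b ∈ roots) (h1 : b ⬝ᵥ dr 0 1 1 (-1) = 0) (h2 : b ⬝ᵥ dr 0 1 1 1 = 0) (h3 : b ⬝ᵥ dr 2 3 1 (-1) = 0)
    (h4 : rf b ≠ rf (dr 2 3 1 1)) : ¬ Blk [z, s1, s2, s3, s4] := by
  rintro ⟨y, hy, e1, e2⟩
  refine e2 (h.odd2 y (Subgroup.closure_mono ?_ hy) e1)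
  rintro k ⟨ko, hk⟩
  obtain ⟨u, au, uk⟩ := h.ex_odd (hk z (by simp)) ko (pow_orderOf_eq_one k)
  have e : u = 1 := N4 hb h1 h2 h3 h4 au.1 (ko.of_dvd_nat (orderOf_dvd_of_pow_eq_one uk)) (by
    intro v hv
    simp only [List.mem_cons, List.not_mem_nil, or_false] at hv
    rcases hv with rfl | rfl | rfl | rfl
    · exact h.comm_odd au a1 (hk _ (by simp)) ko uk
    · exact h.comm_odd au a2 (hk _ (by simp)) ko uk
    · exact h.comm_odd au a3 (hk _ (by simp)) ko uk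
    · exact h.comm_odd au a4 (hk _ (by simp)) ko uk)
  subst e
  exact ⟨ko, fun y hy => by simpa using au.2 y hy⟩

theorem rf_eq {v : V} {m : MG} (h : v ⬝ᵥ v = 2 ∧ rm v = mon m) : rf v = μ m :=
  Units.ext (by rw [rf_val h.1, μ_val, h.2])

theorem rf2 : rf (dr 0 1 1 1) = μ (mX * mS) := rf_eq (by decide +kernel)
theorem rf3 : rf (dr 2 3 1 (-1)) = μ (mm [] (sw 2 3)) := rf_eq (by decide +kernel)
theorem rf4 : rf (dr 2 3 1 1) = μ (mm [2, 3] (sw 2 3)) := rf_eq (by decide +kernel)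
theorem rf5 : rf (dr 4 5 1 (-1)) = μ (mm [] (sw 4 5)) := rf_eq (by decide +kernel)

theorem St.PB (h : St z lm) {s1 s2 s3 s4 : G} (a1 : Act lm s1 (rf (dr 0 1 1 (-1))))
    (a2 : Act lm s2 (rf (dr 0 1 1 1))) (a3 : Act lm s3 (rf (dr 2 3 1 (-1))))
    (a4 : Act lm s4 (rf (dr 2 3 1 1))) : Blk [z, s1, s2, s3, s4] := by
  rw [← μ_mS] at a1
  rw [rf2] at a2
  rw [rf3] at a3
  rw [rf4] at a4
  have key : ∀ p ∈ [mm [] (sw 5 6 * sw 6 7), mm [] (sw 4 7 * sw 5 7)], lg lm p ∈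
      Subgroup.closure {h : G | Odd (orderOf h) ∧ ∀ s ∈ [z, s1, s2, s3, s4], Commute h s} := by
    intro p hp
    have hp' : Ee p ∧ p ^ 3 = 1 ∧ p * mS = mS * p ∧ p * (mX * mS) = mX * mS * p ∧
        p * mm [] (sw 2 3) = mm [] (sw 2 3) * p ∧ p * mm [2, 3] (sw 2 3) = mm [2, 3] (sw 2 3) * p := by
      revert p
      decide +kernel
    obtain ⟨p1, p2, p3, p4, p5, p6⟩ := hp'
    refine Subgroup.subset_closure ⟨odd_of_three (by rw [← (h.lg_pow p1 3).2, p2, h.lg_one]), fun s hs => ?_⟩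
    simp only [List.mem_cons, List.not_mem_nil, or_false] at hs
    rcases hs with rfl | rfl | rfl | rfl | rfl
    · exact h.cz p1.mem
    · exact h.lg_comm a1 p1 p3
    · exact h.lg_comm a2 p1 p4
    · exact h.lg_comm a3 p1 p5
    · exact h.lg_comm a4 p1 p6
  have e : Ee (mm [] (sw 5 6 * sw 6 7) * mm [] (sw 4 7 * sw 5 7)) := by decide +kernel
  refine ⟨lg lm (mm [] (sw 5 6 * sw 6 7) * mm [] (sw 4 7 * sw 5 7)), ?_, h.lg_sq e (by decide +kernel),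
    fun e' => ?_⟩
  · rw [h.lg_mul (by decide +kernel) (by decide +kernel)]
    exact Subgroup.mul_mem _ (key _ (by simp)) (key _ (by simp))
  · have := h.lg_inj e ee_one (by rw [e', h.lg_one])
    revert this
    decide +kernel

/-- a commuting conjugate -/
def Pz (z t : G) : Prop := IsConj z t ∧ Commute t z ∧ t ≠ z

/-- commuting and distinct -/
def Dd (s t : G) : Prop := Commute s t ∧ s ≠ t

theorem St.orth (h : St z lm) {s t : G} (ps' : Pz z s) (pt : Pz z t) (d : Dd s t) {a b : V} (ha : a ∈ roots)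
    (hb : b ∈ roots) (as : Act lm s (rf a)) (bt : Act lm t (rf b)) : a ⬝ᵥ b = 0 ∧ rf a ≠ rf b := by
  have ss := sq_of_isConj h ps'.1
  have tt := sq_of_isConj h pt.1
  have ne : rf a ≠ rf b := fun e => by
    have := as.mul bt
    rw [e, rf_mul_self] at this
    rcases h.triv this (by rw [d.1.symm.mul_mul_mul_comm, ss, tt, one_mul]) with e | e
    · exact d.2 (by rw [mul_eq_one_iff_eq_inv] at e; rw [e, inv_eq_of_mul_eq_one_right tt])
    · exact (h.refl' ps'.1 ps'.2.1 ps'.2.2).2 (by rw [← e, ← mul_assoc, ss, one_mul, e]; exact pt.1)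
  exact ⟨(orth_of_comm ha hb (h.comm_pm as bt d.1)).resolve_right ne, ne⟩

theorem St.K9 (h : St z lm) {s1 s2 s3 : G} (b : Fin 5 → G) (p1 : Pz z s1) (p2 : Pz z s2) (p3 : Pz z s3)
    (pb : ∀ i, Pz z (b i)) (d12 : Dd s1 s2) (d13 : Dd s1 s3) (d23 : Dd s2 s3)
    (db : ∀ i, Dd (b i) s1 ∧ Dd (b i) s2 ∧ Dd (b i) s3) (dd : ∀ i j, i ≠ j → Dd (b i) (b j)) :
    ∃ i0, ∀ i, Blk [z, s1, s2, s3, b i] ↔ i = i0 := by
  obtain ⟨v1, r1, a1⟩ := (h.refl' p1.1 p1.2.1 p1.2.2).1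
  obtain ⟨v2, r2, a2⟩ := (h.refl' p2.1 p2.2.1 p2.2.2).1
  obtain ⟨v3, r3, a3⟩ := (h.refl' p3.1 p3.2.1 p3.2.2).1
  choose v r a using fun i => (h.refl' (pb i).1 (pb i).2.1 (pb i).2.2).1
  obtain ⟨c, hc, e1, e2, e3⟩ := T3 r1 r2 r3 (h.orth p1 p2 d12 r1 r2 a1 a2).1 (h.orth p1 p3 d13 r1 r3 a1 a3).1
    (h.orth p2 p3 d23 r2 r3 a2 a3).1
  have hw := Wp_le_W hc
  have tr' : ∀ {s : G} {x : V}, x ∈ roots → Act lm s (rf x) →
      Act lm (ps (lm c)⁻¹ s) (rf ((c : Matrix (Fin 8) (Fin 8) ℚ) *ᵥ x)) := fun hx a => by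
    rw [← conj_rf hw hx, ps_apply, inv_inv]
    exact h.act_conj a hc
  have b1 := e1 ▸ tr' r1 a1
  have b2 := e2 ▸ tr' r2 a2
  have b3 := e3 ▸ tr' r3 a3
  have hv : ∀ i, (c : Matrix (Fin 8) (Fin 8) ℚ) *ᵥ v i ∈ roots ∧
      ((c : Matrix (Fin 8) (Fin 8) ℚ) *ᵥ v i) ⬝ᵥ dr 0 1 1 (-1) = 0 ∧
      ((c : Matrix (Fin 8) (Fin 8) ℚ) *ᵥ v i) ⬝ᵥ dr 0 1 1 1 = 0 ∧
      ((c : Matrix (Fin 8) (Fin 8) ℚ) *ᵥ v i) ⬝ᵥ dr 2 3 1 (-1) = 0 := fun i => by
    rw [← e1, ← e2, ← e3, orth_W hw, orth_W hw, orth_W hw]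
    exact ⟨root_W hw (r i), (h.orth (pb i) p1 (db i).1 (r i) r1 (a i) a1).1,
      (h.orth (pb i) p2 (db i).2.1 (r i) r2 (a i) a2).1, (h.orth (pb i) p3 (db i).2.2 (r i) r3 (a i) a3).1⟩
  obtain ⟨i0, hi⟩ := five _ hv fun i j ij => by
    rw [orth_W hw]
    exact (h.orth (pb i) (pb j) (dd i j ij) (r i) (r j) (a i) (a j)).1
  have ez : ps (lm c)⁻¹ z = z := by rw [ps_apply, inv_inv, (h.cz hc).eq]; simp
  refine ⟨i0, fun i => ?_⟩
  rw [← blk_ps (lm c)⁻¹]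
  simp only [List.map_cons, List.map_nil, ez]
  constructor
  · intro B
    by_contra ne
    refine h.NB b1 b2 b3 (tr' (r i) (a i)) (hv i).1 (hv i).2.1 (hv i).2.2.1 (hv i).2.2.2 ?_ B
    rw [← hi, ← conj_rf hw (r i), ← conj_rf hw (r i0)]
    simpa using (h.orth (pb i) (pb i0) (dd i i0 ne) (r i) (r i0) (a i) (a i0)).2
  · rintro rfl
    exact h.PB b1 b2 b3 (hi ▸ tr' (r i) (a i))

/-- the conjugate of `t` acting as the reflection `m` -/
def Tm (lm : GG → G) (t : G) (m : MG) : G := lg lm (m * mS) * t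

theorem St.Tm_act (h : St z lm) {t : G} (a : Act lm t (μ mS)) {m : MG} (hm : Ee (m * mS)) :
    Act lm (Tm lm t m) (μ m) := by
  have := (h.lg_act hm).mul a
  rwa [← map_mul, mul_assoc, show mS * mS = 1 by decide +kernel, mul_one] at this

theorem St.Tm_mul (h : St z lm) {t : G} (a : Act lm t (μ mS)) (tt : t * t = 1) {m n : MG} (hm : Ee (m * mS))
    (hn : Ee (n * mS)) : Tm lm t m * Tm lm t n = lm (μ (m * n)) := by
  have e := a.2 _ hn.mem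
  rw [inv_eq_of_mul_eq_one_right tt] at e
  have : Tm lm t m * Tm lm t n = lg lm (m * mS) * (t * lm (μ (n * mS)) * t) := by simp [Tm, lg, mul_assoc]
  rw [this, e, lg, ← h.mul _ hm.mem _ (conj_mem a.1 hn.mem), ← map_inv, ← map_mul, ← map_mul, ← map_mul]
  congr 2
  rw [mul_assoc mS, mul_inv_cancel_right, mul_assoc, ← mul_assoc mS, show mS * mS = 1 by decide +kernel, one_mul]

theorem St.Tm_dd (h : St z lm) {t : G} (a : Act lm t (μ mS)) (tt : t * t = 1) {m n : MG}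
    (H : Ee (m * mS) ∧ Ee (n * mS) ∧ m * n = n * m ∧ m ≠ n) : Dd (Tm lm t m) (Tm lm t n) := by
  obtain ⟨hm, hn, c, ne⟩ := H
  refine ⟨?_, fun e => ne (mul_right_cancel (h.lg_inj hm hn (mul_right_cancel e)))⟩
  rw [Commute, SemiconjBy, h.Tm_mul a tt hm hn, h.Tm_mul a tt hn hm, c]

theorem St.Tm_S (h : St z lm) (t : G) : Tm lm t mS = t := by
  rw [Tm, show mS * mS = 1 by decide +kernel, h.lg_one, one_mul]

theorem St.Tm_conj (h : St z lm) {t : G} (a : Act lm t (μ mS)) (tt : t * t = 1) (c : MG) {m n : MG}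
    (H : Ee c ∧ Ee (m * mS) ∧ Ee (c * (mS * c⁻¹ * mS⁻¹)) ∧ Ee (c * (m * mS) * c⁻¹) ∧ n = c * m * c⁻¹) :
    ps (lg lm c)⁻¹ (Tm lm t m) = Tm lm t n := by
  obtain ⟨hc, hm, h3, h4, rfl⟩ := H
  have e := h.lg_conj_act a tt hc rfl
  have : ps (lg lm c)⁻¹ (Tm lm t m) = lg lm c * lg lm (m * mS) * (lg lm c)⁻¹ * (lg lm c * t * (lg lm c)⁻¹) := by
    simp [ps_apply, Tm, mul_assoc]
  rw [this, e, ← h.lg_conj hm hc, ← mul_assoc, ← h.lg_mul h4 h3, Tm]
  congr 2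
  have s2 : mS * mS = 1 := by decide +kernel
  rw [inv_eq_of_mul_eq_one_right s2]
  simp [mul_assoc, ← mul_assoc mS mS, s2]

theorem St.Tm_P (h : St z lm) {t : G} (p : Pz z t) (a : Act lm t (μ mS)) (c : MG) {n : MG}
    (H : Ee c ∧ Ee (mS * mS) ∧ Ee (c * (mS * c⁻¹ * mS⁻¹)) ∧ Ee (c * (mS * mS) * c⁻¹) ∧ n = c * mS * c⁻¹) :
    Pz z (Tm lm t n) := by
  rw [← h.Tm_conj a (sq_of_isConj h p.1) c H, h.Tm_S]
  have ez : ps (lg lm c)⁻¹ z = z := by rw [ps_apply, inv_inv, lg, (h.cz H.1.mem).eq]; simp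
  exact ⟨p.1.trans (ps_isConj _ _), ez ▸ p.2.1.map _, fun e => p.2.2 (ps_inj _ (e.trans ez.symm))⟩

theorem Dd.map {s t : G} (d : Dd s t) (g : G) : Dd (ps g s) (ps g t) :=
  ⟨d.1.map _, fun e => d.2 (ps_inj g e)⟩

theorem Dd.symm {s t : G} (d : Dd s t) : Dd t s := ⟨d.1.symm, d.2.symm⟩

theorem St.notS (h : St z lm) {t : G} (p : Pz z t) (a : Act lm t (μ mS)) : False := by
  obtain ⟨g, gt⟩ := ex_ps p.1
  have tt := sq_of_isConj h p.1
  let R : Fin 8 → MG := ![mS, mX * mS, mm [] (sw 2 3), mm [] (sw 4 5), mm [2, 3] (sw 2 3), mm [4, 5] (sw 4 5),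
    mm [] (sw 6 7), mm [6, 7] (sw 6 7)]
  let C : Fin 8 → MG := ![1, mm [0, 2] 1, mm [] (sw 0 2 * sw 1 3), mm [] (sw 0 4 * sw 1 5),
    mm [2, 4] (sw 0 2 * sw 1 3), mm [2, 4] (sw 0 4 * sw 1 5), mm [] (sw 0 6 * sw 1 7), mm [2, 6] (sw 0 6 * sw 1 7)]
  have hP : ∀ i, Pz z (Tm lm t (R i)) := fun i => h.Tm_P p a (C i) (by revert i; decide +kernel)
  have hD : ∀ i j, i ≠ j → Dd (Tm lm t (R i)) (Tm lm t (R j)) := fun i j ij =>
    h.Tm_dd a tt (by revert i j; decide +kernel)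
  have hz : ∀ i, Dd z (Tm lm t (R i)) := fun i => ⟨(hP i).2.1.symm, (hP i).2.2.symm⟩
  have t0 : Tm lm t (R 0) = t := h.Tm_S t
  have mk : ∀ x, IsConj z x → Dd x (Tm lm t (R 0)) → Pz z (ps g x) := fun x hx d => by
    have := d.map g
    rw [t0, gt] at this
    exact ⟨hx.trans (ps_isConj g x), this⟩
  let b : Fin 5 → G := ![z, Tm lm t (R 4), Tm lm t (R 5), Tm lm t (R 6), Tm lm t (R 7)]
  have hb : ∀ i, ∀ j : Fin 8, j.1 < 4 → Dd (b i) (Tm lm t (R j)) := fun i j hj => by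
    fin_cases i
    · exact hz j
    all_goals exact hD _ _ (by rintro rfl; simp at hj)
  obtain ⟨i0, hi⟩ := h.K9 (s1 := ps g (Tm lm t (R 1))) (s2 := ps g (Tm lm t (R 2))) (s3 := ps g (Tm lm t (R 3)))
    (fun i => ps g (b i)) (mk _ (hP 1).1 (hD _ _ (by decide))) (mk _ (hP 2).1 (hD _ _ (by decide)))
    (mk _ (hP 3).1 (hD _ _ (by decide)))
    (fun i => mk _ (by
      fin_cases i
      · exact IsConj.refl z
      all_goals exact (hP _).1) (hb i 0 (by decide)))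
    ((hD _ _ (by decide)).map g) ((hD _ _ (by decide)).map g) ((hD _ _ (by decide)).map g)
    (fun i => ⟨(hb i 1 (by decide)).map g, (hb i 2 (by decide)).map g, (hb i 3 (by decide)).map g⟩)
    (fun i j ij => Dd.map (by
      fin_cases i <;> fin_cases j <;>
      first
      | exact absurd rfl ij
      | exact hz _
      | exact (hz _).symm
      | exact hD _ _ (by decide)) g)
  have hi' : ∀ i, Blk [Tm lm t (R 0), Tm lm t (R 1), Tm lm t (R 2), Tm lm t (R 3), b i] ↔ i = i0 := fun i => by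
    rw [← hi i, ← blk_ps g, t0]
    simp only [List.map_cons, List.map_nil, gt]
  have mv : ∀ (c : MG) (σ : Fin 8 → Fin 8), (∀ i, Ee c ∧ Ee (R i * mS) ∧ Ee (c * (mS * c⁻¹ * mS⁻¹)) ∧
      Ee (c * (R i * mS) * c⁻¹) ∧ R (σ i) = c * R i * c⁻¹) → ∀ j,
      Blk [Tm lm t (R 0), Tm lm t (R 1), Tm lm t (R 2), Tm lm t (R 3), Tm lm t (R j)] →
      Blk [Tm lm t (R (σ 0)), Tm lm t (R (σ 1)), Tm lm t (R (σ 2)), Tm lm t (R (σ 3)), Tm lm t (R (σ j))] := by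
    intro c σ H j B
    have := B.map (lg lm c)⁻¹
    simpa only [List.map_cons, List.map_nil, h.Tm_conj a tt c (H _)] using this
  have m1 := mv (mm [] (sw 2 4 * sw 3 5)) ![0, 1, 3, 2, 5, 4, 6, 7] (by decide +kernel)
  have m2 := mv (mm [0, 7] 1) ![1, 0, 2, 3, 4, 5, 7, 6] (by decide +kernel)
  have B0 := (hi' i0).2 rfl
  fin_cases i0
  · refine h.NB (s1 := Tm lm t (R 0)) (s2 := Tm lm t (R 1)) (s3 := Tm lm t (R 2)) (s4 := Tm lm t (R 3))
      (b := dr 4 5 1 (-1)) (μ_mS ▸ h.Tm_act a (m := mS) (by decide +kernel))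
      (rf2 ▸ h.Tm_act a (m := mX * mS) (by decide +kernel))
      (rf3 ▸ h.Tm_act a (m := mm [] (sw 2 3)) (by decide +kernel))
      (rf5 ▸ h.Tm_act a (m := mm [] (sw 4 5)) (by decide +kernel))
      (by decide +kernel) (by decide +kernel) (by decide +kernel) (by decide +kernel) ?_
      (B0.mono (by simp [b]))
    rw [rf5, rf4]
    intro e
    have := μ_inj e
    revert this
    decide +kernel
  · exact absurd ((hi' 2).1 ((m1 4 B0).mono (by simp [b]))) (by decide)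
  · exact absurd ((hi' 1).1 ((m1 5 B0).mono (by simp [b]))) (by decide)
  · exact absurd ((hi' 4).1 ((m2 6 B0).mono (by simp [b]))) (by decide)
  · exact absurd ((hi' 3).1 ((m2 7 B0).mono (by simp [b]))) (by decide)

theorem St.isolated (h : St z lm) (g : G) (c : Commute z (g * z * g⁻¹)) : g * z * g⁻¹ = z := by
  by_contra nz
  have hz : IsConj z (g * z * g⁻¹) := isConj_iff.2 ⟨g, rfl⟩
  obtain ⟨c', hc, a⟩ := h.refl hz c.symm nz
  refine h.notS ⟨hz.trans (isConj_iff.2 ⟨lm c', rfl⟩), a.cz h, fun e => nz ?_⟩ a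
  rw [mul_inv_eq_iff_eq_mul, ← (h.cz hc).eq, mul_right_inj] at e
  exact e

end Cfsg.Lib.Oz
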