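import Cfsg.Agent.Lib.Mult.Prod

/-! Double covers of a group with multiplier `2 × 2` permuted by a triality automorphism. -/

set_option autoImplicit false

namespace Cfsg.Lib.Oz

open Subgroup Function Cfsg.Lib.Mult
open scoped commutatorElement

variable {Q P L U : Type*} [Group Q] [Group P] [Group L] [Group U]

theorem surj_of_stem' (hL : Group.IsPerfect L) {ξ : L →* Q} (hc : ξ.ker ≤ center L) {θ : U →* L}
    (h : Surjective (ξ.comp θ)) : Surjective θ := by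
  rw [← MonoidHom.range_eq_top, eq_top_iff, ← hL.commutator_eq_top, commutator_eq_closure, closure_le]
  rintro _ ⟨a, b, rfl⟩
  obtain ⟨a', ha⟩ := h (ξ a)
  obtain ⟨b', hb⟩ := h (ξ b)
  have c1 := mem_center_iff.1 (hc (show (θ a')⁻¹ * a ∈ ξ.ker by rw [MonoidHom.mem_ker, map_mul, map_inv, ← ha]; simp))
  have c2 := mem_center_iff.1 (hc (show (θ b')⁻¹ * b ∈ ξ.ker by rw [MonoidHom.mem_ker, map_mul, map_inv, ← hb]; simp))
  refine ⟨⁅a', b'⁆, ?_⟩
  rw [map_commutatorElement, ← mul_inv_cancel_left (θ a') a, ← mul_inv_cancel_left (θ b') b]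
  generalize (θ a')⁻¹ * a = y at c1
  generalize (θ b')⁻¹ * b = z at c2
  generalize θ a' = u, θ b' = v
  simp only [commutatorElement_def, mul_inv_rev]
  calc _ = u * (y * y⁻¹) * v * (z * z⁻¹) * u⁻¹ * v⁻¹ := by group
    _ = u * y * (y⁻¹ * v) * z * (z⁻¹ * u⁻¹) * v⁻¹ := by group
    _ = _ := by
      have d1 : ∀ g, y⁻¹ * g = g * y⁻¹ := fun g => by rw [inv_mul_eq_iff_eq_mul, ← mul_assoc, ← c1, mul_inv_cancel_right]
      have d2 : ∀ g, z⁻¹ * g = g * z⁻¹ := fun g => by rw [inv_mul_eq_iff_eq_mul, ← mul_assoc, ← c2, mul_inv_cancel_right]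
      rw [d1 v, d2 u⁻¹, mul_assoc (u * y) _ z, mul_assoc v, d1 z]; group

theorem card_of_surj {ξ : L →* Q} (h : Surjective ξ) : Nat.card L = Nat.card ξ.ker * Nat.card Q := by
  rw [← ξ.ker.card_mul_index, index_ker, MonoidHom.range_eq_top.2 h, card_top]

/-- The kernel of the map from the universal cover. -/
theorem exists_z [Finite Q] {A : Type*} [CommGroup A] (hA : HasSchurMultiplier Q A) (hQ : Group.IsPerfect Q) {σ : U →* Q}
    (hσ : IsStemExtension σ) (hk : Nonempty (σ.ker ≃* A)) (h4 : Nat.card σ.ker = 4) {ξ : L →* Q} (hξ : IsStemExtension ξ)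
    (h2 : Nat.card ξ.ker = 2) : ∃ (θ : U →* L) (z : σ.ker), Surjective θ ∧ ξ.comp θ = σ ∧ z ≠ 1 ∧
      ∀ u, θ u = 1 ↔ u = 1 ∨ u = z := by
  obtain ⟨θ, hθ⟩ := universal_of_cover hA (perfect_of_stem hσ hQ) hσ hk (MonoidHom.id Q) (ξ := ξ) hξ.1 hξ.2.1
  rw [MonoidHom.id_comp] at hθ
  have hs := surj_of_stem' (perfect_of_stem hξ hQ) hξ.2.1 (hθ ▸ hσ.1 : Surjective (ξ.comp θ))
  have a := card_of_surj hs
  rw [card_of_surj hσ.1, card_of_surj hξ.1, h4, h2] at a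
  have b : Nat.card θ.ker = 2 := by have := Nat.card_pos (α := Q); nlinarith
  obtain ⟨y, hy, hy'⟩ := (Nat.card_eq_two_iff' (1 : θ.ker)).1 b
  refine ⟨θ, ⟨y, by rw [MonoidHom.mem_ker, ← hθ, MonoidHom.comp_apply, y.2, map_one]⟩, hs, hθ,
    fun e => hy (Subtype.ext (congrArg (fun c : σ.ker => c.1) e)), fun u => ⟨fun h => ?_, ?_⟩⟩
  · by_cases e : u = 1
    · exact Or.inl e
    · exact Or.inr (congrArg Subtype.val (hy' ⟨u, h⟩ fun e' => e (congrArg Subtype.val e')))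
  · rintro (rfl | rfl)
    exacts [map_one _, y.2]

theorem iso_of_ker {θ : U →* P} {θ' : U →* L} (h : Surjective θ) (h' : Surjective θ') (e : ∀ u, θ u = 1 ↔ θ' u = 1) :
    ∃ φ : P ≃* L, ∀ u, φ (θ u) = θ' u :=
  ⟨(QuotientGroup.quotientKerEquivOfSurjective θ h).symm.trans ((QuotientGroup.quotientMulEquivOfEq
    (Subgroup.ext e : θ.ker = θ'.ker)).trans (QuotientGroup.quotientKerEquivOfSurjective θ' h')), fun u => by
    rw [MulEquiv.trans_apply, show (QuotientGroup.quotientKerEquivOfSurjective θ h).symm (θ u) = (u : U ⧸ θ.ker) from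
      (MulEquiv.symm_apply_eq _).2 rfl]
    rfl⟩

/-- The automorphisms which lift. -/
def Lam (σ : P →* Q) : Subgroup (MulAut Q) where
  carrier := {β | ∃ α : MulAut P, ∀ y, σ (α y) = β (σ y)}
  one_mem' := ⟨1, fun _ => rfl⟩
  mul_mem' := by
    rintro a b ⟨α, h⟩ ⟨β, h'⟩
    exact ⟨α * β, fun y => by rw [MulAut.mul_apply, MulAut.mul_apply, h, h']⟩
  inv_mem' := by
    rintro a ⟨α, h⟩
    exact ⟨α⁻¹, fun y => a.injective (by rw [← h]; simp)⟩

theorem Lam.sq {σ : P →* Q} (hc : σ.ker ≤ center P) (h2 : ∀ z ∈ σ.ker, z * z = 1) {β : MulAut Q} (h : β ∈ Lam σ) {y y' : P}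
    (e : σ y' = β (σ y)) (hy : y * y = 1) : y' * y' = 1 := by
  obtain ⟨α, h⟩ := h
  have k : (α y)⁻¹ * y' ∈ σ.ker := by rw [MonoidHom.mem_ker, map_mul, map_inv, h, e, inv_mul_cancel]
  have := h2 _ k
  rw [← mul_inv_cancel_left (α y) y', mul_assoc, ← mul_assoc _ (α y), ← mem_center_iff.1 (hc k), mul_assoc, this, mul_one,
    ← map_mul, hy, map_one]

theorem induce {σ : P →* Q} (hs : Surjective σ) (hk : σ.ker = center P) (α : MulAut P) :
    ∃ β : MulAut Q, ∀ y, σ (α y) = β (σ y) := by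
  obtain ⟨φ, h⟩ := iso_of_ker (θ := σ) (θ' := σ.comp α.toMonoidHom) hs (hs.comp α.surjective) fun u => by
    change u ∈ σ.ker ↔ α u ∈ σ.ker
    rw [hk, mem_center_iff, mem_center_iff]
    exact ⟨fun h g => α.symm.injective (by simp [h]), fun h g => α.injective (by simp [h])⟩
  exact ⟨φ, fun y => (h y).symm⟩

theorem ker_eq_center {σ : P →* Q} (hσ : IsStemExtension σ) (hZ : center Q = ⊥) : σ.ker = center P :=
  le_antisymm hσ.2.1 fun z hz => by
    have : σ z ∈ center Q := mem_center_iff.2 fun q => by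
      obtain ⟨y, rfl⟩ := hσ.1 q
      rw [← map_mul, ← map_mul, mem_center_iff.1 hz]
    rwa [hZ] at this

theorem exists_iso [Finite Q] (hA : HasSchurMultiplier Q (Multiplicative (ZMod 2 × ZMod 2))) (hQ : Group.IsPerfect Q)
    {σ : P →* Q} (hσ : IsStemExtension σ) (h2 : Nat.card σ.ker = 2) {c τ : MulAut Q} (hc : c ∈ Lam σ) (h1 : τ ∉ Lam σ)
    (h3 : τ * c * τ⁻¹ ∉ Lam σ) {ξ : L →* Q} (hξ : IsStemExtension ξ) (h2' : Nat.card ξ.ker = 2) : Nonempty (P ≃* L) := by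
  classical
  obtain ⟨U, _, _, ρ, hρ, hk⟩ := hA.1
  have h4 : Nat.card ρ.ker = 4 := by rw [Nat.card_congr hk.some.toEquiv]; simp
  have key : ∀ β : MulAut Q, ∃ (θ : U →* P) (z : ρ.ker), Surjective θ ∧ (∀ u, σ (θ u) = β (ρ u)) ∧ z ≠ 1 ∧
      ∀ u, θ u = 1 ↔ u = 1 ∨ u = z := fun β => by
    obtain ⟨θ, z, a, b, d⟩ := exists_z hA hQ hρ hk h4 (equiv_comp_stem hσ β.symm) (by
      rw [← h2]; congr 2; ext; simp)
    exact ⟨θ, z, a, fun u => by rw [← b]; simp, d⟩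
  choose θ z a b d e using key
  have ne : ∀ β β', z β = z β' → β' * β⁻¹ ∈ Lam σ := fun β β' h => by
    obtain ⟨φ, hφ⟩ := iso_of_ker (a β) (a β') fun u => by rw [e, e, h]
    refine ⟨φ, fun y => ?_⟩
    obtain ⟨u, rfl⟩ := a β y
    rw [show φ (θ β u) = _ from hφ u, b, b]; simp
  obtain ⟨θ', z', a', -, d', e'⟩ := exists_z hA hQ hρ hk h4 hξ h2'
  have n1 : z 1 ≠ z τ := fun h => h1 (by simpa using ne _ _ h)
  have n2 : z 1 ≠ z (τ * c) := fun h => h1 (by simpa using mul_mem (ne _ _ h) (inv_mem hc))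
  have n3 : z τ ≠ z (τ * c) := fun h => h3 (ne _ _ h)
  have := Fintype.ofFinite ρ.ker
  have u : ({1, z 1, z τ, z (τ * c)} : Finset ρ.ker) = Finset.univ := Finset.eq_univ_of_card _ (by
    rw [← Nat.card_eq_fintype_card, h4, Finset.card_insert_of_notMem (by simp [(d _).symm]),
      Finset.card_insert_of_notMem (by simp [n1, n2]), Finset.card_pair n3])
  have : ∃ β, z' = z β := by
    have := u ▸ Finset.mem_univ z'
    simp only [Finset.mem_insert, Finset.mem_singleton] at this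
    rcases this with h | h | h | h
    exacts [absurd h d', ⟨_, h⟩, ⟨_, h⟩, ⟨_, h⟩]
  obtain ⟨β, rfl⟩ := this
  obtain ⟨φ, -⟩ := iso_of_ker (a β) a' fun u => by rw [e, e']
  exact ⟨φ⟩

theorem aut_cases [Finite Q] (hQ : Group.IsPerfect Q) (hZ : center Q = ⊥) (h6 : Nat.card (MulAut Q) = 6 * Nat.card Q)
    {σ : P →* Q} (hσ : IsStemExtension σ) {c τ : MulAut Q} {c' : MulAut P} (hc : ∀ y, σ (c' y) = c (σ y)) (h1 : τ ∉ Lam σ)
    (h3 : τ * c * τ⁻¹ ∉ Lam σ) (α : MulAut P) : ∃ h : P, (∀ y, α y = h * y * h⁻¹) ∨ ∀ y, α y = h * c' y * h⁻¹ := by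
  have hP := perfect_of_stem hσ hQ
  have hc' : c ∈ Lam σ := ⟨c', hc⟩
  have iL : Inn Q ≤ Lam σ := by
    rintro _ ⟨q, rfl⟩
    obtain ⟨h, rfl⟩ := hσ.1 q
    exact ⟨MulAut.conj h, fun y => by simp⟩
  have cI : c ∉ Inn Q := fun h => h3 (iL ((innNormal Q).conj_mem _ h τ))
  have i1 : Nat.card (Inn Q) = Nat.card Q := (Nat.card_congr (MonoidHom.ofInjective (f := MulAut.conj) (by
    rw [← MonoidHom.ker_eq_bot_iff, eq_bot_iff, ← hZ]
    exact fun q hq => mem_center_iff.2 fun g => (mul_inv_eq_iff_eq_mul.1 (DFunLike.congr_fun hq g)).symm)).toEquiv).symm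
  have i2 : (Inn Q).index = 6 := by
    have := (Inn Q).card_mul_index
    rw [i1, h6, mul_comm] at this
    exact Nat.eq_of_mul_eq_mul_right Nat.card_pos this
  have i3 : 3 ≤ (Lam σ).index := by
    have := Nat.card_le_card_of_injective (![(1 : MulAut Q), τ⁻¹, (τ * c)⁻¹] · : Fin 3 → MulAut Q ⧸ Lam σ) (by
      have a : ((1 : MulAut Q) : MulAut Q ⧸ Lam σ) ≠ (τ⁻¹ : MulAut Q) := fun h => h1 (by simpa using QuotientGroup.eq.1 h)
      have b : ((1 : MulAut Q) : MulAut Q ⧸ Lam σ) ≠ ((τ * c)⁻¹ : MulAut Q) := fun h => h1 (by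
        simpa using mul_mem (inv_mem (QuotientGroup.eq.1 h)) (inv_mem hc'))
      have d : ((τ⁻¹ : MulAut Q) : MulAut Q ⧸ Lam σ) ≠ ((τ * c)⁻¹ : MulAut Q) := fun h => h3 (by
        simpa using inv_mem (QuotientGroup.eq.1 h))
      intro i j; fin_cases i <;> fin_cases j <;> simp_all [eq_comm])
    rwa [Nat.card_eq_fintype_card (α := Fin 3), Fintype.card_fin] at this
  have i4 := relIndex_mul_index iL
  have i5 : (Inn Q).relIndex (Lam σ) = 2 := by
    have : (Inn Q).relIndex (Lam σ) ≠ 1 := fun h => cI (relIndex_eq_one.1 h hc')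
    rw [i2] at i4
    have : (Inn Q).relIndex (Lam σ) ≠ 0 := fun h => by simp [h] at i4
    have : (Inn Q).relIndex (Lam σ) < 3 := by nlinarith
    omega
  obtain ⟨β, hβ⟩ := induce hσ.1 (ker_eq_center hσ hZ) α
  have key : ∀ α : MulAut P, ∀ β ∈ Inn Q, (∀ y, σ (α y) = β (σ y)) → ∃ h : P, ∀ y, α y = h * y * h⁻¹ := by
    rintro α _ ⟨q, rfl⟩ h
    obtain ⟨g, rfl⟩ := hσ.1 q
    exact ⟨g, DFunLike.congr_fun (lift_unique hP hσ.2.1 (η := α.toMonoidHom) (η' := (MulAut.conj g).toMonoidHom)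
      (MonoidHom.ext fun y => by simpa using h y))⟩
  by_cases e : β ∈ Inn Q
  · exact (key α β e hβ).imp fun _ => Or.inl
  · have : β * c⁻¹ ∈ Inn Q := by
      have := (mul_mem_iff_of_index_two i5 (a := ⟨β, α, hβ⟩) (b := ⟨c⁻¹, inv_mem hc'⟩)).2 (by
        simp [mem_subgroupOf, e, cI])
      exact this
    obtain ⟨h, hh⟩ := key (α * c'⁻¹) _ this fun y => by
      rw [MulAut.mul_apply, MulAut.mul_apply, hβ]; congr 1; exact c.injective (by rw [← hc]; simp)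
    exact ⟨h, Or.inr fun y => by simpa using hh (c' y)⟩

end Cfsg.Lib.Oz
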