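import Cfsg.Agent.Lib.Linear.OzI1
import Cfsg.Agent.Lib.Linear.OzI2
import Cfsg.Agent.S0817
import Cfsg.Agent.S2098

/-! The double covers of `Ω₈⁺(2)` and their automorphisms. -/

set_option autoImplicit false
set_option maxRecDepth 100000

namespace Cfsg.Lib.Oz

open Subgroup Function Cfsg.Lib.Comp Cfsg.Lib.Mult Cfsg.Lib.MatB
open scoped commutatorElement

namespace Id

/-- The permutation model. -/
abbrev X : Type := cl (gp O8x.nets) O8x.L

noncomputable def xl : ℕ → X := sval _ (gp O8x.nets)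

noncomputable def g' (x : ℕ) : Wp := ⟨g x, g_mem x⟩

noncomputable def t' (x : ℕ) : Wp := ev g' (tw x)

theorem coe_g (w : List ℕ) : ((ev g' w : Wp) : GG) = ev g w := ev_map _ Wp.subtype w

theorem coe_t (w : List ℕ) : ((ev t' w : Wp) : GG) = ev t w :=
  (ev_map _ Wp.subtype w).trans (ev_congr _ fun _ _ => coe_g _)

noncomputable def n : Wp := ev t' [3, 3]

theorem n_val : (n : GG) = -1 := (coe_t _).trans ((ok_it ok_t _).neg facts.2.1)

theorem n_ne : n ≠ 1 := fun h => by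
  have := congrArg (fun u : GG => (u : Matrix (Fin 8) (Fin 8) ℚ) 0 0) (n_val.symm.trans (congrArg Subtype.val h))
  norm_num at this

theorem n_sq : n * n = 1 := Subtype.ext (by rw [coe_mul, n_val]; simp)

theorem n_cen : zpowers n ≤ center Wp :=
  zpowers_le.2 (mem_center_iff.2 fun y => Subtype.ext (by rw [coe_mul, coe_mul, n_val]; simp))

instance n_normal : (zpowers n).Normal := normal_of_le_center n_cen

theorem n_card : Nat.card (zpowers n) = 2 := by
  rw [Nat.card_zpowers]; exact orderOf_eq_prime (by rw [sq, n_sq]) n_ne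

theorem sq_of_mem {z : Wp} (h : z ∈ zpowers n) : z * z = 1 := by
  obtain ⟨k, rfl⟩ := h
  beta_reduce
  rw [← (Commute.refl n).mul_zpow, n_sq, one_zpow]

theorem exists_f {γ : ℕ → Wp} (h : ∀ r ∈ O8x.mR, ev (fun x => (γ x : GG)) r.1 ^ (r.2 + 1) = 1 ∨
    ev (fun x => (γ x : GG)) r.1 ^ (r.2 + 1) = -1) :
    ∃ f : X →* Wp ⧸ zpowers n, ∀ x ∈ O8x.L, f (xl x) = (γ x : Wp ⧸ zpowers n) := by
  obtain ⟨f, hf⟩ := hom_quot O8x.nets_iv O8x.nets_rel O8x.ord O8x.card.ge O8x.mside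
    (ε := fun x => QuotientGroup.mk' (zpowers n) (γ x)) fun r hr _ => by
    rw [← ev_map, ← map_pow]
    refine (QuotientGroup.eq_one_iff _).2 ?_
    have e : ((ev γ r.1 ^ (r.2 + 1) : Wp) : GG) = ev (fun x => (γ x : GG)) r.1 ^ (r.2 + 1) := by
      rw [coe_pow]; exact congrArg (· ^ _) (ev_map _ Wp.subtype _)
    rcases h r hr with h | h
    · rw [show ev γ r.1 ^ (r.2 + 1) = 1 from Subtype.ext (e.trans h)]; exact one_mem _
    · rw [show ev γ r.1 ^ (r.2 + 1) = n from Subtype.ext (e.trans (h.trans n_val.symm))]; exact mem_zpowers _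
  exact ⟨f, fun x hx => (congrArg f (Subtype.ext (coe_sval (mem_cl hx)))).trans (hf x hx)⟩

theorem inj_of {f : X →* Wp ⧸ zpowers n} {x : X} (h : f x = t' 3) : Injective f := by
  have := O8x.simple
  rw [← MonoidHom.ker_eq_bot_iff]
  refine (IsSimpleGroup.eq_bot_or_eq_top_of_normal f.ker inferInstance).resolve_right fun e => n_ne ?_
  have h3 : f x = 1 := by rw [← MonoidHom.mem_ker, e]; exact mem_top _
  rw [n, ev_cons, ev_single]
  exact sq_of_mem ((QuotientGroup.eq_one_iff _).1 (h.symm.trans h3))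

theorem cl_top : cl g' O8x.L = ⊤ := map_injective Wp.subtype_injective (by
  rw [cl_map, ← MonoidHom.range_eq_map, range_subtype]; exact Wp_eq.symm)

theorem exists_sigma : ∃ (σ : Wp →* X) (τ : MulAut X), Surjective σ ∧ σ.ker = zpowers n ∧
    (∀ x ∈ O8x.L, σ (g' x) = xl x) ∧ ∀ x ∈ O8x.L, τ (xl x) = σ (t' x) := by
  have := O8x.nets_ok.finite O8x.L
  obtain ⟨f, hf⟩ := exists_f (γ := g') (rel_of ok_g rel_g)
  obtain ⟨f', hf'⟩ := exists_f (γ := t') (by
    rw [show (fun x => (t' x : GG)) = t from funext fun x => coe_g _]; exact rel_of ok_t rel_t)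
  have s1 : Surjective f := by
    rw [← MonoidHom.range_eq_top, eq_top_iff, ← MonoidHom.range_eq_top.2 (QuotientGroup.mk'_surjective (zpowers n)),
      MonoidHom.range_eq_map, ← cl_top, cl_map, cl_le]
    exact fun x hx => ⟨_, hf x hx⟩
  let e := MulEquiv.ofBijective f ⟨inj_of (s1 _).choose_spec, s1⟩
  have i2 : Injective (e.symm.toMonoidHom.comp f') := e.symm.injective.comp (inj_of (hf' 3 (by decide)))
  refine ⟨e.symm.toMonoidHom.comp (QuotientGroup.mk' _), MulEquiv.ofBijective _ (Finite.injective_iff_bijective.1 i2),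
    e.symm.surjective.comp (QuotientGroup.mk'_surjective _), by ext; simp, fun x hx => ?_, fun x hx => ?_⟩
  · exact (MulEquiv.symm_apply_eq e).2 (hf x hx).symm
  · exact congrArg e.symm (hf' x hx)

theorem n_comm : n ∈ commutator Wp := by
  have h3 : t' 3 * t' 3 = n := by rw [n, ev_cons, ev_single]
  have h4 : t' 4 * t' 4 = n := by
    rw [← ev_single t' 4, ← ev_append]
    exact Subtype.ext ((coe_t _).trans (((ok_it ok_t _).neg facts.2.2.2.2.2.1).trans n_val.symm))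
  have h : ev t' [3, 4, 3, 3, 3, 4, 4, 4] = n :=
    Subtype.ext ((coe_t _).trans (((ok_it ok_t _).neg facts.2.2.2.2.1).trans n_val.symm))
  have i : ∀ {a : Wp}, a * a = n → a⁻¹ = a * (a * a) := fun h =>
    inv_eq_of_mul_eq_one_left (by rw [mul_assoc, mul_assoc, ← mul_assoc, h, n_sq])
  have : n = ⁅t' 3, t' 4⁆ := by
    rw [commutatorElement_def, i h3, i h4, ← h]; simp only [ev_cons, ev_nil, mul_one, mul_assoc]
  rw [this]; exact commutator_mem_commutator (mem_top _) (mem_top _)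

theorem s_norm : s 1 ∈ normalizer (Wp : Set GG) := by
  have key : ∀ y ∈ Wp, s 1 * y * (s 1)⁻¹ ∈ Wp := fun y hy => by
    have : cl g O8x.L ≤ Wp.comap (MulAut.conj (s 1)).toMonoidHom := cl_le.2 fun x _ => by
      change s 1 * g x * (s 1)⁻¹ ∈ Wp
      rw [conj_g]; exact inv_mem (g_mem x)
    exact this (Wp_eq ▸ hy)
  refine mem_normalizer_iff.2 fun y => ⟨key y, fun h => ?_⟩
  have := key _ h
  rwa [inv_eq_of_mul_eq_one_left (s_sq 1), ← mul_assoc, ← mul_assoc, s_sq, one_mul, mul_assoc, s_sq, mul_one] at this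

theorem main : ∃ (σ : Wp →* X) (c τ : MulAut X) (c' : MulAut Wp), IsStemExtension σ ∧ Nat.card σ.ker = 2 ∧
    (∀ y, σ (c' y) = c (σ y)) ∧ τ ∉ Lam σ ∧ τ * c * τ⁻¹ ∉ Lam σ ∧ (∀ y, (c' y : GG) = s 1 * y * (s 1)⁻¹) ∧
    Group.IsPerfect X ∧ center X = ⊥ := by
  have := O8x.simple
  have := O8x.nets_ok.finite O8x.L
  have nc : ¬ IsMulCommutative X := not_comm_of_card (by rw [O8x.card]; norm_num)
  have hZ : center X = ⊥ := (IsSimpleGroup.eq_bot_or_eq_top_of_normal _ inferInstance).resolve_right fun e =>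
    nc ⟨⟨fun a b => mem_center_iff.1 (e ▸ mem_top b) a⟩⟩
  have hP : Group.IsPerfect X := ⟨(IsSimpleGroup.eq_bot_or_eq_top_of_normal _ inferInstance).resolve_left fun e =>
    nc ⟨⟨fun a b => commutatorElement_eq_one_iff_mul_comm.1
      (mem_bot.1 (e ▸ commutator_mem_commutator (mem_top a) (mem_top b)))⟩⟩⟩
  obtain ⟨σ, τ, a, b, c, d⟩ := exists_sigma
  have hσ : IsStemExtension σ := ⟨a, b ▸ n_cen, b ▸ zpowers_le.2 n_comm⟩
  let c' : MulAut Wp := Wp.normalizerMonoidHom ⟨s 1, s_norm⟩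
  have hc' : ∀ y, (c' y : GG) = s 1 * y * (s 1)⁻¹ := fun _ => rfl
  obtain ⟨β, hβ⟩ := induce a (ker_eq_center hσ hZ) c'
  have h2 : ∀ z ∈ σ.ker, z * z = 1 := fun z hz => sq_of_mem (b ▸ hz)
  have ht : ∀ w : List ℕ, (∀ x ∈ w, x ∈ O8x.L) → τ (ev xl w) = σ (ev t' w) := fun w hw =>
    (ev_map _ τ.toMonoidHom w).trans ((ev_congr _ fun x hx => d x (hw x hx)).trans (ev_map _ σ w).symm)
  refine ⟨σ, β, τ, c', hσ, b ▸ n_card, hβ, fun h => n_ne ?_, fun h => n_ne ?_, hc', hP, hZ⟩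
  · rw [n, ev_cons, ev_single]
    refine Lam.sq hσ.2.1 h2 h (y := g' 3) (by rw [c 3 (by decide), d 3 (by decide)]) ?_
    rw [← ev_single g' 3, ← ev_append]
    exact Subtype.ext ((coe_g _).trans ((ok_it ok_g _).fix facts.1))
  · have e : β (ev xl wB) = ev xl (wB.map O8x.iv) := by
      rw [show β (ev xl wB) = _ from ev_map _ β.toMonoidHom wB, ev, ev, List.map_map]
      refine congrArg _ (List.map_congr_left fun x hx => ?_)
      have hx' := facts.2.2.2.2.2.2.1 x hx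
      have : c' (g' x) = (g' x)⁻¹ := Subtype.ext (conj_g x)
      change β (xl x) = xl (O8x.iv x)
      rw [← c x hx', ← hβ, this, map_inv, c x hx']
      exact (((O8x.nets_iv.sval _).2 x ((by decide : ∀ x ∈ O8x.L, x < 64) x hx')).2).symm
    have := Lam.sq hσ.2.1 h2 h (y := ev t' wB) (y' := ev t' (wB.map O8x.iv)) (by
      rw [← ht _ facts.2.2.2.2.2.2.1, ← ht _ facts.2.2.2.2.2.2.2, ← e]; simp) (by
      rw [← ev_append]; exact Subtype.ext ((coe_t _).trans ((ok_it ok_t _).fix facts.2.2.1)))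
    rw [← this, ← ev_append]
    exact Subtype.ext (n_val.trans ((coe_t _).trans ((ok_it ok_t _).neg facts.2.2.2.1)).symm)

end Id

theorem ident {L : Type*} [Group L] [Finite L] {F : Type*} [Field F] [Fintype F] (hF : Fintype.card F = 2)
    (hp : commutator L = ⊤) (hZ : Nat.card (Subgroup.center L) = 2)
    (e : L ⧸ Subgroup.center L ≃* Cfsg.POmega F (Cfsg.quadFormPlus 4 F)) :
    ∃ φ : Wp ≃* L, ∀ α : MulAut L, ∃ w ∈ W, ∀ y y' : Wp, (y' : GG) = w * y * w⁻¹ → α (φ y) = φ y' := by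
  have := O8x.nets_ok.finite O8x.L
  obtain ⟨i⟩ := O8x.iso hF
  obtain ⟨σ, c, τ, c', hσ, h2, hc, h1, h3, hc', hP, hX⟩ := Id.main
  have hA := mult_congr_left (Cfsg.Agent.S2098.result hF) i.symm
  have h6 : Nat.card (MulAut Id.X) = 6 * Nat.card Id.X := by
    have := Fact.mk Nat.prime_two
    rw [Nat.card_congr (MulAut.congr i).toEquiv, Nat.card_congr i.toEquiv,
      Cfsg.Agent.S0817.result 2 1 le_rfl (by simpa using hF) 4 le_rfl]
    norm_num
  have hξ : IsStemExtension (QuotientGroup.mk' (center L)) :=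
    ⟨QuotientGroup.mk'_surjective _, (QuotientGroup.ker_mk' _).le, hp ▸ le_top⟩
  obtain ⟨φ⟩ := exists_iso hA hP hσ h2 ⟨c', hc⟩ h1 h3 (equiv_comp_stem hξ (e.trans i.symm)) (by
    rw [← hZ]; congr 2; ext; simp)
  refine ⟨φ, fun α => ?_⟩
  obtain ⟨h, hh | hh⟩ := aut_cases hP hX h6 hσ hc h1 h3 (MulAut.congr φ.symm α)
  · refine ⟨h, Wp_le_W h.2, fun y y' e => ?_⟩
    rw [show y' = h * y * h⁻¹ from Subtype.ext e, ← hh]; simp
  · refine ⟨h * Id.s 1, mul_mem (Wp_le_W h.2) (rf_mem (Id.rv_mem (Id.b_lt 1))), fun y y' e => ?_⟩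
    rw [show y' = h * c' y * h⁻¹ from Subtype.ext (by rw [e, coe_mul, coe_mul, hc', coe_inv]; group), ← hh]; simp

end Cfsg.Lib.Oz
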