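import Cfsg.Agent.Lib.Linear.OzF1
import Cfsg.Agent.Lib.Linear.Oy0
import Cfsg.Agent.Lib.Layer.Zs

/-! The setting is satisfied by a standard subgroup isomorphic to the rotation group. -/

set_option autoImplicit false

namespace Cfsg.Lib.Oz

open Matrix

/-- elements of odd order of an abelian group -/
def oddT (A : Type*) [CommGroup A] : Subgroup A where
  carrier := {a | ∃ n, Odd n ∧ a ^ n = 1}
  mul_mem' := by
    rintro a b ⟨n, hn, ha⟩ ⟨m, hm, hb⟩
    exact ⟨n * m, hn.mul hm, by rw [mul_pow, pow_mul, ha, mul_comm n, pow_mul, hb]; simp⟩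
  one_mem' := ⟨1, odd_one, by simp⟩
  inv_mem' := by
    rintro a ⟨n, hn, ha⟩
    exact ⟨n, hn, by rw [inv_pow, ha, inv_one]⟩

theorem oddT_aux {K : Type*} [Group K] {z : K} (zz : z * z = 1) (hu : ∀ y : K, y ^ 2 = 1 → y = 1 ∨ y = z)
    (hc : z ∉ commutator K) {k : K} (hk : Abelianization.of k ∈ oddT (Abelianization K))
    (h2 : k * k = 1 ∨ k * k = z) : k = 1 := by
  obtain ⟨n, hn, hk⟩ := hk
  have hz : z ^ n = z := by
    obtain ⟨j, rfl⟩ := hn
    rw [pow_succ, pow_mul, pow_two, zz]; simp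
  have key : Abelianization.of z ≠ 1 := fun e => hc (by rwa [← Abelianization.ker_of])
  rcases h2 with h | h
  · rcases hu k (by rw [pow_two, h]) with e | e
    · exact e
    · subst e
      exact (key (by rw [← hz, map_pow, hk])).elim
  · exact (key (by rw [← hz, ← h, map_pow, map_mul, mul_pow, hk, one_mul])).elim

open Subgroup in
theorem exists_St {G : Type*} [Group G] [Finite G] {L : Subgroup G} (hL : Cfsg.IsStandardSubgroup L)
    (hR : ∀ R : Sylow 2 (centralizer (L : Set G)), IsCyclic (R : Subgroup (centralizer (L : Set G))))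
    (φ : Wp ≃* L) (hφ : ∀ α : MulAut L, ∃ w ∈ W, ∀ y y' : Wp, (y' : GG) = w * y * w⁻¹ → α (φ y) = φ y') :
    ∃ (z : G) (lm : GG → G), orderOf z = 2 ∧ z ∈ centralizer (L : Set G) ∧ St z lm ∧
      ∀ y : Wp, lm y = φ y := by
  classical
  let lm : GG → G := fun g => if h : g ∈ Wp then (φ ⟨g, h⟩ : G) else 1
  have hlm : ∀ g (h : g ∈ Wp), lm g = φ ⟨g, h⟩ := fun g h => dif_pos h
  have hmul : ∀ a ∈ Wp, ∀ b ∈ Wp, lm (a * b) = lm a * lm b := fun a ha b hb => by
    rw [hlm _ (Wp.mul_mem ha hb), hlm _ ha, hlm _ hb, ← Subgroup.coe_mul, ← map_mul]; rfl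
  have hinj : ∀ a ∈ Wp, ∀ b ∈ Wp, lm a = lm b → a = b := fun a ha b hb e => by
    rw [hlm _ ha, hlm _ hb] at e
    exact congrArg Subtype.val (φ.injective (Subtype.ext e))
  have hone : lm 1 = 1 := by simpa using hmul 1 Wp.one_mem 1 Wp.one_mem
  have hsur : ∀ l ∈ L, ∃ a ∈ Wp, l = lm a := fun l hl =>
    ⟨φ.symm ⟨l, hl⟩, (φ.symm ⟨l, hl⟩).2, by rw [hlm _ (φ.symm ⟨l, hl⟩).2]; simp⟩
  have hmem : ∀ a ∈ Wp, lm a ∈ L := fun a ha => by rw [hlm _ ha]; exact (φ _).2
  set z := lm (-1) with hz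
  have zz : z * z = 1 := by rw [hz, ← hmul _ neg_one_mem _ neg_one_mem]; simpa using hone
  have z1 : z ≠ 1 := fun e => neg_ne_self 1 (hinj _ neg_one_mem _ Wp.one_mem (by rw [← hz, e, hone]))
  have h2 : orderOf z = 2 := orderOf_eq_prime (by rw [pow_two, zz]) z1
  have zK : z ∈ centralizer (L : Set G) := fun l hl => by
    obtain ⟨a, ha, rfl⟩ := hsur l hl
    rw [hz, ← hmul _ ha _ neg_one_mem, ← hmul _ neg_one_mem _ ha]; simp
  have zL : z ∈ L := hmem _ neg_one_mem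
  obtain ⟨hu, hc⟩ := Cfsg.Lib.Layer.Zs.cyc_aux hR (z := ⟨z, zK⟩) (by rw [orderOf_mk, h2])
    (mem_center_iff.2 fun k => Subtype.ext (k.2 z zL).symm)
  have hK : ∀ k, (∀ y ∈ Wp, k * lm y * k⁻¹ = lm y) → k ∈ centralizer (L : Set G) := fun k hk l hl => by
    obtain ⟨a, ha, rfl⟩ := hsur l hl
    exact (mul_inv_eq_iff_eq_mul.1 (hk a ha)).symm
  have hact : ∀ n, Commute n z → ∃ w ∈ W, ∀ y ∈ Wp, n * lm y * n⁻¹ = lm (w * y * w⁻¹) := fun n hn => by
    have hN : n ∈ normalizer (L : Set G) :=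
      Cfsg.Lib.Layer.Zs.cen_le_nor hL h2 zK (mem_centralizer_singleton_iff.2 hn.eq)
    obtain ⟨w, hw, e⟩ := hφ (L.normalizerMonoidHom ⟨n, hN⟩)
    refine ⟨w, hw, fun y hy => ?_⟩
    rw [hlm _ hy, hlm _ (conj_mem hw hy), ← e ⟨y, hy⟩ ⟨_, conj_mem hw hy⟩ rfl]
    rfl
  have hLK : ∀ k ∈ L, k ∈ centralizer (L : Set G) → k = 1 ∨ k = z := fun k hk hk' => by
    obtain ⟨a, ha, rfl⟩ := hsur k hk
    rcases cent_Wp (Wp_le_W ha) (fun y hy => hinj _ (Wp.mul_mem ha hy) _ (Wp.mul_mem hy ha) (by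
      rw [hmul _ ha _ hy, hmul _ hy _ ha, hk' _ (hmem y hy)])) with e | e
    · left; rw [e, hone]
    · right; rw [e]
  have zz' : (⟨z, zK⟩ : centralizer (L : Set G)) * ⟨z, zK⟩ = 1 := Subtype.ext zz
  refine ⟨z, lm, h2, zK, ⟨hmul, hinj, rfl, hact, fun k hk kk => ?_, fun y hy yy => ?_, fun y hy yy => ?_⟩,
    fun y => hlm _ y.2⟩
  · rcases hu ⟨k, hK k hk⟩ (Subtype.ext (by simpa [pow_two] using kk)) with e | e
    · exact Or.inl (congrArg Subtype.val e)
    · exact Or.inr (congrArg Subtype.val e)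
  · have key : ∃ l ∈ L, ∃ k : centralizer (L : Set G),
        Abelianization.of k ∈ oddT (Abelianization (centralizer (L : Set G))) ∧ y = l * k := by
      clear yy
      induction hy using closure_induction with
      | mem h hh =>
        obtain ⟨ho, hh⟩ := hh
        obtain ⟨w, hw, e⟩ := hact h hh
        obtain ⟨j, hj⟩ := ho
        -- `h = (h^(j+1))^2`
        have hA : Act lm h w := ⟨hw, e⟩
        have hA2 : Act lm h (w ^ (j + 1) * w ^ (j + 1)) := by
          have := (hA.pow (j + 1)).mul (hA.pow (j + 1))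
          rwa [← pow_add, show j + 1 + (j + 1) = orderOf h + 1 by omega, pow_succ, pow_orderOf_eq_one,
            one_mul] at this
        have hw2 := sq_mem (W.pow_mem hw (j + 1))
        set u := w ^ (j + 1) * w ^ (j + 1)
        have hk : (lm u)⁻¹ * h ∈ centralizer (L : Set G) := hK _ fun y hy => by
          have e1 : lm (u * y * u⁻¹) * lm u = lm u * lm y := by
            rw [← hmul _ (conj_mem (Wp_le_W hw2) hy) _ hw2, ← hmul _ hw2 _ hy]; simp
          have e2 := hA2.2 y hy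
          calc (lm u)⁻¹ * h * lm y * ((lm u)⁻¹ * h)⁻¹ = (lm u)⁻¹ * (h * lm y * h⁻¹ * lm u) := by group
            _ = lm y := by rw [e2, e1]; simp
        have cm : Commute (lm u) ((lm u)⁻¹ * h) := hk _ (hmem _ hw2)
        have e3 : (lm u) ^ orderOf h * ((lm u)⁻¹ * h) ^ orderOf h = 1 := by
          rw [← cm.mul_pow]; simp
        have e4 : ((lm u)⁻¹ * h) ^ orderOf h ∈ L := by
          rw [eq_inv_of_mul_eq_one_right e3]
          exact L.inv_mem (L.pow_mem (hmem _ hw2) _)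
        rcases hLK _ e4 (Subgroup.pow_mem _ hk _) with e5 | e5
        · refine ⟨lm u, hmem _ hw2, ⟨_, hk⟩, ⟨orderOf h, ⟨j, hj⟩, ?_⟩, by simp⟩
          rw [← map_pow, show (⟨_, hk⟩ : centralizer (L : Set G)) ^ orderOf h = 1 from Subtype.ext e5, map_one]
        · refine ⟨lm u * z, L.mul_mem (hmem _ hw2) zL, ⟨z, zK⟩ * ⟨_, hk⟩, ⟨orderOf h, ⟨j, hj⟩, ?_⟩, ?_⟩
          · rw [map_mul, mul_pow, ← map_pow, ← map_pow,
              show (⟨_, hk⟩ : centralizer (L : Set G)) ^ orderOf h = ⟨z, zK⟩ from Subtype.ext e5, hj,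
              ← map_mul, ← pow_succ, show 2 * j + 1 + 1 = 2 * (j + 1) by ring, pow_mul, pow_two, zz']
            simp
          · change h = lm u * z * (z * ((lm u)⁻¹ * h))
            rw [mul_assoc, ← mul_assoc z, zz]; simp
      | one => exact ⟨1, L.one_mem, 1, by rw [map_one]; exact Subgroup.one_mem _, by simp⟩
      | mul a b _ _ iha ihb =>
        obtain ⟨l, hl, k, hk, rfl⟩ := iha
        obtain ⟨l', hl', k', hk', rfl⟩ := ihb
        refine ⟨l * l', L.mul_mem hl hl', k * k', by rw [map_mul]; exact Subgroup.mul_mem _ hk hk', ?_⟩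
        rw [Subgroup.coe_mul, mul_assoc, ← mul_assoc (k : G), ← k.2 l' hl']; simp [mul_assoc]
      | inv a _ iha =>
        obtain ⟨l, hl, k, hk, rfl⟩ := iha
        refine ⟨l⁻¹, L.inv_mem hl, k⁻¹, by rw [map_inv]; exact Subgroup.inv_mem _ hk, ?_⟩
        rw [k.2 l hl]; simp
    obtain ⟨l, hl, k, hk, rfl⟩ := key
    have e1 : l * l * (k * k) = 1 := by
      have c : Commute l (k : G) := k.2 l hl
      rw [← yy, c.symm.mul_mul_mul_comm]
    have e2 : (k : G) * k ∈ L := by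
      rw [eq_inv_of_mul_eq_one_right e1]
      exact L.inv_mem (L.mul_mem hl hl)
    have e3 : k = 1 := oddT_aux zz' hu hc hk
      ((hLK _ e2 (Subgroup.mul_mem _ k.2 k.2)).imp Subtype.ext Subtype.ext)
    subst e3
    simpa using hsur l hl
  · have key : ∃ k : centralizer (L : Set G),
        Abelianization.of k ∈ oddT (Abelianization (centralizer (L : Set G))) ∧ y = k := by
      clear yy
      induction hy using closure_induction with
      | mem h hh =>
        refine ⟨⟨h, hK h hh.2⟩, ⟨orderOf h, hh.1, ?_⟩, rfl⟩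
        rw [← map_pow, show (⟨h, hK h hh.2⟩ : centralizer (L : Set G)) ^ orderOf h = 1 from
          Subtype.ext (pow_orderOf_eq_one h), map_one]
      | one => exact ⟨1, by rw [map_one]; exact Subgroup.one_mem _, rfl⟩
      | mul a b _ _ iha ihb =>
        obtain ⟨k, hk, rfl⟩ := iha
        obtain ⟨k', hk', rfl⟩ := ihb
        exact ⟨k * k', by rw [map_mul]; exact Subgroup.mul_mem _ hk hk', rfl⟩
      | inv a _ iha =>
        obtain ⟨k, hk, rfl⟩ := iha
        exact ⟨k⁻¹, by rw [map_inv]; exact Subgroup.inv_mem _ hk, rfl⟩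
    obtain ⟨k, hk, rfl⟩ := key
    rw [oddT_aux zz' hu hc hk (Or.inl (Subtype.ext yy))]; rfl

theorem St.ctx {G : Type*} [Group G] {z : G} {lm : GG → G} (h : St z lm) :
    ∃ ι : Wp →* G, Y.Ctx ι ∧ ι Y.ng = z := by
  let ι : Wp →* G := MonoidHom.mk' (fun y => lm y) fun a b => h.mul _ a.2 _ b.2
  have hz : ι Y.ng = z := h.hz
  refine ⟨ι, ⟨fun a b e => Subtype.ext (h.inj _ a.2 _ b.2 e), fun n hn => ?_, fun k hk kk => ?_,
    fun x hx xx => ?_⟩, hz⟩
  · obtain ⟨w, hw, e⟩ := h.act n (hz ▸ hn)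
    exact ⟨w, hw, fun y y' e' => (e _ y.2).trans (congrArg lm e'.symm)⟩
  · rw [hz]
    exact h.uq k (fun y hy => by rw [mul_inv_eq_iff_eq_mul]; exact (hk ⟨y, hy⟩).eq) kk
  · rw [hz] at hx
    obtain ⟨a, ha, rfl⟩ := h.odd x (by simpa only [and_comm] using hx) xx
    exact ⟨⟨a, ha⟩, rfl⟩

open Subgroup in
theorem normal_of {G : Type*} [Group G] [Finite G] (hO : Cfsg.oddCore G = ⊥) {L : Subgroup G}
    (hL : Cfsg.IsStandardSubgroup L)
    (hR : ∀ R : Sylow 2 (centralizer (L : Set G)), IsCyclic (R : Subgroup (centralizer (L : Set G))))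
    (φ : Wp ≃* L) (hφ : ∀ α : MulAut L, ∃ w ∈ W, ∀ y y' : Wp, (y' : GG) = w * y * w⁻¹ → α (φ y) = φ y')
    (H : ∀ (z : G) (lm : GG → G), St z lm → ∀ g, Commute z (g * z * g⁻¹) → g * z * g⁻¹ = z) : L.Normal := by
  obtain ⟨z, lm, h2, zK, h, -⟩ := exists_St hL hR φ hφ
  by_contra hn
  obtain ⟨g, c, hg⟩ := Cfsg.Lib.Layer.Zs.exists_conj hO hL h2 zK hn
  exact hg (H z lm h g c)

end Cfsg.Lib.Oz
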