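import Cfsg.Agent.Lib.Linear.OzB
import Cfsg.Agent.Lib.Linear.OzU0
import Cfsg.Agent.Lib.Linear.OzU1

/-! Elements of the Weyl group commuting with `diag(-1,-1,1,..,1)` are monomial. -/

set_option autoImplicit false

namespace Cfsg.Lib.Oz

theorem UX {u : GG} (hu : u ∈ W) (h : u * μ mX = μ mX * u) : ∃ m, Ev m ∧ u = μ m :=
  UX' (fun _ hv => root_W hu hv) h

end Cfsg.Lib.Oz
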