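import Cfsg.Agent.Lib.Amalg.Syl
import Cfsg.Agent.Lib.Linear.Flag

/-! Restriction of permutation groups to invariant subsets. -/

set_option autoImplicit false

namespace Cfsg.Lib.Linear

open Subgroup Equiv Finset Cfsg.Lib.Amalg

variable {α : Type*} [Fintype α] [DecidableEq α] {s t : Finset α} {N : Subgroup (Perm α)}

/-- The permutations supported on `s`. -/
def psupp (s : Finset α) : Subgroup (Perm α) := (Perm.ofSubtype : Perm s →* Perm α).range

theorem mem_psupp {g : Perm α} : g ∈ psupp s ↔ ∀ x ∉ s, g x = x :=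
  Perm.mem_range_ofSubtype_iff.trans (forall_congr' fun x => by simp [not_imp_comm])

theorem psupp_mono (h : s ⊆ t) : psupp s ≤ psupp t := fun _ hg => mem_psupp.2 fun x hx => mem_psupp.1 hg x fun h' => hx (h h')

theorem psupp_univ : psupp (univ : Finset α) = ⊤ := eq_top_iff.2 fun _ _ => mem_psupp.2 (by simp)

theorem psupp_inf : psupp s ⊓ psupp t = psupp (s ∩ t) := by ext; simp only [Subgroup.mem_inf, mem_psupp, mem_inter]; grind

theorem psupp_empty : psupp (∅ : Finset α) = ⊥ := eq_bot_iff.2 fun _ hg => Equiv.ext fun x => mem_psupp.1 hg x (by simp)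

theorem card_psupp (s : Finset α) : Nat.card (psupp s) = (#s).factorial := by
  rw [psupp, ← Nat.card_congr (MonoidHom.ofInjective Perm.ofSubtype_injective).toEquiv, Nat.card_perm]; simp

theorem psupp_inf_alt (s : Finset α) : psupp s ⊓ alternatingGroup α = (alternatingGroup s).map Perm.ofSubtype := by
  ext g
  exact ⟨fun ⟨⟨f, e⟩, h⟩ => ⟨f, by simpa [← e] using h, e⟩, fun ⟨f, h, e⟩ => ⟨⟨f, e⟩, by simpa [← e] using h⟩⟩

theorem card_psupp_alt (h : 2 ≤ #s) : 2 * Nat.card (psupp s ⊓ alternatingGroup α :) = (#s).factorial := by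
  have : Nontrivial s := Fintype.one_lt_card_iff_nontrivial.1 (by simpa)
  rw [psupp_inf_alt, card_map_of_injective Perm.ofSubtype_injective, Nat.card_eq_fintype_card, two_mul_card_alternatingGroup,
    Fintype.card_perm, Fintype.card_coe]

theorem psupp_alt_eq_bot (h : #s ≤ 2) : psupp s ⊓ alternatingGroup α = ⊥ := by
  rw [psupp_inf_alt, alternatingGroup.eq_bot_of_card_le_two (by simpa), Subgroup.map_bot]

theorem apply_mem_of_mem_psupp {g : Perm α} (h : g ∈ psupp s) (x : α) : g x ∈ s ↔ x ∈ s :=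
  ⟨fun h' => by_contra fun h'' => h'' (mem_psupp.1 h x h'' ▸ h'), fun h' => by_contra fun h'' =>
    h'' ((g.injective (mem_psupp.1 h _ h'')).symm ▸ h')⟩

theorem commute_of_psupp (h : Disjoint s t) {g k : Perm α} (hg : g ∈ psupp s) (hk : k ∈ psupp t) : Commute g k :=
  Perm.Disjoint.commute fun x => (em (x ∈ s)).symm.imp (mem_psupp.1 hg x) fun h' => mem_psupp.1 hk x (disjoint_left.1 h h')

theorem le_cent_of_psupp (h : Disjoint s t) {K : Subgroup (Perm α)} (hN : N ≤ psupp s) (hK : K ≤ psupp t) : N ≤ 𝐂 K :=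
  fun _ hg => mem_centralizer_iff.2 fun _ hk => (commute_of_psupp h (hN hg) (hK hk)).symm.eq

theorem inf_eq_bot_of_psupp (h : Disjoint s t) {K : Subgroup (Perm α)} (hN : N ≤ psupp s) (hK : K ≤ psupp t) : N ⊓ K = ⊥ :=
  eq_bot_iff.2 ((inf_le_inf hN hK).trans (by rw [psupp_inf, disjoint_iff_inter_eq_empty.1 h, psupp_empty]))

theorem card_sup_of_psupp (h : Disjoint s t) {K : Subgroup (Perm α)} (hN : N ≤ psupp s) (hK : K ≤ psupp t) :
    Nat.card (N ⊔ K :) = Nat.card N * Nat.card K :=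
  Cfsg.Lib.Core.card_sup_of_disjoint ((le_cent_of_psupp h hN hK).trans (centralizer_le_normalizer _)) (inf_eq_bot_of_psupp h hN hK)

theorem map_conj_psupp (g : Perm α) (s : Finset α) : cj g (psupp s) = psupp (s.map g.toEmbedding) := by
  ext k
  simp only [Subgroup.mem_map_equiv, mem_psupp, MulAut.conj_symm_apply, Perm.mul_apply, Perm.inv_eq_iff_eq, Finset.mem_map_equiv]
  exact g.surjective.forall.trans (by simp) |>.symm

theorem map_conj_eq_of_commute {g : Perm α} (h : ∀ k ∈ N, Commute g k) : cj g N = N := by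
  ext k
  exact ⟨fun ⟨l, hl, e⟩ => by simpa [← e, (h l hl).eq], fun hk => ⟨k, hk, by simp [(h k hk).eq]⟩⟩

theorem exists_alt_map_eq {u : Finset α} (hs : s ⊆ u) (ht : t ⊆ u) (h : #s = #t) (h2 : 2 ≤ #s) :
    ∃ g ∈ psupp u ⊓ alternatingGroup α, s.map g.toEmbedding = t := by
  classical
  obtain ⟨e, he⟩ := exists_equiv_of_card (f := fun x : u => x.1 ∈ s) (g := fun x : u => x.1 ∈ t) fun c => by
    have e : ∀ s ⊆ u, #{x : u | x.1 ∈ s} = #s := fun s hs => card_bij (fun x _ => x.1) (by simp) (by simp) fun x hx => ⟨⟨x, hs hx⟩, by simpa⟩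
    rcases Classical.propComplete c with rfl | rfl
    · simp only [eq_iff_iff, iff_true, e _ hs, e _ ht, h]
    · have := fun s : Finset α => card_filter_add_card_filter_not (s := univ) fun x : u => x.1 ∈ s
      have h1 := this s
      have h2 := this t
      simp only [eq_iff_iff, iff_false, e _ hs, e _ ht] at *
      omega
  have h1 : s.map (Perm.ofSubtype e).toEmbedding = t := eq_of_subset_of_card_le (fun x hx => by
    obtain ⟨y, hy, rfl⟩ := Finset.mem_map.1 hx
    simpa [Perm.ofSubtype_apply_of_mem _ (hs hy)] using (he ⟨y, hs hy⟩).mpr hy) (by simp [h])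
  rcases Int.units_eq_one_or (Perm.sign (Perm.ofSubtype e)) with h3 | h3
  · exact ⟨_, ⟨⟨e, rfl⟩, h3⟩, h1⟩
  obtain ⟨a, ha, b, hb, hab⟩ := one_lt_card.1 h2
  refine ⟨Perm.ofSubtype e * swap a b, ⟨mul_mem ⟨e, rfl⟩ (mem_psupp.2 fun x hx => swap_apply_of_ne_of_ne (by grind) (by grind)),
    Perm.mem_alternatingGroup.2 (by rw [map_mul, h3, Perm.sign_swap hab]; rfl)⟩, ?_⟩
  rw [← h1]; ext x
  simp only [Finset.mem_map_equiv, ← Perm.inv_def, mul_inv_rev, swap_inv, Perm.mul_apply, swap_apply_def]; grind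

theorem exists_cj_sup {u : Finset α} {E R K R' K' : Subgroup (Perm α)} (hE : alternatingGroup α ≤ E) (hs : s ⊆ u) (ht : t ⊆ u)
    (h : #s = #t) (h2 : 2 ≤ #s) (hR : R ≤ psupp s) (hK : K ≤ psupp (u \ s)) (hK' : K' ≤ psupp (u \ t))
    (h3 : ∀ g ∈ alternatingGroup α, cj g R ≤ psupp t → ∃ k ∈ psupp t ⊓ E, cj k (cj g R) = R')
    (h4 : ∀ g ∈ alternatingGroup α, cj g K ≤ psupp (u \ t) → ∃ k ∈ psupp (u \ t) ⊓ E, cj k (cj g K) = K') :
    ∃ g ∈ psupp u ⊓ E, cj g (R ⊔ K) = R' ⊔ K' := by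
  obtain ⟨g, hg, rfl⟩ := exists_alt_map_eq hs ht h h2
  have h5 := (cj_mono g hR).trans (map_conj_psupp g s).le
  obtain ⟨k, hk, rfl⟩ := h3 g hg.2 h5
  obtain ⟨l, hl, e⟩ := h4 g hg.2 ((cj_mono g hK).trans ((map_conj_psupp g _).le.trans (psupp_mono fun x => by
    have := apply_mem_of_mem_psupp (inv_mem hg.1) x
    simp only [Finset.mem_map_equiv, mem_sdiff, ← Perm.inv_def]; tauto)))
  refine ⟨k * l * g, ⟨mul_mem (mul_mem (psupp_mono ht hk.1) (psupp_mono sdiff_subset hl.1)) hg.1, mul_mem (mul_mem hk.2 hl.2) (hE hg.2)⟩, ?_⟩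
  rw [cj_sup, cj_mul, cj_mul, cj_mul, cj_mul, e, map_conj_eq_of_commute fun x hx => commute_of_psupp sdiff_disjoint hl.1 (h5 hx),
    map_conj_eq_of_commute (N := K') fun x hx => commute_of_psupp disjoint_sdiff hk.1 (hK' hx)]

theorem cj_le_alt {g : Perm α} (h : N ≤ alternatingGroup α) : cj g N ≤ alternatingGroup α :=
  cj_le_iff'.2 fun x hx => Normal.conj_mem inferInstance x (h hx) g

theorem exists_cj_of_map {G : Type*} [Group G] {H : Subgroup G} {A B : Subgroup H}
    (h : ∃ g ∈ H, cj g (A.map H.subtype) = B.map H.subtype) : ∃ g : H, B = cj g A := by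
  obtain ⟨g, hg, e⟩ := h
  exact ⟨⟨g, hg⟩, map_injective H.subtype_injective (by rw [← e, Subgroup.map_map, Subgroup.map_map]; rfl)⟩

theorem syl_of_card {G : Type*} [Group G] {p : ℕ} [Fact p.Prime] {X L : Subgroup G} [Finite L] (h : X ≤ L)
    (h1 : Nat.card X = p ^ (Nat.card L).factorization p) : Syl p X L :=
  let ⟨_, hT⟩ := exists_syl p L; hT.of_card_ge (.of_card h1) h (hT.card_eq_pow.trans h1.symm).le

/-- `s` is invariant under `N`. -/
def PInv (N : Subgroup (Perm α)) (s : Finset α) : Prop := ∀ g ∈ N, ∀ x, g x ∈ s ↔ x ∈ s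

namespace PInv
variable (h : PInv N s)
include h

theorem compl : PInv N sᶜ := fun g hg x => by simp [h g hg]

/-- Restriction to an invariant subset. -/
def res : N →* Perm α := Perm.ofSubtype.comp
  { toFun := fun g => (g.1.subtypePerm (h g g.2) : Perm s), map_one' := rfl, map_mul' := fun _ _ => rfl }

theorem res_apply (g : N) (x : α) : h.res g x = if x ∈ s then g.1 x else x := by
  split_ifs with hx
  exacts [Perm.ofSubtype_apply_of_mem _ hx, Perm.ofSubtype_apply_of_not_mem _ hx]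

theorem range_res_le : h.res.range ≤ psupp s := by rintro _ ⟨g, rfl⟩; exact ⟨_, rfl⟩

theorem res_mul_res (g : N) : h.res g * h.compl.res g = g := by
  ext x; have := h g g.2 x; simp only [Perm.mul_apply, res_apply, mem_compl]; grind

theorem res_eq (g : N) (hg : g.1 ∈ psupp s) : h.res g = g := by
  ext x; have := mem_psupp.1 hg x; simp only [res_apply]; grind

theorem range_res_le_of_le (hN : N ≤ psupp t) : h.res.range ≤ psupp t := by
  rintro _ ⟨g, rfl⟩; exact mem_psupp.2 fun x hx => by simp [res_apply, mem_psupp.1 (hN g.2) x hx]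

theorem card_eq : Nat.card N = Nat.card (N ⊓ psupp sᶜ :) * Nat.card h.res.range := by
  have : h.res.ker = (N ⊓ psupp sᶜ).subgroupOf N := by
    ext g; simp only [MonoidHom.mem_ker, Perm.ext_iff, res_apply, mem_subgroupOf, Subgroup.mem_inf, mem_psupp]; simp
  rw [← index_ker, ← h.res.ker.card_mul_index, this, Nat.card_congr (subgroupOfEquivOfLe inf_le_left).toEquiv]

theorem inf_le_range : N ⊓ psupp sᶜ ≤ h.compl.res.range := fun g hg => ⟨⟨g, hg.1⟩, h.compl.res_eq _ hg.2⟩

/-- If the complementary restriction is not larger than the kernel, the group splits. -/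
theorem eq_sup (h1 : Nat.card h.compl.res.range ≤ Nat.card (N ⊓ psupp sᶜ :)) : N = h.res.range ⊔ N ⊓ psupp sᶜ := by
  have h2 : N ⊓ psupp sᶜ = h.compl.res.range := eq_of_le_of_card_ge h.inf_le_range h1
  refine le_antisymm (fun g hg => (h.res_mul_res ⟨g, hg⟩).subst (mul_mem (mem_sup_left (MonoidHom.mem_range.2 ⟨_, rfl⟩))
    (mem_sup_right (h2.ge ⟨_, rfl⟩))))
    (sup_le ?_ inf_le_left)
  rintro _ ⟨g, rfl⟩
  exact (N.mul_mem_cancel_right (h2.ge ⟨g, rfl⟩).1).1 (h.res_mul_res g ▸ g.2)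

theorem range_compl_le_alt (hN : N ≤ alternatingGroup α) (h1 : h.res.range ≤ alternatingGroup α) :
    h.compl.res.range ≤ alternatingGroup α := by
  rintro _ ⟨g, rfl⟩
  exact (mul_mem_cancel_left (h1 ⟨g, rfl⟩)).1 (h.res_mul_res g ▸ hN g.2)

end PInv

open Classical in
/-- The orbit of a point. -/
noncomputable def porb (N : Subgroup (Perm α)) (x : α) : Finset α := {y | ∃ g ∈ N, g x = y}

theorem mem_porb {x y : α} : y ∈ porb N x ↔ ∃ g ∈ N, g x = y := by simp [porb]

theorem mem_porb_self (x : α) : x ∈ porb N x := mem_porb.2 ⟨1, one_mem _, rfl⟩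

theorem pinv_porb (x : α) : PInv N (porb N x) := fun g hg y => by
  simp only [mem_porb]
  exact ⟨fun ⟨k, hk, e⟩ => ⟨g⁻¹ * k, mul_mem (inv_mem hg) hk, by simp [e]⟩, fun ⟨k, hk, e⟩ => ⟨g * k, mul_mem hg hk, by simp [e]⟩⟩

theorem porb_subset (h : N ≤ psupp s) {x : α} (hx : x ∈ s) : porb N x ⊆ s := fun y hy => by
  obtain ⟨g, hg, rfl⟩ := mem_porb.1 hy; exact (apply_mem_of_mem_psupp (h hg) x).2 hx

theorem PInv.porb_res (h : PInv N s) {x : α} (hx : x ∈ s) : porb h.res.range x = porb N x := by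
  ext y; simp [mem_porb, PInv.res_apply, hx]

theorem porb_mono {K : Subgroup (Perm α)} (h : K ≤ N) (x : α) : porb K x ⊆ porb N x := fun _ hy =>
  let ⟨g, hg, e⟩ := mem_porb.1 hy; mem_porb.2 ⟨g, h hg, e⟩

theorem eq_bot_of_porb (h : N ≤ psupp s) (h1 : ∀ x ∈ s, #(porb N x) ≤ 1) : N = ⊥ := eq_bot_iff.2 fun g hg => Equiv.ext fun x =>
  (em (x ∈ s)).elim (fun hx => card_le_one.1 (h1 x hx) _ (mem_porb.2 ⟨g, hg, rfl⟩) _ (mem_porb_self x)) (mem_psupp.1 (h hg) x)

theorem card_porb (x : α) : #(porb N x) = (MulAction.stabilizer N x).index := by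
  rw [MulAction.index_stabilizer, ← Set.ncard_coe_finset]; congr 1; ext y; simp [mem_porb, MulAction.mem_orbit_iff, Subgroup.smul_def]

theorem inf_psupp_le (h : N ≤ psupp s) (t : Finset α) : N ⊓ psupp tᶜ ≤ psupp (s \ t) :=
  (inf_le_inf_right _ h).trans (psupp_inf.trans (by rw [sdiff_eq_inter_compl])).le

/-- Induction over orbits: a property of orbit restrictions that is closed under extensions. -/
theorem card_le_prod_of_porb (T G : ℕ → ℕ) (P : Subgroup (Perm α) → Prop) (hP : ∀ N K, K ≤ N → P N → P K) (Q : ℕ → ℕ → Prop)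
    (h0 : ∀ s N, P N → N ≤ psupp s → (∀ x ∈ s, ¬ Q #s #(porb N x)) → Nat.card N ≤ G #s)
    (h1 : ∀ N x, P N → Nat.card (pinv_porb (N := N) x).res.range ≤ T #(porb N x))
    (h2 : ∀ d j, Q (j + d) d → G j * T d ≤ G (j + d)) (s : Finset α) : ∀ N, P N → N ≤ psupp s → Nat.card N ≤ G #s := by
  induction s using Finset.strongInduction with
  | H s ih =>
  intro N hN hs
  by_cases h : ∃ x ∈ s, Q #s #(porb N x)
  swap; · exact h0 s N hN hs (by simpa using h)
  obtain ⟨x, hx, h⟩ := h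
  rw [← card_sdiff_add_card_eq_card (porb_subset hs hx)] at h ⊢
  rw [(pinv_porb x).card_eq]
  exact (Nat.mul_le_mul (ih _ (sdiff_ssubset (porb_subset hs hx) ⟨x, mem_porb_self x⟩) _ (hP _ _ inf_le_left hN) (inf_psupp_le hs _))
    (h1 N x hN)).trans (h2 _ _ h)

theorem isPGroup_of_res {p : ℕ} (h : ∀ x, IsPGroup p (pinv_porb (N := N) x).res.range) : IsPGroup p N := fun g => by
  choose k hk using fun x => h x ⟨_, g, rfl⟩
  refine ⟨∑ x, k x, Subtype.ext (Equiv.ext fun x => ?_)⟩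
  obtain ⟨m, hm⟩ := Nat.exists_eq_add_of_le (single_le_sum (f := k) (fun _ _ => Nat.zero_le _) (mem_univ x))
  have : (pinv_porb x).res (g ^ p ^ ∑ x, k x) = 1 := by
    rw [map_pow, hm, pow_add, pow_mul, show (pinv_porb x).res g ^ _ = 1 from congrArg Subtype.val (hk x), one_pow]
  exact ((pinv_porb x).res_apply _ x).symm.trans (congrArg (· x) this) ▸ (if_pos (mem_porb_self x)).symm

end Cfsg.Lib.Linear
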