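import Cfsg.Agent.Lib.Linear.TwoGen

/-! `SL_n(q)` is generated by two regular unipotent elements: the parameters. -/

set_option autoImplicit false

namespace Cfsg.Lib.Linear

open Matrix Module

local notation "SL" => Matrix.SpecialLinearGroup

variable {F : Type*} [Field F] {n : ℕ}

/-- Iterated sums of a sequence. -/
def binS (a : ℕ → F) : ℕ → ℕ → F
  | 0, i => a i
  | k + 1, i => binS a k i + binS a k (i + 1)

theorem dot_jB {a : ℕ → F} (ha : ∀ j, n < j → a j = 0) (k : ℕ) :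
    (fun i : Fin (n + 1) => a (n - i.val)) ⬝ᵥ jB n F k = binS a k 0 := by
  suffices ∀ i, (fun i : Fin (n + 1) => a (n - i.val)) ⬝ᵥ shM _ F ^ i *ᵥ jB n F k = binS a k i by simpa using this 0
  induction k with
  | zero =>
    intro i
    rw [dotProduct_mulVec, jB, pow_zero, one_mulVec, dotProduct_single, mul_one, vecMul_shM_pow, binS]
    split_ifs with h
    · simp at h ⊢; congr 1; omega
    · exact (ha i (by simpa using h)).symm
  | succ k ih =>
    intro i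
    rw [← jB_succ, coe_jSL, add_mulVec, one_mulVec, mulVec_add, dotProduct_add, mulVec_mulVec, ← pow_succ, ih, ih, binS]

/-- A regular unipotent element. -/
def RegU (u : SL (Fin n) F) : Prop := IsNilpotent (u.1 - 1) ∧ (u.1 - 1) ^ (n - 1) ≠ 0

theorem exists_conj_reg {u : SL (Fin n) F} (h : RegU u) {G : Matrix (Fin n) (Fin n) F} (hG : G.det ≠ 0) :
    ∃ w : SL (Fin n) F, w.1 * G = G * u.1 ∧ RegU w := by
  have hG' := isUnit_iff_ne_zero.2 hG
  refine ⟨⟨G * u.1 * G⁻¹, by simp [hG]⟩, by simp [mul_assoc, nonsing_inv_mul _ hG'], ?_⟩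
  have e : ∀ k, (G * u.1 * G⁻¹ - 1) ^ k = G * (u.1 - 1) ^ k * G⁻¹ := fun k => by
    induction k with
    | zero => simp [mul_nonsing_inv _ hG']
    | succ k ih =>
      rw [pow_succ, ih, pow_succ, mul_sub, mul_sub, mul_sub, sub_mul]
      simp only [mul_assoc, mul_one]
      rw [← mul_assoc G⁻¹, nonsing_inv_mul _ hG', one_mul]
  obtain ⟨⟨k, hk⟩, h⟩ := h
  refine ⟨⟨k, by rw [e, hk, mul_zero, zero_mul]⟩, fun c => h ?_⟩
  have := congrArg (G⁻¹ * · * G) ((e _).symm.trans c)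
  simp only [mul_assoc, nonsing_inv_mul _ hG', mul_one, mul_zero, zero_mul] at this
  rwa [← mul_assoc, nonsing_inv_mul _ hG', one_mul] at this

theorem exists_conj_sl (u : SL (Fin n) F) {G : Matrix (Fin n) (Fin n) F} {ρ : F} (h0 : ρ ≠ 0) (hG : G.det = ρ ^ n) :
    ∃ g : SL (Fin n) F, (g * u * g⁻¹).1 * G = G * u.1 := by
  let g : SL (Fin n) F := ⟨ρ⁻¹ • G, by simp [hG, h0]⟩
  have : G = ρ • g.1 := by simp [g, smul_smul, h0]
  clear_value g
  exact ⟨g, by rw [this, mul_smul_comm, ← sl_coe_mul, inv_mul_cancel_right, sl_coe_mul, smul_mul_assoc]⟩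

/-- Generation by two regular unipotent elements. -/
def Gen2 (n : ℕ) (F : Type*) [Field F] : Prop :=
  ∃ u v : SL (Fin n) F, RegU u ∧ RegU v ∧ Subgroup.closure {u, v} = ⊤

/-- Generation by two conjugate regular unipotent elements. -/
def Gen2c (n : ℕ) (F : Type*) [Field F] : Prop :=
  ∃ u g : SL (Fin n) F, RegU u ∧ Subgroup.closure {u, g * u * g⁻¹} = ⊤

theorem Gen2c.gen2 (h : Gen2c n F) : Gen2 n F := let ⟨u, g, a, b⟩ := h; ⟨u, _, a, reg_conj a g, b⟩

theorem gen2_of {a : ℕ → F} (ha : ∀ j, n + 2 < j → a j = 0) (h0 : a (n + 2) ≠ 0) {m₀ m₁ m₂ m₃ m₄ : F}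
    (a0 : a 0 = m₀) (a1 : a 1 = m₁ - m₀) (a2 : a 2 = m₂ - 2 * m₁ + m₀) (a3 : a 3 = m₃ - 3 * m₂ + 3 * m₁ - m₀)
    (a4 : a 4 = m₄ - 4 * m₃ + 6 * m₂ - 4 * m₁ + m₀) (hβ : 1 + m₂ ≠ 0) (h3 : m₃ ≠ 0)
    (e1 : m₃ * m₁ = (m₂ + 2) ^ 2) (e2 : m₃ * m₂ = m₁ * m₄) {m : F} (hm : m = (m₃ * m₀ - m₁ * m₂) / (1 + m₂)) (m0 : m ≠ 0)
    (hR : ∀ R : Subring F, m * ((m₃ + (m₂ + 2) * m₄ / m₃) / (1 + m₂)) ∈ R →
      m ^ 2 * ((m₃ ^ 2 - m₁ * (a 5 + m₀ - 5 * m₁ + 10 * m₂ - 10 * m₃ + 5 * m₄)) / (1 + m₂)) ∈ R → R = ⊤) :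
    Gen2 (n + 3) F ∧ ∀ ρ, 1 + m₂ = ρ ^ (n + 3) → Gen2c (n + 3) F := by
  have b0 : binS a 0 0 = m₀ := a0
  have b1 : binS a 1 0 = m₁ := by simp [binS, a0, a1]
  have b2 : binS a 2 0 = m₂ := by simp [binS, a0, a1, a2]; ring
  have b3 : binS a 3 0 = m₃ := by simp [binS, a0, a1, a2, a3]; ring
  have b4 : binS a 4 0 = m₄ := by simp [binS, a0, a1, a2, a3, a4]; ring
  have b5 : binS a 5 0 = a 5 + m₀ - 5 * m₁ + 10 * m₂ - 10 * m₃ + 5 * m₄ := by simp [binS, a0, a1, a2, a3, a4]; ring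
  have key := fun w => two_gen (M := fun k => binS a k 0) (dot_jB ha) h0 (by rwa [b2]) (by rwa [b3]) (by rwa [b1, b2, b3])
    (by rwa [b1, b2, b3, b4]) (by rwa [b0, b1, b2, b3]) m0 (hR _ (Subring.subset_closure (by simp [b2, b3, b4]))
      (Subring.subset_closure (by simp [b1, b2, b3, b5]))) (w := w)
  have d : (1 + vecMulVec (jB (n + 2) F 2) fun i => a (n + 2 - i.val)).det = 1 + m₂ := by
    rw [det_one_add_vecMulVec, dot_jB ha, b2]
  have r : RegU (jSL (n + 3) F) := jSL_reg (by simp)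
  refine ⟨?_, fun ρ h => ?_⟩
  · obtain ⟨w, b, c⟩ := exists_conj_reg r (d ▸ hβ)
    exact ⟨_, w, r, c, key w b⟩
  · obtain ⟨g, b⟩ := exists_conj_sl (jSL (n + 3) F) (by rintro rfl; simp [h] at hβ) (d.trans h)
    exact ⟨_, g, r, key _ b⟩

theorem Gen2c.map {K : Type*} [Field K] (e : K ≃+* F) (h : Gen2c n K) : Gen2c n F := by
  obtain ⟨u, g, ⟨a, b⟩, c⟩ := h
  let f := SpecialLinearGroup.map (n := Fin n) (e : K →+* F)
  have k : (f u).1 - 1 = e.mapMatrix (u.1 - 1) := by rw [map_sub, map_one]; rfl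
  refine ⟨f u, f g, ⟨k ▸ a.map _, by rwa [k, ← map_pow, EmbeddingLike.map_ne_zero_iff]⟩, ?_⟩
  rw [← map_inv, ← map_mul, ← map_mul, ← Set.image_pair, ← MonoidHom.map_closure, c]
  exact Subgroup.map_top_of_surjective _ fun x => ⟨SpecialLinearGroup.map (e.symm : F →+* K) x, Subtype.ext (by ext; simp [f])⟩

theorem eq_top_of_prime (hF : ∀ c : F, ∃ m : ℕ, c = m) {H : Subgroup (SL (Fin (n + 2)) F)} (hu : jSL _ F ∈ H)
    {t k : SL (Fin (n + 2)) F} (ht : t ∈ H) (hk : k ∈ H) {φ : Fin (n + 2) → F} (e : t.1 = 1 + vecMulVec (Pi.single 0 1) φ)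
    (h1 : φ 1 ≠ 0) (h2 : k.1 (Fin.last _) 0 ≠ 0) : H = ⊤ := by
  have a := dotProduct_eq_zero_of_coe_eq e
  have b : φ ∈ tvA H (Pi.single 0 1) := ⟨a, by rwa [show tvf _ φ = t from Subtype.ext ((coe_tvf a).trans e.symm)]⟩
  have c : Pi.single 0 1 ∈ fullW H := fun ψ hψ => mem_of_lead (tvA_shM hu) (fun c => by
    obtain ⟨m, d⟩ := hF (c / φ 1)
    exact ⟨m • φ, nsmul_mem b m, by simpa using .inr (by simpa using a), by simp [← d, h1]⟩) ψ (by simpa using hψ)
  exact eq_top_of_fullW (eq_top_of_last (fun x => fullW_conj hu) (fullW_conj hk c) (by simpa))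

/-- A conjugating element. -/
def gen2g3 : SL (Fin 3) (ZMod 3) := ⟨!![0, 2, 0; 2, 0, 1; 1, 2, 1], by decide +kernel⟩

/-- A second generator. -/
def gen2w3 : SL (Fin 3) (ZMod 3) := ⟨!![0, 1, 1; 1, 1, 0; 1, 1, 2], by decide +kernel⟩

theorem gen2c_three_three : Gen2c 3 (ZMod 3) := by
  let g := gen2g3
  let w := gen2w3
  refine ⟨jSL _ _, g, jSL_reg (by simp), ?_⟩
  rw [show g * jSL 3 (ZMod 3) * g⁻¹ = w from mul_inv_eq_iff_eq_mul.2 (Subtype.ext (by decide +kernel))]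
  let u := jSL 3 (ZMod 3)
  have hu : u ∈ Subgroup.closure {u, w} := Subgroup.subset_closure (.inl rfl)
  have hw : w ∈ Subgroup.closure {u, w} := Subgroup.subset_closure (.inr rfl)
  exact eq_top_of_prime (fun c => ⟨c.val, by simp⟩) hu 
    (mul_mem (mul_mem (mul_mem (mul_mem (mul_mem (mul_mem (mul_mem (mul_mem hw hw) hu) hw) hu) hu) hw) hu) hw) hw (φ := ![0, 2, 1])
    (by decide +kernel) (by decide) (by decide)

/-- A conjugating element. -/
def gen2g4 : SL (Fin 4) (ZMod 2) := ⟨!![0, 1, 1, 1; 1, 0, 0, 1; 1, 1, 0, 1; 1, 0, 1, 1], by decide +kernel⟩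

/-- A second generator. -/
def gen2w4 : SL (Fin 4) (ZMod 2) := ⟨!![0, 1, 1, 0; 0, 0, 1, 0; 0, 0, 0, 1; 1, 1, 0, 0], by decide +kernel⟩

theorem gen2c_four_two : Gen2c 4 (ZMod 2) := by
  let g := gen2g4
  let w := gen2w4
  refine ⟨jSL _ _, g, jSL_reg (by simp), ?_⟩
  have e0 : (g * jSL 4 (ZMod 2)).1 = (w * g).1 := by decide +kernel
  have e0' : g * jSL 4 (ZMod 2) = w * g := Subtype.ext e0
  rw [e0', mul_inv_cancel_right]
  let u := jSL 4 (ZMod 2)
  have hu : u ∈ Subgroup.closure {u, w} := Subgroup.subset_closure (.inl rfl)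
  have hw : w ∈ Subgroup.closure {u, w} := Subgroup.subset_closure (.inr rfl)
  have e1 : (w * u * u * u).1 = !![0, 1, 0, 0; 0, 0, 1, 1; 0, 0, 0, 1; 1, 0, 0, 0] := by decide +kernel
  have e2 : (u * (w * u * u * u) * (w * u * u * u)).1 = !![1, 0, 1, 0; 0, 0, 0, 1; 1, 1, 0, 0; 0, 1, 0, 0] := by
    rw [sl_coe_mul, sl_coe_mul, e1]; decide +kernel
  have h1 := mul_mem (mul_mem (mul_mem hw hu) hu) hu
  exact eq_top_of_prime (fun c => ⟨c.val, by simp⟩) hu (mul_mem (mul_mem (mul_mem (mul_mem hu h1) h1) hw) hw) hw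
    (φ := ![0, 1, 1, 1]) (by rw [sl_coe_mul, sl_coe_mul, e2]; decide +kernel) (by decide) (by decide)

variable [Fintype F]

theorem subring_inv_mem {R : Subring F} {x : F} (h : x ∈ R) : x⁻¹ ∈ R := by
  by_cases c : x = 0
  · simpa [c] using h
  have := Fintype.one_lt_card (α := F)
  rw [show x⁻¹ = x ^ (Fintype.card F - 2) from inv_eq_of_mul_eq_one_left (by
    rw [← pow_succ, ← FiniteField.pow_card_sub_one_eq_one x c]; congr 1; omega)]
  exact pow_mem h _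

theorem exists_ring_gen : ∃ ζ : F, ζ ≠ 0 ∧ (∀ k, ζ ^ k = 1 → Fintype.card F - 1 ∣ k) ∧ ∀ R : Subring F, ζ ∈ R → R = ⊤ := by
  classical
  obtain ⟨ζ, hζ⟩ := IsCyclic.exists_monoid_generator (α := Fˣ)
  refine ⟨ζ, ζ.ne_zero, fun k h => ?_, fun R h => eq_top_iff.2 fun c _ => ?_⟩
  · rw [← Fintype.card_units, ← Nat.card_eq_fintype_card, ← orderOf_eq_card_of_forall_mem_powers hζ]
    exact orderOf_dvd_of_pow_eq_one (Units.ext (by simpa))
  by_cases c0 : c = 0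
  · exact c0 ▸ zero_mem R
  obtain ⟨k, hk⟩ := hζ (Units.mk0 c c0)
  exact (by simpa using congrArg Units.val hk : (ζ : F) ^ k = c) ▸ pow_mem h k

theorem gen2c_five (n : ℕ) : Gen2c (n + 5) F := by
  obtain ⟨ζ, a, -, b⟩ := exists_ring_gen (F := F)
  obtain ⟨x, c, d, e⟩ : ∃ x : F, x ≠ 0 ∧ x - 20 ≠ 0 ∧ ∀ R : Subring F, x ∈ R → R = ⊤ := by
    by_cases c : ζ - 20 = 0
    · exact ⟨-ζ, by simpa, fun d => a (by
        have : (2 : F) * ζ = 0 := by linear_combination c - d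
        rcases mul_eq_zero.1 this with e | e
        · linear_combination c + 10 * e
        · exact e), fun R e => b R (by simpa using e)⟩
    · exact ⟨ζ, a, c, b⟩
  refine (gen2_of (n := n + 2) (a := fun j => if j = 0 then x else if j = 1 then 4 - x else if j = 2 then x - 8 else
    if j = 3 then 13 - x else if j = 4 then x - 20 else if j = n + 4 then 1 else 0) (fun j h => ?_) ?_ (m₀ := x) (m₁ := 4) (m₂ := 0)
    (m₃ := 1) (m₄ := 0) (by simp) (by simp) (by simp; ring) (by simp; ring) (by simp; ring) (by simp) (by simp) (by norm_num) (by simp)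
    (m := x) (by simp) c fun R h _ => e R (by simpa using h)).2 1 (by simp)
  · split_ifs <;> first | omega | rfl
  · rcases n with - | n <;> simp [d]

theorem gen2_four_odd (h2 : (2 : F) ≠ 0) {γ : F} (h0 : γ ≠ 0) (h1 : γ - 1 ≠ 0) (h : ∀ R : Subring F, γ ∈ R → R = ⊤) :
    Gen2 4 F ∧ ∀ ρ, γ - 1 = ρ ^ 4 → Gen2c 4 F := by
  have h8 : (8 : F) ≠ 0 := by convert pow_ne_zero 3 h2 using 1; norm_num
  have e : 1 + (γ - 2) = γ - 1 := by ring
  have := gen2_of (n := 1) (a := fun j => if j = 0 then 14 - 15 * γ else if j = 1 then 14 * γ - 14 else if j = 2 then 12 - 12 * γ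
    else if j = 3 then 8 * (γ - 1) else 0) (fun j h => by split_ifs <;> first | omega | rfl) (by simp [h8, h1]) (m₀ := 14 - 15 * γ)
    (m₁ := -γ) (m₂ := γ - 2) (m₃ := -γ) (m₄ := γ - 2) (by simp) (by simp; ring) (by simp; ring) (by simp; ring) (by simp; ring)
    (by rwa [e]) (by simpa) (by ring) (by ring) (m := 2 * 8 * γ) (by rw [e]; field_simp; ring) (by simp [h2, h8, h0])
    fun R a _ => h R (by
      convert mul_mem a (neg_mem (pow_mem (subring_inv_mem (show (2 : F) ∈ R from natCast_mem R 2)) 5)) using 1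
      rw [e]; field_simp; ring)
  rwa [e] at this

theorem gen2c_four_even (h2 : (2 : F) = 0) : Gen2c 4 F := by
  obtain ⟨ζ, a, b, c⟩ := exists_ring_gen (F := F)
  by_cases d : ζ = 1
  · have e := b 1 (by simp [d])
    have := Fintype.one_lt_card (α := F)
    haveI := (CharP.charP_iff_prime_eq_zero Nat.prime_two).2 h2
    exact gen2c_four_two.map (ZMod.ringEquiv F (by simp at e; omega))
  exact (gen2_of (n := 1) (a := fun j => if j < 3 then ζ else if j = 3 then 1 - ζ else 0)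
    (fun j h => by split_ifs <;> first | omega | rfl) (by simpa [sub_eq_zero] using Ne.symm d) (m₀ := ζ) (m₁ := 0) (m₂ := 0) (m₃ := 1)
    (m₄ := ζ) (by simp) (by simp; linear_combination ζ * h2) (by simp) (by simp) (by simp; linear_combination (2 - ζ) * h2) (by simp)
    (by simp) (by linear_combination (-2) * h2) (by simp) (m := ζ) (by simp) a fun R h _ => c R (by simpa [h2] using h)).2 1 (by simp)

end Cfsg.Lib.Linear
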