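import Cfsg.Agent.Lib.Linear.EichGen
import Cfsg.Agent.Lib.Linear.TwoGen2
import Mathlib.RingTheory.Binomial

/-!
Forms invariant under the unipotent Jordan block.
-/

namespace Cfsg.Lib.Linear.EG

open Cfsg.Lib.Forms Cfsg.Lib.Forms.Form Module Matrix

/-- An integral Gram matrix invariant under the Jordan block. -/
def pz (x : ℤ) (l i j : ℕ) : ℤ :=
  if l ≤ i + j then (-1) ^ i * Ring.choose ((i : ℤ) - x) (i + j - l) else 0

theorem pz_lt {x : ℤ} {l i j : ℕ} (h : i + j < l) : pz x l i j = 0 := if_neg (by omega)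

theorem pz_of {x : ℤ} {l i j : ℕ} (s a : ℕ) (h : i + j = l + s) (h' : (i : ℤ) - x = a) :
    pz x l i j = (-1) ^ i * a.choose s := by
  rw [pz, if_pos (by omega), h', Ring.choose_natCast, show i + j - l = s by omega]

theorem pz_eq {x : ℤ} {l i j : ℕ} (h : i + j = l) : pz x l i j = (-1) ^ i := by
  rw [pz, if_pos (by omega), show i + j - l = 0 by omega, Ring.choose_zero_right, mul_one]

theorem pz_inv (x : ℤ) (l i j : ℕ) : pz x l i (j + 1) + pz x l (i + 1) j + pz x l i j = 0 := by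
  rcases lt_trichotomy l (i + j + 1) with h | h | h
  · rw [pz, pz, pz, if_pos (by omega), if_pos (by omega), if_pos (by omega),
      show i + (j + 1) - l = i + j - l + 1 by omega, show i + 1 + j - l = i + j - l + 1 by omega,
      show ((i + 1 : ℕ) : ℤ) - x = (i - x) + 1 by push_cast; ring, Ring.choose_succ_succ]
    ring
  · rw [pz_eq (by omega), pz_eq (by omega), pz_lt (by omega)]; ring
  · rw [pz_lt (by omega), pz_lt (by omega), pz_lt (by omega)]; ring

theorem pz_swap (x : ℤ) (l i j : ℕ) : pz x l j i = (-1) ^ l * pz (l + 1 - x) l i j := by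
  by_cases h : l ≤ i + j
  · obtain ⟨s, hs⟩ := Nat.exists_eq_add_of_le h
    rw [pz, pz, if_pos (by omega), if_pos h, show j + i - l = s by omega,
      show i + j - l = s by omega, show (j : ℤ) - x = -(x - j) by ring, Ring.choose_neg,
      show x - j + s - 1 = i - (l + 1 - x) by omega, Units.smul_def, Int.coe_negOnePow_natCast,
      smul_eq_mul]
    have h1 : (-1 : ℤ) ^ i * (-1) ^ j = (-1) ^ l * (-1) ^ s := by rw [← pow_add, hs, pow_add]
    have h2 : (-1 : ℤ) ^ j * (-1) ^ j = 1 := by rw [← mul_pow]; simp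
    have h3 : (-1 : ℤ) ^ l * (-1) ^ l = 1 := by rw [← mul_pow]; simp
    set c := Ring.choose ((i : ℤ) - (l + 1 - x)) s
    linear_combination (-(-1) ^ l * (-1) ^ j * c) * h1 + ((-1) ^ l * (-1) ^ i * c) * h2 -
      ((-1) ^ j * (-1) ^ s * c) * h3
  · rw [pz_lt (by omega), pz_lt (by omega), mul_zero]

variable {F : Type*} [Field F] {σ : F →+* F} {K : Kind σ}

/-- The standard basis vectors indexed by natural numbers. -/
def eb (N : ℕ) (F : Type*) [Field F] (i : ℕ) : Fin N → F := fun k => if k.val = i then 1 else 0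

/-- The sesquilinear form with Gram matrix `G`. -/
def gB (σ : F →+* F) (N : ℕ) (G : ℕ → ℕ → F) : (Fin N → F) →ₛₗ[σ] (Fin N → F) →ₗ[F] F :=
  LinearMap.mk₂'ₛₗ σ (RingHom.id F) (fun x y => ∑ i : Fin N, ∑ j : Fin N, σ (x i) * G i j * y j)
    (fun x x' y => by simp [add_mul, Finset.sum_add_distrib])
    (fun c x y => by simp [Finset.mul_sum, mul_assoc])
    (fun x y y' => by simp [mul_add, Finset.sum_add_distrib])
    (fun c x y => by simp [Finset.mul_sum, mul_left_comm])

theorem gB_apply {N : ℕ} (G : ℕ → ℕ → F) (x y : Fin N → F) :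
    gB σ N G x y = ∑ i : Fin N, ∑ j : Fin N, σ (x i) * G i j * y j := rfl

theorem sum_eb {N i : ℕ} (hi : i < N) (f : Fin N → F) :
    ∑ k, f k * eb N F i k = f ⟨i, hi⟩ := by
  rw [Finset.sum_eq_single ⟨i, hi⟩]
  · simp [eb]
  · intro b _ hb
    rw [eb, if_neg fun h => hb (Fin.ext h), mul_zero]
  · simp

theorem gB_right {N j : ℕ} (hj : j < N) (G : ℕ → ℕ → F) (x : Fin N → F) :
    gB σ N G x (eb N F j) = ∑ i, σ (x i) * G i j := by
  rw [gB_apply]
  exact Finset.sum_congr rfl fun i _ => sum_eb hj _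

theorem gB_eb {N i j : ℕ} (hi : i < N) (hj : j < N) (G : ℕ → ℕ → F) :
    gB σ N G (eb N F i) (eb N F j) = G i j := by
  rw [gB_right hj, ← sum_eb hi fun k : Fin N => G k j]
  refine Finset.sum_congr rfl fun k _ => ?_
  rw [mul_comm, eb]; split_ifs <;> simp

theorem eq_sum_eb {N : ℕ} (x : Fin N → F) : x = ∑ k : Fin N, x k • eb N F k := by
  ext i
  simp [eb, Fin.val_inj]

theorem jSL_eb_zero {N : ℕ} : (jSL N F).1 *ᵥ eb N F 0 = eb N F 0 := by
  ext i
  have := shM_pow_mulVec 1 (eb N F 0) i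
  rw [pow_one] at this
  rw [coe_jSL, add_mulVec, one_mulVec, Pi.add_apply, this]
  simp [eb]

theorem jSL_eb_succ {N i : ℕ} (hi : i + 1 < N) :
    (jSL N F).1 *ᵥ eb N F (i + 1) = eb N F (i + 1) + eb N F i := by
  ext k
  have := shM_pow_mulVec 1 (eb N F (i + 1)) k
  rw [pow_one] at this
  rw [coe_jSL, add_mulVec, one_mulVec, Pi.add_apply, this, Pi.add_apply]
  congr 1
  split_ifs with h
  · simp [eb]
  · rw [eb, if_neg (by omega)]

theorem exists_model {l : ℕ} {G : ℕ → ℕ → F}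
    (hinv : ∀ i j, G i (j + 1) + G (i + 1) j + G i j = 0) (h0 : ∀ i j, i + j < l → G i j = 0)
    (h1 : ∀ i j, i + j = l → G i j ≠ 0) (D : Form K (Fin (l + 1) → F)) (hD : D.B = gB σ _ G)
    (hQ : ∀ x y, D.B x x = D.B y y → D.Q x = D.Q y) (hl : 1 ≤ l) :
    D.Nondeg ∧ ∃ u : D.isom, Reg D u l (eb _ F) ∧ ∀ x, u.1 x = (jSL _ F).1 *ᵥ x := by
  have hB : ∀ {i j}, i ≤ l → j ≤ l → D.B (eb _ F i) (eb _ F j) = G i j := fun hi hj => by
    rw [hD, gB_eb (by omega) (by omega)]
  have hN : D.Nondeg := by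
    classical
    intro x hx
    by_contra h
    obtain ⟨k, hk, hm⟩ := Finset.exists_max_image (Finset.univ.filter fun k => x k ≠ 0) id
      (by obtain ⟨k, hk⟩ := Function.ne_iff.1 h; exact ⟨k, by simpa using hk⟩)
    have h2 := hx (eb _ F (l - k))
    rw [hD, gB_right (by omega), Finset.sum_eq_single k] at h2
    · exact mul_ne_zero ((map_ne_zero σ).2 (by simpa using hk)) (h1 _ _ (by omega)) h2
    · intro b _ hb
      rcases lt_or_gt_of_ne hb with h3 | h3
      · rw [h0 _ _ (by omega), mul_zero]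
      · have : x b = 0 := by
          by_contra h4
          exact absurd (hm b (by simpa using h4)) (not_le.2 h3)
        simp [this]
    · simp
  have hsp : Submodule.span F (eb (l + 1) F '' {i | i ≤ l}) = ⊤ := eq_top_iff.2 fun x _ => by
    rw [eq_sum_eb x]
    exact Submodule.sum_mem _ fun k _ => Submodule.smul_mem _ _
      (Submodule.subset_span ⟨k, Nat.lt_succ_iff.1 k.2, rfl⟩)
  have hI : ∀ i ≤ l, ∀ j ≤ l, D.B (toLin' (jSL _ F).1 (eb _ F i)) (toLin' (jSL _ F).1 (eb _ F j)) =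
      D.B (eb _ F i) (eb _ F j) := by
    intro i hi j hj
    rw [toLin'_apply, toLin'_apply]
    rcases i with _ | i <;> rcases j with _ | j
    · rw [jSL_eb_zero]
    · rw [jSL_eb_zero, jSL_eb_succ (by omega), D.B_add_right, hB (j := j) hi (by omega),
        h0 _ _ (by omega), add_zero]
    · rw [jSL_eb_zero, jSL_eb_succ (by omega), D.B_add_left, hB (i := i) (by omega) hj,
        h0 _ _ (by omega), add_zero]
    · rw [jSL_eb_succ (by omega), jSL_eb_succ (by omega)]
      simp only [D.B_lin]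
      rw [hB (i := i) (by omega) hj, hB (j := j) hi (by omega), hB (i := i) (j := j) (by omega)
        (by omega)]
      linear_combination hinv i j
  have hiso : IsIsometry D D (toLin' (jSL (l + 1) F).1) := isIsometry_of_span hsp
    (by rintro _ ⟨i, hi, rfl⟩ _ ⟨j, hj, rfl⟩; exact hI i hi j hj)
    (by rintro _ ⟨i, hi, rfl⟩; exact hQ _ _ (hI i hi i hi))
  refine ⟨hN, D.mkIsom hN _ hiso, ⟨?_, fun i hi => ?_, fun z hz => ?_, ?_⟩, fun x => rfl⟩
  · exact jSL_eb_zero
  · exact jSL_eb_succ (by omega)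
  · rw [eq_sum_eb z] at hz ⊢
    rw [map_sum, Finset.sum_eq_single (Fin.last l)] at hz
    · rw [D.B_smul_right, hB (by omega) (by simp), mul_eq_zero] at hz
      have hz' := hz.resolve_right (h1 _ _ (by simp))
      refine Submodule.sum_mem _ fun k _ => ?_
      by_cases hk : k = Fin.last l
      · rw [hk, hz', zero_smul]; exact Submodule.zero_mem _
      · exact Submodule.smul_mem _ _ (Submodule.subset_span ⟨k, Fin.val_lt_last hk, rfl⟩)
    · intro b _ hb
      rw [D.B_smul_right, hB (by omega) (by omega), h0 _ _ (by simpa using Fin.val_lt_last hb),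
        mul_zero]
    · simp
  · rw [hQ _ 0 (by rw [hB (by omega) (by omega), h0 _ _ (by omega)]; simp), D.Q_zero]

theorem reg_transport {ι κ : Type*} [Fintype ι] [DecidableEq ι] [Fintype κ] [DecidableEq κ]
    {J : Matrix ι ι F} {M : Matrix κ κ F} (φ : (ι → F) ≃ₗ[F] (κ → F))
    (h : ∀ x, M *ᵥ φ x = φ (J *ᵥ x)) (k : ℕ) : (M - 1) ^ k = 0 ↔ (J - 1) ^ k = 0 := by
  have h1 : ∀ x, (M - 1) ^ k *ᵥ φ x = φ ((J - 1) ^ k *ᵥ x) := by
    induction k with
    | zero => simp
    | succ k ih =>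
      intro x
      rw [pow_succ, pow_succ, ← mulVec_mulVec, ← mulVec_mulVec, ← ih, sub_mulVec, sub_mulVec,
        one_mulVec, one_mulVec, h, map_sub]
  constructor
  · intro h2
    refine ext_of_mulVec_single fun i => φ.injective ?_
    rw [← h1, h2, zero_mulVec, zero_mulVec, map_zero]
  · intro h2
    refine ext_of_mulVec_single fun i => ?_
    obtain ⟨x, hx⟩ := φ.surjective (Pi.single i 1)
    rw [← hx, h1, h2]; simp

section
variable {V : Type*} [AddCommGroup V] [Module F V] {D : Form K V}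

theorem li_three {a b c : V} (ha : D.Q a = 0) (hc : D.Q c = 0) (h1 : D.B a b = 0)
    (h2 : D.B b c = 0) (h3 : D.B a c ≠ 0) (hb : b ≠ 0) : LinearIndependent F ![a, b, c] := by
  rw [Fintype.linearIndependent_iff]
  intro g hg
  simp only [Fin.sum_univ_three, cons_val] at hg
  have e1 := congrArg (D.B a) hg
  have e2 := congrArg (D.B c) hg
  simp only [D.B_lin, D.B_self_of_Q ha, D.B_self_of_Q hc, h1, D.eq_zero_symm h2] at e1 e2
  have g2 : g 2 = 0 := by simpa [h3] using e1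
  have g0 : g 0 = 0 := by simpa [D.ne_zero_symm h3] using e2
  have g1 : g 1 = 0 := by simpa [g0, g2, hb] using hg
  intro i; fin_cases i <;> assumption

theorem exists_conj [FiniteDimensional F V] (hD : D.Nondeg) (u : D.isom) {p a b c : V}
    (hp : D.Q p = 0) (hp1 : D.B p (u.1 p) = 0) (hp2 : D.B p (u.1 (u.1 p)) = D.B a c)
    (ha : D.Q a = 0) (hb : D.Q b = 0) (hc : D.Q c = 0) (h1 : D.B a b = 0) (h2 : D.B b c = 0)
    (h3 : D.B a c ≠ 0) (hb0 : b ≠ 0) :
    ∃ g : D.isom, g.1 p = a ∧ g.1 (u.1 p) = b ∧ g.1 (u.1 (u.1 p)) = c := by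
  have hp0 : u.1 p ≠ 0 := fun h => h3 (by rw [← hp2, h]; simp)
  have hp3 : D.B (u.1 p) (u.1 (u.1 p)) = 0 := by rw [B_isom, hp1]
  obtain ⟨g, hg⟩ := hD.witt_family (li_three hp (by simpa using hp) hp1 hp3 (hp2 ▸ h3) hp0)
    (li_three ha hc h1 h2 h3 hb0) (fun i j => by
      fin_cases i <;> fin_cases j <;>
        simp [D.B_self_of_Q, ha, hb, hc, hp, h1, h2, hp1, hp2, D.eq_zero_symm h1, D.eq_zero_symm h2,
          D.eq_zero_symm hp1, D.eq_symm_of_eq hp2])
    (fun i => by fin_cases i <;> simp [ha, hb, hc, hp])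
  exact ⟨g, hg 0, hg 1, hg 2⟩

/-- `x` is the Eichler element with data `e, z, d`. -/
def Is (x : D.isom) (e z : V) (d : F) : Prop := ∃ h, x = D.eich e z d h

theorem Is.of_in {x : D.isom} {e z : V} {d : F} (h : Is x e z d) {H : Subgroup D.isom}
    (hx : x ∈ H) : In H e z d := ⟨h.1, h.2 ▸ hx⟩

theorem Is.congr {x : D.isom} {e e' z z' : V} {d d' : F} (h : Is x e z d) (he : e = e')
    (hz : z = z') (hd : d = d') : Is x e' z' d' := by subst he hz hd; exact h

theorem Is.mul {x y : D.isom} {e z z' : V} {d d' : F} (h : Is x e z d) (h' : Is y e z' d') :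
    Is (x * y) e (z + z') (d + d' + D.B z z') := by
  obtain ⟨h, rfl⟩ := h
  obtain ⟨h', rfl⟩ := h'
  exact ⟨_, eich_mul _ h h'⟩

theorem Is.inv {x : D.isom} {e z : V} {d : F} (h : Is x e z d) : Is x⁻¹ e (-z) (K.ε * σ d) := by
  obtain ⟨h, rfl⟩ := h
  exact ⟨_, eich_inv _ h⟩

theorem Is.conj {x : D.isom} {e z : V} {d : F} (h : Is x e z d) (g : D.isom) :
    Is (g * x * g⁻¹) (g.1 e) (g.1 z) d := by
  obtain ⟨h, rfl⟩ := h
  exact ⟨_, conj_eich _ g h⟩

theorem Is.add_smul {x : D.isom} {e z : V} {d : F} (c : F) (h : Is x e z d) :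
    Is x e (z + c • e) (d - c + K.ε * σ c) := by
  obtain ⟨h, rfl⟩ := h
  have h1 := ((In.add_smul (H := ⊤) c ⟨h, trivial⟩)).1
  exact ⟨h1, (eich_add_smul _ c h h1).symm⟩

theorem Is.of_smul {x : D.isom} {e z : V} {d c : F} (hc : c ≠ 0) (h : Is x (c • e) z d) :
    Is x e (σ c • z) (c * σ c * d) := by
  obtain ⟨h, rfl⟩ := h
  have h1 := ((In.of_smul (H := ⊤) hc ⟨h, trivial⟩)).1
  exact ⟨h1, eich_smul_left _ c h1 h⟩

theorem Is.eq {x y : D.isom} {e z : V} {d : F} (h : Is x e z d) (h' : Is y e z d) : x = y :=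
  h.2.trans h'.2.symm

theorem exists_comm_eq {u : D.isom} {a b : V} (ha : u.1 a = a) (hb : u.1 b = b + a)
    (hQ : D.Q a = 0) (hB : D.B a b = 0) (c : F) :
    ∃ g ∈ D.E, Is (g * u * g⁻¹ * u⁻¹) a 0 (K.ε * σ c - c) := by
  obtain ⟨δ, h⟩ := D.exists_isEich (z := c • b) hQ (by rw [D.B_smul_right, hB, mul_zero])
  refine ⟨_, eich_mem_E _ _ _ h, ?_⟩
  have h1 : Is (D.eich a (c • b) δ h) a (c • b) δ := ⟨h, rfl⟩
  have h2 := (h1.mul (((h1.inv.conj u).congr ha rfl rfl).add_smul c))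
  rw [map_neg, map_smul, hb] at h2
  have h3 := h.B_zz
  have h4 := D.eq_zero_symm hB
  simp only [mul_assoc] at h2 ⊢
  refine h2.congr rfl (by module) ?_
  simp only [D.B_lin, h4] at h3 ⊢
  linear_combination -h3

theorem exists_comm_eq' {D : Form (altKind F) V} {u : D.isom} {a b b' : V} (ha : u.1 a = a)
    (hb : u.1 b = b + a) (hb' : u.1 b' = b' + b) (hB : D.B a b = 0) (hB' : D.B a b' = 0) (c : F) :
    ∃ g : D.isom, Is (g * u * g⁻¹ * u⁻¹) a 0 (c - c ^ 2 * D.B b' b) := by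
  have h := Symp.isEich (D := D) (e := a) (z := c • b') (by rw [D.B_smul_right, hB', mul_zero]) 0
  have h' := Symp.isEich (D := D) (e := b) (z := 0) (by simp) (-c)
  have h'' := Symp.isEich (D := D) (e := a) (z := c • b) (by rw [D.B_smul_right, hB, mul_zero]) c
  set g₁ := D.eich _ _ _ h' with hg₁
  set g₂ := D.eich _ _ _ h with hg₂
  have h1 : Is g₂ a (c • b') 0 := ⟨h, rfl⟩
  have h2 := (h1.mul ((h1.inv.conj u).congr ha rfl rfl)).conj g₁
  have h4 := D.eq_zero_symm hB
  have e1 : g₁.1 a = a := by simp [hg₁, eich_apply, h4]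
  have e2 : g₁.1 b = b := by simp [hg₁, eich_apply, Symp.B_self]
  have h3 : Is (g₁ * (u * g₁⁻¹ * u⁻¹)) a (c • b) c := by
    refine ⟨h'', ?_⟩
    rw [hg₁, eich_inv, conj_eich]
    refine isom_ext fun y => ?_
    simp only [isom_mul_apply, eich_apply, hb, neg_zero, show u.1 0 = 0 from map_zero _]
    simp only [D.B_lin, Symp.B_self, hB, h4, altKind_ε, RingHom.id_apply]
    module
  refine ⟨g₁ * g₂, ?_⟩
  have h5 := (h2.congr e1 (z' := -c • b) (by
    rw [map_neg, map_smul, hb', show c • b' + -(c • (b' + b)) = -c • b by module, map_smul, e2])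
    rfl).mul h3
  convert h5.congr rfl (z' := 0) (by module) (d' := c - c ^ 2 * D.B b' b) ?_ using 1
  · group
  · rw [show u.1 (-(c • b')) = -(c • (b' + b)) by rw [map_neg, map_smul, hb']]
    simp only [D.B_lin, Symp.B_self, RingHom.id_apply]
    ring

end

end Cfsg.Lib.Linear.EG
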