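import Cfsg.Agent.Lib.Linear.Tv

/-! `SL_n` is transitive on linearly independent pairs for `n ≥ 3`. -/

set_option autoImplicit false

namespace Cfsg.Lib.Linear

open Matrix Module

variable {ι : Type} [Fintype ι] [DecidableEq ι] {F : Type*} [Field F]

/-- The pointwise stabiliser in `SL` of a subspace of codimension at least two is transitive on the vectors outside it. -/
theorem exists_sl_fix_map {W : Submodule F (ι → F)} (hW : finrank F W + 2 ≤ Fintype.card ι) {v v' : ι → F} (hv : v ∉ W)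
    (hv' : v' ∉ W) : ∃ g : SpecialLinearGroup ι F, (∀ w ∈ W, (g : Matrix ι ι F) *ᵥ w = w) ∧ (g : Matrix ι ι F) *ᵥ v = v' := by
  obtain ⟨g, a, b⟩ := exists_gl_fix_map hv hv'
  obtain ⟨u, hu⟩ : ∃ u, u ∉ W ⊔ F ∙ v' := by
    by_contra! h
    have := Submodule.finrank_add_le_finrank_add_finrank W (F ∙ v')
    have h2 := finrank_span_singleton (K := F) (v := v') (by rintro rfl; exact hv' W.zero_mem)
    rw [Submodule.eq_top_iff'.2 h, finrank_top, finrank_fintype_fun_eq_card] at this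
    omega
  obtain ⟨ψ, c, d⟩ := exists_dotProduct_of_notMem hu ((g : Matrix ι ι F).det⁻¹ - 1)
  refine ⟨⟨(1 + vecMulVec u ψ) * g, ?_⟩, fun w hw => ?_, ?_⟩
  · rw [det_mul, det_one_add_vecMulVec, d, add_sub_cancel, inv_mul_cancel₀ g.det_ne_zero]
  · simp only [← mulVec_mulVec, a w hw, one_add_vecMulVec_mulVec, c w (Submodule.mem_sup_left hw), zero_smul, add_zero]
  · simp only [← mulVec_mulVec, b, one_add_vecMulVec_mulVec,
      c v' (Submodule.mem_sup_right (Submodule.mem_span_singleton_self _)), zero_smul, add_zero]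

theorem sl_mulVec_injective (g : SpecialLinearGroup ι F) : Function.Injective (g : Matrix ι ι F).mulVec :=
  mulVec_injective_of_isUnit ((isUnit_iff_isUnit_det _).2 (by simp))

theorem exists_sl_pair (hι : 3 ≤ Fintype.card ι) {v w v' w' : ι → F} (hv : v ≠ 0) (hw : w ∉ F ∙ v) (hv' : v' ≠ 0)
    (hw' : w' ∉ F ∙ v') : ∃ g : SpecialLinearGroup ι F, (g : Matrix ι ι F) *ᵥ v = v' ∧ (g : Matrix ι ι F) *ᵥ w = w' := by
  obtain ⟨g, -, a⟩ := exists_sl_fix_map (W := ⊥) (by simp; omega) hv hv'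
  obtain ⟨h, b, c⟩ := exists_sl_fix_map (W := F ∙ v') (v := (g : Matrix ι ι F) *ᵥ w)
    (by rw [finrank_span_singleton hv']; omega) (fun e => hw (by
      obtain ⟨t, e⟩ := Submodule.mem_span_singleton.1 e
      rw [← a, ← mulVec_smul] at e
      exact Submodule.mem_span_singleton.2 ⟨t, sl_mulVec_injective g e⟩)) hw'
  exact ⟨h * g, by rw [sl_coe_mul, ← mulVec_mulVec, a, b _ (Submodule.mem_span_singleton_self _)],
    by rw [sl_coe_mul, ← mulVec_mulVec, c]⟩

/-- A non-central element moves some line. -/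
theorem exists_mulVec_notMem_span {A : Matrix ι ι F} (hA : ∀ c : F, A ≠ c • 1) : ∃ v, v ≠ 0 ∧ A *ᵥ v ∉ F ∙ v := by
  by_contra! h
  obtain ⟨c, hc⟩ := LinearMap.exists_eq_smul_id_of_forall_notLinearIndependent (f := toLin' A) fun v hv => by
    have := (linearIndependent_fin2.1 (hv.comp ![1, 0] (by decide) :)).2
    obtain ⟨t, e⟩ := Submodule.mem_span_singleton.1 (h v (hv.ne_zero 0))
    exact this t e
  exact hA c (toLin'.injective (by rw [hc]; ext; simp))

/-- A non-scalar element of `SL_n`, `n ≥ 3`, has a conjugate with a prescribed column. -/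
theorem exists_conj_mulVec (hι : 3 ≤ Fintype.card ι) {a : SpecialLinearGroup ι F} (ha : ∀ c : F, (a : Matrix ι ι F) ≠ c • 1)
    {v w : ι → F} (hv : v ≠ 0) (hw : w ∉ F ∙ v) :
    ∃ g : SpecialLinearGroup ι F, ((g * a * g⁻¹ : SpecialLinearGroup ι F) : Matrix ι ι F) *ᵥ v = w := by
  obtain ⟨u, b, c⟩ := exists_mulVec_notMem_span ha
  obtain ⟨g, d, e⟩ := exists_sl_pair hι b c hv hw
  exact ⟨g, by rw [← d, mulVec_mulVec, ← sl_coe_mul, inv_mul_cancel_right, sl_coe_mul, ← mulVec_mulVec, e]⟩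

end Cfsg.Lib.Linear
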