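import Cfsg.Agent.Lib.Linear.RegForm
import Cfsg.Agent.Lib.Forms.Bridge

/-!
Special unitary groups of odd dimension are generated by conjugate regular unipotent elements.
-/

namespace Cfsg.Lib.Linear.EG

open Cfsg.Lib.Forms Cfsg.Lib.Forms.Form Module Matrix

variable {F : Type*} [Field F] {σ : F →+* F} {q : ℕ}

theorem exists_su_equiv (h : IsConj σ q) {n : ℕ} {D : Form h.kind (Fin n → F)} (hD : D.Nondeg) :
    ∃ (ψ : D.det.ker ≃* SU n F q) (φ : (Fin n → F) ≃ₗ[F] (Fin n → F)),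
      ∀ g x, (ψ g).1.1 *ᵥ φ x = φ (g.1.1 x) := by
  obtain ⟨φ, hφ⟩ := Herm.iso_std hD (n := n) (by simp)
  let e := subgroupEquivOfIff (isomCongr φ hφ) D.det.ker (stdHerm h (Fin n)).det.ker
    fun g => by rw [MonoidHom.mem_ker, MonoidHom.mem_ker, det_isomCongr]
  refine ⟨e.trans (suEquiv h n).symm, φ, fun g x => ?_⟩
  rw [← suEquiv_apply h, MulEquiv.trans_apply, MulEquiv.apply_symm_apply]
  simp [e]

theorem closure_eq_top_of_le {G G' : Type*} [Group G] [Group G'] {S : Subgroup G} (ψ : S ≃* G')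
    {s : Set S} (h : S ≤ Subgroup.closure (S.subtype '' s)) : Subgroup.closure (ψ '' s) = ⊤ := by
  have h1 : Subgroup.closure s = ⊤ := eq_top_iff.2 fun x _ => by
    have := h x.2
    rw [← MonoidHom.map_closure] at this
    obtain ⟨y, hy, h2⟩ := this
    rwa [← show y = x from Subtype.ext h2]
  have := congrArg (Subgroup.map ψ.toMonoidHom) h1
  rwa [MonoidHom.map_closure, Subgroup.map_top_of_surjective _ ψ.surjective] at this

theorem exists_det_fix (h : IsConj σ q) {V : Type*} [AddCommGroup V] [Module F V]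
    [FiniteDimensional F V] {D : Form h.kind V} (hD : D.Nondeg) (g : D.isom) {t : V}
    (ht : D.Q t ≠ 0) : ∃ k : D.isom, D.det (k * g) = 1 ∧ ∀ x, D.B t x = 0 → k.1 x = x := by
  obtain ⟨a, ha⟩ := Herm.exists_smul_Q_eq ht (map_one σ)
  obtain ⟨c, hc, h1⟩ := Herm.exists_rk1_det_eq ha (u := D.det g⁻¹) (hD.det_mul_σ_det _)
  refine ⟨_, by rw [map_mul, Units.ext h1, map_inv, inv_mul_cancel], fun x hx => ?_⟩
  exact rk1_apply_of_perp _ _ _ (by rw [D.B_smul_left, hx, mul_zero])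

theorem exists_delta (h : IsConj σ q) : ∃ δ : F, δ + σ δ = 1 ∧ σ δ ≠ δ := by
  obtain ⟨b, hb⟩ := h.exists_trace_eq (a := 1) (map_one σ)
  obtain ⟨θ, h0, hθ⟩ := h.exists_trace_zero
  by_cases h1 : σ b = b
  · refine ⟨b + θ, by rw [map_add]; linear_combination hb + hθ, fun h2 => h0 ?_⟩
    rw [map_add] at h2
    linear_combination -θ * hb + b * hθ - b * h2 + (b + θ) * h1
  · exact ⟨b, hb, h1⟩

theorem eq_top_of_fixed (h : IsConj σ q) {R : Subring F} (hR : ∀ a, σ a = a → a ∈ R) {δ : F}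
    (hδ : σ δ ≠ δ) (hm : δ ∈ R) : R = ⊤ := eq_top_iff.2 fun x _ => by
  have h0 : δ - σ δ ≠ 0 := sub_ne_zero.2 hδ.symm
  have h0' : σ δ - δ ≠ 0 := sub_ne_zero.2 hδ
  have h1 : σ ((x - σ x) / (δ - σ δ)) = (x - σ x) / (δ - σ δ) := by
    rw [map_div₀, map_sub, map_sub, h.σσ, h.σσ]; field_simp; ring
  have h2 : σ (x - (x - σ x) / (δ - σ δ) * δ) = x - (x - σ x) / (δ - σ δ) * δ := by
    rw [map_sub, map_mul, h1]; field_simp; ring
  simpa using R.add_mem (hR _ h2) (R.mul_mem (hR _ h1) hm)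

theorem exists_gen [Fintype F] : ∃ ζ : F, ζ ≠ 0 ∧ orderOf ζ = Fintype.card F - 1 ∧
    ∀ x, x ≠ 0 → ∃ k : ℕ, ζ ^ k = x := by
  classical
  obtain ⟨ζ, hζ⟩ := IsCyclic.exists_monoid_generator (α := Fˣ)
  refine ⟨ζ, ζ.ne_zero, ?_, fun c c0 => ?_⟩
  · rw [orderOf_units, ← Fintype.card_units, ← Nat.card_eq_fintype_card,
      orderOf_eq_card_of_forall_mem_powers hζ]
  · obtain ⟨k, hk⟩ := hζ (Units.mk0 c c0)
    exact ⟨k, by simpa using congrArg Units.val hk⟩

theorem exists_theta [Fintype F] (h : IsConj σ q) :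
    ∃ θ : F, θ ≠ 0 ∧ θ + σ θ = 0 ∧ ∀ R : Subring F, θ ∈ R → ∀ a, σ a = a → a ∈ R := by
  obtain ⟨ζ, h0, ho, hζ⟩ := exists_gen (F := F)
  have key : ∀ R : Subring F, ζ ^ (q + 1) ∈ R → ∀ a, σ a = a → a ∈ R := fun R hR a ha => by
    obtain ⟨x, rfl⟩ := h.exists_norm_eq ha
    by_cases hx : x = 0
    · simp [hx]
    obtain ⟨k, rfl⟩ := hζ x hx
    rw [h.norm_eq, ← pow_mul, mul_comm, pow_mul]
    exact pow_mem hR k
  by_cases h2 : (2 : F) = 0
  · refine ⟨ζ ^ (q + 1), pow_ne_zero _ h0, ?_, key⟩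
    rw [← h.norm_eq, map_mul, h.σσ]
    linear_combination ζ * σ ζ * h2
  have hq := h.two_le
  have hc := h.card_sub_one
  rw [Nat.card_eq_fintype_card, ← ho] at hc
  obtain ⟨r, hr⟩ : Even (q + 1) := by
    have h3 := FiniteField.odd_card_of_char_ne_two (F := F) fun h3 => h2 (by
      have := ringChar.Nat.cast_ringChar (R := F); rwa [h3] at this)
    rw [← Nat.card_eq_fintype_card, h.card, Nat.pow_mod] at h3
    rcases Nat.mod_two_eq_zero_or_one q with h4 | h4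
    · simp [h4] at h3
    · exact (Nat.odd_iff.2 h4).add_one
  refine ⟨ζ ^ r, pow_ne_zero _ h0, ?_, fun R hR => key R (by rw [hr, pow_add]; exact R.mul_mem hR hR)⟩
  have h3 : ((ζ ^ r) ^ (q - 1)) ^ 2 = 1 := by
    rw [← pow_mul, ← pow_mul, ← pow_orderOf_eq_one ζ, hc, hr]; congr 1; ring
  rcases sq_eq_one_iff.1 h3 with h4 | h4
  · rw [← pow_mul] at h4
    have h5 := Nat.le_of_dvd (Nat.mul_pos (by omega) (by omega)) (orderOf_dvd_of_pow_eq_one h4)
    rw [hc] at h5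
    have := Nat.le_of_mul_le_mul_right h5 (by omega)
    omega
  · rw [h.apply, show q = q - 1 + 1 by omega, pow_succ, h4]; ring

theorem su_model [Fintype F] (h : IsConj σ q) (k : ℕ) :
    ∃ D : Form h.kind (Fin (2 * k + 3 + 1 + 1) → F), D.Nondeg ∧ ∃ u g g' : D.det.ker,
      (∀ x, u.1.1 x = (jSL _ F).1 *ᵥ x) ∧
      D.det.ker ≤ Subgroup.closure {u.1, g.1 * u.1 * g.1⁻¹, g'.1 * u.1 * g'.1⁻¹} := by
  classical
  obtain ⟨δ, hδ, hδ'⟩ := exists_delta h
  have hδ0 : δ ≠ 0 := by rintro rfl; simp at hδ'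
  let G : ℕ → ℕ → F := fun i j =>
    δ * (pz (k + 2) (2 * k + 3 + 1) i j : ℤ) + σ δ * (pz (k + 3) (2 * k + 3 + 1) i j : ℤ)
  have hsk : ∀ i j, pz (k + 2) (2 * k + 3 + 1) j i = pz (k + 3) (2 * k + 3 + 1) i j := fun i j => by
    rw [pz_swap, show ((2 * k + 3 + 1 : ℕ) : ℤ) + 1 - (k + 2) = k + 3 by push_cast; ring,
      Even.neg_one_pow ⟨k + 2, by ring⟩, one_mul]
  have hG : ∀ i j, σ (G i j) = G j i := fun i j => by
    simp only [G, map_add, map_mul, map_intCast, h.σσ, hsk i j, ← hsk j i]; ring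
  have hS : (gB σ (2 * k + 3 + 1 + 1) G).IsSymm := ⟨fun x y => by
    rw [gB_apply, gB_apply, Finset.sum_comm]
    simp only [map_sum, map_mul, h.σσ, hG]
    exact Finset.sum_congr rfl fun _ _ => Finset.sum_congr rfl fun _ _ => by ring⟩
  obtain ⟨D, hD⟩ : ∃ D : Form h.kind (Fin (2 * k + 3 + 1 + 1) → F), D.B = gB σ _ G :=
    ⟨ofHerm h.σσ (Or.inl h.ne_id) _ hS, rfl⟩
  have G0 : ∀ i j, i + j < 2 * k + 3 + 1 → G i j = 0 := fun i j h => by simp [G, pz_lt h]
  have G1 : ∀ i j, i + j = 2 * k + 3 + 1 → G i j = (-1) ^ i := fun i j h => by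
    simp only [G, pz_eq h]; push_cast; linear_combination (-1) ^ i * hδ
  obtain ⟨hN, u, hR, hu⟩ := exists_model (G := G) (l := 2 * k + 3 + 1)
    (fun i j => by
      have h1 := congrArg (Int.cast : ℤ → F) (pz_inv (k + 2) (2 * k + 3 + 1) i j)
      have h2 := congrArg (Int.cast : ℤ → F) (pz_inv (k + 3) (2 * k + 3 + 1) i j)
      push_cast at h1 h2
      simp only [G]
      linear_combination δ * h1 + σ δ * h2)
    G0 (fun i j h => by simp [G1 i j h]) D hD (fun _ _ h => by rw [herm_Q, herm_Q, h]) (by omega)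
  set e := eb (2 * k + 3 + 1 + 1) F with he
  have hB : ∀ {i j}, i ≤ 2 * k + 4 → j ≤ 2 * k + 4 → D.B (e i) (e j) = G i j := fun hi hj => by
    rw [hD]; exact gB_eb (by omega) (by omega) G
  have hB0 : ∀ i j, i + j < 2 * k + 4 → D.B (e i) (e j) = 0 := fun i j h => by
    rw [hB (by omega) (by omega), G0 _ _ h]
  have hl1 : D.B (e (2 * k + 3)) (e 1) = -1 := by
    rw [hB (by omega) (by omega), G1 _ _ rfl, Odd.neg_one_pow ⟨k + 1, by ring⟩]
  have h1l : D.B (e 1) (e (2 * k + 3)) = -1 := by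
    rw [hB (by omega) (by omega), G1 _ _ (by omega), pow_one]
  have hll : D.B (e (2 * k + 3)) (e (2 * k + 3)) = 0 := by
    rw [hB (by omega) (by omega)]
    simp only [G]
    rw [pz_of (2 * k + 2) (k + 1) (by omega) (by push_cast; ring),
      pz_of (2 * k + 2) k (by omega) (by push_cast; ring), Nat.choose_eq_zero_of_lt (by omega),
      Nat.choose_eq_zero_of_lt (by omega)]
    simp
  have hl2 : D.B (e (2 * k + 3)) (e 2) = -(δ + k) := by
    rw [hB (by omega) (by omega)]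
    simp only [G]
    rw [pz_of 1 (k + 1) (by omega) (by push_cast; ring),
      pz_of 1 k (by omega) (by push_cast; ring), Odd.neg_one_pow ⟨k + 1, by ring⟩]
    simp only [Nat.choose_one_right]
    push_cast
    linear_combination (-k : F) * hδ
  have b0 : D.B (e (k + 3 + 1)) (e (k + 3 + 1)) = 0 := by
    rw [hB (by omega) (by omega)]
    simp only [G]
    rw [pz_of 4 2 (by omega) (by push_cast; ring), pz_of 4 1 (by omega) (by push_cast; ring)]
    simp [Nat.choose]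
  have b1 : D.B (e (k + 3 + 1)) (e (k + 2 + 1)) = 0 := by
    rw [hB (by omega) (by omega)]
    simp only [G]
    rw [pz_of 3 2 (by omega) (by push_cast; ring), pz_of 3 1 (by omega) (by push_cast; ring)]
    simp [Nat.choose]
  have b2 : D.B (e (k + 3 + 1)) (e (k + 2)) = (-1) ^ (k + 3 + 1) * δ := by
    rw [hB (by omega) (by omega)]
    simp only [G]
    rw [pz_of 2 2 (by omega) (by push_cast; ring), pz_of 2 1 (by omega) (by push_cast; ring)]
    simp [Nat.choose, mul_comm]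
  set s : F := (-1) ^ (k + 3 + 1) with hs
  have hs2 : s * s = 1 := by rw [hs, ← mul_pow]; simp
  have hs1 : σ s = s := by simp [hs]
  have hγ : -(s * δ) ≠ 0 := neg_ne_zero.2 (mul_ne_zero (left_ne_zero_of_mul_eq_one hs2) hδ0)
  have he0 : e 0 ≠ 0 := fun h => by simpa [he, eb] using congrFun h 0
  have v1 := hR.us (k + 3) (by omega)
  have v2 := hR.us (k + 2) (by omega)
  obtain ⟨g₀, w1, w2, w3⟩ := exists_conj hN u (p := e (k + 3 + 1)) (a := e 1) (b := e 0)
    (c := -(s * δ) • e (2 * k + 3)) (by rw [herm_Q, b0])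
    (by rw [v1]; simp only [D.B_lin, b0, b1]; ring)
    (by rw [v1, map_add u.1, v1, v2]; simp only [D.B_lin, b0, b1, b2, h1l]; ring)
    (by rw [herm_Q, hB0 _ _ (by omega)]) hR.Q0 (D.Q_smul_of_Q (by rw [herm_Q, hll]) _)
    (hB0 _ _ (by omega)) (by rw [D.B_smul_right, hB0 _ _ (by omega), mul_zero])
    (by rw [D.B_smul_right, h1l]; simpa using hγ) he0
  obtain ⟨g₁, hg₁, hf⟩ := exists_det_fix h hN g₀
    (t := e (k + 2) + σ (D.B (e (k + 2)) (e (2 * k + 3))) • e 1) (by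
      rw [herm_Q]
      simp only [D.B_lin, hB0 1 1 (by omega), hB0 1 (k + 2) (by omega), hB0 (k + 2) 1 (by omega)]
      rw [hB (by omega) (by omega), G1 _ _ (by omega)]
      simp)
  have f1 : g₁.1 (e 1) = e 1 := hf _ (by
    simp only [D.B_lin, hB0 1 1 (by omega), hB0 (k + 2) 1 (by omega)]; ring)
  have f0 : g₁.1 (e 0) = e 0 := hf _ (by
    simp only [D.B_lin, hB0 1 0 (by omega), hB0 (k + 2) 0 (by omega)]; ring)
  have fl : g₁.1 (e (2 * k + 3)) = e (2 * k + 3) := hf _ (by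
    simp only [D.B_lin, h1l, h.σσ]; ring)
  obtain ⟨θ, θ0, hθ, hθ'⟩ := exists_theta h
  have hN0 := h.kind.norm_ne_zero hδ0
  have hσ0 : σ δ ≠ 0 := (map_ne_zero σ).2 hδ0
  obtain ⟨g, hgE, hg⟩ := exists_comm_eq hR.u0 (hR.us 0 (by omega)) hR.Q0 (hB0 _ _ (by omega))
    (θ / σ δ)
  have hud : D.det u = 1 := Units.ext (by
    have : u.1.toLinearMap = toLin' (jSL _ F).1 := LinearMap.ext hu
    rw [coe_det, this, LinearMap.det_toLin']
    exact (jSL _ F).2)
  refine ⟨D, hN, ⟨u, hud⟩, ⟨g, E_le_ker_det hgE⟩, ⟨g₁ * g₀, hg₁⟩, hu, ?_⟩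
  change _ ≤ Subgroup.closure {u, g * u * g⁻¹, (g₁ * g₀) * u * (g₁ * g₀)⁻¹}
  set w := (g₁ * g₀) * u * (g₁ * g₀)⁻¹ with hw
  set H := Subgroup.closure {u, g * u * g⁻¹, w}
  have m1 : u ∈ H := Subgroup.subset_closure (by simp)
  have m2 : g * u * g⁻¹ ∈ H := Subgroup.subset_closure (by simp)
  have m3 : w ∈ H := Subgroup.subset_closure (by simp)
  have hT := (hg.of_in (H.mul_mem m2 (H.inv_mem m1))).congr rfl rfl (d' := -θ / (δ * σ δ)) (by
    rw [hermKind_ε, map_div₀, h.σσ]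
    field_simp
    linear_combination σ δ * hθ - θ * hδ)
  have x1 : w.1 (e 1) = e 0 := by
    rw [← f1, ← w1, ← isom_mul_apply g₁, hw, isom_mul_apply, isom_inv_apply, isom_mul_apply,
      isom_mul_apply, w2, f0]
  have x0 : w.1 (e 0) = -(s * δ) • e (2 * k + 3) := by
    rw [← f0, ← w2, ← isom_mul_apply g₁, hw, isom_mul_apply, isom_inv_apply, isom_mul_apply,
      isom_mul_apply, w3, map_smul, fl]
  have hm : h.kind.ε * (-θ / (δ * σ δ)) * (-(s * δ) * σ (-(s * δ))) = -θ := by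
    rw [hermKind_ε, map_neg, map_mul, hs1]
    field_simp
    linear_combination -hs2
  have hc := hR.core (by omega) m1 m3 hT (div_ne_zero (neg_ne_zero.2 θ0) hN0) hγ x1 x0
    (hB0 _ _ (by omega)) (by simp [hl1]) fun R hR' => by
      have a1 := hR' 1 (by omega)
      have a2 := hR' 2 (by omega)
      rw [hm] at a1 a2
      rw [hl1, neg_mul_neg, mul_one] at a1
      rw [hl2, neg_mul_neg] at a2
      refine eq_top_of_fixed h (hθ' R a1) hδ' ?_
      have := R.sub_mem (R.mul_mem (subring_inv_mem a1) a2) (natCast_mem R k)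
      rwa [inv_mul_cancel_left₀ θ0, add_sub_cancel_right] at this
  refine herm_le hN (by simp) hR.Q0 hc (hB0 0 1 (by omega)) (hB0 0 (2 * k + 3) (by omega))
    (by simp [h1l]) (H.mul_mem m3 m3) ?_
  rw [isom_mul_apply]
  nth_rewrite 1 [← x1]
  rw [B_isom, x0, D.B_smul_right, h1l]
  simpa using hγ

end Cfsg.Lib.Linear.EG
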