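import Cfsg.Agent.Lib.Linear.SUGen

/-!
`SU₃(q)` is generated by two conjugate regular unipotent elements.
-/

namespace Cfsg.Lib.Linear.EG

open Cfsg.Lib.Forms Cfsg.Lib.Forms.Form Module Matrix

variable {F : Type*} [Field F] {σ : F →+* F} {q : ℕ}

theorem exists_three (h : IsConj σ q) : ∃ D : Form h.kind (Fin 3 → F), D.Nondeg ∧
    ∀ x y, D.B x y = σ (x 0) * y 2 + σ (x 1) * y 1 + σ (x 2) * y 0 := by
  obtain ⟨B, hB⟩ : ∃ B : (Fin 3 → F) →ₛₗ[σ] (Fin 3 → F) →ₗ[F] F, ∀ x y, B x y =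
      σ (x 0) * y 2 + σ (x 1) * y 1 + σ (x 2) * y 0 :=
    ⟨gB σ 3 fun i j => if i + j = 2 then 1 else 0, fun x y => by
      simp [gB_apply, Fin.sum_univ_three]⟩
  refine ⟨ofHerm h.σσ (Or.inl h.ne_id) B ⟨fun x y => ?_⟩, fun x hx => ?_, hB⟩
  · rw [hB, hB]; simp only [map_add, map_mul, h.σσ]; ring
  · have h0 := hx ![0, 0, 1]
    have h1 := hx ![0, 1, 0]
    have h2 := hx ![1, 0, 0]
    rw [ofHerm_B, hB] at h0 h1 h2
    ext i; fin_cases i
    · simpa using h0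
    · simpa using h1
    · simpa using h2

/-- One step of the action of the two generators. -/
def st3 (a a' d b b' d' : F) (v : F × F × F) (c : Bool) : F × F × F :=
  if c then (v.1 + a' * v.2.1 - d * v.2.2, v.2.1 - a * v.2.2, v.2.2)
  else (v.1, v.2.1 - b * v.1, v.2.2 + b' * v.2.1 - d' * v.1)

variable {h : IsConj σ q} {D : Form h.kind (Fin 3 → F)}

theorem det_three (g : D.isom) {M : Matrix (Fin 3) (Fin 3) F} (hM : ∀ x, g.1 x = M *ᵥ x) :
    (D.det g : F) = M.det := by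
  have : g.1.toLinearMap = toLin' M := LinearMap.ext hM
  rw [coe_det, this, LinearMap.det_toLin']

theorem core_three (hN : D.Nondeg)
    (hB : ∀ x y, D.B x y = σ (x 0) * y 2 + σ (x 1) * y 1 + σ (x 2) * y 0) {H : Subgroup D.isom}
    {a d t : F} (ha : a ≠ 0) (hu : In H ![1, 0, 0] (a • ![0, 1, 0]) d) {k g : D.isom} (hk : k ∈ H)
    (hk1 : D.det k = 1) (ht : t ≠ 0) (hkt : k.1 ![1, 0, 0] = t • ![1, 0, 0])
    (hgen : ∀ R : Subring F, σ t ^ 2 / t ∈ R → R = ⊤) (hg : g ∈ H)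
    (hg' : D.B ![1, 0, 0] (g.1 ![1, 0, 0]) ≠ 0) : D.det.ker ≤ H := by
  have hQ := hu.1.Q_e
  set B := A H _ hQ
  have ht' : σ t ≠ 0 := (map_ne_zero σ).2 ht
  have h1 : k.1 ![0, 1, 0] 2 = 0 := by
    have := B_isom k ![1, 0, 0] ![0, 1, 0]
    rw [hkt, hB, hB] at this
    simpa [ht] using this
  have h2 : σ t * k.1 ![0, 0, 1] 2 = 1 := by
    have := B_isom k ![1, 0, 0] ![0, 0, 1]
    rw [hkt, hB, hB] at this
    simpa using this
  have h3 : k.1 ![0, 1, 0] 1 * t = σ t := by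
    have := det_three k (M := (of ![k.1 ![1, 0, 0], k.1 ![0, 1, 0], k.1 ![0, 0, 1]])ᵀ) fun x => by
      nth_rewrite 1 [show x = x 0 • ![1, 0, 0] + x 1 • ![0, 1, 0] + x 2 • ![0, 0, 1] by
        ext i; fin_cases i <;> simp]
      rw [map_add, map_add, map_smul, map_smul, map_smul]
      ext i
      simp [mulVec, dotProduct, Fin.sum_univ_three, mul_comm]
    rw [hk1, det_transpose, det_fin_three, hkt] at this
    simp [h1] at this
    linear_combination -σ t * this - k.1 ![0, 1, 0] 1 * t * h2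
  let S : AddSubgroup F :=
    B.comap ((LinearMap.toSpanSingleton F (Fin 3 → F) ![0, 1, 0]).toAddMonoidHom)
  have hS : ∀ s, s ∈ S ↔ s • ![0, 1, 0] ∈ B := fun s => Iff.rfl
  have h4 : ∀ s, s ∈ S := by
    refine eq_top_of_mul ((hS _).2 ⟨d, hu⟩) ha (M := {σ t ^ 2 / t}) ?_
      fun R hR => hgen R (hR rfl)
    rintro _ rfl x hx
    have h5 := B.sub_mem (A_map_smul ((hS _).1 hx) hk ht hkt)
      (smul_mem_A (σ t * x * k.1 ![0, 1, 0] 0))
    rw [hS]
    convert h5 using 1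
    rw [map_smul]
    ext i; fin_cases i
    · simp; ring
    · simp; field_simp; linear_combination -x * h3
    · simp [h1]
  refine herm_le hN (by simp) hQ (fun z hz => ?_) (x := ![0, 1, 0]) (y := ![0, 1, 0])
    (by simp [hB]) (by simp [hB]) (by simp [hB]) hg hg'
  have h5 := B.add_mem ((hS _).1 (h4 (z 1))) (smul_mem_A (z 0))
  rw [hB] at hz
  refine mem_A.1 (?_ : z ∈ B)
  convert h5 using 1
  ext i; fin_cases i
  · simp
  · simp
  · simpa using hz

theorem su3_of (h : IsConj σ q) {a a' d b b' d' τ t : F} (ha' : σ a = a') (hb' : σ b = b')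
    (ha : a ≠ 0) (hd : d + σ d = a * a') (hd' : d' + σ d' = b * b') (hτ : τ ≠ 0)
    (hab : a * τ + b * σ τ ^ 2 = 0) (hd0 : d' ≠ 0) (ht : t ≠ 0)
    (hgen : ∀ R : Subring F, σ t ^ 2 / t ∈ R → R = ⊤) (l : List Bool)
    (hl : l.foldl (st3 a a' d b b' d') (1, 0, 0) = (t, 0, 0)) :
    ∃ u g : SU 3 F q, (IsNilpotent (u.1.1 - 1) ∧ (u.1.1 - 1) ^ (3 - 1) ≠ 0) ∧
      Subgroup.closure {u, g * u * g⁻¹} = ⊤ := by
  obtain ⟨D, hN, hB⟩ := exists_three h
  have hτ' : σ τ ≠ 0 := (map_ne_zero σ).2 hτ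
  have iu : ∀ {a d : F}, d + σ d = a * σ a → D.IsEich ![1, 0, 0] (a • ![0, 1, 0]) d :=
    fun hd => ⟨by simp [herm_Q, hB], by simp [hB], by simp [herm_Q, hB, hd, mul_comm]⟩
  have iw : D.IsEich ![0, 0, 1] (b • ![0, 1, 0]) d' :=
    ⟨by simp [herm_Q, hB], by simp [hB], by simp [herm_Q, hB, hd', hb', mul_comm]⟩
  set u := D.eich _ _ _ (iu (ha' ▸ hd)) with hu
  set w := D.eich _ _ _ iw with hw
  let N : Matrix (Fin 3) (Fin 3) F := !![0, 0, τ; 0, -σ τ / τ, 0; (σ τ)⁻¹, 0, 0]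
  let n := D.mkIsom hN (toLin' N) (herm_isIsometry fun x y => by
    simp [hB, N, mulVec, dotProduct, Fin.sum_univ_three, h.σσ]
    field_simp
    ring)
  have hn : ∀ x, n.1 x = N *ᵥ x := fun x => rfl
  have n1 : D.det n = 1 := Units.ext (by
    rw [det_three n hn, det_fin_three]; simp [N]; field_simp)
  have c1 : Is (n * w * n⁻¹) ![1, 0, 0] (a • ![0, 1, 0]) (τ * σ τ * d') :=
    (((Is.conj ⟨iw, hw⟩ n).congr (e' := τ • ![1, 0, 0])
      (by rw [hn]; ext i; fin_cases i <;> simp [N]) rfl rfl).of_smul hτ).congr rfl (by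
        rw [hn]; ext i; fin_cases i <;> simp [N]
        field_simp; linear_combination -hab) rfl
  obtain ⟨δ, hδ, -⟩ := exists_delta h
  have ha0 : σ a ≠ 0 := (map_ne_zero σ).2 ha
  have hθ := c1.1.tr_d
  rw [← (iu (ha' ▸ hd)).tr_d, hermKind_tr, hermKind_tr] at hθ
  set d₁ := τ * σ τ * d'
  obtain ⟨δ', ix⟩ := D.exists_isEich (e := ![1, 0, 0]) (z := σ ((d - d₁) * δ / a) • ![0, 1, 0])
    c1.1.Q_e (by simp [hB])
  set x := D.eich _ _ _ ix with hx
  have c2 : Is x _ _ _ := ⟨ix, hx⟩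
  have c3 : x * (n * w * n⁻¹) * x⁻¹ = u := Is.eq (((c2.mul c1).mul c2.inv).congr rfl
    (add_neg_cancel_comm _ _) (d' := d) (by
      have h1 := ix.B_zz
      simp only [D.B_lin, h.σσ, hermKind_ε] at h1 ⊢
      rw [show D.B ![0, 1, 0] ![0, 1, 0] = 1 by simp [hB]] at h1 ⊢
      rw [map_div₀, map_mul, map_sub] at h1 ⊢
      field_simp at h1 ⊢
      linear_combination -h1 + a * σ a * (d - d₁) * hδ + a * σ a * σ δ * hθ)) ⟨_, hu⟩
  have hx1 : D.det (x * n)⁻¹ = 1 := by rw [map_inv, map_mul, n1, hx, det_eich]; simp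
  obtain ⟨ψ, φ, hψ⟩ := exists_su_equiv h hN
  let J : Matrix (Fin 3) (Fin 3) F := !![1, a', -d; 0, 1, -a; 0, 0, 1]
  have hJ : ∀ y, u.1 y = J *ᵥ y := fun y => by
    rw [hu, eich_apply]
    ext i; fin_cases i <;> 
      simp [hB, J, mulVec, dotProduct, Fin.sum_univ_three, ha', sub_eq_add_neg, vecHead, vecTail,
        mul_comm]
  have h1 := reg_transport (M := (ψ ⟨u, det_eich _ _ _ _⟩).1.1) (J := J) φ fun y => by
    rw [hψ, ← hJ]
  have h2 : J - 1 = !![0, a', -d; 0, 0, -a; 0, 0, 0] := by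
    ext i j; fin_cases i <;> fin_cases j <;> simp [J]
  refine ⟨ψ ⟨u, det_eich _ _ _ _⟩, ψ ⟨_, hx1⟩, ⟨⟨3, (h1 3).2 ?_⟩, fun h3 => ?_⟩, ?_⟩
  · rw [h2]; ext i j; fin_cases i <;> fin_cases j <;> simp [pow_succ]
  · rw [h1, h2] at h3
    have := congrFun (congrFun h3 0) 2
    simp [pow_succ, ha, ← ha'] at this
  have h3 : D.det.ker ≤ Subgroup.closure {u, w} := by
    set H := Subgroup.closure {u, w}
    have m1 : u ∈ H := Subgroup.subset_closure (by simp)
    have m2 : w ∈ H := Subgroup.subset_closure (by simp)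
    have h4 : ∀ (l : List Bool) (v : F × F × F), ∃ k ∈ H, D.det k = 1 ∧ k.1 ![v.1, v.2.1, v.2.2] =
        ![(l.foldl (st3 a a' d b b' d') v).1, (l.foldl (st3 a a' d b b' d') v).2.1,
          (l.foldl (st3 a a' d b b' d') v).2.2] := by
      intro l
      induction l with
      | nil => exact fun v => ⟨1, H.one_mem, map_one _, rfl⟩
      | cons c l ih =>
        intro v
        obtain ⟨k, hk, hk1, hk2⟩ := ih (st3 a a' d b b' d' v c)
        rw [List.foldl_cons, ← hk2]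
        cases c
        · refine ⟨k * w, H.mul_mem hk m2, by rw [map_mul, hk1, hw, det_eich, one_mul], ?_⟩
          rw [isom_mul_apply, hw, eich_apply]
          congr 1
          ext i; fin_cases i <;> simp [hB, st3, hb'] <;> ring
        · refine ⟨k * u, H.mul_mem hk m1, by rw [map_mul, hk1, hu, det_eich, one_mul], ?_⟩
          rw [isom_mul_apply, hu, eich_apply]
          congr 1
          ext i; fin_cases i <;> simp [hB, st3, ha'] <;> ring
    obtain ⟨k, hk, hk1, hk2⟩ := h4 l (1, 0, 0)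
    rw [hl] at hk2
    refine core_three hN hB ha ⟨_, m1⟩ hk hk1 ht (by simpa using hk2) hgen m2 ?_
    rw [hw, eich_apply]
    simp [hB, hd0]
  have := closure_eq_top_of_le ψ (s := {⟨u, det_eich _ _ _ _⟩,
    ⟨_, hx1⟩ * ⟨u, det_eich _ _ _ _⟩ * ⟨_, hx1⟩⁻¹}) (by
      convert h3 using 2
      rw [Set.image_insert_eq, Set.image_singleton]
      congr 2
      change (x * n)⁻¹ * u * (x * n)⁻¹⁻¹ = w
      rw [← c3]; group)
  simpa [Set.image_insert_eq] using this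

theorem subring_card [Fintype F] (R : Subring F) : ∃ r j : ℕ, 2 ≤ r ∧ Fintype.card F = r ^ j ∧
    (∀ x ∈ R, x ≠ 0 → orderOf x ∣ r - 1) ∧ (j = 1 → R = ⊤) := by
  classical
  let K : Subfield F := { R with inv_mem' := fun _ => subring_inv_mem }
  refine ⟨Fintype.card K, finrank K F, Fintype.one_lt_card, Module.card_eq_pow_finrank,
    fun x hx h0 => orderOf_dvd_of_pow_eq_one ?_, fun h1 => ?_⟩
  · have := FiniteField.pow_card_sub_one_eq_one (⟨x, hx⟩ : K) (fun h => h0 (congrArg Subtype.val h))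
    simpa using congrArg Subtype.val this
  · refine eq_top_iff.2 fun x _ => ?_
    obtain ⟨c, hc⟩ := (finrank_eq_one_iff_of_nonzero' (1 : F) one_ne_zero).1 h1 x
    rw [← hc, Subfield.smul_def, smul_eq_mul, mul_one]
    exact c.2

theorem su3_gen [Fintype F] (h : IsConj σ q) (hq : 3 ≤ q) :
    ∃ u g : SU 3 F q, (IsNilpotent (u.1.1 - 1) ∧ (u.1.1 - 1) ^ (3 - 1) ≠ 0) ∧
      Subgroup.closure {u, g * u * g⁻¹} = ⊤ := by
  obtain ⟨ζ, h0, ho, -⟩ := exists_gen (F := F)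
  have hc := h.card
  rw [Nat.card_eq_fintype_card] at hc
  have hF := FiniteField.cast_card_eq_zero F
  by_cases h5 : q = 5
  · subst h5
    rw [hc] at ho hF
    set s := ζ ^ 8 with hs
    have hs3 : orderOf s = 3 := by rw [hs, orderOf_pow' _ (by norm_num), ho]; norm_num
    have hm : s ^ 2 + s + 1 = 0 := by
      refine mul_left_cancel₀ (a := s - 1) (sub_ne_zero.2 fun h1 => by simp [h1] at hs3) ?_
      have h1 := pow_orderOf_eq_one s
      rw [hs3] at h1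
      linear_combination h1
    have hp : (5 : F) = 0 := pow_eq_zero_iff (n := 2) (by norm_num) |>.1 (by exact_mod_cast hF)
    have hσ := h.apply s
    have ht : (4 + s) * (1 + 3 * s) = 1 := by linear_combination (3) * hm + (2 * s) * hp
    refine su3_of h (a := 1 + 2 * s) (a' := 4 + 3 * s) (d := 1 + 4 * s) (b := 2) (b' := 2) (d' := s)
      (τ := 1 + 3 * s) (t := 4 + s) ?_ (map_ofNat σ 2)
      (left_ne_zero_of_mul_eq_one (b := 3 + s) (by linear_combination (2) * hm + (s) * hp)) ?_ ?_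
      (right_ne_zero_of_mul_eq_one ht) ?_ (pow_ne_zero _ h0) (left_ne_zero_of_mul_eq_one ht)
      (fun R hR => ?_) [false, true, false, false] ?_
    any_goals simp only [map_add, map_mul, map_one, map_ofNat, hσ]
    · linear_combination (2 + (-2) * s ^ 2 + 2 * s ^ 3) * hm + ((-1) + (-1) * s) * hp
    · linear_combination ((-2) + (-4) * s ^ 2 + 4 * s ^ 3) * hm + ((-1) * s) * hp
    · linear_combination (1 + (-1) * s ^ 2 + s ^ 3) * hm + ((-1)) * hp
    · linear_combination (18 + (-18) * s + 6 * s ^ 2 + 12 * s ^ 3 + (-18) * s ^ 4 + 18 * s ^ 5 + (-18) * s ^ 7 + 18 * s ^ 8) * hm + ((-3) + s) * hp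
    · rw [show σ (4 + s) ^ 2 / (4 + s) = 4 + 3 * s from (div_eq_iff (left_ne_zero_of_mul_eq_one ht)).2 (by
        simp only [map_add, map_ofNat, hσ]
        linear_combination (5 + (-1) * s + (-7) * s ^ 2 + 8 * s ^ 3 + (-1) * s ^ 4 + s ^ 5 + (-1) * s ^ 7 + s ^ 8) * hm + ((-1) + (-4) * s) * hp)] at hR
      have h1 : s ∈ R := by
        rw [show s = 2 + 2 * (4 + 3 * s) by linear_combination ((-2) + (-1) * s) * hp]
        exact R.add_mem (ofNat_mem R 2) (R.mul_mem (ofNat_mem R 2) hR)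
      obtain ⟨r, j, h2, h3, h4, h5⟩ := subring_card R
      have h6 := h4 s h1 (pow_ne_zero _ h0)
      rw [hc] at h3
      rw [hs3] at h6
      refine h5 ?_
      by_contra h7
      have h8 : j ≠ 0 := by rintro rfl; simp at h3
      have h9 : r ^ 2 ≤ r ^ j := Nat.pow_le_pow_right (by omega) (by omega)
      have h10 : r ≤ 5 := by rw [← h3] at h9; exact (Nat.pow_le_pow_iff_left (by norm_num)).1 h9
      obtain rfl : r = 4 := by omega
      have := congrArg (· % 2) h3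
      simp [Nat.pow_mod, h8] at this
    · simp only [List.foldl, st3, if_true, if_false, Bool.false_eq_true]
      refine Prod.ext ?_ (Prod.ext ?_ ?_) <;> simp only
      · linear_combination (4) * hm + ((-3) + (-2) * s) * hp
      · linear_combination ((-14)) * hm + (8 + 7 * s) * hp
      · linear_combination (10 + (-8) * s) * hm + (2 + 7 * s) * hp
  by_cases h8 : q = 8
  · subst h8
    rw [hc] at ho hF
    set s := ζ ^ 7 with hs
    have hs3 : orderOf s = 9 := by rw [hs, orderOf_pow' _ (by norm_num), ho]; norm_num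
    have hm : s ^ 6 + s ^ 3 + 1 = 0 := by
      refine mul_left_cancel₀ (a := s ^ 3 - 1) (sub_ne_zero.2 fun h1 => by
        have := orderOf_dvd_of_pow_eq_one h1; rw [hs3] at this; omega) ?_
      have h1 := pow_orderOf_eq_one s
      rw [hs3] at h1
      linear_combination h1
    have hp : (2 : F) = 0 := pow_eq_zero_iff (n := 6) (by norm_num) |>.1 (by exact_mod_cast hF)
    have hσ := h.apply s
    have ht : (s ^ 3 + s ^ 4) * (1 + s + s ^ 2) = 1 := by
      linear_combination (1) * hm + ((-1) + s ^ 4 + s ^ 5) * hp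
    refine su3_of h (a := 1 + s) (a' := 1 + s ^ 2 + s ^ 5) (d := 1 + s) (b := s ^ 3 + s ^ 4)
      (b' := 1 + s ^ 3 + s ^ 5) (d' := 1 + s ^ 2 + s ^ 4) (τ := s) (t := s ^ 3 + s ^ 4) ?_ ?_
      (left_ne_zero_of_mul_eq_one (b := s ^ 3 + s ^ 4 + s ^ 5)
        (by linear_combination (1) * hm + ((-1) + s ^ 4 + s ^ 5) * hp)) ?_ ?_
      (pow_ne_zero _ h0) ?_ (left_ne_zero_of_mul_eq_one (b := 1 + s ^ 2 + s ^ 3 + s ^ 5)
        (by linear_combination (2 * s + s ^ 3) * hm + ((-1) * s + s ^ 2 + s ^ 5) * hp))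
      (left_ne_zero_of_mul_eq_one ht) (fun R hR => ?_) [false, true, true, false, true, false] ?_
    any_goals simp only [map_add, map_pow, map_one, hσ]
    · linear_combination (s ^ 2) * hm + ((-1) * s ^ 2 + (-1) * s ^ 5) * hp
    · linear_combination (1 + (-1) * s ^ 5 + (-1) * s ^ 6 + s ^ 8 + s ^ 9 + (-1) * s ^ 14 + (-1) * s ^ 15 + s ^ 17 + s ^ 18 + (-1) * s ^ 23 + s ^ 26) * hm + ((-1) + (-1) * s ^ 3) * hp
    · linear_combination ((-1) + s ^ 2) * hm + (1 + (-1) * s ^ 2 + (-1) * s ^ 5) * hp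
    · linear_combination ((-1) * s ^ 2 + (-1) * s ^ 3 + (-1) * s ^ 5 + (-1) * s ^ 7 + s ^ 8 + s ^ 10 + (-1) * s ^ 14 + s ^ 17 + (-1) * s ^ 23 + s ^ 26) * hm + (1 + s ^ 2 + s ^ 5) * hp
    · linear_combination ((-1) * s + (-1) * s ^ 2 + s ^ 4 + s ^ 5 + (-1) * s ^ 10 + (-1) * s ^ 11 + s ^ 13 + s ^ 14) * hm + (s + s ^ 2) * hp
    · rw [show σ (s ^ 3 + s ^ 4) ^ 2 / (s ^ 3 + s ^ 4) = s + s ^ 2 + s ^ 4 + s ^ 5 from
        (div_eq_iff (left_ne_zero_of_mul_eq_one ht)).2 (by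
        simp only [map_add, map_pow, hσ]
        linear_combination ((-2) * s + (-4) * s ^ 2 + (-2) * s ^ 3 + s ^ 4 + 2 * s ^ 5 + s ^ 6 + (-1) * s ^ 10 + (-2) * s ^ 11 + (-1) * s ^ 12 + s ^ 13 + 2 * s ^ 14 + s ^ 15 + (-1) * s ^ 19 + (-2) * s ^ 20 + (-1) * s ^ 21 + s ^ 22 + 2 * s ^ 23 + s ^ 24 + (-1) * s ^ 28 + (-2) * s ^ 29 + (-1) * s ^ 30 + s ^ 31 + 2 * s ^ 32 + s ^ 33 + (-1) * s ^ 37 + (-2) * s ^ 38 + (-1) * s ^ 39 + s ^ 40 + 2 * s ^ 41 + s ^ 42 + (-1) * s ^ 46 + (-2) * s ^ 47 + s ^ 49 + 2 * s ^ 50 + (-1) * s ^ 55 + s ^ 58) * hm + (s + 2 * s ^ 2 + s ^ 3) * hp)] at hR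
      have h1 : s ∈ R := by
        have := R.add_mem (R.add_mem R.one_mem (pow_mem hR 2)) (pow_mem hR 3)
        convert this using 1
        linear_combination ((-1) + (-1) * s + (-1) * s ^ 2 + (-4) * s ^ 3 + (-7) * s ^ 4 + (-6) * s ^ 5 + (-3) * s ^ 6 + (-3) * s ^ 7 + (-3) * s ^ 8 + (-1) * s ^ 9) * hm + (s + s ^ 3 + 2 * s ^ 4 + s ^ 5) * hp
      obtain ⟨r, j, h2, h3, h4, h5⟩ := subring_card R
      have h6 := h4 s h1 (pow_ne_zero _ h0)
      rw [hc] at h3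
      rw [hs3] at h6
      refine h5 ?_
      by_contra h7
      have h8 : j ≠ 0 := by rintro rfl; simp at h3
      have h9 : r ^ 2 ≤ r ^ j := Nat.pow_le_pow_right (by omega) (by omega)
      have h10 : r ≤ 8 := by rw [← h3] at h9; exact (Nat.pow_le_pow_iff_left (by norm_num)).1 h9
      omega
    · simp only [List.foldl, st3, if_true, if_false, Bool.false_eq_true]
      refine Prod.ext ?_ (Prod.ext ?_ ?_) <;> simp only
      · linear_combination (7 + 11 * s + (-10) * s ^ 3 + (-4) * s ^ 4 + (-9) * s ^ 5 + (-2) * s ^ 6 + (-5) * s ^ 7 + (-4) * s ^ 8 + (-1) * s ^ 9 + (-1) * s ^ 10 + 2 * s ^ 11 + (-1) * s ^ 13) * hm + (1 + (-1) * s + 8 * s ^ 2 + 6 * s ^ 3 + 8 * s ^ 5) * hp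
      · linear_combination ((-11) + (-10) * s + (-18) * s ^ 2 + (-28) * s ^ 3 + (-18) * s ^ 4 + (-12) * s ^ 5 + 12 * s ^ 6 + 13 * s ^ 7 + 12 * s ^ 8 + 12 * s ^ 9 + 7 * s ^ 10 + 9 * s ^ 11 + 5 * s ^ 12 + 2 * s ^ 13 + (-1) * s ^ 14 + (-2) * s ^ 15 + s ^ 16 + s ^ 17) * hm + (8 + 8 * s + 14 * s ^ 2 + 18 * s ^ 3 + 7 * s ^ 4 + 5 * s ^ 5) * hp
      · linear_combination (5 + (-38) * s + 10 * s ^ 2 + (-23) * s ^ 3 + 9 * s ^ 4 + 8 * s ^ 5 + 7 * s ^ 6 + 23 * s ^ 7 + 2 * s ^ 8 + 18 * s ^ 9 + 5 * s ^ 10 + 5 * s ^ 11 + 5 * s ^ 12 + (-1) * s ^ 13 + 2 * s ^ 14 + (-1) * s ^ 15 + s ^ 17) * hm + ((-6) + 17 * s + (-16) * s ^ 2 + 4 * s ^ 3 + (-1) * s ^ 4 + (-13) * s ^ 5) * hp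
  have h0' : σ ζ ≠ 0 := (map_ne_zero σ).2 h0
  have hc' := h.card_sub_one
  rw [Nat.card_eq_fintype_card, ← ho] at hc'
  have e1 : σ ζ / ζ = ζ ^ (q - 1) := by
    rw [div_eq_iff h0, h.apply, ← pow_succ]; congr 1; omega
  have hn : ζ + σ ζ ≠ 0 := fun h1 => by
    have h2 : ζ ^ (2 * (q - 1)) = 1 := by
      rw [mul_comm, pow_mul, ← e1, show σ ζ = -ζ by linear_combination h1]; field_simp
    have h3 := Nat.le_of_dvd (by omega) (orderOf_dvd_of_pow_eq_one h2)
    rw [hc'] at h3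
    have := Nat.le_of_mul_le_mul_right h3 (by omega)
    omega
  obtain ⟨b, hb⟩ := h.exists_norm_eq (a := ζ + σ ζ) (by rw [map_add, h.σσ, add_comm])
  have hb0 : b ≠ 0 := by rintro rfl; exact hn (by rw [← hb, zero_mul])
  have hb' : σ b = (ζ + σ ζ) / b := by rw [← hb]; field_simp
  set c := (ζ + σ ζ) / (ζ * σ ζ) with hcd
  have hc0 : c ≠ 0 := div_ne_zero hn (mul_ne_zero h0 h0')
  have hσc : σ c = c := by rw [hcd, map_div₀, map_add, map_mul, h.σσ, add_comm, mul_comm]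
  refine su3_of h (a := b * c) (d := 1 / σ ζ - 1 / ζ + σ b * c * b / ζ) (b := b) (d' := ζ) (τ := -c)
    (t := ζ / σ ζ) (a' := σ b * c) (by rw [map_mul, hσc]) rfl (mul_ne_zero hb0 hc0) ?_ hb.symm
    (neg_ne_zero.2 hc0) (by rw [map_neg, hσc]; ring) h0 (div_ne_zero h0 h0') (fun R hR => ?_)
    [false, true, false] ?_
  · simp only [map_add, map_sub, map_mul, map_div₀, map_one, h.σσ, hσc]
    rw [hcd]; field_simp; ring
  · rw [show σ (ζ / σ ζ) ^ 2 / (ζ / σ ζ) = ζ ^ (3 * (q - 1)) by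
      rw [mul_comm, pow_mul, ← e1, map_div₀, h.σσ]; field_simp] at hR
    obtain ⟨r, j, h2, h3, h4, h5'⟩ := subring_card R
    have h6 := orderOf_dvd_of_pow_eq_one (show ζ ^ (3 * (r - 1) * (q - 1)) = 1 by
      rw [mul_right_comm, pow_mul]
      exact orderOf_dvd_iff_pow_eq_one.1 (h4 _ hR (pow_ne_zero _ h0)))
    rw [hc'] at h6
    have h7 := Nat.dvd_of_mul_dvd_mul_right (by omega) h6
    rw [hc] at h3
    refine h5' ?_
    by_contra h9
    have h10 : j ≠ 0 := by rintro rfl; simp at h3; omega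
    by_cases h11 : j = 2
    · subst h11
      obtain rfl := Nat.pow_left_injective (by norm_num) h3
      have : q + 1 ∣ 6 := by
        have := Nat.dvd_sub (dvd_mul_left (q + 1) 3) h7
        rwa [show 3 * (q + 1) - 3 * (q - 1) = 6 by omega] at this
      have h12 : q ≤ 5 := by have := Nat.le_of_dvd (by norm_num) this; omega
      interval_cases q <;> omega
    · have h12 : r ^ 3 ≤ q ^ 2 := h3 ▸ Nat.pow_le_pow_right (by omega) (by omega)
      have h13 := Nat.le_of_dvd (by omega) h7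
      obtain ⟨r, rfl⟩ : ∃ r', r = r' + 2 := ⟨r - 2, by omega⟩
      have h14 : q ^ 2 ≤ (3 * r + 2) ^ 2 := Nat.pow_le_pow_left (by omega) 2
      have h15 : r = 2 := by
        by_contra h16
        rcases lt_or_gt_of_ne h16 with h17 | h17
        · interval_cases r <;> omega
        · obtain ⟨r, rfl⟩ : ∃ r', r = r' + 3 := ⟨r - 3, by omega⟩
          nlinarith [Nat.zero_le (r ^ 3), Nat.zero_le (r ^ 2)]
      subst h15
      have : 8 ≤ q := by by_contra h16; interval_cases q <;> omega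
      omega
  · simp only [List.foldl, st3, if_true, if_false, Bool.false_eq_true]
    refine Prod.ext ?_ (Prod.ext ?_ ?_) <;> simp only [hb', hcd] <;> field_simp <;> ring

end Cfsg.Lib.Linear.EG
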