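import Cfsg.Agent.Lib.PGrp.TwoMax

/-! Special `2`-groups without normal elementary subgroups of order eight. -/

namespace Cfsg.Lib.Linear.Scn

open Subgroup Cfsg.Lib
open scoped commutatorElement

variable {X : Type*} [Group X]

theorem comm_mul_r {x y w : X} (h : y * ⁅x, w⁆ = ⁅x, w⁆ * y) : ⁅x, y * w⁆ = ⁅x, y⁆ * ⁅x, w⁆ := by
  have : ⁅x, y * w⁆ = ⁅x, y⁆ * (y * ⁅x, w⁆) * y⁻¹ := by simp only [commutatorElement_def]; group
  rw [this, h]; group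

theorem comm_mul_l {x y w : X} (h : y * ⁅w, x⁆ = ⁅w, x⁆ * y) : ⁅y * w, x⁆ = ⁅w, x⁆ * ⁅y, x⁆ := by
  have : ⁅y * w, x⁆ = (y * ⁅w, x⁆) * y⁻¹ * ⁅y, x⁆ := by simp only [commutatorElement_def]; group
  rw [this, h]; group

theorem sq_mul {x y : X} (h : x * ⁅y, x⁆ = ⁅y, x⁆ * x) : (x * y) ^ 2 = ⁅y, x⁆ * (x ^ 2 * y ^ 2) := by
  have : (x * y) ^ 2 = (x * ⁅y, x⁆) * x * y * y := by simp only [commutatorElement_def, sq]; group
  rw [this, h]; simp only [sq]; group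

structure Sp (V : Subgroup X) : Prop where
  cen : ∀ v ∈ V, ∀ g, g * v = v * g
  comm : ∀ x y : X, ⁅x, y⁆ ∈ V
  sq : ∀ x : X, x ^ 2 ∈ V
  el : ∀ v ∈ V, v ^ 2 = 1

theorem Sp.r {V : Subgroup X} (h : Sp V) (x y w : X) : ⁅x, y * w⁆ = ⁅x, y⁆ * ⁅x, w⁆ :=
  comm_mul_r (h.cen _ (h.comm _ _) _)

theorem Sp.l {V : Subgroup X} (h : Sp V) (x y w : X) : ⁅y * w, x⁆ = ⁅w, x⁆ * ⁅y, x⁆ :=
  comm_mul_l (h.cen _ (h.comm _ _) _)

theorem Sp.normal {V : Subgroup X} (h : Sp V) : V.Normal :=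
  PGrp.normal_of_commutator_mem fun x _ g => h.comm x g

theorem exists_avoid [Finite X] (R N : Subgroup X) (h : 4 * Nat.card N < Nat.card R) (a b c d : X) :
    ∃ w ∈ R, a * w ∉ N ∧ b * w ∉ N ∧ c * w ∉ N ∧ d * w ∉ N := by
  by_contra hc
  push Not at hc
  have hn : ∀ g : X, ((fun w => g * w) ⁻¹' (N : Set X)).ncard = Nat.card N := by
    intro g
    rw [Set.ncard_preimage_of_injective_subset_range (mul_right_injective g)
      (by rw [(Group.mulLeft_bijective g).2.range_eq]; exact Set.subset_univ _)]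
    rfl
  have hs : (R : Set X) ⊆ (((fun w => a * w) ⁻¹' (N : Set X) ∪ (fun w => b * w) ⁻¹' (N : Set X)) ∪
      (fun w => c * w) ⁻¹' (N : Set X)) ∪ (fun w => d * w) ⁻¹' (N : Set X) := by
    intro w hw
    by_cases h1 : a * w ∈ N
    · exact Or.inl (Or.inl (Or.inl h1))
    by_cases h2 : b * w ∈ N
    · exact Or.inl (Or.inl (Or.inr h2))
    by_cases h3 : c * w ∈ N
    · exact Or.inl (Or.inr h3)
    exact Or.inr (hc w hw h1 h2 h3)
  have h1 := Set.ncard_le_ncard hs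
  have h2 := Set.ncard_union_le ((((fun w => a * w) ⁻¹' (N : Set X) ∪ (fun w => b * w) ⁻¹' (N : Set X)) ∪
      (fun w => c * w) ⁻¹' (N : Set X))) ((fun w => d * w) ⁻¹' (N : Set X))
  have h3 := Set.ncard_union_le (((fun w => a * w) ⁻¹' (N : Set X) ∪ (fun w => b * w) ⁻¹' (N : Set X)))
      ((fun w => c * w) ⁻¹' (N : Set X))
  have h4 := Set.ncard_union_le ((fun w => a * w) ⁻¹' (N : Set X)) ((fun w => b * w) ⁻¹' (N : Set X))
  rw [hn] at h2 h3 h4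
  rw [hn] at h4
  have : (R : Set X).ncard = Nat.card R := rfl
  omega

theorem Sp.quad [Finite X] {V : Subgroup X} (h : Sp V) (W : Subgroup X)
    (hW : ∀ u ∈ V, ∀ v ∈ V, u ∉ W → v ∉ W → u * v ∈ W) (R N : Subgroup X)
    (hN : ∀ y ∈ R, y ∉ N → y ^ 2 ∉ W) : Nat.card R ≤ 4 * Nat.card N := by
  by_contra hc
  push Not at hc
  obtain ⟨x, hx, hx1, -⟩ := exists_avoid R N hc 1 1 1 1
  obtain ⟨y, hy, hy1, hxy, -⟩ := exists_avoid R N hc 1 x 1 1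
  obtain ⟨w, hw, hw1, hxw, hyw, hxyw⟩ := exists_avoid R N hc 1 x y (x * y)
  rw [one_mul] at hx1 hy1 hw1
  have key : ∀ y ∈ R, y ∉ N → x * y ∉ N → ⁅y, x⁆ ∉ W := by
    intro y hy h1 h2 h3
    apply hN _ (R.mul_mem hx hy) h2
    rw [sq_mul (h.cen _ (h.comm _ _) _)]
    exact W.mul_mem h3 (hW _ (h.sq _) _ (h.sq _) (hN _ hx hx1) (hN _ hy h1))
  apply key (y * w) (R.mul_mem hy hw) hyw (by rwa [← mul_assoc])
  rw [h.l]
  exact hW _ (h.comm _ _) _ (h.comm _ _) (key w hw hw1 hxw) (key y hy hy1 hxy)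

theorem half (P R : Subgroup X) (hP : ∀ a ∈ R, ∀ b ∈ R, a ∉ P → b ∉ P → a * b ∈ P) {r : X} (hr : r ∈ R)
    (hrP : r ∉ P) : Nat.card R = 2 * Nat.card ↥(P ⊓ R) := by
  have : P.relIndex R = 2 := by
    rw [Subgroup.relIndex_eq_two_iff]
    refine ⟨r, hr, fun b hb => ?_⟩
    by_cases h : b ∈ P
    · exact Or.inr ⟨h, fun h2 => hrP ((P.mul_mem_cancel_left h).1 h2)⟩
    · exact Or.inl ⟨hP b hb r hr h hrP, h⟩
  rw [← PGrp.card_inf_mul_relIndex P R, this, mul_comm]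

theorem two_idx [Finite X] {W V : Subgroup X} (h : W ≤ V) (hc : Nat.card V = 2 * Nat.card W) :
    ∀ u ∈ V, ∀ v ∈ V, u ∉ W → v ∉ W → u * v ∈ W := by
  intro u hu v hv h1 h2
  have h3 := PGrp.card_mul_relIndex_of_le h
  have h4 : W.relIndex V = 2 := by
    rw [hc, mul_comm 2] at h3
    exact Nat.eq_of_mul_eq_mul_left Nat.card_pos h3
  have := (Subgroup.mul_mem_iff_of_index_two (H := W.subgroupOf V) h4 (a := ⟨u, hu⟩) (b := ⟨v, hv⟩)).2
    (by simp [mem_subgroupOf, h1, h2])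
  exact this

/-- elements whose commutator with `x` lies in `W` -/
def Sp.perp {V : Subgroup X} (h : Sp V) (W : Subgroup X) (x : X) : Subgroup X where
  carrier := {r | ⁅r, x⁆ ∈ W}
  one_mem' := by simp
  mul_mem' := fun {a b} ha hb => by
    show ⁅a * b, x⁆ ∈ W
    rw [h.l]; exact W.mul_mem hb ha
  inv_mem' := fun {a} ha => by
    show ⁅a⁻¹, x⁆ ∈ W
    have : ⁅a⁻¹, x⁆ * ⁅a, x⁆ = 1 := by rw [← h.l]; simp
    rw [eq_inv_of_mul_eq_one_left this]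
    exact W.inv_mem ha

theorem Sp.perp_two {V : Subgroup X} (h : Sp V) (W : Subgroup X)
    (hW : ∀ u ∈ V, ∀ v ∈ V, u ∉ W → v ∉ W → u * v ∈ W) (x a b : X) (ha : a ∉ h.perp W x) (hb : b ∉ h.perp W x) :
    a * b ∈ h.perp W x := by
  show ⁅a * b, x⁆ ∈ W
  rw [h.l]
  exact hW _ (h.comm _ _) _ (h.comm _ _) hb ha

theorem Sp.par [Finite X] {V : Subgroup X} (h : Sp V) (W : Subgroup X)
    (hW : ∀ u ∈ V, ∀ v ∈ V, u ∉ W → v ∉ W → u * v ∈ W) (n : ℕ) : ∀ R : Subgroup X, Nat.card R = n → V ≤ R →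
    (∀ x ∈ R, x ∉ V → ∃ y ∈ R, ⁅x, y⁆ ∉ W) → ∃ m, Nat.card R = Nat.card V * 4 ^ m := by
  induction n using Nat.strong_induction_on with
  | _ n ih =>
  intro R hn hVR hnd
  by_cases hRV : R ≤ V
  · exact ⟨0, by rw [le_antisymm hRV hVR]; simp⟩
  obtain ⟨x, hx, hxV⟩ := SetLike.not_le_iff_exists.1 hRV
  obtain ⟨y, hy, hxy⟩ := hnd x hx hxV
  have hyx : ⁅y, x⁆ ∉ W := fun h1 => hxy (by rw [← commutatorElement_inv]; exact W.inv_mem h1)
  have h1 := half (h.perp W x) R (fun a _ b _ => h.perp_two W hW x a b) hy hyx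
  have hxx : x ∈ h.perp W x := by show ⁅x, x⁆ ∈ W; simp
  have hyy : y ∈ h.perp W y := by show ⁅y, y⁆ ∈ W; simp
  have h2 := half (h.perp W y) (h.perp W x ⊓ R) (fun a _ b _ => h.perp_two W hW y a b) (r := x) ⟨hxx, hx⟩ hxy
  have hV : ∀ z, V ≤ h.perp W z := by
    intro z v hv
    show ⁅v, z⁆ ∈ W
    rw [commutatorElement_eq_one_iff_mul_comm.2 (h.cen v hv z).symm]
    exact W.one_mem
  have hpos : 0 < Nat.card ↥(h.perp W y ⊓ (h.perp W x ⊓ R)) := Nat.card_pos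
  obtain ⟨m, hm⟩ := ih _ (by omega) (h.perp W y ⊓ (h.perp W x ⊓ R)) rfl (le_inf (hV _) (le_inf (hV _) hVR)) (by
    rintro r ⟨hry, hrx, hr⟩ hrV
    obtain ⟨s, hs, hrs⟩ := hnd r hr hrV
    have step : ∃ s1 ∈ R, s1 ∈ h.perp W x ∧ ⁅r, s1⁆ ∉ W := by
      by_cases h3 : s ∈ h.perp W x
      · exact ⟨s, hs, h3, hrs⟩
      · refine ⟨s * y, R.mul_mem hs hy, h.perp_two W hW x s y h3 hyx, ?_⟩
        rw [h.r]
        exact fun h4 => hrs ((W.mul_mem_cancel_right hry).1 h4)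
    obtain ⟨s1, hs1, hs1x, hrs1⟩ := step
    by_cases h3 : s1 ∈ h.perp W y
    · exact ⟨s1, ⟨h3, hs1x, hs1⟩, hrs1⟩
    · refine ⟨s1 * x, ⟨h.perp_two W hW y s1 x h3 hxy, Subgroup.mul_mem _ hs1x hxx, R.mul_mem hs1 hx⟩, ?_⟩
      rw [h.r]
      exact fun h4 => hrs1 ((W.mul_mem_cancel_right hrx).1 h4))
  exact ⟨m + 1, by rw [h1, h2, hm]; ring⟩

/-- no normal elementary abelian subgroup of order eight -/
def NoE (X : Type*) [Group X] : Prop :=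
  ∀ E : Subgroup X, E.Normal → IsElementaryAbelian 2 E → Nat.card E ≠ 8

theorem elem_sup {U : Subgroup X} (hU : IsElementaryAbelian 2 U) {t : X} (ht : t ^ 2 = 1)
    (hc : ∀ u ∈ U, u * t = t * u) : IsElementaryAbelian 2 (U ⊔ zpowers t) :=
  ⟨PGrp.isMulCommutative_sup_zpowers hU.1 hc, PGrp.pow_eq_one_of_mem_sup (by
    rw [zpowers_le]; exact hc) hU.2 (by
      rintro _ ⟨k, rfl⟩
      show (t ^ k) ^ 2 = 1
      rw [← zpow_natCast, ← zpow_mul, mul_comm, zpow_mul, zpow_natCast, ht, one_zpow])⟩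

theorem NoE.mem (h : NoE X) {U : Subgroup X} [U.Normal] (hU : IsElementaryAbelian 2 U) (h4 : Nat.card U = 4)
    {t : X} (ht : t ^ 2 = 1) (hc : ∀ u ∈ U, u * t = t * u) (hn : ∀ g, ⁅t, g⁆ ∈ U) : t ∈ U := by
  by_contra htU
  haveI : Fact (Nat.Prime 2) := ⟨Nat.prime_two⟩
  refine h _ (PGrp.normal_sup_zpowers hn) (elem_sup hU ht hc) ?_
  rw [PGrp.card_sup_zpowers (p := 2) htU (ht ▸ U.one_mem), h4]

theorem mem_zpowers_two {v w : X} (hv : v ^ 2 = 1) (h : w ∈ zpowers v) : w = 1 ∨ w = v := by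
  obtain ⟨k, rfl⟩ := h
  show v ^ k = 1 ∨ v ^ k = v
  have h2 : v ^ (2 : ℤ) = 1 := by exact_mod_cast hv
  rcases Int.even_or_odd' k with ⟨j, rfl | rfl⟩
  · left; rw [zpow_mul, h2, one_zpow]
  · right; rw [zpow_add, zpow_mul, h2, one_zpow, one_mul, zpow_one]

theorem card_zpowers_two {v : X} (hv : v ^ 2 = 1) (h1 : v ≠ 1) : Nat.card (zpowers v) = 2 := by
  rw [Nat.card_zpowers, orderOf_eq_prime hv h1]

theorem g4 [Finite X] (C Z : Subgroup X) [Z.Normal] (hZC : Z ≤ C) (hcomm : ∀ c ∈ C, ∀ g, ⁅c, g⁆ ∈ Z)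
    (hcen : ∀ z ∈ Z, ∀ c ∈ C, c * z = z * c) (hsq : ∀ c ∈ C, c ^ 2 ∈ Z) (hcard : Nat.card C ≤ 4 * Nat.card Z)
    {x y : X} (hx : x ∈ C) (hy : y ∈ C) (hxy : ⁅x, y⁆ ≠ 1) : ∀ c ∈ C, ∀ d ∈ C, ⁅c, d⁆ ∈ zpowers ⁅x, y⁆ := by
  haveI : Fact (Nat.Prime 2) := ⟨Nat.prime_two⟩
  have hxZ : x ∉ Z := fun h => hxy (commutatorElement_eq_one_iff_mul_comm.2 (hcen x h y hy).symm)
  haveI := PGrp.normal_sup_zpowers (hcomm x hx)
  have hyN : y ∉ Z ⊔ zpowers x := by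
    intro h
    have : Z ⊔ zpowers x ≤ centralizer {x} := sup_le (fun z hz => mem_centralizer_singleton_iff.2 (hcen z hz x hx).symm)
      (by rw [zpowers_le]; exact mem_centralizer_singleton_iff.2 rfl)
    exact hxy (commutatorElement_eq_one_iff_mul_comm.2 (mem_centralizer_singleton_iff.1 (this h)).symm)
  have h1 := PGrp.card_sup_zpowers (p := 2) hxZ (hsq x hx)
  have h2 := PGrp.card_sup_zpowers (p := 2) hyN (mem_sup_left (hsq y hy))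
  have h3 : (Z ⊔ zpowers x) ⊔ zpowers y = C := PGrp.eq_of_le_of_card_le
    (sup_le (sup_le hZC (by rwa [zpowers_le])) (by rwa [zpowers_le])) (by omega)
  have gen : ∀ P : X → Prop, (∀ z ∈ Z, P z) → P x → P y → (∀ a ∈ C, ∀ b ∈ C, P a → P b → P (a * b)) →
      ∀ c ∈ C, P c := by
    intro P hZ hPx hPy hm
    let S : Submonoid X :=
      { carrier := {c | c ∈ C ∧ P c}
        one_mem' := ⟨C.one_mem, hZ 1 Z.one_mem⟩
        mul_mem' := fun {a b} ha hb => ⟨C.mul_mem ha.1 hb.1, hm a ha.1 b hb.1 ha.2 hb.2⟩ }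
    let T : Subgroup X := { S with
      inv_mem' := fun {a} ha => by
        have : a⁻¹ = a ^ (orderOf a - 1) := by
          rw [inv_eq_iff_mul_eq_one, ← pow_succ', Nat.sub_add_cancel (orderOf_pos a), pow_orderOf_eq_one]
        rw [this]
        exact S.pow_mem ha _ }
    have : C ≤ T := by
      rw [← h3]
      exact sup_le (sup_le (fun z hz => ⟨hZC hz, hZ z hz⟩) (by rw [zpowers_le]; exact ⟨hx, hPx⟩))
        (by rw [zpowers_le]; exact ⟨hy, hPy⟩)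
    exact fun c hc => (this hc).2
  have hZ1 : ∀ z ∈ Z, ∀ c ∈ C, ⁅c, z⁆ = 1 := fun z hz c hc =>
    commutatorElement_eq_one_iff_mul_comm.2 (hcen z hz c hc)
  have hr : ∀ c ∈ C, ⁅c, x⁆ ∈ zpowers ⁅x, y⁆ → ⁅c, y⁆ ∈ zpowers ⁅x, y⁆ → ∀ d ∈ C, ⁅c, d⁆ ∈ zpowers ⁅x, y⁆ := by
    intro c hc h4 h5
    refine gen _ (fun z hz => by rw [hZ1 z hz c hc]; exact one_mem _) h4 h5 ?_
    intro a ha b _ h6 h7
    rw [comm_mul_r (hcen _ (hcomm c hc b) a ha)]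
    exact mul_mem h6 h7
  refine gen (fun c => ∀ d ∈ C, ⁅c, d⁆ ∈ zpowers ⁅x, y⁆) (fun z hz d hd => ?_) ?_ ?_ ?_
  · rw [← commutatorElement_inv d z, hZ1 z hz d hd]; simp
  · exact hr x hx (by simp) (mem_zpowers _)
  · exact hr y hy (by rw [← commutatorElement_inv x y]; exact inv_mem (mem_zpowers _)) (by simp)
  · intro a ha b hb h6 h7 d hd
    rw [comm_mul_l (hcen _ (hcomm b hb d) a ha)]
    exact mul_mem (h7 d hd) (h6 d hd)

end Cfsg.Lib.Linear.Scn
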