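import Cfsg.Agent.Lib.Linear.ScnA

/-! The special case: identification of the groups. -/

namespace Cfsg.Lib.Linear.Scn

open Subgroup Cfsg.Lib
open scoped commutatorElement

variable {X : Type*} [Group X] [Finite X]

/-- an odd group of automorphisms with `[X, A] = X` -/
structure Act (A : Subgroup (MulAut X)) : Prop where
  two : IsPGroup 2 X
  odd : Odd (Nat.card A)
  gen : ∀ M : Subgroup X, (∀ a ∈ A, ∀ x, x⁻¹ * a x ∈ M) → M = ⊤

variable {A : Subgroup (MulAut X)}

omit [Finite X] in
theorem Act.idx (h : Act A) (M : Subgroup X) (hM : ∀ a b, a ∉ M → b ∉ M → a * b ∈ M)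
    (hi : ∀ a ∈ A, ∀ x ∈ M, a x ∈ M) : M = ⊤ := by
  refine h.gen M fun a ha x => ?_
  by_cases hx : x ∈ M
  · exact M.mul_mem (M.inv_mem hx) (hi a ha x hx)
  · refine hM _ _ (fun h1 => hx (by simpa using M.inv_mem h1)) fun h1 => hx ?_
    simpa using hi a⁻¹ (A.inv_mem ha) _ h1

omit [Finite X] in
theorem Act.pow_odd (h : Act A) {a : MulAut X} (ha : a ∈ A) : ∃ n, a ^ (2 * n + 1) = 1 := by
  obtain ⟨n, hn⟩ := h.odd
  refine ⟨n, ?_⟩
  have := pow_card_eq_one' (x := (⟨a, ha⟩ : A))
  rw [hn] at this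
  exact congrArg Subtype.val this

omit [Finite X] in
theorem Act.sq_fix (h : Act A) {a : MulAut X} (ha : a ∈ A) {y : X} (hy : a (a y) = y) : a y = y := by
  obtain ⟨n, hn⟩ := h.pow_odd ha
  have : ∀ k : ℕ, (a ^ (2 * k + 1)) y = a y := by
    intro k
    induction k with
    | zero => simp
    | succ k ih =>
      rw [show 2 * (k + 1) + 1 = (2 * k + 1) + 1 + 1 by ring, pow_succ, pow_succ]
      simp only [MulAut.mul_apply]
      rw [hy, ih]
  rw [← this n, hn]; rfl

omit [Finite X] in
theorem Act.odd_fix (h : Act A) {a : MulAut X} (ha : a ∈ A) {z w : X} (hz : a z = z * w) (hw : a w = w)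
    (h2 : w ^ 2 = 1) : w = 1 := by
  have := h.sq_fix ha (y := z) (by rw [hz, map_mul, hz, hw, mul_assoc, ← sq, h2, mul_one])
  rwa [hz, mul_eq_left] at this

theorem Act.fixed (h : Act A) {z : X} (hz : ∀ a ∈ A, a z = z) : z ∈ commutator X := by
  classical
  haveI : Fintype A := Fintype.ofFinite A
  let f : X →* Abelianization X := ∏ a : A, Abelianization.of.comp (a : MulAut X).toMonoidHom
  have hf : ∀ x, f x = ∏ a : A, Abelianization.of ((a : MulAut X) x) := fun x => by
    simp [f, MonoidHom.finsetProd_apply]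
  have hk : f.ker = ⊤ := by
    refine h.gen _ fun a ha x => ?_
    rw [MonoidHom.mem_ker, map_mul, map_inv, inv_mul_eq_one, hf, hf]
    exact (Equiv.prod_comp (Equiv.mulRight (⟨a, ha⟩ : A))
      (fun b : A => Abelianization.of ((b : MulAut X) x))).symm
  have h1 : f z = 1 := by rw [← MonoidHom.mem_ker, hk]; trivial
  rw [hf, Finset.prod_congr rfl fun a _ => by rw [hz a a.2], Finset.prod_const, Finset.card_univ,
    ← Nat.card_eq_fintype_card] at h1
  obtain ⟨k, hk⟩ := h.two z
  have h2 : Abelianization.of z ^ 2 ^ k = 1 := by rw [← map_pow, hk, map_one]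
  have h3 : Abelianization.of z = 1 := by
    rw [← orderOf_eq_one_iff]
    exact Nat.eq_one_of_dvd_coprimes ((Nat.coprime_two_left.2 h.odd).pow_left k)
      (orderOf_dvd_of_pow_eq_one h2) (orderOf_dvd_of_pow_eq_one h1)
  rwa [← MonoidHom.mem_ker, Abelianization.ker_of] at h3

theorem card_inv : Nat.card {x : X // orderOf x = 2} + 1 = {x : X | x ^ 2 = 1}.ncard := by
  haveI : Fact (Nat.Prime 2) := ⟨Nat.prime_two⟩
  have : {x : X | x ^ 2 = 1} = insert 1 {x : X | orderOf x = 2} := by
    ext x
    simp only [Set.mem_ofPred_eq, Set.mem_insert_iff]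
    constructor
    · intro h
      by_cases h1 : x = 1
      · exact Or.inl h1
      · exact Or.inr (orderOf_eq_prime h h1)
    · rintro (rfl | h)
      · simp
      · rw [← h, pow_orderOf_eq_one]
  rw [this, Set.ncard_insert_of_notMem (by simp)]
  rfl

omit [Finite X] in
theorem Sp.elem {V : Subgroup X} (h : Sp V) : IsElementaryAbelian 2 V :=
  ⟨PGrp.isMulCommutative_iff_forall.2 fun x _ y hy => h.cen y hy x, h.el⟩

theorem Sp.special {V : Subgroup X} (h : Sp V) (hX : IsPGroup 2 X) (hz : center X ≤ V) (hc : V ≤ commutator X) :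
    IsSpecial 2 X ∧ center X = V := by
  haveI : Fact (Nat.Prime 2) := ⟨Nat.prime_two⟩
  have h1 : center X = V := le_antisymm hz fun v hv => mem_center_iff.2 (h.cen v hv)
  have h2 : commutator X ≤ V := commutator_le.2 fun x _ y _ => h.comm x y
  refine ⟨⟨hX, ?_, ?_⟩, h1⟩
  · rw [h1]
    exact le_antisymm (PGrp.frattini_le hX V h2 h.sq) (hc.trans (PGrp.commutator_le_frattini hX))
  · rw [h1]; exact le_antisymm h2 hc

theorem case_two (hA : Act A) (hna : ¬ IsMulCommutative X) (hE : NoE X) {V : Subgroup X} (h : Sp V)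
    (hz : center X ≤ V) (hc : V ≤ commutator X) (h2 : Nat.card V = 2) :
    Nonempty (X ≃* QuaternionGroup 2) ∨
      (IsExtraspecial 2 X ∧ Nat.card X = 32 ∧ Nat.card {x : X // orderOf x = 2} = 11) := by
  haveI : Fact (Nat.Prime 2) := ⟨Nat.prime_two⟩
  haveI := h.normal
  obtain ⟨hsp, hcen⟩ := h.special hA.two hz hc
  have hW := two_idx (W := ⊥) (V := V) bot_le (by simp [h2])
  obtain ⟨m, hm⟩ := h.par ⊥ hW _ ⊤ rfl le_top (by
    intro x _ hx
    by_contra h1
    push Not at h1
    exact hx (hz (mem_center_iff.2 fun g =>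
      (commutatorElement_eq_one_iff_mul_comm.1 (mem_bot.1 (h1 g trivial))).symm)))
  rw [card_top, h2] at hm
  have hm0 : m ≠ 0 := by
    rintro rfl
    apply hna
    have : V = ⊤ := Subgroup.eq_top_of_card_eq _ (by omega)
    exact ⟨⟨fun a b => h.cen b (this ▸ trivial) a⟩⟩
  by_cases ht : ∃ t, t ∉ V ∧ t ^ 2 = 1
  · obtain ⟨t, htV, ht⟩ := ht
    haveI hUn := PGrp.normal_sup_zpowers (M := V) (x := t) (h.comm t)
    have hU4 : Nat.card ↥(V ⊔ zpowers t) = 4 := by
      rw [PGrp.card_sup_zpowers (p := 2) htV (h.sq t), h2]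
    have hUe := elem_sup h.elem ht fun u hu => (h.cen u hu t).symm
    have hRc : ∀ y, y ∈ h.perp ⊥ t ↔ y * t = t * y := fun y =>
      mem_bot.trans commutatorElement_eq_one_iff_mul_comm
    have hUR : V ⊔ zpowers t ≤ h.perp ⊥ t :=
      sup_le (fun v hv => (hRc v).2 (h.cen v hv t).symm) (by rw [zpowers_le]; exact (hRc t).2 rfl)
    have hin : ∀ y ∈ h.perp ⊥ t, y ^ 2 = 1 → y ∈ V ⊔ zpowers t := by
      intro y hy hy2
      refine hE.mem hUe hU4 hy2 ?_ fun g => mem_sup_left (h.comm y g)
      have : V ⊔ zpowers t ≤ centralizer {y} :=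
        sup_le (fun v hv => mem_centralizer_singleton_iff.2 (h.cen v hv y).symm)
          (by rw [zpowers_le]; exact mem_centralizer_singleton_iff.2 ((hRc y).1 hy).symm)
      exact fun u hu => mem_centralizer_singleton_iff.1 (this hu)
    have hq := h.quad ⊥ hW (h.perp ⊥ t) (V ⊔ zpowers t) fun y hy hyU h1 => hyU (hin y hy (mem_bot.1 h1))
    obtain ⟨r, hr⟩ : ∃ r, r ∉ h.perp ⊥ t := by
      by_contra h1
      push Not at h1
      exact htV (hz (mem_center_iff.2 fun g => (hRc g).1 (h1 g)))
    have hh := half (h.perp ⊥ t) ⊤ (fun a _ b _ => h.perp_two ⊥ hW t a b) (r := r) trivial hr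
    rw [card_top, inf_top_eq] at hh
    set R := h.perp ⊥ t with hR
    let S0 : Set X := {x | x ∉ R ∧ x ^ 2 = 1}
    let S1 : Set X := {x | x ∉ R ∧ x ^ 2 ≠ 1}
    have hsq : ∀ x, x ∉ R → (x * t) ^ 2 = ⁅t, x⁆ * x ^ 2 ∧ ⁅t, x⁆ ≠ 1 ∧ x * t ∉ R := by
      intro x hx
      refine ⟨by rw [sq_mul (h.cen _ (h.comm _ _) _), ht, mul_one], fun h1 => hx ((hRc x).2 ?_), fun h1 => hx ?_⟩
      · exact (commutatorElement_eq_one_iff_mul_comm.1 h1).symm
      · exact (R.mul_mem_cancel_right ((hRc t).2 rfl)).1 h1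
    have h01 : S0.ncard = S1.ncard := by
      apply le_antisymm
      · refine Set.ncard_le_ncard_of_injOn (fun x => x * t) ?_ (fun a _ b _ hab => mul_right_cancel hab)
        rintro x ⟨hx, hx2⟩
        obtain ⟨h1, h3, h4⟩ := hsq x hx
        exact ⟨h4, by rw [h1, hx2, mul_one]; exact h3⟩
      · refine Set.ncard_le_ncard_of_injOn (fun x => x * t) ?_ (fun a _ b _ hab => mul_right_cancel hab)
        rintro x ⟨hx, hx2⟩
        obtain ⟨h1, h3, h4⟩ := hsq x hx
        exact ⟨h4, by rw [h1]; exact mem_bot.1 (hW _ (h.comm _ _) _ (h.sq _) h3 hx2)⟩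
    have hsum : S0.ncard + S1.ncard + Nat.card R = Nat.card X := by
      rw [← Set.ncard_union_eq (by rw [Set.disjoint_left]; exact fun x a b => b.2 a.2)]
      have : S0 ∪ S1 = (R : Set X)ᶜ := by
        ext x
        simp only [S0, S1, Set.mem_union, Set.mem_ofPred_eq, Set.mem_compl_iff, SetLike.mem_coe]
        tauto
      rw [this, add_comm]
      exact Set.ncard_add_ncard_compl _
    have hall : {x : X | x ^ 2 = 1}.ncard = 4 + S0.ncard := by
      have : {x : X | x ^ 2 = 1} = ((V ⊔ zpowers t : Subgroup X) : Set X) ∪ S0 := by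
        ext x
        simp only [S0, Set.mem_union, Set.mem_ofPred_eq, SetLike.mem_coe]
        constructor
        · intro hx
          by_cases h1 : x ∈ R
          · exact Or.inl (hin x h1 hx)
          · exact Or.inr ⟨h1, hx⟩
        · rintro (h1 | h1)
          · exact hUe.2 x h1
          · exact h1.2
      rw [this, Set.ncard_union_eq (by rw [Set.disjoint_left]; exact fun x a b => b.1 (hUR a)), ← hU4]
      rfl
    have hm2 : m ≤ 2 := by
      by_contra h1
      have : 4 ^ 3 ≤ 4 ^ m := Nat.pow_le_pow_right (by norm_num) (by omega)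
      omega
    have hm' : m = 1 ∨ m = 2 := by omega
    rcases hm' with rfl | rfl
    · exfalso
      have hRU : V ⊔ zpowers t = R := PGrp.eq_of_le_of_card_le hUR (by omega)
      have hS1 : ∀ x, x ^ 2 ≠ 1 → x ∈ S1 := fun x hx => ⟨fun h1 => hx (hUe.2 x (hRU ▸ h1)), hx⟩
      obtain ⟨y, y', hyy, hS⟩ := Set.ncard_eq_two.1 (show S1.ncard = 2 by omega)
      have hy : y ∈ S1 := by rw [hS]; simp
      have hfix : ∀ a ∈ A, a y = y := by
        intro a ha
        have hm : ∀ x, x ^ 2 ≠ 1 → a x = y ∨ a x = y' := fun x hx => by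
          have := hS1 (a x) (fun h1 => hx (a.injective (by rw [map_pow, h1, map_one])))
          rwa [hS] at this
        rcases hm y hy.2 with h1 | h1
        · exact h1
        · have hy' : y' ∈ S1 := by rw [hS]; simp
          rcases hm y' hy'.2 with h3 | h3
          · exact hA.sq_fix ha (by rw [h1, h3])
          · exact absurd (a.injective (h1.trans h3.symm)) hyy
      have := hA.fixed hfix
      rw [hsp.2.2, hcen] at this
      exact hy.2 (h.el y this)
    · refine Or.inr ⟨⟨hsp, by rw [hcen, h2]⟩, by omega, ?_⟩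
      have := card_inv (X := X)
      omega
  · push Not at ht
    have hq := h.quad ⊥ hW ⊤ V fun y _ hy h1 => ht y hy (mem_bot.1 h1)
    rw [card_top] at hq
    have hm1 : m = 1 := by
      by_contra h1
      have : 4 ^ 2 ≤ 4 ^ m := Nat.pow_le_pow_right (by norm_num) (by omega)
      omega
    subst hm1
    obtain ⟨a, b, hab⟩ := PGrp.exists_max2_of_index_commutator (G := X) (m := 0) (by omega) (by
      have := (commutator X).card_mul_index
      rw [hsp.2.2, hcen, h2] at this
      rw [hsp.2.2, hcen]; omega)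
    rcases hab.rel with e | e | e
    · exfalso
      refine ht b (fun hb => ?_) e.1
      have h3 : a = a⁻¹ := by rw [← e.2, ← h.cen b hb a]; group
      have h4 : a ^ 2 = 1 := by rw [sq]; nth_rewrite 2 [h3]; simp
      have := orderOf_dvd_of_pow_eq_one h4
      rw [hab.ord] at this
      exact absurd this (by decide)
    · exact Or.inl (hab.quaternion e.1 e.2)
    · exact absurd e.1 (by omega)

theorem case_four (hA : Act A) (hna : ¬ IsMulCommutative X) (hE : NoE X) {V : Subgroup X} (h : Sp V)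
    (hz : center X ≤ V) (hc : V ≤ commutator X) (h4 : Nat.card V = 4) :
    IsSpecial 2 X ∧ Nat.card X = 64 ∧ Nat.card {x : X // orderOf x = 2} = 3 ∧
      ∀ x : X, orderOf x = 2 → x ∈ Subgroup.center X := by
  haveI : Fact (Nat.Prime 2) := ⟨Nat.prime_two⟩
  haveI := h.normal
  obtain ⟨hsp, hcen⟩ := h.special hA.two hz hc
  have hin : ∀ t : X, t ^ 2 = 1 → t ∈ V := fun t ht =>
    hE.mem h.elem h4 ht (fun u hu => (h.cen u hu t).symm) (h.comm t)
  refine ⟨hsp, ?_, ?_, fun x hx => hcen ▸ hin x (by rw [← hx, pow_orderOf_eq_one])⟩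
  swap
  · have h1 := card_inv (X := X)
    have : {x : X | x ^ 2 = 1} = (V : Set X) := Set.ext fun x => ⟨hin x, h.el x⟩
    rw [this] at h1
    have : (V : Set X).ncard = Nat.card V := rfl
    omega
  have h16 : 16 < Nat.card X := by
    by_contra h1
    have : ∃ x y : X, ⁅x, y⁆ ≠ 1 := by
      by_contra h2
      push Not at h2
      exact hna ⟨⟨fun a b => commutatorElement_eq_one_iff_mul_comm.1 (h2 a b)⟩⟩
    obtain ⟨x, y, hxy⟩ := this
    have h3 := g4 ⊤ V le_top (fun c _ g => h.comm c g) (fun z hz c _ => h.cen z hz c) (fun c _ => h.sq c)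
      (by rw [card_top]; omega) trivial trivial hxy
    have h5 : V ≤ zpowers ⁅x, y⁆ := hc.trans (commutator_le.2 h3)
    have h6 := card_le_of_le h5
    rw [card_zpowers_two (h.el _ (h.comm x y)) hxy] at h6
    omega
  let φ : X → X →* X := fun x => { toFun := fun y => ⁅x, y⁆, map_one' := by simp, map_mul' := h.r x }
  have hφ : ∀ x y, y ∈ (φ x).ker ↔ x * y = y * x := fun x y => commutatorElement_eq_one_iff_mul_comm
  have hφc : ∀ x, Nat.card (φ x).ker * Nat.card (φ x).range = Nat.card X := fun x => by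
    rw [← index_ker, card_mul_index]
  have hφV : ∀ x, (φ x).range ≤ V := by rintro x _ ⟨y, rfl⟩; exact h.comm x y
  have hN8 : ∀ x, x ∉ V → Nat.card ↥(V ⊔ zpowers x) = 8 := fun x hx => by
    rw [PGrp.card_sup_zpowers (p := 2) hx (h.sq x), h4]
  have hR : ∀ x, x ∉ V → Nat.card (φ x).ker ≤ 32 := by
    intro x hx
    have hx2 : x ^ 2 ≠ 1 := fun h1 => hx (hin x h1)
    have hW := two_idx (W := zpowers (x ^ 2)) (V := V) (by rw [zpowers_le]; exact h.sq x)
      (by rw [card_zpowers_two (h.el _ (h.sq x)) hx2, h4])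
    have := h.quad _ hW (φ x).ker (V ⊔ zpowers x) (by
      intro y hy hyN h1
      apply hyN
      rcases mem_zpowers_two (h.el _ (h.sq x)) h1 with h2 | h2
      · exact mem_sup_left (hin y h2)
      · have h3 : (x * y) ^ 2 = 1 := by
          rw [Commute.mul_pow ((hφ x y).1 hy), h2, ← sq, h.el _ (h.sq x)]
        exact (Subgroup.mul_mem_cancel_left _ (mem_sup_right (mem_zpowers x))).1 (mem_sup_left (hin _ h3)))
    rw [hN8 x hx] at this
    exact this
  obtain ⟨n, hn⟩ := hA.two.exists_card_eq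
  obtain ⟨x0, hx0⟩ : ∃ x, x ∉ V := by
    by_contra h1
    push Not at h1
    exact hna ⟨⟨fun a b => h.cen b (h1 b) a⟩⟩
  by_cases hall : ∀ x, x ∉ V → (φ x).range = V
  · have hx2 : x0 ^ 2 ≠ 1 := fun h1 => hx0 (hin x0 h1)
    have hc2 := card_zpowers_two (h.el _ (h.sq x0)) hx2
    have hW := two_idx (W := zpowers (x0 ^ 2)) (V := V) (by rw [zpowers_le]; exact h.sq x0) (by rw [hc2, h4])
    obtain ⟨m, hm⟩ := h.par _ hW _ ⊤ rfl le_top (by
      intro x _ hx
      by_contra h1
      push Not at h1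
      have : V ≤ zpowers (x0 ^ 2) := by
        rw [← hall x hx]
        rintro _ ⟨y, rfl⟩
        exact h1 y trivial
      have := card_le_of_le this
      omega)
    rw [card_top, h4] at hm
    have h1 := hφc x0
    have h2 := hR x0 hx0
    rw [hall x0 hx0, h4] at h1
    have h3 : m ≤ 2 := by
      by_contra h3
      have : 4 ^ 3 ≤ 4 ^ m := Nat.pow_le_pow_right (by norm_num) (by omega)
      omega
    interval_cases m <;> omega
  · push Not at hall
    obtain ⟨x, hx, hne⟩ := hall
    have h1 := hφc x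
    have h2 := hR x hx
    have h3 : Nat.card (φ x).range ≤ 2 := by
      have h5 := PGrp.card_lt_of_lt (lt_of_le_of_ne (hφV x) hne)
      have h6 := card_dvd_of_le (hφV x)
      rw [h4] at h5 h6
      by_contra h7
      have : Nat.card (φ x).range = 3 := by omega
      rw [this] at h6
      omega
    have h64 : Nat.card X ≤ 64 := by nlinarith
    by_contra h65
    have h32 : Nat.card X = 32 := by
      have h5 : n ≤ 6 := by
        by_contra h5
        have : 2 ^ 7 ≤ 2 ^ n := Nat.pow_le_pow_right (by norm_num) (by omega)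
        omega
      interval_cases n <;> omega
    set R := (φ x).ker with hRd
    have hRt : R ≠ ⊤ := fun h5 => hx (hz (mem_center_iff.2 fun g => ((hφ x g).1 (hRd ▸ h5 ▸ trivial)).symm))
    have hR16 : Nat.card R = 16 := by
      have h5 := PGrp.card_lt_of_ne_top hRt
      have h6 : Nat.card (φ x).range = 0 ∨ Nat.card (φ x).range = 1 ∨ Nat.card (φ x).range = 2 := by omega
      rcases h6 with h6 | h6 | h6 <;> rw [h6] at h1 <;> omega
    have hRi : ∀ a b, a ∉ R → b ∉ R → a * b ∈ R := fun a b =>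
      two_idx (W := R) (V := ⊤) le_top (by rw [card_top]; omega) a trivial b trivial
    have hNR : V ⊔ zpowers x ≤ R :=
      sup_le (fun v hv => (hφ x v).2 (h.cen v hv x)) (by rw [zpowers_le]; exact (hφ x x).2 rfl)
    have hNi := two_idx hNR (by rw [hN8 x hx, hR16])
    have hNc : ∀ r ∈ R, ∀ u ∈ V ⊔ zpowers x, u * r = r * u := by
      intro r hr
      have : V ⊔ zpowers x ≤ centralizer {r} :=
        sup_le (fun v hv => mem_centralizer_singleton_iff.2 (h.cen v hv r).symm)
          (by rw [zpowers_le]; exact mem_centralizer_singleton_iff.2 ((hφ x r).1 hr))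
      exact fun u hu => mem_centralizer_singleton_iff.1 (this hu)
    have hRa : ∀ r ∈ R, ∀ s ∈ R, r * s = s * r := by
      intro r hr s hs
      by_cases h5 : r ∈ V ⊔ zpowers x
      · exact hNc s hs r h5
      by_cases h6 : s ∈ V ⊔ zpowers x
      · exact (hNc r hr s h6).symm
      have h7 := hNc r hr _ (hNi r hr s hs h5 h6)
      rw [mul_assoc] at h7
      exact (mul_left_cancel h7).symm
    refine hRt (hA.idx R hRi fun a ha r hr => ?_)
    by_contra har
    have h5 := half R (R.map a.toMonoidHom) (fun b _ c _ => hRi b c) (r := a r) ⟨r, hr, rfl⟩ har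
    rw [card_map_of_injective a.injective, hR16] at h5
    have h6 : R ⊓ R.map a.toMonoidHom ≤ V := by
      rintro u ⟨hu, s, hs, rfl⟩
      refine hz (mem_center_iff.2 fun g => ?_)
      by_cases hg : g ∈ R
      · exact hRa g hg _ hu
      · have h7 := hRa _ (hRi g _ hg har) _ hu
        have h8 : a r * a s = a s * a r := by rw [← map_mul, ← map_mul, hRa r hr s hs]
        change g * a r * a s = a s * (g * a r) at h7
        change g * a s = a s * g
        rw [mul_assoc, h8, ← mul_assoc, ← mul_assoc] at h7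
        exact mul_right_cancel h7
    have := card_le_of_le h6
    omega

end Cfsg.Lib.Linear.Scn
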