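import Cfsg.Agent.Lib.Linear.ScnB

/-! The case of a homocyclic self-centralizing normal subgroup of rank two. -/

namespace Cfsg.Lib.Linear.Scn

open Subgroup Cfsg.Lib
open scoped commutatorElement

variable {X : Type*} [Group X] [Finite X] {A : Subgroup (MulAut X)}

theorem four_cases {V : Subgroup X} (h4 : Nat.card V = 4) (hel : ∀ v ∈ V, v ^ 2 = 1) {v u w : X} (hv : v ∈ V)
    (hu : u ∈ V) (hw : w ∈ V) (hv1 : v ≠ 1) (hu1 : u ≠ 1) (huv : u ≠ v) : w = 1 ∨ w = v ∨ w = u ∨ w = u * v := by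
  by_cases h1 : w ∈ zpowers v
  · rcases mem_zpowers_two (hel v hv) h1 with h | h
    · exact Or.inl h
    · exact Or.inr (Or.inl h)
  have h2 : u ∉ zpowers v := fun h => (mem_zpowers_two (hel v hv) h).elim hu1 huv
  have h3 := two_idx (W := zpowers v) (V := V) (by rwa [zpowers_le]) (by rw [card_zpowers_two (hel v hv) hv1, h4])
    u hu w hw h2 h1
  have h5 : w = u * (u * w) := by rw [← mul_assoc, ← sq, hel u hu, one_mul]
  rcases mem_zpowers_two (hel v hv) h3 with h | h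
  · exact Or.inr (Or.inr (Or.inl (by rw [h5, h, mul_one])))
  · exact Or.inr (Or.inr (Or.inr (by rw [h5, h])))

/-- a central four-group on which `a ∈ A` acts nontrivially -/
structure Tri (A : Subgroup (MulAut X)) (V : Subgroup X) (a : MulAut X) : Prop where
  act : Act A
  four : Nat.card V = 4
  el : ∀ v ∈ V, v ^ 2 = 1
  cen : ∀ v ∈ V, ∀ g, g * v = v * g
  inv : ∀ β ∈ A, ∀ v ∈ V, β v ∈ V
  mem : a ∈ A
  mov : ∃ v ∈ V, a v ≠ v

variable {V : Subgroup X} {a : MulAut X}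

theorem Tri.fix_all (h : Tri A V a) {β : MulAut X} (hβ : β ∈ A) {v : X} (hv : v ∈ V) (hv1 : v ≠ 1) (hf : β v = v) :
    ∀ u ∈ V, β u = u := by
  intro u hu
  by_cases hu1 : u = 1
  · simp [hu1]
  by_cases huv : u = v
  · rw [huv, hf]
  rcases four_cases h.four h.el hv hu (h.inv β hβ u hu) hv1 hu1 huv with e | e | e | e
  · exact absurd (β.injective (e.trans (map_one β).symm)) hu1
  · exact absurd (β.injective (e.trans hf.symm)) huv
  · exact e
  · exact absurd (h.act.odd_fix hβ e hf (h.el v hv)) hv1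

theorem Tri.ne (h : Tri A V a) {v : X} (hv : v ∈ V) (hv1 : v ≠ 1) : a v ≠ v := fun e => by
  obtain ⟨u, hu, hne⟩ := h.mov
  exact hne (h.fix_all h.mem hv hv1 e u hu)

omit [Finite X] in
theorem ne_one_map (β : MulAut X) {v : X} (hv1 : v ≠ 1) : β v ≠ 1 :=
  fun e => hv1 (β.injective (e.trans (map_one β).symm))

theorem Tri.aa (h : Tri A V a) {v : X} (hv : v ∈ V) (hv1 : v ≠ 1) : a (a v) = a v * v := by
  have h1 := h.inv a h.mem v hv
  rcases four_cases h.four h.el hv h1 (h.inv a h.mem _ h1) hv1 (ne_one_map a hv1) (h.ne hv hv1) with e | e | e | e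
  · exact absurd e (ne_one_map a (ne_one_map a hv1))
  · exact absurd (h.act.sq_fix h.mem e) (h.ne hv hv1)
  · exact absurd e (h.ne h1 (ne_one_map a hv1))
  · exact e

theorem Tri.aaa (h : Tri A V a) {v : X} (hv : v ∈ V) : a (a (a v)) = v := by
  by_cases hv1 : v = 1
  · simp [hv1]
  have h1 := h.inv a h.mem v hv
  rw [h.aa hv hv1, map_mul, h.aa hv hv1, h.cen v hv, mul_assoc, ← sq, h.el _ h1, mul_one]

theorem Tri.cases (h : Tri A V a) {v w : X} (hv : v ∈ V) (hv1 : v ≠ 1) (hw : w ∈ V) :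
    w = 1 ∨ w = v ∨ w = a v ∨ w = a (a v) := by
  rw [h.aa hv hv1]
  exact four_cases h.four h.el hv (h.inv a h.mem v hv) hw hv1 (ne_one_map a hv1) (h.ne hv hv1)

theorem Tri.le (h : Tri A V a) (N : Subgroup X) (hN : ∀ x ∈ N, a x ∈ N) {v : X} (hv : v ∈ V) (hv1 : v ≠ 1)
    (hvN : v ∈ N) : V ≤ N := by
  intro w hw
  rcases h.cases hv hv1 hw with e | e | e | e <;> rw [e]
  exacts [N.one_mem, hvN, hN _ hvN, hN _ (hN _ hvN)]

theorem Tri.three (h : Tri A V a) {β : MulAut X} (hβ : β ∈ A) :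
    (∀ v ∈ V, β v = v) ∨ (∀ v ∈ V, β v = a v) ∨ (∀ v ∈ V, β v = a (a v)) := by
  obtain ⟨v, hv, hne⟩ := h.mov
  have hv1 : v ≠ 1 := by rintro rfl; simp at hne
  rcases h.cases hv hv1 (h.inv β hβ v hv) with e | e | e | e
  · exact absurd e (ne_one_map β hv1)
  · exact Or.inl (h.fix_all hβ hv hv1 e)
  · refine Or.inr (Or.inl fun u hu => ?_)
    have := h.fix_all (A.mul_mem (A.inv_mem h.mem) hβ) hv hv1 (by simp [e]) u hu
    rw [← this]; simp [this]
    simpa using congrArg a this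
  · refine Or.inr (Or.inr fun u hu => ?_)
    have := h.fix_all (A.mul_mem (A.inv_mem h.mem) (A.mul_mem (A.inv_mem h.mem) hβ)) hv hv1 (by simp [e]) u hu
    simpa using congrArg (fun x => a (a x)) this

theorem Tri.le_commutator (h : Tri A V a) (hna : ¬ IsMulCommutative X) (hc : ∀ x y : X, ⁅x, y⁆ ∈ V) :
    V ≤ commutator X := by
  have : ∃ x y : X, ⁅x, y⁆ ≠ 1 := by
    by_contra h2
    push Not at h2
    exact hna ⟨⟨fun a b => commutatorElement_eq_one_iff_mul_comm.1 (h2 a b)⟩⟩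
  obtain ⟨x, y, hxy⟩ := this
  exact h.le _ (fun z hz => (characteristic_iff_le_comap.1 inferInstance a hz :))
    (hc x y) hxy (commutator_mem_commutator trivial trivial)

/-- an abelian invariant subgroup `C` with an equivariant map onto `V` whose kernel is the group of squares -/
structure Ctx (A : Subgroup (MulAut X)) (V : Subgroup X) (a : MulAut X) (C : Subgroup X) (π : X → X) : Prop
    extends Tri A V a where
  cinv : ∀ β ∈ A, ∀ c ∈ C, β c ∈ C
  pmem : ∀ c ∈ C, π c ∈ V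
  pmul : ∀ c ∈ C, ∀ d ∈ C, π (c * d) = π c * π d
  peqv : ∀ β ∈ A, ∀ c, π (β c) = β (π c)
  pker : ∀ c ∈ C, π c = 1 → ∃ d ∈ C, c = d * d

/-- an equivariant pairing into `V` -/
structure Frm (A : Subgroup (MulAut X)) (V C Y : Subgroup X) (b : X → X → X) : Prop where
  yinv : ∀ β ∈ A, ∀ x ∈ Y, β x ∈ Y
  mem : ∀ x ∈ Y, ∀ c ∈ C, b x c ∈ V
  mulr : ∀ x ∈ Y, ∀ c ∈ C, ∀ d ∈ C, b x (c * d) = b x c * b x d
  mull : ∀ x ∈ Y, ∀ y ∈ Y, ∀ c ∈ C, b (x * y) c = b x c * b y c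
  eqv : ∀ β ∈ A, ∀ x c, b (β x) (β c) = β (b x c)

variable {C Y : Subgroup X} {π : X → X} {b : X → X → X}

omit [Finite X] in
theorem Ctx.K1 (h : Ctx A V a C π) (f : Frm A V C Y b) {x c : X} (hx : x ∈ Y) (hc : c ∈ C) (e : π c = 1) :
    b x c = 1 := by
  obtain ⟨d, hd, rfl⟩ := h.pker c hc e
  rw [f.mulr x hx d hd d hd, ← sq, h.el _ (f.mem x hx d hd)]

omit [Finite X] in
theorem Ctx.K (h : Ctx A V a C π) (f : Frm A V C Y b) {x c d : X} (hx : x ∈ Y) (hc : c ∈ C) (hd : d ∈ C)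
    (e : π c = π d) : b x c = b x d := by
  have h1 := h.K1 f hx (C.mul_mem hc hd) (by rw [h.pmul c hc d hd, e, ← sq, h.el _ (h.pmem d hd)])
  rw [f.mulr x hx c hc d hd] at h1
  have h2 := h.el _ (f.mem x hx d hd)
  rw [sq] at h2
  exact mul_right_cancel (h1.trans h2.symm)

omit [Finite X] in
theorem Ctx.E (h : Ctx A V a C π) (f : Frm A V C Y b) {β γ : MulAut X} (hβ : β ∈ A) (hγ : γ ∈ A)
    (e : ∀ v ∈ V, β v = γ v) {x c : X} (hx : x ∈ Y) (hc : c ∈ C) : b (β x) c = b (γ x) c := by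
  have h1 := h.cinv _ (A.inv_mem hβ) c hc
  have h2 := h.cinv _ (A.inv_mem hγ) c hc
  have h3 : π (β⁻¹ c) = π (γ⁻¹ c) := by
    apply β.injective
    rw [← h.peqv β hβ, e _ (h.pmem _ h2), ← h.peqv γ hγ]
    simp
  calc b (β x) c = b (β x) (β (β⁻¹ c)) := by simp
    _ = β (b x (β⁻¹ c)) := f.eqv β hβ _ _
    _ = γ (b x (γ⁻¹ c)) := by rw [h.K f hx h1 h2 h3, e _ (f.mem x hx _ h2)]
    _ = b (γ x) (γ (γ⁻¹ c)) := (f.eqv γ hγ _ _).symm
    _ = b (γ x) c := by simp

theorem Ctx.R0 (h : Ctx A V a C π) (f : Frm A V C Y b) {x c : X} (hx : x ∈ Y) (hc : c ∈ C) (e : π c ≠ 1)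
    (h0 : b x c = 1) (h1 : b x (a c) = 1) : ∀ d ∈ C, b x d = 1 := by
  intro d hd
  have hac := h.cinv a h.mem c hc
  rcases h.cases (h.pmem c hc) e (h.pmem d hd) with e1 | e1 | e1 | e1
  · exact h.K1 f hx hd e1
  · rw [h.K f hx hd hc e1, h0]
  · rw [h.K f hx hd hac (by rw [e1, h.peqv a h.mem]), h1]
  · rw [h.K f hx hd (C.mul_mem hac hc) (by
      rw [e1, h.pmul _ hac _ hc, h.peqv a h.mem, h.aa (h.pmem c hc) e]), f.mulr x hx _ hac _ hc, h0, h1, mul_one]

theorem Ctx.R1 (h : Ctx A V a C π) (f : Frm A V C Y b) {x c : X} (hx : x ∈ Y) (hc : c ∈ C) (e : π c ≠ 1)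
    (h0 : b x c = 1) (hF : b (x * a x * a (a x)) c = 1) : ∀ d ∈ C, b x d = 1 := by
  have hac := h.cinv a h.mem c hc
  have haac := h.cinv a h.mem _ hac
  have hax := f.yinv a h.mem x hx
  have haax := f.yinv a h.mem _ hax
  have h3 : π (a (a (a c))) = π c := by
    rw [h.peqv a h.mem, h.peqv a h.mem, h.peqv a h.mem, h.aaa (h.pmem c hc)]
  have haaac := h.cinv a h.mem _ haac
  have hp : b x (a (a c)) = b x (a c) := by
    rw [h.K f hx haac (C.mul_mem hac hc) (by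
      rw [h.pmul _ hac _ hc, h.peqv a h.mem, h.peqv a h.mem, h.aa (h.pmem c hc) e]),
      f.mulr x hx _ hac _ hc, h0, mul_one]
  rw [f.mull _ (Y.mul_mem hx hax) _ haax c hc, f.mull _ hx _ hax c hc, h0, one_mul,
    ← h.K f hax haaac hc h3, ← h.K f haax haaac hc h3, f.eqv a h.mem, f.eqv a h.mem, f.eqv a h.mem, hp] at hF
  refine h.R0 f hx hc e h0 ?_
  by_contra hne
  have hv := f.mem x hx _ hac
  rw [h.aa hv hne, ← mul_assoc, ← sq, h.el _ (h.inv a h.mem _ hv), one_mul] at hF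
  exact hne hF

theorem Ctx.rot (h : Ctx A V a C π) (f : Frm A V C Y b) {β : MulAut X} (hβ : β ∈ A) {x c : X} (hx : x ∈ Y) (hc : c ∈ C) :
    b (β x * a (β x) * a (a (β x))) c = b (x * a x * a (a x)) c := by
  have hm : ∀ y ∈ Y, b (y * a y * a (a y)) c = b y c * b (a y) c * b (a (a y)) c := by
    intro y hy
    have hay := f.yinv a h.mem y hy
    rw [f.mull _ (Y.mul_mem hy hay) _ (f.yinv a h.mem _ hay) c hc, f.mull _ hy _ hay c hc]
  have ha := h.mem
  have haa := A.mul_mem ha ha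
  have hE := fun {β γ : MulAut X} (hβ : β ∈ A) (hγ : γ ∈ A) (e : ∀ v ∈ V, β v = γ v) => h.E f hβ hγ e hx hc
  have m1 := f.mem _ (f.yinv a ha x hx) c hc
  have m0 := f.mem _ hx c hc
  rw [hm x hx, hm _ (f.yinv β hβ x hx)]
  rcases h.three hβ with e | e | e
  · have e0 : b (β x) c = b x c := hE hβ A.one_mem e
    have e1 : b (a (β x)) c = b (a x) c := hE (A.mul_mem ha hβ) ha fun v hv => congrArg a (e v hv)
    have e2 : b (a (a (β x))) c = b (a (a x)) c :=
      hE (A.mul_mem ha (A.mul_mem ha hβ)) haa fun v hv => congrArg (fun z => a (a z)) (e v hv)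
    rw [e0, e1, e2]
  · have e0 : b (β x) c = b (a x) c := hE hβ ha e
    have e1 : b (a (β x)) c = b (a (a x)) c := hE (A.mul_mem ha hβ) haa fun v hv => congrArg a (e v hv)
    have e2 : b (a (a (β x))) c = b x c :=
      hE (A.mul_mem ha (A.mul_mem ha hβ)) A.one_mem fun v hv =>
        (congrArg (fun z => a (a z)) (e v hv)).trans (h.aaa hv)
    rw [e0, e1, e2, h.cen _ m0, mul_assoc]
  · have e0 : b (β x) c = b (a (a x)) c := hE hβ haa e
    have e1 : b (a (β x)) c = b x c :=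
      hE (A.mul_mem ha hβ) A.one_mem fun v hv => (congrArg a (e v hv)).trans (h.aaa hv)
    have e2 : b (a (a (β x))) c = b (a x) c :=
      hE (A.mul_mem ha (A.mul_mem ha hβ)) ha fun v hv =>
        (congrArg (fun z => a (a z)) (e v hv)).trans (congrArg a (h.aaa hv))
    rw [e0, e1, e2, mul_assoc, h.cen _ (V.mul_mem m0 m1)]

theorem Ctx.norm (h : Ctx A V a C π) (f : Frm A V C ⊤ b) (x : X) {c : X} (hc : c ∈ C) :
    b (x * a x * a (a x)) c = 1 := by
  have hm : ∀ y, b (y * a y * a (a y)) c = b y c * b (a y) c * b (a (a y)) c := by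
    intro y
    rw [f.mull _ trivial _ trivial c hc, f.mull _ trivial _ trivial c hc]
  have hv : ∀ y, b y c ∈ V := fun y => f.mem y trivial c hc
  let φ : X →* X := MonoidHom.mk' (fun y => b (y * a y * a (a y)) c) (by
    intro y z
    simp only [hm, map_mul, f.mull _ trivial _ trivial c hc]
    have c1 := h.cen _ (hv z)
    have c2 := h.cen _ (hv (a z))
    calc _ = b y c * (b z c * (b (a y) c * (b (a z) c * b (a (a y)) c))) * b (a (a z)) c := by group
      _ = b y c * ((b (a y) c * (b (a (a y)) c * b (a z) c)) * b z c) * b (a (a z)) c := by rw [c1, c2]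
      _ = b y c * (b (a y) c * (b (a (a y)) c * (b (a z) c * b z c))) * b (a (a z)) c := by group
      _ = _ := by rw [c1]; group)
  have : φ.ker = ⊤ := h.act.gen _ fun β hβ y => by
    rw [MonoidHom.mem_ker, map_mul, map_inv, inv_mul_eq_one]
    exact (h.rot f hβ trivial hc).symm
  have h1 : x ∈ φ.ker := this ▸ trivial
  exact h1

theorem Ctx.inj (h : Ctx A V a C π) (f : Frm A V C ⊤ b) {x c d : X} (hc : c ∈ C) (hd : d ∈ C) (h0 : b x c = 1)
    (h1 : b x d ≠ 1) : π c = 1 := by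
  by_contra e
  exact h1 (h.R1 f trivial hc e h0 (h.norm f x hc) d hd)

theorem Ctx.not_id (h : Ctx A V a C π) (f : Frm A V C ⊤ b) {x c : X} (hc : c ∈ C) (e : π c ≠ 1) :
    ¬ ∀ d ∈ C, b x d = π d := by
  intro hid
  have h1 := h.norm f x hc
  have hac := h.cinv a h.mem c hc
  have haac := h.cinv a h.mem _ hac
  have haaac := h.cinv a h.mem _ haac
  have h3 : π (a (a (a c))) = π c := by
    rw [h.peqv a h.mem, h.peqv a h.mem, h.peqv a h.mem, h.aaa (h.pmem c hc)]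
  rw [f.mull _ trivial _ trivial c hc, f.mull _ trivial _ trivial c hc,
    ← h.K f (x := a x) trivial haaac hc h3, ← h.K f (x := a (a x)) trivial haaac hc h3, f.eqv a h.mem,
    f.eqv a h.mem, f.eqv a h.mem, hid _ hc, hid _ hac, hid _ haac, h.peqv a h.mem, h.peqv a h.mem,
    h.aaa (h.pmem c hc), ← sq, h.el _ (h.pmem c hc), one_mul] at h1
  exact e h1

theorem Ctx.exists_inj (h : Ctx A V a C π) (f : Frm A V C Y b) {x d : X} (hx : x ∈ Y) (hd : d ∈ C) (h1 : b x d ≠ 1) :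
    ∃ y ∈ Y, (∃ d ∈ C, b y d ≠ 1) ∧ ∀ c ∈ C, b y c = 1 → π c = 1 := by
  by_cases h2 : ∀ c ∈ C, b x c = 1 → π c = 1
  · exact ⟨x, hx, ⟨d, hd, h1⟩, h2⟩
  push Not at h2
  obtain ⟨c, hc, h0, e⟩ := h2
  have hax := f.yinv a h.mem x hx
  have hy := Y.mul_mem (Y.mul_mem hx hax) (f.yinv a h.mem _ hax)
  have h3 : b (x * a x * a (a x)) c ≠ 1 := fun h3 => h1 (h.R1 f hx hc e h0 h3 d hd)
  refine ⟨_, hy, ⟨c, hc, h3⟩, fun c' hc' h4 => ?_⟩
  by_contra e'
  refine h3 (h.R0 f hy hc' e' h4 ?_ c hc)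
  rw [← h.rot f h.mem hx (h.cinv a h.mem c' hc'), ← map_mul, ← map_mul, f.eqv a h.mem, h4, map_one]

end Cfsg.Lib.Linear.Scn
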