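import Cfsg.Agent.Lib.Linear.ScnC

/-! The homocyclic case. -/

namespace Cfsg.Lib.Linear.Scn

open Subgroup Cfsg.Lib
open scoped commutatorElement

variable {X : Type*} [Group X] [Finite X] {A : Subgroup (MulAut X)} {V C : Subgroup X} {a : MulAut X}

theorem ctx_of (h : Tri A V a) (cinv : ∀ β ∈ A, ∀ c ∈ C, β c ∈ C) (hab : ∀ c ∈ C, ∀ d ∈ C, c * d = d * c)
    (hΩ : ∀ c ∈ C, c ^ 2 = 1 → c ∈ V) (hVC : V ≤ C) {j : ℕ} (hj : ∀ c ∈ C, c ^ 2 ^ (j + 2) = 1)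
    {c0 : X} (hc0 : c0 ∈ C) (h0 : c0 ^ 2 ^ (j + 1) ≠ 1) :
    Ctx A V a C (fun c => c ^ 2 ^ (j + 1)) ∧ ∀ v ∈ V, ∃ c ∈ C, c ^ 2 ^ (j + 1) = v := by
  letI : CommGroup C := { (inferInstance : Group C) with mul_comm := fun c d => Subtype.ext (hab _ c.2 _ d.2) }
  have pm : ∀ c ∈ C, c ^ 2 ^ (j + 1) ∈ V := fun c hc =>
    hΩ _ (C.pow_mem hc _) (by rw [← pow_mul, ← pow_succ]; exact hj c hc)
  let f2 : C →* C := powMonoidHom 2
  let fp : C →* C := powMonoidHom (2 ^ (j + 1))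
  have hsurj : ∀ v ∈ V, ∃ c ∈ C, c ^ 2 ^ (j + 1) = v := by
    intro v hv
    have := h.le (fp.range.map C.subtype) (by
      rintro _ ⟨_, ⟨c, rfl⟩, rfl⟩
      exact ⟨_, ⟨⟨a c, cinv a h.mem c c.2⟩, rfl⟩, (map_pow a _ _).symm⟩) (pm c0 hc0) h0
      ⟨_, ⟨⟨c0, hc0⟩, rfl⟩, rfl⟩ hv
    obtain ⟨_, ⟨c, rfl⟩, rfl⟩ := this
    exact ⟨c, c.2, rfl⟩
  refine ⟨{ h with
    cinv := cinv
    pmem := pm
    pmul := fun c hc d hd => Commute.mul_pow (hab c hc d hd) _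
    peqv := fun β _ c => (map_pow β _ _).symm
    pker := ?_ }, hsurj⟩
  have hV4 : Nat.card (V.subgroupOf C) = 4 := by
    rw [Nat.card_congr (subgroupOfEquivOfLe hVC).toEquiv, h.four]
  have k2 : f2.ker = V.subgroupOf C := by
    ext c
    exact ⟨fun hc => hΩ _ c.2 (congrArg Subtype.val hc), fun hc => Subtype.ext (h.el _ hc)⟩
  have rp : fp.range = V.subgroupOf C := by
    ext c
    constructor
    · rintro ⟨d, rfl⟩; exact pm d d.2
    · intro hc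
      obtain ⟨d, hd, e⟩ := hsurj c hc
      exact ⟨⟨d, hd⟩, Subtype.ext e⟩
  have e1 := f2.ker.card_mul_index
  have e2 := fp.ker.card_mul_index
  rw [index_ker] at e1 e2
  rw [k2, hV4] at e1
  rw [rp, hV4] at e2
  have hle : f2.range ≤ fp.ker := by
    rintro _ ⟨d, rfl⟩
    apply Subtype.ext
    show ((d : X) ^ 2) ^ 2 ^ (j + 1) = 1
    rw [← pow_mul, ← pow_succ']
    exact hj d d.2
  have heq := PGrp.eq_of_le_of_card_le hle (by omega)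
  intro c hc e
  have : (⟨c, hc⟩ : C) ∈ f2.range := heq ▸ (show (⟨c, hc⟩ : C) ∈ fp.ker from Subtype.ext e)
  obtain ⟨d, hd⟩ := this
  exact ⟨d, d.2, by rw [← sq]; exact (congrArg Subtype.val hd).symm⟩

theorem hom_case (h : Tri A V a) (hE : NoE X) (hna : ¬ IsMulCommutative X) [hN : C.Normal]
    (cinv : ∀ β ∈ A, ∀ c ∈ C, β c ∈ C) (hab : ∀ c ∈ C, ∀ d ∈ C, c * d = d * c)
    (hsc : ∀ x : X, (∀ c ∈ C, ⁅x, c⁆ = 1) → x ∈ C) (hΩ : ∀ c ∈ C, c ^ 2 = 1 → c ∈ V) (hVC : V ≤ C)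
    (hz : ∃ z ∈ C, z ^ 2 ≠ 1) : Sp V ∧ center X ≤ V := by
  classical
  haveI : Fact (Nat.Prime 2) := ⟨Nat.prime_two⟩
  have hex : ∃ k, ∀ c ∈ C, c ^ 2 ^ k = 1 := by
    obtain ⟨n, hn⟩ := h.act.two.exists_card_eq
    exact ⟨n, fun c _ => by rw [← hn, pow_card_eq_one']⟩
  obtain ⟨j, hj2⟩ : ∃ j, Nat.find hex = j + 2 := by
    obtain ⟨z, hzC, hz2⟩ := hz
    have := Nat.find_spec hex z hzC
    refine ⟨Nat.find hex - 2, ?_⟩
    by_contra h1
    have : Nat.find hex = 0 ∨ Nat.find hex = 1 := by omega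
    rcases this with e | e <;> rw [e] at this
    · exact hz2 (by rw [show z = 1 by simpa using this]; simp)
    · exact hz2 (by simpa using this)
  have hj := Nat.find_spec hex
  rw [hj2] at hj
  have hj' := Nat.find_min hex (m := j + 1) (by omega)
  push Not at hj'
  obtain ⟨c0, hc0, h0⟩ := hj'
  obtain ⟨K, hsurj⟩ := ctx_of h cinv hab hΩ hVC hj hc0 h0
  have dm : ∀ x : X, ∀ c ∈ C, ⁅x, c⁆ ∈ C := fun x c hc => by
    rw [commutatorElement_def]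
    exact C.mul_mem (hN.conj_mem c hc x) (C.inv_mem hc)
  have dr : ∀ x : X, ∀ c ∈ C, ∀ d ∈ C, ⁅x, c * d⁆ = ⁅x, c⁆ * ⁅x, d⁆ := fun x c hc d hd =>
    comm_mul_r (hab c hc _ (dm x d hd))
  have dp : ∀ x : X, ∀ c ∈ C, ∀ n : ℕ, ⁅x, c ^ n⁆ = ⁅x, c⁆ ^ n := by
    intro x c hc n
    induction n with
    | zero => simp
    | succ n ih => rw [pow_succ, dr x _ (C.pow_mem hc n) c hc, ih, pow_succ]
  have dl : ∀ x y c : X, ⁅x * y, c⁆ = x * ⁅y, c⁆ * x⁻¹ * ⁅x, c⁆ := fun x y c => by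
    simp only [commutatorElement_def]; group
  have dV : ∀ x : X, ∀ v ∈ V, ⁅x, v⁆ = 1 := fun x v hv => commutatorElement_eq_one_iff_mul_comm.2 (h.cen v hv x)
  have dC : ∀ x ∈ C, ∀ c ∈ C, ⁅x, c⁆ = 1 := fun x hx c hc => commutatorElement_eq_one_iff_mul_comm.2 (hab x hx c hc)
  have cj : ∀ x : X, ∀ v ∈ V, x * v * x⁻¹ = v := fun x v hv => by rw [h.cen v hv x]; group
  have dpi : ∀ x : X, ∀ c ∈ C, ⁅x, c⁆ ^ 2 ^ (j + 1) = 1 := fun x c hc => by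
    rw [← dp x c hc]; exact dV x _ (K.pmem c hc)
  have bm : ∀ x : X, ∀ c ∈ C, ⁅x, c⁆ ^ 2 ^ j ∈ V := fun x c hc =>
    hΩ _ (C.pow_mem (dm x c hc) _) (by rw [← pow_mul, ← pow_succ]; exact dpi x c hc)
  have F : Frm A V C ⊤ (fun x c => ⁅x, c⁆ ^ 2 ^ j) :=
    { yinv := fun _ _ _ _ => trivial
      mem := fun x _ c hc => bm x c hc
      mulr := fun x _ c hc d hd => by
        rw [dr x c hc d hd, Commute.mul_pow (hab _ (dm x c hc) _ (dm x d hd))]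
      mull := fun x _ y _ c hc => by
        rw [dl, Commute.mul_pow (hab _ (hN.conj_mem _ (dm y c hc) x) _ (dm x c hc)), conj_pow, cj x _ (bm y c hc),
          h.cen _ (bm y c hc)]
      eqv := fun β _ x c => by rw [map_pow, map_commutatorElement] }
  have hnc : ∀ x, x ∉ C → ∃ d ∈ C, ⁅x, d⁆ ≠ 1 := fun x hx => by
    by_contra h1
    push Not at h1
    exact hx (hsc x h1)
  have hCt : ¬ (⊤ : Subgroup X) ≤ C := fun h1 => hna ⟨⟨fun x y => hab x (h1 trivial) y (h1 trivial)⟩⟩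
  obtain ⟨x0, -, hx0, hx02, hx0c⟩ := PGrp.exists_mem_central_mod h.act.two C ⊤ hCt
  rcases j with _ | i
  · simp only [pow_zero, pow_one, zero_add] at F K bm
    have hinj : ∀ x, x ∉ C → ∀ c ∈ C, ⁅x, c⁆ = 1 → c ∈ V := fun x hx c hc e => by
      obtain ⟨d, hd, hxd⟩ := hnc x hx
      exact hΩ c hc (K.inj F hc hd e hxd)
    have hsq : ∀ x : X, x ^ 2 ∈ V := by
      intro x
      by_cases hx : x ∈ C
      · exact K.pmem x hx
      · refine hinj x hx _ (hsc _ fun c hc => ?_) (commutatorElement_eq_one_iff_mul_comm.2 (by group))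
        rw [sq]
        have := F.mull x trivial x trivial c hc
        rw [this, ← sq, h.el _ (bm x c hc)]
    refine ⟨⟨h.cen, fun x y => ?_, hsq, h.el⟩, fun z hz => ?_⟩
    · have : ⁅x, y⁆ = x ^ 2 * (x⁻¹ * y) ^ 2 * (y ^ 2)⁻¹ := by simp only [commutatorElement_def, sq]; group
      rw [this]
      exact V.mul_mem (V.mul_mem (hsq _) (hsq _)) (V.inv_mem (hsq _))
    · have h1 := mem_center_iff.1 hz
      exact hinj x0 hx0 z (hsc z fun c _ => commutatorElement_eq_one_iff_mul_comm.2 (h1 c).symm)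
        (commutatorElement_eq_one_iff_mul_comm.2 (h1 x0))
  exfalso
  have star : ∀ x, x ^ 2 ∈ C → ∀ c ∈ C, ⁅x, ⁅x, c⁆⁆ * ⁅x, c⁆ ^ 2 = 1 := by
    intro x hx c hc
    have h1 := dC _ hx c hc
    rw [sq, dl] at h1
    rw [← h1, commutatorElement_def x ⁅x, c⁆, sq]; group
  have vk : ∀ v ∈ V, v ^ 2 ^ (i + 1) = 1 := fun v hv => by rw [pow_succ', pow_mul, h.el v hv, one_pow]
  have dd : ∀ d : X, (d * d) ^ 2 ^ (i + 1) = d ^ 2 ^ (i + 1 + 1) := fun d => by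
    rw [← sq, ← pow_mul, ← pow_succ']
  have stepa : ∀ x, x ^ 2 ∈ C → ∀ c ∈ C, ⁅x, c⁆ ^ 2 ^ (i + 1) = 1 := by
    intro x hx c1 hc1
    by_contra hne
    refine K.not_id F (x := x) hc0 h0 fun c hc => ?_
    obtain ⟨d, hd, e⟩ := K.pker _ (dm x c hc) (dpi x c hc)
    have h1 := star x hx c hc
    have hxd := dm x d hd
    have hdd := C.mul_mem hd hd
    rw [e, dr x d hd d hd, ← sq ⁅x, d⁆, ← Commute.mul_pow (hab _ hxd _ hdd)] at h1
    have h2 := vk _ (hΩ _ (C.mul_mem hxd hdd) h1)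
    rw [Commute.mul_pow (hab _ hxd _ hdd), ← e] at h2
    have h3 : ⁅x, d * c⁆ ^ 2 ^ (i + 1) = 1 := by
      rw [dr x d hd c hc, Commute.mul_pow (hab _ hxd _ (dm x c hc)), h2]
    have h4 := K.inj F (C.mul_mem hd hc) hc1 h3 hne
    have h5 := K.pmul d hd c hc
    rw [h5] at h4
    have h6 := h.el _ (K.pmem c hc)
    simp only [sq] at h6
    show ⁅x, c⁆ ^ 2 ^ (i + 1) = c ^ 2 ^ (i + 1 + 1)
    rw [e, dd]
    exact mul_right_cancel (h4.trans h6.symm)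
  have stepb : ∀ x, x ^ 2 ∈ C → ∀ c ∈ C, ⁅x, c⁆ ∈ V := by
    intro x hx
    have s1 : ∀ c ∈ C, ∃ e ∈ C, ⁅x, c⁆ ^ 2 = ⁅x, e⁆ ^ 4 := by
      intro c hc
      obtain ⟨d, hd, e1⟩ := K.pker _ (dm x c hc) (dpi x c hc)
      obtain ⟨e, he, e2⟩ := K.pker d hd (by
        show d ^ 2 ^ (i + 1 + 1) = 1
        rw [← dd, ← e1]; exact stepa x hx c hc)
      refine ⟨e⁻¹, C.inv_mem he, ?_⟩
      have h1 := star x hx c hc
      have h2 : ⁅x, c⁆ = e ^ 4 := by rw [e1, e2, ← sq, ← sq, ← pow_mul]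
      have h3 : ⁅x, e⁆ * ⁅x, e⁻¹⁆ = 1 := by rw [← dr x e he _ (C.inv_mem he)]; simp
      nth_rewrite 1 [h2] at h1
      rw [dp x e he] at h1
      rw [eq_inv_of_mul_eq_one_right h1, eq_inv_of_mul_eq_one_right h3, inv_pow]
    have s2 : ∀ n : ℕ, ∀ c ∈ C, ∃ e ∈ C, ⁅x, c⁆ ^ 2 = ⁅x, e⁆ ^ 2 ^ (n + 1) := by
      intro n
      induction n with
      | zero => exact fun c hc => ⟨c, hc, by simp⟩
      | succ n ih =>
        intro c hc
        obtain ⟨e, he, h1⟩ := ih c hc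
        obtain ⟨e', he', h2⟩ := s1 e he
        refine ⟨e', he', ?_⟩
        rw [h1, pow_succ', pow_mul, h2, ← pow_mul]
        congr 1; ring
    intro c hc
    obtain ⟨e, he, h1⟩ := s2 (i + 1) c hc
    exact hΩ _ (dm x c hc) (h1.trans (dpi x e he))
  let Y : Subgroup X :=
    { carrier := {x | x ^ 2 ∈ C ∧ ∀ g, ⁅x, g⁆ ∈ C}
      one_mem' := ⟨by simp, fun g => by simp⟩
      mul_mem' := fun {x y} hx hy => ⟨by
        have : (x * y) ^ 2 = (x * ⁅y, x⁆ * x⁻¹) * x ^ 2 * y ^ 2 := by simp only [commutatorElement_def, sq]; group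
        rw [this]
        exact C.mul_mem (C.mul_mem (hN.conj_mem _ (hy.2 x) x) hx.1) hy.1, fun g => by
        rw [dl]; exact C.mul_mem (hN.conj_mem _ (hy.2 g) x) (hx.2 g)⟩
      inv_mem' := fun {x} hx => ⟨by rw [inv_pow]; exact C.inv_mem hx.1, fun g => by
        have : ⁅x⁻¹, g⁆ = x⁻¹ * ⁅x, g⁆⁻¹ * x⁻¹⁻¹ := by simp only [commutatorElement_def]; group
        rw [this]
        exact hN.conj_mem _ (C.inv_mem (hx.2 g)) _⟩ }
  have F' : Frm A V C Y (fun x c => ⁅x, c⁆) :=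
    { yinv := fun β hβ x hx => ⟨by rw [← map_pow]; exact cinv β hβ _ hx.1, fun g => by
        have := cinv β hβ _ (hx.2 (β⁻¹ g))
        rw [map_commutatorElement] at this
        simpa using this⟩
      mem := fun x hx c hc => stepb x hx.1 c hc
      mulr := fun x _ c hc d hd => dr x c hc d hd
      mull := fun x hx y hy c hc => by
        rw [dl, cj x _ (stepb y hy.1 c hc), h.cen _ (stepb y hy.1 c hc)]
      eqv := fun β _ x c => by rw [map_commutatorElement] }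
  obtain ⟨d0, hd0, hxd0⟩ := hnc x0 hx0
  obtain ⟨y, hy, ⟨d1, hd1, hyd⟩, hinj⟩ := K.exists_inj F' (x := x0) ⟨hx02, hx0c⟩ hd0 hxd0
  obtain ⟨e, he, e1⟩ := K.pker _ hy.1 (hinj _ hy.1 (commutatorElement_eq_one_iff_mul_comm.2 (by group)))
  obtain ⟨g, hg, e2⟩ := hsurj _ (stepb y hy.1 _ (C.inv_mem he))
  have hsq0 : ∀ x, x ^ 2 ∈ C → ∀ w ∈ C, ⁅x, w ^ 2⁆ = 1 := fun x hx w hw => by
    rw [dp x w hw, h.el _ (stepb x hx w hw)]
  set d := g ^ 2 ^ (i + 1) with hdd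
  have hd : d ∈ C := C.pow_mem hg _
  have hdi : ⁅y, d⁻¹⁆ = 1 := by
    rw [hdd, pow_succ, pow_mul, ← inv_pow]
    exact hsq0 y hy.1 _ (C.inv_mem (C.pow_mem hg _))
  have e3 : ⁅y, e⁻¹⁆ = d ^ 2 := by rw [← e2, hdd, ← pow_mul, ← pow_succ]
  have hc : (d * e)⁻¹ ∈ C := C.inv_mem (C.mul_mem hd he)
  have ht2 : (y * (d * e)⁻¹) ^ 2 = 1 := by
    have h1 : (y * (d * e)⁻¹) ^ 2 = ⁅y, (d * e)⁻¹⁆ * ((d * e)⁻¹ * y ^ 2) * (d * e)⁻¹ := by
      simp only [commutatorElement_def, sq]; group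
    rw [h1, hab _ hc _ hy.1, mul_inv_rev, dr y _ (C.inv_mem he) _ (C.inv_mem hd), hdi, e3, e1, ← mul_inv_rev, mul_one,
      ← sq e, ← mul_assoc, ← Commute.mul_pow (hab d hd e he), sq]
    group
  have hCY : C ≤ Y := fun c hc => ⟨C.pow_mem hc 2, fun g => by
    rw [← commutatorElement_inv]; exact C.inv_mem (dm g c hc)⟩
  have htY : y * (d * e)⁻¹ ∈ Y := Y.mul_mem hy (hCY hc)
  set t := y * (d * e)⁻¹ with htd
  haveI : V.Normal := PGrp.normal_of_le_center fun v hv => mem_center_iff.2 (h.cen v hv)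
  have htV : t ∈ V := by
    refine hE.mem ⟨PGrp.isMulCommutative_iff_forall.2 fun x _ y hy => h.cen y hy x, h.el⟩ h.four ht2
      (fun u hu => (h.cen u hu t).symm) fun g => ?_
    have hu : ⁅g, t⁆ ∈ C := by rw [← commutatorElement_inv]; exact C.inv_mem (htY.2 g)
    have h1 : ⁅t, ⁅g, t⁆⁆ * ⁅g, t⁆ ^ 2 = 1 := by
      have h2 : (⁅g, t⁆ * ⁅t, ⁅g, t⁆⁆) * ⁅g, t⁆ * t ^ 2 = g * t ^ 2 * g⁻¹ := by
        simp only [commutatorElement_def, sq]; group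
      rw [hab _ hu _ (dm t _ hu), ht2] at h2
      rw [sq, ← mul_assoc]
      simpa using h2
    have h3 : ⁅g, t⁆ ^ 2 ∈ V := by
      rw [eq_inv_of_mul_eq_one_right h1]; exact V.inv_mem (stepb t htY.1 _ hu)
    obtain ⟨w, hw, e4⟩ := K.pker _ hu (by
      show ⁅g, t⁆ ^ 2 ^ (i + 1 + 1) = 1
      rw [← dd, ← sq]; exact vk _ h3)
    have h4 : ⁅t, ⁅g, t⁆⁆ = 1 := by
      nth_rewrite 1 [e4]
      rw [← sq]; exact hsq0 t htY.1 w hw
    rw [h4, one_mul] at h1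
    rw [← commutatorElement_inv]
    exact V.inv_mem (hΩ _ hu h1)
  exact hyd (dC y ((C.mul_mem_cancel_right hc).1 (hVC htV)) d1 hd1)

end Cfsg.Lib.Linear.Scn
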