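import Cfsg.Agent.Lib.Known.SimilarMat

set_option autoImplicit false

namespace Cfsg.Lib.Linear

open Matrix Polynomial

variable {F : Type*} [Field F] {ι κ υ : Type*} [Fintype ι] [DecidableEq ι] [Fintype κ] [DecidableEq κ]

/-- `A` is a product of two matrices with characteristic polynomials `f` and `g`. -/
def CpFac (A : Matrix ι ι F) (f g : F[X]) : Prop :=
  ∃ B D : Matrix ι ι F, A = B * D ∧ B.charpoly = f ∧ D.charpoly = g

theorem CpFac.of_conj {A P Q : Matrix ι ι F} {f g : F[X]} (hPQ : P * Q = 1) (h : CpFac (Q * A * P) f g) :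
    CpFac A f g := by
  have hQP := mul_eq_one_comm.1 hPQ
  obtain ⟨B, D, h, rfl, rfl⟩ := h
  refine ⟨P * B * Q, P * D * Q, ?_, ?_, ?_⟩
  · calc A = P * Q * A * (P * Q) := by simp [hPQ]
      _ = P * (B * (Q * P) * D) * Q := by rw [hQP, mul_one, ← h]; simp only [mul_assoc]
      _ = _ := by simp only [mul_assoc]
  all_goals rw [charpoly_mul_comm, ← mul_assoc, hQP, one_mul]

theorem CpFac.of_reindex {A : Matrix ι ι F} {f g : F[X]} (e : ι ≃ κ) (h : CpFac (reindex e e A) f g) :
    CpFac A f g := by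
  obtain ⟨B, D, h, rfl, rfl⟩ := h
  refine ⟨reindex e.symm e.symm B, reindex e.symm e.symm D, ?_, charpoly_reindex _ _, charpoly_reindex _ _⟩
  rw [reindex_apply, reindex_apply, submatrix_mul_equiv, ← h]
  simp

variable [Fintype υ] [DecidableEq υ] [Unique υ]

theorem blk_eq (b c : F) (hb : b ≠ 0) (hc : c ≠ 0) (y : Matrix υ κ F) (x : Matrix κ υ F) (B D : Matrix κ κ F) :
    fromBlocks ((b * c) • 1) y x (B * D + (b * c)⁻¹ • (x * y)) =
      fromBlocks (b • 1) 0 (c⁻¹ • x) B * fromBlocks (c • 1) (b⁻¹ • y) 0 D := by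
  simp [fromBlocks_multiply, smul_smul, hb, hc, add_comm, mul_comm]

theorem charpoly_smul_one_unique (b : F) : (b • (1 : Matrix υ υ F)).charpoly = X - C b := by
  simp [charpoly, det_unique]

theorem CpFac.blk {b c : F} (hb : b ≠ 0) (hc : c ≠ 0) {y : Matrix υ κ F} {x : Matrix κ υ F} {R : Matrix κ κ F}
    {f g : F[X]} (h : CpFac (R - (b * c)⁻¹ • (x * y)) f g) :
    CpFac (fromBlocks ((b * c) • 1) y x R) ((X - C b) * f) ((X - C c) * g) := by
  obtain ⟨B, D, h, rfl, rfl⟩ := h
  exact ⟨_, _, by rw [← blk_eq b c hb hc, ← h, sub_add_cancel],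
    by rw [charpoly_fromBlocks_zero₁₂, charpoly_smul_one_unique],
    by rw [charpoly_fromBlocks_zero₂₁, charpoly_smul_one_unique]⟩

theorem det_blk {d : F} (hd : d ≠ 0) (y : Matrix υ κ F) (x : Matrix κ υ F) (R : Matrix κ κ F) :
    (fromBlocks (d • 1) y x R).det = d * (R - d⁻¹ • (x * y)).det := by
  have := blk_eq d 1 hd one_ne_zero y x (R - d⁻¹ • (x * y)) 1
  simp only [mul_one, sub_add_cancel] at this
  rw [this, det_mul, det_fromBlocks_zero₁₂, det_fromBlocks_zero₂₁]
  simp

/-- A non-scalar matrix is similar to one with a nonzero off-diagonal entry. -/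
theorem exists_conj_offdiag {A : Matrix ι ι F} (hA : ∀ c : F, A ≠ c • 1) :
    ∃ P Q : Matrix ι ι F, P * Q = 1 ∧ ∃ i j, i ≠ j ∧ (Q * A * P) i j ≠ 0 := by
  by_cases h : ∃ i j, i ≠ j ∧ A i j ≠ 0
  · exact ⟨1, 1, by simp, by simpa using h⟩
  push Not at h
  obtain ⟨i, j, hij⟩ : ∃ i j, A i i ≠ A j j := by
    by_contra! h'
    cases isEmpty_or_nonempty ι with
    | inl _ => exact hA 0 (Subsingleton.elim _ _)
    | inr hn => exact hA (A hn.some hn.some) (by ext i j; by_cases e : i = j <;> simp [e, one_apply, h i j, h' j hn.some])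
  have hne : i ≠ j := by rintro rfl; exact hij rfl
  refine ⟨transvection i j 1, transvection i j (-1), by rw [transvection_mul_transvection_same _ _ hne]; simp, i, j, hne, ?_⟩
  simp [h i j hne, h j i hne.symm, transvection_mul_apply_same]
  exact fun e => hij (by linear_combination e)

theorem exists_blk {d : F} (hd : d ≠ 0) (a : Matrix υ υ F) (y : Matrix υ κ F) {x : Matrix κ υ F} (hx : x ≠ 0)
    (R : Matrix κ κ F) (h0 : (fromBlocks a y x R).det ≠ 0) :
    ∃ (P Q : Matrix (υ ⊕ κ) (υ ⊕ κ) F) (y' : Matrix υ κ F) (R' : Matrix κ κ F), P * Q = 1 ∧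
      Q * fromBlocks a y x R * P = fromBlocks (d • 1) y' x R' ∧
      (1 < Fintype.card κ → ∀ c : F, R' - d⁻¹ • (x * y') ≠ c • 1) := by
  have key : ∀ w : Matrix υ κ F, a + w * x = d • 1 → fromBlocks 1 w 0 1 * fromBlocks a y x R * fromBlocks 1 (-w) 0 1 =
      fromBlocks (d • 1) (y + w * R - d • w) x (R - x * w) := fun w hw => by
    simp [fromBlocks_multiply, hw, sub_eq_add_neg, add_comm]
  have hP : ∀ w : Matrix υ κ F, fromBlocks 1 (-w) 0 1 * fromBlocks 1 w 0 1 = (1 : Matrix (υ ⊕ κ) (υ ⊕ κ) F) := fun w => by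
    simp [fromBlocks_multiply]
  have hS : ∀ w : Matrix υ κ F, R - x * w - d⁻¹ • (x * (y + w * R - d • w)) = R - d⁻¹ • (x * (y + w * R)) := fun w => by
    simp [Matrix.mul_sub, smul_sub, smul_smul, hd]
  obtain ⟨k, hk⟩ : ∃ k, x k default ≠ 0 := by
    by_contra! h; exact hx (by ext i j; rw [Subsingleton.elim j default]; exact h i)
  let w : Matrix υ κ F := single default k ((d - a default default) / x k default)
  have hw : a + w * x = d • 1 := by
    ext i j; rw [Subsingleton.elim j default, Subsingleton.elim i default]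
    simp [w, hk]
  by_cases h : 1 < Fintype.card κ → ∀ c : F, R - d⁻¹ • (x * (y + w * R)) ≠ c • 1
  · exact ⟨_, _, _, _, hP w, key w hw, by rwa [hS]⟩
  push Not at h
  obtain ⟨h1, c, hc⟩ := h
  obtain ⟨l, hl⟩ := Fintype.exists_ne_of_one_lt_card h1 k
  let u : Matrix υ κ F := single default l (x k default) - single default k (x l default)
  have hu : u * x = 0 := by
    ext i j; rw [Subsingleton.elim j default, Subsingleton.elim i default]
    simp [u, Matrix.sub_mul, mul_comm]
  have hc0 : c ≠ 0 := by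
    rintro rfl
    have := congrArg det (key w hw)
    rw [det_mul, det_mul, det_blk hd, hS, hc, det_fromBlocks_zero₂₁, det_fromBlocks_zero₂₁] at this
    have := Fintype.card_pos_iff.1 (one_pos.trans h1)
    simp_all
  have hR : u * R = c • u := by
    have := congrArg (u * ·) hc
    simpa [Matrix.mul_sub, ← Matrix.mul_assoc, hu] using this
  refine ⟨_, _, _, _, hP (w + u), key _ (by rw [Matrix.add_mul, hu, add_zero, hw]), fun _ c' hc' => ?_⟩
  rw [hS, Matrix.add_mul, hR, ← add_assoc, Matrix.mul_add, smul_add, ← sub_sub, hc] at hc'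
  have := congrFun₂ hc' k l
  simp [one_apply, hl.symm, hd, hc0, mul_apply, u, hk, hl] at this

/-- Sourour's factorisation theorem. -/
theorem sourour (n : ℕ) : ∀ {ι : Type} [Fintype ι] [DecidableEq ι], Fintype.card ι = n + 1 →
    ∀ (A : Matrix ι ι F) (β γ : Fin (n + 1) → F), (n ≠ 0 → ∀ c : F, A ≠ c • 1) → A.det = ∏ i, β i * γ i → A.det ≠ 0 →
      CpFac A (∏ i, (X - C (β i))) (∏ i, (X - C (γ i))) := by
  induction n with
  | zero =>
    intro ι _ _ hι A β γ _ h _
    obtain ⟨_⟩ := Fintype.card_eq_one_iff_nonempty_unique.1 hι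
    refine ⟨β 0 • 1, γ 0 • 1, ?_, by simp [charpoly_smul_one_unique], by simp [charpoly_smul_one_unique]⟩
    ext i j; rw [Subsingleton.elim j default, Subsingleton.elim i default]
    simpa [mul_comm] using h
  | succ n ih =>
    intro ι _ _ hι A β γ hA h h0
    obtain ⟨P, Q, hPQ, i, j, hij, h1⟩ := exists_conj_offdiag (hA n.succ_ne_zero)
    have hd : (Q * A * P).det = A.det := by rw [det_mul_comm, ← mul_assoc, hPQ, one_mul]
    refine CpFac.of_conj hPQ ?_
    generalize Q * A * P = B at h1 hd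
    let e := (Equiv.sumCompl (· = j)).symm
    refine CpFac.of_reindex e ?_
    rw [← det_reindex_self e, ← fromBlocks_toBlocks (reindex e e B)] at hd
    rw [← fromBlocks_toBlocks (reindex e e B)]
    have hb := Finset.prod_ne_zero_iff.1 (h ▸ h0) 0 (Finset.mem_univ _)
    obtain ⟨P, Q, y, R, hPQ, h2, h3⟩ := exists_blk hb _ _ (fun h => h1 (congrFun₂ h ⟨i, hij⟩ ⟨j, rfl⟩)) _ (hd ▸ h0)
    refine CpFac.of_conj hPQ ?_
    have h4 := congrArg det h2
    rw [det_mul_comm, ← mul_assoc, hPQ, one_mul, hd, det_blk hb] at h4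
    have hc : Fintype.card {k // ¬ k = j} = n + 1 := by simp [hι]
    rw [h2, Fin.prod_univ_succ, Fin.prod_univ_succ fun i => X - C (γ i)]
    refine CpFac.blk (left_ne_zero_of_mul hb) (right_ne_zero_of_mul hb) (ih hc _ _ _ (fun hn => h3 (by omega)) ?_ ?_)
    · exact mul_left_cancel₀ hb (by rw [← h4, h, Fin.prod_univ_succ])
    · exact right_ne_zero_of_mul (h4 ▸ h0)

open Known in
/-- Elements of `SL` with the same squarefree characteristic polynomial are conjugate. -/
theorem isConj_SL_of_charpoly [Finite F] [Nonempty ι] {g h : SpecialLinearGroup ι F}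
    (hs : Squarefree (g : Matrix ι ι F).charpoly) (he : (g : Matrix ι ι F).charpoly = (h : Matrix ι ι F).charpoly) :
    IsConj g h :=
  have hg := isSS_of_squarefree hs (aeval_self_charpoly _)
  hg.detSurj.isConj (ed_eq_of_isSS hg (isSS_of_squarefree (he ▸ hs) (aeval_self_charpoly _)) he)

end Cfsg.Lib.Linear
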