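import Cfsg.Agent.Lib.Max.Qd

/-!
# Two quadratic root groups with meeting Lagrangian axes
-/

namespace Cfsg.Lib.Linear.SP6

open Module Cfsg.Lib.Forms Cfsg.Lib.Forms.Form Cfsg.Lib.Forms.Qd

theorem cheb {R : Type*} [Ring R] {A B x y τ : R} (hxy : x * y = 1) (hyx : y * x = 1)
    (hτ : x + y = τ) (hA : Commute τ A) (hB : Commute τ B) (n : ℕ) :
    ∃ α β : R, Commute α A ∧ Commute α B ∧ Commute β A ∧
      Commute β B ∧ x ^ n = α + β * x ∧ y ^ n = α + β * y := by
  induction n with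
  | zero => exact ⟨1, 0, by simp, by simp, by simp, by simp, by simp, by simp⟩
  | succ n ih =>
    obtain ⟨α, β, a1, a2, b1, b2, h1, h2⟩ := ih
    refine ⟨-β, α + β * τ, b1.neg_left, b2.neg_left, a1.add_left (b1.mul_left hA),
      a2.add_left (b2.mul_left hB), ?_, ?_⟩
    · rw [pow_succ, h1, ← hτ]
      linear_combination (norm := noncomm_ring) -β * hyx
    · rw [pow_succ, h2, ← hτ]
      linear_combination (norm := noncomm_ring) -β * hxy

theorem exists_unip {F V : Type*} [Field F] [AddCommGroup V] [Module F V] [Finite V] [Finite F]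
    (x : V ≃ₗ[F] V) : ∃ m : ℕ, (m : F) ≠ 0 ∧ IsNilpotent (((x ^ m : V ≃ₗ[F] V) : End F V) - 1) := by
  have : Finite (V ≃ₗ[F] V) := Finite.of_injective _ DFunLike.coe_injective
  obtain ⟨p, hp⟩ := CharP.exists F
  have := Fact.mk (CharP.char_is_prime F p)
  have h0 := (orderOf_pos x).ne'
  refine ⟨ordCompl[p] (orderOf x), fun h => Nat.not_dvd_ordCompl this.out h0
    ((CharP.cast_eq_zero_iff F p _).1 h), ?_⟩
  rcases subsingleton_or_nontrivial V with hV | hV
  · exact ⟨1, Subsingleton.elim _ _⟩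
  have : CharP (End F V) p := charP_of_injective_algebraMap (algebraMap F _).injective p
  refine ⟨p ^ (orderOf x).factorization p, ?_⟩
  rw [sub_pow_char_pow_of_commute _ _ (Commute.one_right _), one_pow, sub_eq_zero]
  change (LinearEquiv.automorphismGroup.toLinearMapMonoidHom _) ^ _ = _
  rw [← map_pow, ← pow_mul, mul_comm, Nat.ordProj_mul_ordCompl_eq_self, pow_orderOf_eq_one, map_one]

variable {F V : Type*} [Field F] [AddCommGroup V] [Module F V] [FiniteDimensional F V]
  {K : Kind (RingHom.id F)} {D : Form K V} {X : Subgroup (V ≃ₗ[F] V)}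

theorem lag [Finite F] (h2 : (2 : F) ≠ 0) (hq : ∀ a b : F, ∃ d, d ≠ 0 ∧ d ≠ a ∧ d ≠ b)
    {A B : End F V} (hA : Root D X A) (hB : Root D X B)
    (h3 : ∀ x, A (B (A x)) = 0 → B (A x) = 0) (h4 : ∀ x, B (A (B x)) = 0 → A (B x) = 0)
    (hk : ∀ x, A x = 0 → ∃ y, x = A y)
    (hmin : ∀ g ∈ X, (∀ x, A x = 0 → B x = 0 → g x = x) → rk (A ∘ₗ g ∘ₗ A) < rk (A ∘ₗ B ∘ₗ A) →
      ∀ x, A (g (A x)) = 0)
    (hZ : ∀ k ∈ X, (∀ x, A (k x - x) = 0) → ∃ γ : F, ∀ x, k x = x + γ • A x)
    (n1 : ∃ x, B (A x) ≠ 0) (n2 : ∃ x ≠ 0, A x = 0 ∧ B x = 0) : False := by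
  classical
  have : Finite V := Module.finite_of_finite F
  have a2 : A * A = 0 := LinearMap.ext hA.sq
  have b2 : B * B = 0 := LinearMap.ext hB.sq
  obtain ⟨C, hC⟩ : ∃ C : End F V, C = A * B + B * A := ⟨_, rfl⟩
  obtain ⟨T, hT⟩ : ∃ T : End F V, T = A * B * A := ⟨_, rfl⟩
  have c0 : ∀ x, C x = A (B x) + B (A x) := fun x => by rw [hC]; rfl
  have t0 : ∀ x, T x = A (B (A x)) := fun x => by rw [hT]; rfl
  have cA : Commute C A := by
    rw [hC]; change _ = _; linear_combination (norm := noncomm_ring) B * a2 - a2 * B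
  have cB : Commute C B := by
    rw [hC]; change _ = _; linear_combination (norm := noncomm_ring) A * b2 - b2 * A
  have cT : ∀ {z : End F V}, Commute z A → Commute z B → Commute z T := fun h h' =>
    hT ▸ (h.mul_right h').mul_right h
  have c1 : ∀ x, C x = 0 → A (B x) = 0 ∧ B (A x) = 0 := fun x hx =>
    ⟨h4 x (by simpa [c0, hB.sq] using congrArg B hx), h3 x (by simpa [c0, hA.sq] using congrArg A hx)⟩
  have c2 : IsCompl (LinearMap.range C) (LinearMap.ker C) :=
    (Submodule.isCompl_iff_disjoint _ _ C.finrank_range_add_finrank_ker.ge).2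
      (Submodule.disjoint_def.2 (by
        rintro _ ⟨x, rfl⟩ hx
        obtain ⟨h5, h6⟩ := c1 _ hx
        simp only [c0, map_add, hA.sq, hB.sq, map_zero, add_zero, zero_add] at h5 h6
        rw [c0, h4 x (h3 _ h5), h3 x (h4 _ h6), add_zero]))
  have dec : ∀ v, ∃ w y, C y = 0 ∧ v = C w + y := fun v => by
    obtain ⟨_, ⟨w, rfl⟩, y, hy, rfl⟩ :=
      Submodule.mem_sup.1 (c2.sup_eq_top.ge (Submodule.mem_top (x := v)))
    exact ⟨w, y, hy, rfl⟩
  have T0 : ∃ x, T x ≠ 0 := n1.imp fun x hx h => hx (h3 x (t0 x ▸ h))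
  let inj : End F V → Prop := fun β => ∀ x, β (T x) = 0 → T x = 0
  have iC : inj C := fun x hx => by
    have h5 := (c1 _ hx).1
    rw [t0] at h5 ⊢
    exact h4 _ (h3 _ h5)
  have im : ∀ {β γ : End F V}, inj β → inj γ → Commute γ T → inj (β * γ) :=
    fun {β γ} hβ hγ hc x hx => by
      have h5 : γ (T x) = T (γ x) := LinearMap.congr_fun hc.eq x
      exact hγ x (h5.trans (hβ _ (h5 ▸ hx)))
  have drop : ∀ g ∈ X, (∀ x, A x = 0 → B x = 0 → g x = x) → ∀ β : End F V,
      A * (g : End F V) * A = β * T → inj β ∨ β * T = 0 := fun g hg h1 β h5 => by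
    by_cases h6 : rk (A ∘ₗ g ∘ₗ A) < rk (A ∘ₗ B ∘ₗ A)
    · exact Or.inr (h5 ▸ LinearMap.ext (hmin g hg h1 h6))
    · refine Or.inl fun x hx => ker_of_rk_le (A := T) (B := β * T) (fun x hx => by simp [hx]) ?_ hx
      rw [← h5, hT]; exact not_lt.1 h6
  choose t ht t1 t2 using fun c : F => hA.exists (c := c) rfl
  obtain ⟨r, hr, r1, r2⟩ := hB.exists (c := 1) rfl
  have t3 : ∀ c, (t c : End F V) = 1 + c • A := fun c => LinearMap.ext (t1 c)
  have t4 : ∀ c, (((t c)⁻¹ : V ≃ₗ[F] V) : End F V) = 1 - c • A := fun c => LinearMap.ext (t2 c)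
  have r3 : (r : End F V) = 1 + B := LinearMap.ext fun x => by simp [r1]
  have r4 : ((r⁻¹ : V ≃ₗ[F] V) : End F V) = 1 - B := LinearMap.ext fun x => by simp [r2]
  have e1 : ∀ s : F, inj (2 + s • C) ∨ (2 + s • C) * T = 0 := fun s =>
    drop (r * t s * r) (X.mul_mem (X.mul_mem hr (ht s)) hr) (fun x h5 h6 => by
      simp [r1, t1, h5, h6]) _ (by
      rw [LinearEquiv.coe_toLinearMap_mul, LinearEquiv.coe_toLinearMap_mul, r3, t3, hC, hT]
      simp only [mul_add, add_mul, mul_smul_comm, smul_mul_assoc, mul_one, one_mul, mul_assoc, a2, b2,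
        ← mul_assoc A A, ← mul_assoc B B, zero_mul, mul_zero, smul_zero, add_zero, zero_add, two_mul]
      abel)
  obtain ⟨y₀, y1, y2⟩ : ∃ y, C y = 0 ∧ A y ≠ 0 := by
    obtain ⟨v, v0, v1, v2⟩ := n2
    obtain ⟨y, rfl⟩ := hk v v1
    obtain ⟨w, y, hy, rfl⟩ := dec y
    refine ⟨y, hy, fun h => v0 ?_⟩
    have h5 : A (C w + y) = T w := by simp [h, c0, t0, hA.sq]
    rw [h5] at v1 v2 ⊢
    exact iC w (by simp [c0, v1, v2])
  obtain ⟨d, d0, d1, d2⟩ : ∃ d : F, d ≠ 0 ∧ inj (2 + (d / 2) • C) ∧ B y₀ + d • A y₀ ≠ 0 := by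
    obtain ⟨a, ha⟩ : ∃ a : F, ∀ d, d ≠ a → inj (2 + (d / 2) • C) := by
      by_cases h : ∃ a : F, (2 + (a / 2) • C) * T = 0
      swap
      · exact ⟨0, fun d _ => (e1 _).resolve_right fun h' => h ⟨d, h'⟩⟩
      obtain ⟨a, ha⟩ := h
      refine ⟨a, fun d hd => (e1 _).resolve_right fun h' => ?_⟩
      obtain ⟨x, hx⟩ := T0
      have h5 := LinearMap.congr_fun ha x
      have h6 := LinearMap.congr_fun h' x
      simp only [End.mul_apply, LinearMap.add_apply, LinearMap.smul_apply, LinearMap.zero_apply] at h5 h6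
      have h7 : ((d - a) / 2) • C (T x) = 0 := by linear_combination (norm := module) h6 - h5
      exact hx (iC x ((smul_eq_zero.1 h7).resolve_left (div_ne_zero (sub_ne_zero.2 hd) h2)))
    obtain ⟨b, hb⟩ : ∃ b : F, ∀ d, d ≠ b → B y₀ + d • A y₀ ≠ 0 := by
      by_cases h : ∃ b : F, B y₀ + b • A y₀ = 0
      swap
      · exact ⟨0, fun d _ h' => h ⟨d, h'⟩⟩
      obtain ⟨b, hb⟩ := h
      exact ⟨b, fun d hd h' => y2 ((smul_eq_zero.1 (show (d - b) • A y₀ = 0 by
        linear_combination (norm := module) h' - hb)).resolve_left (sub_ne_zero.2 hd))⟩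
    obtain ⟨d, d0, d1, d2⟩ := hq a b
    exact ⟨d, d0, ha d d1, hb d d2⟩
  obtain ⟨x, hx⟩ : ∃ x, x = r * t d := ⟨_, rfl⟩
  have xX : x ∈ X := hx ▸ X.mul_mem hr (ht d)
  have x1 : (x : End F V) = (1 + B) * (1 + d • A) := by
    rw [hx, LinearEquiv.coe_toLinearMap_mul, r3, t3]
  have x2 : ((x⁻¹ : V ≃ₗ[F] V) : End F V) = (1 - d • A) * (1 - B) := by
    rw [hx, mul_inv_rev, LinearEquiv.coe_toLinearMap_mul, r4, t4]
  have x3 : (x : End F V) * ((x⁻¹ : V ≃ₗ[F] V) : End F V) = 1 := by
    rw [← LinearEquiv.coe_toLinearMap_mul, mul_inv_cancel]; rfl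
  have x4 : ((x⁻¹ : V ≃ₗ[F] V) : End F V) * (x : End F V) = 1 := by
    rw [← LinearEquiv.coe_toLinearMap_mul, inv_mul_cancel]; rfl
  have x5 : (x : End F V) + ((x⁻¹ : V ≃ₗ[F] V) : End F V) = 2 + d • C := by
    rw [x1, x2, hC]
    simp only [mul_add, add_mul, mul_sub, sub_mul, mul_smul_comm, smul_mul_assoc, mul_one, one_mul,
      smul_add]
    rw [← one_add_one_eq_two]; abel
  obtain ⟨m, m0, m1⟩ := exists_unip x
  obtain ⟨α, β, α1, α2, β1, β2, u1, u2⟩ := cheb (A := A) (B := B) x3 x4 x5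
    ((Commute.ofNat_left 2 A).add_left (cA.smul_left d))
    ((Commute.ofNat_left 2 B).add_left (cB.smul_left d)) m
  have pw : ∀ (g : V ≃ₗ[F] V) (n : ℕ), ((g ^ n : V ≃ₗ[F] V) : End F V) = (g : End F V) ^ n :=
    fun g n => map_pow (LinearEquiv.automorphismGroup.toLinearMapMonoidHom (R := F) (M := V)) g n
  have fx : ∀ v, A v = 0 → B v = 0 → (x ^ m) v = v := fun v h5 h6 => by
    have : x v = v := by simp [hx, r1, t1, h5, h6]
    generalize m = n
    induction n with
    | zero => rfl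
    | succ n ih => rw [pow_succ, LinearEquiv.mul_apply, this, ih]
  have kx : ∀ y, C y = 0 → (x ^ m) y = y + (m : F) • (B y + d • A y) := fun y hy => by
    have k1 : ∀ y, C y = 0 → x y = y + (B y + d • A y) := fun y hy => by
      simp only [hx, LinearEquiv.mul_apply, r1, t1, one_smul, map_add, map_smul, (c1 y hy).2]; module
    have k2 : C (B y + d • A y) = 0 := by
      simp [c0, hA.sq, hB.sq, (c1 y hy).1, (c1 y hy).2]
    generalize m = n
    induction n with
    | zero => simp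
    | succ n ih =>
      rw [pow_succ', LinearEquiv.mul_apply, ih, map_add, map_smul, k1 y hy, k1 _ k2]
      simp only [map_add, map_smul, hA.sq, hB.sq, (c1 y hy).1, (c1 y hy).2, Nat.cast_succ]
      module
  rw [← pw] at u1 u2
  rw [inv_pow] at u2
  obtain ⟨u, hu⟩ : ∃ u, u = x ^ m := ⟨_, rfl⟩
  have uX : u ∈ X := hu ▸ X.pow_mem xX m
  rw [← hu] at u1 u2 m1 fx kx
  have u3 : (u : End F V) * ((u⁻¹ : V ≃ₗ[F] V) : End F V) = 1 := by
    rw [← LinearEquiv.coe_toLinearMap_mul, mul_inv_cancel]; rfl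
  have u4 : ((u⁻¹ : V ≃ₗ[F] V) : End F V) * (u : End F V) = 1 := by
    rw [← LinearEquiv.coe_toLinearMap_mul, inv_mul_cancel]; rfl
  have cx : ∀ {z : End F V}, Commute z A → Commute z B → Commute z (x : End F V) ∧
      Commute z ((x⁻¹ : V ≃ₗ[F] V) : End F V) := fun h h' => by
    rw [x1, x2]
    exact ⟨((Commute.one_right _).add_right h').mul_right
      ((Commute.one_right _).add_right (h.smul_right d)), ((Commute.one_right _).sub_right
      (h.smul_right d)).mul_right ((Commute.one_right _).sub_right h')⟩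
  generalize ((u⁻¹ : V ≃ₗ[F] V) : End F V) = u' at u2 u3 u4
  generalize ((x⁻¹ : V ≃ₗ[F] V) : End F V) = x' at x2 x3 x4 x5 u2 cx
  have e2 : β * T = 0 := by
    refine (drop u uX fx β ?_).resolve_left fun h5 => ?_
    · have h6 : A * (x : End F V) * A = T := by
        rw [x1, hT]
        simp only [mul_add, add_mul, mul_smul_comm, smul_mul_assoc, mul_one, one_mul, mul_assoc, a2,
          mul_zero, smul_zero, add_zero, zero_add]
      rw [u1, ← h6]
      linear_combination (norm := noncomm_ring) α * a2 - α1.eq * A - β1.eq * x * A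
    have h6 : IsNilpotent ((u : End F V) - u') := by
      rw [show (u : End F V) - u' = (1 + u') * (u - 1) by
        linear_combination (norm := noncomm_ring) -u4]
      refine Commute.isNilpotent_mul_left ?_ m1
      change _ = _
      linear_combination (norm := noncomm_ring) u4 - u3
    have h7 : ((u : End F V) - u') ^ 2 = β * β * ((2 * d) • C * (2 + (d / 2) • C)) := by
      have h8 : (2 * d) • C * (2 + (d / 2) • C) = (2 + d • C) * (2 + d • C) - 4 := by
        ext v
        simp only [End.mul_apply, LinearMap.add_apply, LinearMap.smul_apply, LinearMap.sub_apply,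
          map_add, map_smul, End.ofNat_apply, map_nsmul]
        match_scalars <;> field_simp <;> ring
      rw [h8, ← x5, u1, u2]
      linear_combination (norm := noncomm_ring) -β * ((cx β1 β2).1.eq - (cx β1 β2).2.eq) * (x - x') -
        2 * β * β * x3 - 2 * β * β * x4
    obtain ⟨n, hn⟩ := h6.pow_succ 1
    rw [h7] at hn
    have hC2 : Commute ((2 * d) • C * (2 + (d / 2) • C)) T :=
      ((cT cA cB).smul_left _).mul_left ((Commute.ofNat_left 2 T).add_left ((cT cA cB).smul_left _))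
    have h9 : inj (β * β * ((2 * d) • C * (2 + (d / 2) • C))) :=
      im (im h5 h5 (cT β1 β2)) (im (fun v hv => iC v (by simpa [h2, d0] using hv)) d1
        ((Commute.ofNat_left 2 T).add_left ((cT cA cB).smul_left _))) hC2
    have h10 : ∀ n : ℕ, inj ((β * β * ((2 * d) • C * (2 + (d / 2) • C))) ^ n) := fun n => by
      induction n with
      | zero => exact fun v hv => hv
      | succ n ih =>
        rw [pow_succ]
        exact im ih h9 (((cT β1 β2).mul_left (cT β1 β2)).mul_left hC2)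
    obtain ⟨v, hv⟩ := T0
    exact hv (h10 n v (by rw [hn]; rfl))
  have e3 : β * (C * C) = 0 := by
    have : C * C = T * B + B * T := by
      rw [hC, hT]
      linear_combination (norm := noncomm_ring) A * b2 * A + B * a2 * B
    rw [this]
    linear_combination (norm := noncomm_ring) e2 * B + β2.eq * T + B * e2
  have e4 : ((u : End F V) - 1) * (C * C) = 0 := by
    have h5 : IsUnit ((u : End F V) - 1 + 2) := by
      refine m1.isUnit_add_right_of_commute ?_ (Commute.ofNat_right _ 2)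
      rw [show (2 : End F V) = algebraMap F _ 2 by rw [map_ofNat]]
      exact (IsUnit.mk0 _ h2).map _
    refine h5.mul_right_eq_zero.1 ?_
    have h6 : ((u : End F V) - u') * (C * C) = 0 := by
      rw [u1, u2]
      linear_combination (norm := noncomm_ring) ((cx β1 β2).1.eq - (cx β1 β2).2.eq) * (C * C) +
        (x - x') * e3
    linear_combination (norm := noncomm_ring) u * h6 + u3 * (C * C)
  have e5 : ∀ w, u (C w) = C w := fun w => by
    obtain ⟨w, y, hy, rfl⟩ := dec w
    simpa [hy, sub_eq_zero] using LinearMap.congr_fun e4 w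
  obtain ⟨γ, hγ⟩ := hZ u uX fun v => by
    obtain ⟨w, y, hy, rfl⟩ := dec v
    simp [e5, kx y hy, hA.sq, (c1 y hy).1]
  obtain ⟨v, hv⟩ := T0
  have e6 := hγ (C v)
  rw [e5, show A (C v) = T v by simp [c0, t0, hA.sq]] at e6
  obtain rfl : γ = 0 := by simpa [hv] using e6
  have e7 := hγ y₀
  rw [kx y₀ y1] at e7
  rw [zero_smul, add_right_inj, smul_eq_zero] at e7
  exact e7.elim m0 d2

end Cfsg.Lib.Linear.SP6
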