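import Cfsg.Agent.Lib.Max.Qd
import Cfsg.Agent.Lib.Max.C3H

/-!
# The stabiliser of a pair of complementary Lagrangians is maximal in `Sp_{2m}(q)`, `m ≥ 3`, `q` odd
-/

namespace Cfsg.Lib.Linear.SP6

open Module Cfsg.Lib.Forms Cfsg.Lib.Forms.Form Cfsg.Lib.Forms.Qd

variable {F V : Type*} [Field F] [AddCommGroup V] [Module F V] {D : Form (altKind F) V}

variable (D) in
/-- The symmetric product `a · b` as an operator. -/
def sy (a b : V) : V →ₗ[F] V := (D.B b).smulRight a + (D.B a).smulRight b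

theorem sy_apply (a b x : V) : sy D a b x = D.B b x • a + D.B a x • b := rfl

theorem sy_comm (a b : V) : sy D a b = sy D b a := add_comm _ _

theorem cj_sy {g : V ≃ₗ[F] V} (hg : g ∈ D.isom) (a b : V) :
    cj g (sy D a b) = sy D (g a) (g b) := by
  ext x
  obtain ⟨x, rfl⟩ := g.surjective x
  simp [sy_apply, lin_inv_apply, hg.B_map]

theorem sy_sy {a b c d : V} (h1 : D.B a c = 0) (h2 : D.B a d = 0) (h3 : D.B b c = 0)
    (h4 : D.B b d = 0) (x : V) : sy D a b (sy D c d x) = 0 := by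
  simp [sy_apply, h1, h2, h3, h4]

theorem sy_skew (a b : V) : Skew D (sy D a b) := fun x y => by
  simp only [sy_apply, D.B_lin, RingHom.id_apply, Symp.B_symm D a x, Symp.B_symm D b x]; ring

theorem eich_sy {a b : V} (h : D.IsEich a b 0) (x : V) :
    (D.eich a b 0 h).1 x = x + sy D a b x := by
  simp [eich_apply, sy_apply, add_assoc]

variable (D) in
/-- An overgroup of the stabiliser of a pair of complementary Lagrangians. -/
structure PS (W W' : Submodule F V) (X : Subgroup (V ≃ₗ[F] V)) : Prop where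
  dual : D.IsDual W W'
  sup : W ⊔ W' = ⊤
  nd : D.Nondeg
  two : (2 : F) ≠ 0
  dim : 3 ≤ finrank F W
  le : X ≤ D.isom
  inf : D.E ⊓ (D.stab W ⊓ D.stab W') ≤ X.subgroupOf D.isom
  no : ∀ e, e ∈ W ∨ e ∈ W' → e ≠ 0 → ¬ D.At (X.subgroupOf D.isom) ⊤ e

variable [FiniteDimensional F V] {W W' : Submodule F V} {X : Subgroup (V ≃ₗ[F] V)}

namespace PS

theorem symm (h : PS D W W' X) : PS D W' W X :=
  ⟨h.dual.symm, by rw [sup_comm, h.sup], h.nd, h.two, h.dual.finrank_eq h.nd ▸ h.dim, h.le,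
    by rw [inf_comm (D.stab W')]; exact h.inf, fun e he => h.no e he.symm⟩

variable (h : PS D W W' X)
include h

omit [FiniteDimensional F V] in
theorem BW {a b : V} (ha : a ∈ W) (hb : b ∈ W) : D.B a b = 0 := h.dual.left.B_eq _ ha _ hb

omit [FiniteDimensional F V] in
theorem zero {x : V} (h1 : x ∈ W) (h2 : x ∈ W') : x = 0 :=
  Submodule.disjoint_def.1 h.dual.disj x h1 (h.dual.right.le_perp h2)

theorem eich_mem {a b : V} (ha : a ∈ W) (hb : b ∈ W') (hab : D.B a b = 0) :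
    ∃ k ∈ X, ∀ x, k x = x + sy D a b x :=
  ⟨_, h.inf ⟨eich_mem_E _ _ _ (h.dual.isEich ha hb hab), h.dual.eich_mem_stab ha hb _⟩,
    eich_sy (h.dual.isEich ha hb hab)⟩

theorem root {a b : V} (ha : a ∈ W) (hb : b ∈ W') (hab : D.B a b = 0) (c : F) :
    HasU X (c • sy D a b) :=
  HasU.congr (h.eich_mem ha (W'.smul_mem c hb) (by simp [hab])) fun x => by
    simp [sy_apply, smul_smul, mul_comm]

omit h [FiniteDimensional F V] in
theorem mem_zSet {e z : V} (hz : D.B e z = 0) {c : F} (H : HasU X (c • sy D e z)) :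
    c • z ∈ zSet (X.subgroupOf D.isom) e (alt_Q _ _) :=
  ⟨0, Symp.isEich (by simp [hz]) 0, H.mem fun x => by
    simp [eich_sy, sy_apply, smul_smul, mul_comm]⟩

theorem not_root {e w : V} (he : e ∈ W) (h0 : e ≠ 0) (hw : w ∈ W) (hew : w ∉ F ∙ e)
    (H : ∀ c : F, c • w ∈ zSet (X.subgroupOf D.isom) e (alt_Q _ _)) : False :=
  h.no e (Or.inl he) h0 (h.dual.at_of_zSet h.sup h.nd (Symp.comm h.two)
    (by have := h.dim; omega) h.inf he h0 hw hew H)

theorem not_tv {e : V} (he : e ∈ W) (h0 : e ≠ 0) (H : ∀ c : F, HasU X (c • sy D e e)) : False := by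
  obtain ⟨a, ha, hae⟩ := exists_not_mem_of_finrank_lt (U := W) (W := F ∙ e) (by
    have := finrank_span_singleton_le (F := F) e; have := h.dim; omega)
  have h1 : e ∉ F ∙ a := fun h1 => by
    obtain ⟨c, rfl⟩ := Submodule.mem_span_singleton.1 h1
    have hc : c ≠ 0 := by rintro rfl; simp at h0
    exact hae (Submodule.mem_span_singleton.2 ⟨c⁻¹, by simp [hc]⟩)
  have k : ∀ t c : F, HasU X (c • sy D (e + t • a) (e + t • a)) := fun t c => by
    obtain ⟨b, hb, hb', hB⟩ := h.dual.exists_B_eq h.sup h.nd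
      ((Submodule.span_singleton_le_iff_mem _ _).2 ha) he h1 t
    obtain ⟨k, hk, k1⟩ := h.eich_mem ha hb (D.mem_perp_span_singleton.1 hb')
    have k2 : k e = e + t • a := by rw [k1, sy_apply, hB, h.BW ha he]; simp
    exact ((H c).conj hk).congr fun x => by
      rw [← k2, ← cj_sy (h.le hk)]; simp
  have h4 : (4 : F) ≠ 0 := by
    have := mul_ne_zero h.two h.two; norm_num at this; exact this
  have m : ∀ t : F, e + t • a ∈ W := fun t => add_mem he (W.smul_mem t ha)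
  have m' : ∀ s t : F, ∀ x, sy D (e + s • a) (e + s • a) (sy D (e + t • a) (e + t • a) x) = 0 :=
    fun s t => sy_sy (h.BW (m _) (m _)) (h.BW (m _) (m _)) (h.BW (m _) (m _)) (h.BW (m _) (m _))
  refine h.not_root he h0 ha hae fun c => mem_zSet (h.BW he ha) (((k 1 (c / 4)).sub (k (-1) (c / 4))
    (fun x => by simp only [LinearMap.smul_apply, map_smul, m', smul_zero])
    (fun x => by simp only [LinearMap.smul_apply, map_smul, m', smul_zero])).congr fun x => ?_)
  simp only [LinearMap.smul_apply, LinearMap.sub_apply, sy_apply, D.B_lin, RingHom.id_apply]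
  match_scalars <;> field_simp <;> ring

theorem key {e z : V} (he : e ∈ W) (h0 : e ≠ 0) (hz : D.B e z = 0)
    (H : ∀ c : F, HasU X (c • sy D e z)) : z ∈ W' := by
  obtain ⟨w, hw, w', hw', rfl⟩ := exists_add_of_sup h.sup z
  have h1 : D.B e w' = 0 := by simpa [h.BW he hw] using hz
  by_cases h2 : w ∈ F ∙ e
  swap
  · exact (h.not_root he h0 hw h2 fun c => by
      simpa using sub_mem (mem_zSet hz (H c)) (mem_zSet h1 (h.root he hw' h1 c))).elim
  obtain ⟨t, rfl⟩ := Submodule.mem_span_singleton.1 h2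
  rcases eq_or_ne t 0 with rfl | ht
  · simpa using hw'
  refine (h.not_tv he h0 fun c => (((H (c / t)).sub (h.root he hw' h1 (c / t))
    (fun x => ?_) fun x => ?_).congr fun x => ?_)).elim
  · simp [sy_apply, Symp.B_self, h1, D.eq_zero_symm h1]
  · simp [sy_apply, Symp.B_self, h1, D.eq_zero_symm h1]
  · simp only [LinearMap.smul_apply, LinearMap.sub_apply, sy_apply, D.B_lin, RingHom.id_apply]
    match_scalars <;> field_simp <;> ring

theorem key' {a b : V} (ha : a ∈ W) (hb : b ∈ W') (hab : D.B a b = 0) {g : V ≃ₗ[F] V} (hg : g ∈ X)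
    (c : F) : HasU X (c • sy D (g a) (g b)) :=
  ((h.root ha hb hab c).conj hg).congr fun x => by rw [← cj_sy (h.le hg)]; simp

/-- An element moving one vector of `W` into a member of the pair permutes the pair. -/
theorem maps {Y Y' : Submodule F V} (h' : PS D Y Y' X) {g : V ≃ₗ[F] V} (hg : g ∈ X) {a : V}
    (ha : a ∈ W) (h0 : a ≠ 0) (H : g a ∈ Y) : (∀ x ∈ W, g x ∈ Y) ∧ ∀ x ∈ W', g x ∈ Y' := by
  have k : ∀ a ∈ W, a ≠ 0 → g a ∈ Y → ∀ b ∈ W', D.B a b = 0 → g b ∈ Y' := fun a ha h0 H b hb hab =>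
    h'.key H (by simpa using h0) (by rw [(h.le hg).B_map, hab]) (h.key' ha hb hab hg)
  have k1 : ∀ x ∈ W, g x ∈ Y := fun x hx => by
    obtain ⟨b, hb, b0, hφ⟩ := exists_ne_zero_kers W' [D.B a, D.B x] (by have := h.symm.dim; simp; omega)
    simp only [List.forall_mem_cons, List.not_mem_nil, IsEmpty.forall_iff, implies_true,
      and_true] at hφ
    exact h'.symm.key (k a ha h0 H b hb hφ.1) (by simpa using b0)
      (by rw [(h.le hg).B_map, D.eq_zero_symm hφ.2]) fun c => by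
        rw [sy_comm]; exact h.key' hx hb hφ.2 hg c
  refine ⟨k1, fun x hx => ?_⟩
  obtain ⟨w, hw, w0, hφ⟩ := exists_ne_zero_kers W [D.B x] (by have := h.dim; simp; omega)
  exact k w hw w0 (k1 w hw) x hx (D.eq_zero_symm (by simpa using hφ))

omit h in
variable (D W W') in
/-- The stabiliser of the pair. -/
def pr : Subgroup (V ≃ₗ[F] V) := (D.dec ![W, W']).map D.isom.subtype

theorem mem_pr {g : V ≃ₗ[F] V} (hg : g ∈ D.isom) : g ∈ pr D W W' ↔
    ((∀ x ∈ W, g x ∈ W) ∧ ∀ x ∈ W', g x ∈ W') ∨ ((∀ x ∈ W, g x ∈ W') ∧ ∀ x ∈ W', g x ∈ W) := by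
  have hf := h.dual.finrank_eq h.nd
  have k : ∀ {A B : Submodule F V}, finrank F A = finrank F B → (∀ x ∈ A, g x ∈ B) →
      A.map (g : V →ₗ[F] V) = B := fun {A B} h1 h2 =>
    Submodule.eq_of_le_of_finrank_eq (by rintro _ ⟨x, hx, rfl⟩; exact h2 x hx)
      ((LinearEquiv.finrank_map_eq g A).trans h1)
  have k' : ∀ {A B : Submodule F V}, A.map (g : V →ₗ[F] V) = B → ∀ x ∈ A, g x ∈ B :=
    fun {A B} h1 x hx => h1 ▸ Submodule.mem_map_of_mem hx
  constructor
  · rintro ⟨g', ⟨π, hπ⟩, rfl⟩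
    have h0 := hπ 0
    have h1 := hπ 1
    have h2 : π 0 ≠ π 1 := π.injective.ne (by simp)
    generalize π 0 = i at h0 h2
    generalize π 1 = j at h1 h2
    fin_cases i <;> fin_cases j
    · exact absurd rfl h2
    · exact Or.inl ⟨k' h0, k' h1⟩
    · exact Or.inr ⟨k' h0, k' h1⟩
    · exact absurd rfl h2
  · rintro (⟨h1, h2⟩ | ⟨h1, h2⟩)
    · exact ⟨⟨g, hg⟩, ⟨1, Fin.forall_fin_two.2 ⟨k rfl h1, k rfl h2⟩⟩, rfl⟩
    · exact ⟨⟨g, hg⟩, ⟨Equiv.swap 0 1, Fin.forall_fin_two.2 ⟨k hf h1, k hf.symm h2⟩⟩, rfl⟩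

theorem mem_of_map {g : V ≃ₗ[F] V} (hg : g ∈ X) {a : V} (ha : a ∈ W) (h0 : a ≠ 0)
    (H : g a ∈ W ∨ g a ∈ W') : g ∈ pr D W W' :=
  (h.mem_pr (h.le hg)).2 (H.imp (h.maps h hg ha h0) (h.maps h.symm hg ha h0))

theorem coef {a b : V} (ha : a ∈ W) (hb : b ∈ W') (hab : D.B a b = 0) (a0 : a ≠ 0) (b0 : b ≠ 0)
    {α γ : F} (H : ∀ c : F, HasU X (c • (α • sy D a a + γ • sy D b b))) : γ = 0 := by
  obtain ⟨b', hb', h1, h2⟩ := exists_not_mem_kers W' (F ∙ b) [D.B a] (by
    have := finrank_span_singleton_le (F := F) b; have := h.symm.dim; simp; omega)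
  have h3 : D.B a b' = 0 := h2 _ (by simp)
  have b1 : b' ≠ 0 := by rintro rfl; simp at h1
  have h4 : b ∉ F ∙ b' := fun h4 => by
    obtain ⟨c, rfl⟩ := Submodule.mem_span_singleton.1 h4
    have hc : c ≠ 0 := by rintro rfl; simp at b0
    exact h1 (Submodule.mem_span_singleton.2 ⟨c⁻¹, by simp [hc]⟩)
  obtain ⟨a', ha', h5, h6⟩ := h.symm.dual.exists_B_eq h.symm.sup h.nd
    ((Submodule.span_singleton_le_iff_mem _ _).2 hb') hb h4 1
  rw [D.mem_perp_span_singleton] at h5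
  obtain ⟨k, hk, k1⟩ := h.symm.eich_mem hb' ha' h5
  have k2 : k a = a := by rw [k1, sy_apply, h.BW ha' ha, D.eq_zero_symm h3]; simp
  have k3 : k b = b + b' := by rw [k1, sy_apply, h6, h.symm.BW hb' hb]; simp
  have e1 := h.symm.BW hb hb'
  have e2 := h.symm.BW hb' hb
  have H' : ∀ c : F, HasU X (c • (α • sy D a a + γ • sy D (b + b') (b + b'))) := fun c =>
    ((H c).conj hk).congr fun x => by
      rw [← k3]
      conv_lhs => rw [← k2]
      simp [← cj_sy (h.le hk)]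
  have h7 := h.symm.key hb' b1 (z := γ • (b' + (2 : F) • b)) (by simp [Symp.B_self, e2]) fun c =>
    ((H' c).sub (H c) (fun x => by
      simp [sy_apply, Symp.B_self, hab, D.eq_zero_symm hab, e2, D.eq_zero_symm h3])
      (fun x => by simp [sy_apply, Symp.B_self, hab, D.eq_zero_symm hab])).congr fun x => by
      simp only [LinearMap.smul_apply, LinearMap.sub_apply, LinearMap.add_apply, sy_apply, D.B_lin,
        RingHom.id_apply]
      module
  have h8 := h.zero h7 (W'.smul_mem _ (add_mem hb' (W'.smul_mem _ hb)))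
  refine (smul_eq_zero.1 h8).resolve_right fun h9 => h1 (Submodule.mem_span_singleton.2 ⟨-2, ?_⟩)
  linear_combination (norm := module) -h9

theorem indep {a b : V} (ha : a ∈ W) (hb : b ∈ W') (a0 : a ≠ 0) (b0 : b ≠ 0) :
    (∃ x, sy D a b x = a) ∧ ∃ x, sy D a b x = b := by
  obtain ⟨x, hx, -, h1⟩ := h.symm.dual.exists_B_eq h.symm.sup h.nd bot_le hb (by simpa) 1
  obtain ⟨y, hy, -, h2⟩ := h.dual.exists_B_eq h.sup h.nd bot_le ha (by simpa) 1
  exact ⟨⟨-x, by simp [sy_apply, h.BW ha hx, Symp.B_symm D x b, h1]⟩,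
    ⟨-y, by simp [sy_apply, h.symm.BW hb hy, Symp.B_symm D y a, h2]⟩⟩

omit h in
variable (D W W') in
/-- The root elements of the stabiliser. -/
def rt : Set (V →ₗ[F] V) :=
  {N | ∃ a ∈ W, ∃ b ∈ W', a ≠ 0 ∧ b ≠ 0 ∧ D.B a b = 0 ∧ N = sy D a b}

theorem comp {Y Y' : Submodule F V} (h' : PS D Y Y' X) {u v : V} (h1 : ∀ x ∈ Y, sy D u v x ∈ Y)
    (hu : u ∉ Y) : v ∈ Y := by
  obtain ⟨u₁, a1, u₂, a2, rfl⟩ := exists_add_of_sup h'.sup u
  obtain ⟨v₁, b1, v₂, b2, rfl⟩ := exists_add_of_sup h'.sup v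
  obtain ⟨x, hx, -, h2⟩ := h'.symm.dual.exists_B_eq h'.symm.sup h'.nd bot_le a2
    (by rintro rfl; exact hu (by simpa using a1)) 1
  have h3 := h1 x hx
  simp only [sy_apply, D.B_lin, h'.BW a1 hx, h'.BW b1 hx, Symp.B_symm D x u₂, h2, zero_add] at h3
  have h4 : D.B v₂ x • u₂ - v₂ = 0 := h'.zero (by
    convert add_mem (sub_mem h3 (Y.smul_mem (D.B v₂ x) a1)) b1 using 1; module)
    (sub_mem (Y'.smul_mem _ a2) b2)
  have h5 := congrArg (D.B x) h4
  simp only [D.B_lin, h2, Symp.B_symm D x v₂, RingHom.id_apply] at h5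
  have h6 : D.B v₂ x = 0 := by
    rw [Symp.B_symm, neg_eq_zero]
    exact (mul_eq_zero.1 (by linear_combination -h5)).resolve_left h'.two
  rw [h6, zero_smul, zero_sub, neg_eq_zero] at h4
  simpa [h4] using b1

theorem uniq : Uniq D X (pr D W W') (rt D W W') := by
  refine ⟨h.nd, h.le, ?_, ?_, ?_⟩
  · rintro _ ⟨a, ha, b, hb, -, -, hab, rfl⟩
    exact ⟨sy_sy (Symp.B_self _ _) hab (D.eq_zero_symm hab) (Symp.B_self _ _), sy_skew a b,
      fun c _ => h.root ha hb hab c⟩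
  · rintro _ ⟨a, ha, b, hb, a0, b0, hab, rfl⟩ g hg H
    obtain ⟨⟨x, hx⟩, y, hy⟩ := h.indep ha hb a0 b0
    obtain ⟨x', hx'⟩ := H x
    obtain ⟨y', hy'⟩ := H y
    rw [hx, sy_apply] at hx'
    rw [hy, sy_apply] at hy'
    generalize D.B b x' = s at hx'
    generalize D.B a x' = t at hx'
    generalize D.B b y' = s' at hy'
    generalize D.B a y' = t' at hy'
    have H1 : ∀ c : F, HasU X (c • ((s * s') • sy D a a + (t * t') • sy D b b)) := fun c =>
      ((h.key' ha hb hab hg c).sub (h.root ha hb hab (c * (s * t' + t * s')))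
        (fun x => by simp [← hx', ← hy', sy_apply, Symp.B_self, hab, D.eq_zero_symm hab])
        (fun x => by simp [sy_apply, Symp.B_self, hab, D.eq_zero_symm hab])).congr fun x => by
        simp only [← hx', ← hy', LinearMap.smul_apply, LinearMap.sub_apply, LinearMap.add_apply,
          sy_apply, D.B_lin, RingHom.id_apply]
        module
    have h1 := h.coef ha hb hab a0 b0 H1
    have h2 := h.symm.coef hb ha (D.eq_zero_symm hab) b0 a0 (α := t * t') (γ := s * s')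
      fun c => by rw [add_comm]; exact H1 c
    refine h.mem_of_map hg ha a0 ?_
    rw [← hx']
    rcases eq_or_ne t 0 with rfl | ht
    · exact Or.inl (by simpa using W.smul_mem s ha)
    rcases eq_or_ne s 0 with rfl | hs
    · exact Or.inr (by simpa using W'.smul_mem t hb)
    rw [(mul_eq_zero.1 h1).resolve_left ht, (mul_eq_zero.1 h2).resolve_left hs] at hy'
    exact absurd (by simpa using hy'.symm) b0
  rintro _ ⟨a, ha, b, hb, a0, b0, hab, rfl⟩ g hg r hr H
  have hr' : r ∈ D.isom := by obtain ⟨r, -, rfl⟩ := hr; exact r.2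
  simp only [cj_sy (h.le hg)] at H
  refine h.mem_of_map hg ha a0 ?_
  rcases (h.mem_pr hr').1 hr with ⟨h1, h2⟩ | ⟨h1, -⟩
  · by_contra! h3
    have h4 := h.zero (h.comp h (fun x hx => by simpa [H] using sub_mem (h1 x hx) hx) h3.1)
      (h.comp h.symm (fun x hx => by simpa [H] using sub_mem (h2 x hx) hx) h3.2)
    exact b0 (by simpa using h4)
  obtain ⟨w, hw, w0, hφ⟩ := exists_ne_zero_kers W [D.B (g a), D.B (g b)]
    (by have := h.dim; simp; omega)
  simp only [List.forall_mem_cons, List.not_mem_nil, IsEmpty.forall_iff, implies_true,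
    and_true] at hφ
  exact absurd (h.zero hw (by simpa [H, sy_apply, hφ.1, hφ.2] using h1 w hw)) w0

theorem mem_of_inv {a b : V} (ha : a ∈ W) (hb : b ∈ W') {M : Submodule F V}
    (m1 : ∀ x ∈ M, sy D a b x ∈ M) (m2 : ∀ x ∈ M, sy D a b x = 0 → ∃ y, sy D a b y = x) {y : V}
    (hy : y ∈ W) (hy' : y ∈ M) (y0 : y ≠ 0) : a ∈ M := by
  have h1 := m1 y hy'
  rw [sy_apply, h.BW ha hy, zero_smul, add_zero] at h1
  by_cases h2 : D.B b y = 0
  swap
  · exact (M.smul_mem_iff h2).1 h1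
  obtain ⟨z, hz⟩ := m2 y hy' (by simp [sy_apply, h.BW ha hy, h2])
  rw [sy_apply] at hz
  have h3 : D.B a z • b = 0 := h.zero (by
    rw [eq_sub_of_add_eq' hz]; exact sub_mem hy (W.smul_mem _ ha)) (W'.smul_mem _ hb)
  rw [h3, add_zero] at hz
  exact (M.smul_mem_iff (by rintro h4; simp [h4] at hz; exact y0 hz.symm)).1 (hz ▸ hy')

theorem exists_moved {g : V ≃ₗ[F] V} (hg : g ∈ D.isom) (g1 : g ≠ 1) (h2 : ∀ x ∈ W', g x ∈ W') :
    ∃ x ∈ W, g x ≠ x := by
  by_contra! H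
  refine g1 (LinearEquiv.ext fun x => ?_)
  obtain ⟨w, hw, w', hw', rfl⟩ := exists_add_of_sup h.sup x
  have : g w' - w' = 0 := Submodule.disjoint_def.1 h.dual.disj' _ (sub_mem (h2 w' hw') hw')
    fun y hy => by rw [map_sub, ← hg.B_map y w', H y hy, sub_self]
  simp [H w hw, sub_eq_zero.1 this]

theorem le_pr [Finite F] : X ≤ pr D W W' := by
  have : Finite V := Module.finite_of_finite F
  have ex : ∀ v : V, ∃ N ∈ rt D W W', N v = 0 := fun v => by
    obtain ⟨a, ha, a0, h1⟩ := exists_ne_zero_kers W [D.B v] (by have := h.dim; simp; omega)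
    obtain ⟨b, hb, b0, h2⟩ := exists_ne_zero_kers W' [D.B v, D.B a]
      (by have := h.symm.dim; simp; omega)
    exact ⟨_, ⟨a, ha, b, hb, a0, b0, h2 _ (by simp), rfl⟩, by
      simp [sy_apply, D.eq_zero_symm (h1 (D.B v) (by simp)), D.eq_zero_symm (h2 (D.B v) (by simp))]⟩
  have rk2 : ∀ N ∈ rt D W W', rk N = 2 := by
    rintro _ ⟨a, ha, b, hb, a0, b0, hab, rfl⟩
    have h1 : LinearIndependent F ![a, b] := LinearIndependent.pair_iff.2 fun s t H => by
      have h2 : s • a = 0 := h.zero (W.smul_mem _ ha) (by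
        rw [eq_neg_of_add_eq_zero_left H]; exact neg_mem (W'.smul_mem _ hb))
      rw [h2, zero_add] at H
      exact ⟨by simpa [a0] using h2, by simpa [b0] using H⟩
    have h2 : LinearMap.range (sy D a b) = Submodule.span F (Set.range ![a, b]) := by
      rw [Matrix.range_cons_cons_empty]
      refine le_antisymm ?_ (Submodule.span_le.2 ?_)
      · rintro _ ⟨x, rfl⟩
        exact Submodule.mem_span_pair.2 ⟨_, _, rfl⟩
      · rintro _ (rfl | rfl)
        exacts [(h.indep ha hb a0 b0).1, (h.indep ha hb a0 b0).2]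
    rw [rk, h2, finrank_span_eq_card h1, Fintype.card_fin]
  refine h.uniq.le_of_quad (Or.inl h.two) ((ex 0).imp fun _ H => H.1)
    (fun N hN M hM => by rw [rk2 N hN, rk2 M hM]) ?_ fun N' _ _ H => ?_
  · rintro _ ⟨a, ha, b, hb, a0, b0, hab, rfl⟩ M M' - - m1 - m2 g hX hg g1 - g3 x
    have k1 : ∀ y ∈ W, y ∈ M → y ≠ 0 → a ∈ M := fun y => h.mem_of_inv ha hb m1 m2
    have k2 : ∀ y ∈ W', y ∈ M → y ≠ 0 → b ∈ M := fun y =>
      h.symm.mem_of_inv hb ha (by rw [sy_comm]; exact m1) (by rw [sy_comm]; exact m2)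
    suffices a ∈ M ∧ b ∈ M from add_mem (M.smul_mem _ this.1) (M.smul_mem _ this.2)
    rcases (h.mem_pr (h.le hX)).1 hg with ⟨h1, h2⟩ | ⟨h1, h2⟩
    · obtain ⟨y, hy, y1⟩ := h.exists_moved (h.le hX) g1 h2
      obtain ⟨z, hz, z1⟩ := h.symm.exists_moved (h.le hX) g1 h1
      exact ⟨k1 _ (sub_mem (h1 y hy) hy) (g3 y) (sub_ne_zero.2 y1),
        k2 _ (sub_mem (h2 z hz) hz) (g3 z) (sub_ne_zero.2 z1)⟩
    obtain ⟨w, hw, w1, w2⟩ := exists_not_mem_kers W (F ∙ a) [D.B a ∘ₗ g] (by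
      have := finrank_span_singleton_le (F := F) a; have := h.dim; simp; omega)
    have w3 : D.B a (g w) = 0 := w2 (D.B a ∘ₗ g) (by simp)
    have w4 : sy D a b (g w - w) = -D.B b w • a := by
      simp [sy_apply, w3, h.BW ha hw, h.symm.BW hb (h1 w hw)]
    have hA : a ∈ M := by
      by_cases w5 : D.B b w = 0
      swap
      · exact (M.smul_mem_iff (neg_ne_zero.2 w5)).1 (w4 ▸ m1 _ (g3 w))
      obtain ⟨z, hz⟩ := m2 _ (g3 w) (by simp [w4, w5])
      rw [sy_apply] at hz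
      have := h.zero (x := D.B b z • a + w) (add_mem (W.smul_mem _ ha) hw) (by
        convert sub_mem (h1 w hw) (W'.smul_mem (D.B a z) hb) using 1
        linear_combination (norm := module) hz)
      exact absurd (Submodule.mem_span_singleton.2 ⟨-D.B b z, by
        linear_combination (norm := module) -this⟩) w1
    exact ⟨hA, k2 _ (h1 a ha) (by simpa using add_mem (g3 a) hA) (by simpa using a0)⟩
  by_cases h0 : ∀ x, N' x = 0
  · obtain ⟨_, ⟨a, ha, b, hb, a0, b0, hab, rfl⟩, -⟩ := ex 0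
    obtain ⟨x, hx⟩ := (h.indep ha hb a0 b0).1
    exact a0 (hx ▸ (H _ ⟨a, ha, b, hb, a0, b0, hab, rfl⟩).1 x (h0 _))
  push Not at h0
  obtain ⟨x, hx⟩ := h0
  obtain ⟨N, hN, h1⟩ := ex (N' x)
  exact hx ((H N hN).2.1 x h1)

end PS

theorem E_le_pair [Finite F] (h : D.IsDual W W') (ht : W ⊔ W' = ⊤) (hD : D.Nondeg) (h2 : (2 : F) ≠ 0)
    (h3 : 3 ≤ finrank F W) {X : Subgroup D.isom} (h1 : D.E ⊓ D.dec ![W, W'] ≤ X)
    (hn : ¬ X ≤ D.dec ![W, W']) : D.E ≤ X := by
  by_contra hno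
  have e0 : (X.map D.isom.subtype).subgroupOf D.isom = X :=
    Subgroup.comap_map_eq_self_of_injective D.isom.subtype_injective X
  have h4 : D.E ⊓ (D.stab W ⊓ D.stab W') ≤ X := fun g hg =>
    h1 ⟨hg.1, mem_dec_of_stab (by simpa [Fin.forall_fin_two] using hg.2)⟩
  obtain ⟨s, hs1, hs2⟩ := h.exists_swap hD
  have hsX : s ∈ X := h1 ⟨by simp [Symp.E_eq_top hD], Equiv.swap 0 1, by
    simp [Fin.forall_fin_two, hs1, hs2]⟩
  have hs0 : ∀ {e}, e ≠ 0 → s.1 e ≠ 0 := fun h => by simpa using h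
  have P : PS D W W' (X.map D.isom.subtype) := ⟨h, ht, hD, h2, h3, Subgroup.map_subtype_le X,
    e0.symm ▸ h4, fun e he he0 hA => hno (by
      rw [e0] at hA
      rcases he with he | he
      · exact h.E_le_of_at ht hD h4 he he0 (hs1 ▸ Submodule.mem_map_of_mem he) (hs0 he0) hA
          (hA.conj hsX fun _ _ => trivial)
      · exact h.E_le_of_at ht hD h4 (hs2 ▸ Submodule.mem_map_of_mem he) (hs0 he0) he he0
          (hA.conj hsX fun _ _ => trivial) hA)⟩
  exact hn ((Subgroup.map_le_map_iff_of_injective D.isom.subtype_injective).1 P.le_pr)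

theorem not_E_le_pair (h : D.IsDual W W') (ht : W ⊔ W' = ⊤) (hD : D.Nondeg)
    (h3 : 2 ≤ finrank F W) : ¬ D.E ≤ D.dec ![W, W'] := fun H => by
  have z : ∀ {x}, x ∈ W → x ∈ W' → x = 0 := fun h1 h2 =>
    Submodule.disjoint_def.1 h.disj _ h1 (h.right.le_perp h2)
  obtain ⟨b, hb, b0⟩ := exists_ne_zero_of_finrank_pos (U := W')
    (by rw [← h.finrank_eq hD]; omega)
  obtain ⟨x, hx, -, h1⟩ := h.symm.exists_B_eq (by rwa [sup_comm]) hD bot_le hb (by simpa) 1
  obtain ⟨w, hw, w0, h2⟩ := exists_ne_zero_kers W [D.B b] (by simp; omega)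
  obtain ⟨π, hπ⟩ := H (Symp.tv_mem_E b 1)
  have h4 := hπ 0
  generalize π 0 = i at h4
  fin_cases i
  · have h5 : (Symp.tv D b 1).1 x ∈ W := h4.le (Submodule.mem_map_of_mem hx)
    rw [Symp.tv_apply, Symp.B_symm D x b, h1] at h5
    exact b0 (z (by simpa using neg_mem (sub_mem h5 hx)) hb)
  · have h5 : (Symp.tv D b 1).1 w ∈ W' := h4.le (Submodule.mem_map_of_mem hw)
    rw [Symp.tv_apply, h2 (D.B b) (by simp)] at h5
    exact w0 (z hw (by simpa using h5))

open Cfsg.Geo in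
theorem sp_max_pair' {F : Type*} [Field F] [Fintype F] {m : ℕ} (hm : 3 ≤ m)
    (hodd : Odd (Fintype.card F)) (D : Fin 2 → Submodule F (Fin m ⊕ Fin m → F))
    (hD : IsMDecomposition m D) (hts : ∀ i, IsTotallySingularFor (sympForm m F) (D i)) :
    IsMaximalIn (spGL m F) (decompositionStabilizer D ⊓ spGL m F) := by
  have hN := fSymp_nondeg (F := F) m
  obtain ⟨h1, h2, h3⟩ := isDual_of_dec hN hD fun i => Symp.isTS ((rep_symp m).ts.1 (hts i))
  have h0 := hD.finrank_eq 0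
  refine isMaximalIn_map (spGL_eq m) (comap_decompositionStabilizer D)
    (h3 ▸ not_E_le_pair h1 h2 hN (by omega)) fun X => ?_
  rw [← h3]
  exact E_le_pair h1 h2 hN (two_ne_zero_of_odd_card rfl hodd) (by omega)

end Cfsg.Lib.Linear.SP6
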