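import Cfsg.Agent.Lib.Max.TM
import Cfsg.Agent.Lib.Linear.SpLag

/-!
# `Sp₂ ⊗ O_n` is maximal in `Sp_{2n}` for `n` odd
-/

namespace Cfsg.Lib.Linear.SP6

open Module TensorProduct Cfsg.Lib.Forms Cfsg.Lib.Forms.Form Cfsg.Lib.Forms.Qd Cfsg.Lib.Forms.Ten
  Cfsg.Lib.Forms.TF

variable {F U W : Type*} [Field F] [AddCommGroup U] [Module F U] [AddCommGroup W] [Module F W]
  [FiniteDimensional F U] [FiniteDimensional F W] {X : Subgroup (U ⊗[F] W ≃ₗ[F] U ⊗[F] W)}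
  {β : Form (quadKind F) U} {ω : Form (altKind F) W} {D : Form (altKind F) (U ⊗[F] W)}

omit [FiniteDimensional F U] in
theorem dec_two (hW : finrank F W = 2) {e f : W} (hf : ω.IsHyp e f) (w : W) :
    w = ω.B e w • f - ω.B f w • e := by
  obtain ⟨z, hz, h1⟩ := hf.exists_comb w
  have := hf.finrank_hp
  have h2 : ω.hp e f = ⊥ := Submodule.finrank_eq_zero.1 (by omega)
  rw [h2, Submodule.mem_bot] at hz
  rw [hz, add_zero] at h1
  conv_lhs => rw [h1]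
  simp only [altKind_ε]
  module

omit [FiniteDimensional F U] in
theorem dec_ten (hW : finrank F W = 2) {e f : W} (hf : ω.IsHyp e f) (x : U ⊗[F] W) :
    x = ctr U (ω.B e) x ⊗ₜ f - ctr U (ω.B f) x ⊗ₜ e := by
  induction x with
  | zero => simp
  | tmul u w =>
    conv_lhs => rw [dec_two hW hf w]
    simp [tmul_sub, smul_tmul]
  | add a b ha hb => simp only [map_add, add_tmul]; linear_combination (norm := module) ha + hb

variable [Finite F] (h : St β ω D X D.isom) (h2 : (2 : F) ≠ 0) (hn : 3 ≤ finrank F U)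
  (hq : (∃ c : F, c ≠ 0 ∧ c ^ 2 ≠ 1) ∨ 4 ≤ finrank F U) (hW : finrank F W = 2) (hno : ¬ D.isom ≤ X)

omit [FiniteDimensional F U] [Finite F] in
include hW in
theorem ker_nT {e f : W} (hf : ω.IsHyp e f) {x : U ⊗[F] W} (hx : nT U ω e x = 0) :
    ∃ u, x = u ⊗ₜ e := by
  have h1 : ctr U (ω.B e) x = 0 := cu_injective (F := F) hf.e_ne_zero (by simpa [nT_apply] using hx)
  exact ⟨-ctr U (ω.B f) x, by
    conv_lhs => rw [dec_ten hW hf x]
    simp [h1, neg_tmul]⟩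

omit [FiniteDimensional F U] [FiniteDimensional F W] [Finite F] in
include h in
theorem root_nT (e : W) : Root D X (nT U ω e) :=
  ⟨fun x => by simp [nT_apply, Symp.B_self], fun x y => by
      rw [nT_apply, nT_apply, Symp.B_symm D (_ ⊗ₜ _), h.B_left, h.B_left, quad_symm, neg_neg],
    fun c _ => ⟨_, h.cmem 1 (Symp.tv ω e c), congr_tv e c⟩⟩

include h h2 hn hq hW hno

theorem stab_lag {e : W} (h0 : e ≠ 0) {g} (hg : g ∈ X) (H : ∀ u, ∃ u', g (u ⊗ₜ e) = u' ⊗ₜ e) :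
    g ∈ tens F U W := by
  have := Module.nontrivial_of_finrank_pos (R := F) (M := U) (by omega)
  obtain ⟨f, hf⟩ := Symp.exists_isHyp' h.nω h0
  obtain ⟨χ, hχ⟩ := exists_dual_one (F := F) h0
  have h1 : ∀ v, g (v ⊗ₜ e) = ctr U χ (g (v ⊗ₜ e)) ⊗ₜ e := fun v => by
    obtain ⟨v', hv⟩ := H v
    simp [hv, hχ]
  let a : U ≃ₗ[F] U := LinearEquiv.ofInjectiveEndo (ctr U χ ∘ₗ g ∘ₗ cu U e)
    ((injective_iff_map_eq_zero _).2 fun v hv => cu_injective h0 (g.injective (by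
      simp only [LinearMap.comp_apply, cu_apply, LinearEquiv.coe_coe] at hv
      rw [cu_apply, h1 v, hv]; simp)))
  have ha : ∀ v, g (v ⊗ₜ e) = a v ⊗ₜ e := h1
  obtain ⟨k, hk, k1, -⟩ := ((root_nT h e).conj h.le hg).exists (c := 1) rfl
  obtain ⟨l, hl⟩ := z_one h h2 hn hq hno h0 hk fun x => ⟨_, by rw [k1, one_smul, cj_apply, nT_apply, ha]⟩
  have l1 : ∀ u, a u = l • ctr U (ω.B e) (g (u ⊗ₜ f)) := fun u => cu_injective (F := F) h0 (by
    have := (k1 (g (u ⊗ₜ f))).symm.trans (hl _)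
    simpa [lin_inv_apply, nT_apply, hf.B_ef, ha, smul_tmul'] using this)
  have l0 : l ≠ 0 := by
    rintro rfl
    obtain ⟨v, hv⟩ := exists_ne (0 : U)
    exact hv (by simpa using l1 v)
  have l2 : ∀ u u', β.B (a u) (a u') = l * β.B u u' := fun u u' => by
    have := h.B_map hg (u ⊗ₜ e) (u' ⊗ₜ f)
    rw [ha, h.B_left, h.B, hf.B_ef, mul_one] at this
    rw [l1 u', map_smul, this, smul_eq_mul]
  let b₁ : W →ₗ[F] W := 1 + (l⁻¹ - 1) • (ω.B e).smulRight f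
  have b1 : ∀ w, b₁ w = w + ((l⁻¹ - 1) * ω.B e w) • f := fun w => by simp [b₁, smul_smul]
  have b2 : ∀ w w', ω.B (b₁ w) (b₁ w') = l⁻¹ * ω.B w w' := fun w w' => by
    have := congrArg (ω.B · w') (dec_two hW hf w)
    simp only [b1, ω.B_lin, RingHom.id_apply, Symp.B_self, Symp.B_symm ω f w] at this ⊢
    linear_combination (1 - l⁻¹) * this
  let b : W ≃ₗ[F] W := LinearEquiv.ofInjectiveEndo b₁ ((injective_iff_map_eq_zero _).2 fun w hw =>
    h.nω _ fun y => by simpa [hw, l0] using (b2 w y).symm)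
  have b3 : b e = e := by simp [b, b1, Symp.B_self]
  have t1 : congr a b ∈ D.isom := h.isom_of ⟨_, _, rfl⟩ fun u w u' w' => by
    simp only [congr_tmul, h.B]
    rw [show ω.B (b w) (b w') = _ from b2 w w', l2]; field_simp
  have t4 : congr a b ∈ tens F U W := ⟨_, _, rfl⟩
  have t5 := X.mul_mem (X.inv_mem (h.inf ⟨t1, t4⟩)) hg
  obtain ⟨c, hc⟩ := z_one h h2 hn hq hno h0 t5 (h.exists_of_fix h0 t5 fun u w hw => by
    rw [dec_two hW hf w, hw, zero_smul, zero_sub, tmul_neg, tmul_smul, map_neg, map_smul]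
    congr 2
    exact (congr a b).injective (by simp [lin_apply_inv, ha, b3]))
  exact (mul_mem_cancel_left (inv_mem t4)).1
    ⟨1, (Symp.tv ω e c).1, LinearEquiv.ext fun x => by rw [hc, congr_tv]⟩

theorem stab_lag' {e t : W} (h0 : e ≠ 0) (t0 : t ≠ 0) {g} (hg : g ∈ X)
    (H : ∀ u, ∃ u', g (u ⊗ₜ t) = u' ⊗ₜ e) : g ∈ tens F U W :=
  h.mem_of_map (Symp.rich _ _) (fun _ hg => stab_lag h h2 hn hq hW hno h0 hg) (alt_Q _ _) h0
    (alt_Q _ _) t0 hg H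

theorem uniq_lag (hU : Odd (finrank F U)) : Uniq D X (tens F U W) {N | ∃ e ≠ 0, N = nT U ω e} := by
  refine ⟨h.nD, h.le, by rintro _ ⟨e, -, rfl⟩; exact root_nT h e, ?_, ?_⟩
  · rintro _ ⟨e, h0, rfl⟩ g hg H
    obtain ⟨f, hf⟩ := Symp.exists_isHyp' h.nω h0
    exact stab_lag h h2 hn hq hW hno h0 hg fun u => by
      obtain ⟨y, hy⟩ := H (u ⊗ₜ f)
      exact ⟨_, by simpa [nT_apply, hf.B_ef] using hy.symm⟩
  rintro _ ⟨e, h0, rfl⟩ g hg r hr H
  have hR := (root_nT h e).conj h.le hg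
  have h3 := (rk_cj g _).trans (rk_nT (U := U) h.nω h0)
  rcases quad_cases h2 hr H hR.sq with ⟨m, hm⟩ | ⟨n, hm⟩
  · obtain ⟨w, hw⟩ : ∃ w, m w ≠ 0 := by
      by_contra! H
      rw [hm, show m = 0 from LinearMap.ext H, rk, LinearMap.lTensor_zero, LinearMap.range_zero,
        finrank_bot] at h3
      omega
    refine (tens F U W).inv_mem_iff.1 (stab_lag' h h2 hn hq hW hno h0 hw (X.inv_mem hg) fun u => ?_)
    exact ⟨_, by rw [← LinearMap.lTensor_tmul U m, ← hm, cj_apply, lin_inv_apply, nT_apply]⟩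
  rw [hm, rk, LinearMap.rTensor, rk_map, LinearMap.range_id, finrank_top, hW] at h3
  obtain ⟨k, hk⟩ := hU
  omega

omit h h2 hn hq hW hno [Finite F] [FiniteDimensional F U] [FiniteDimensional F W] in
theorem stab_of_fix {g} (hg : g ∈ tens F U W) {e : W} {v : U} (h0 : v ⊗ₜ[F] e ≠ 0)
    (H : g (v ⊗ₜ e) = v ⊗ₜ e) (u : U) : ∃ u', g (u ⊗ₜ e) = u' ⊗ₜ e := by
  obtain ⟨a, b, h1⟩ := exists_of_mem hg
  obtain ⟨c, hc⟩ := mem_span_of_tmul (u := a v) (by rintro h; simp at h; simp [h] at h0)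
    ((h1 v e).symm.trans H)
  exact ⟨c • a u, by rw [h1, hc, smul_tmul]⟩

theorem le_lag (hU : Odd (finrank F U)) (hF : ∀ a b : F, ∃ d, d ≠ 0 ∧ d ≠ a ∧ d ≠ b) :
    X ≤ tens F U W := by
  have := Module.nontrivial_of_finrank_pos (R := F) (M := U) (by omega)
  have hu := uniq_lag h h2 hn hq hW hno hU
  by_contra hX
  obtain ⟨w₀, -, w0⟩ := exists_ne_zero_of_finrank_pos (U := (⊤ : Submodule F W)) (by simp; omega)
  obtain ⟨_, ⟨e, h0, rfl⟩, N', h1, hm, h3, h4⟩ := hu.exists_min ⟨_, w₀, w0, rfl⟩ hX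
  obtain ⟨hN', r, hr, r1, r2, -⟩ := hu.out h1
  obtain ⟨f, hf⟩ := Symp.exists_isHyp' h.nω h0
  by_cases hI : ∃ x ≠ 0, nT U ω e x = 0 ∧ N' x = 0
  · refine lag h2 hF (root_nT h e) hN' h3 h4 (fun x hx => ?_) (fun g hg g1 g2 x => ?_)
      (fun k hk k1 => z_one h h2 hn hq hno h0 hk fun x => ?_) ?_ hI
    · obtain ⟨u, rfl⟩ := ker_nT hW hf hx
      exact ⟨u ⊗ₜ f, by simp [nT_apply, hf.B_ef]⟩
    · by_cases g3 : g ∈ tens F U W
      · obtain ⟨y, y0, y1, y2⟩ := hI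
        obtain ⟨v, rfl⟩ := ker_nT hW hf y1
        obtain ⟨u, hu⟩ := stab_of_fix g3 y0 (g1 _ y1 y2) (ctr U (ω.B e) x)
        rw [nT_apply e x, hu]; simp [nT_apply, Symp.B_self]
      refine absurd (hm _ ⟨e, h0, rfl⟩ _ ⟨_, ⟨e, h0, rfl⟩, g, hg, g3, rfl⟩) (not_le.2
        (lt_of_le_of_lt (rk_le_of_range fun x => ⟨g⁻¹ x, rfl⟩)
          (g2.trans_le (rk_le_of_range fun x => ⟨_, rfl⟩))))
    · obtain ⟨u, hu⟩ := ker_nT hW hf (k1 x)
      exact ⟨u, by rw [← hu]; abel⟩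
    · by_contra! H
      exact r1 (hu.stab _ ⟨e, h0, rfl⟩ r hr fun x => ⟨x, by rw [r2, H, add_zero]⟩)
  push Not at hI
  obtain ⟨_, ⟨e₁, e0, rfl⟩, g, hg, g0, rfl⟩ := h1
  obtain ⟨f₁, hf₁⟩ := Symp.exists_isHyp' h.nω e0
  have i1 : ∀ u, nT U ω e (g (u ⊗ₜ e₁)) = 0 → u = 0 := fun u H => by
    by_contra h5
    exact hI _ (by simpa using tmul_ne_zero h5 e0) H (by
      simp [lin_inv_apply, nT_apply, Symp.B_self])
  have i2 : finrank F U ≤ rk (nT U ω e ∘ₗ cj g (nT U ω e₁)) := by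
    rw [← rk_nT (U := U) h.nω e0, ← rk_cj g]
    exact rk_le_of_ker fun x hx => by
      rw [cj_apply, nT_apply, i1 (ctr U (ω.B e₁) (g⁻¹ x)) hx]; simp
  have i3 : ∀ v, β.Q v ≠ 0 → ∀ u, ∃ u', congr (β.refl v).1 (1 : ω.isom).1 (g (u ⊗ₜ e₁)) =
      g (u' ⊗ₜ e₁) := fun v hv => by
    obtain ⟨u, -, u0, u1⟩ := exists_ne_zero_kers (⊤ : Submodule F U)
      [β.B v ∘ₗ ctr U (ω.B e) ∘ₗ g ∘ₗ cu U e₁, β.B v ∘ₗ ctr U (ω.B f) ∘ₗ g ∘ₗ cu U e₁]
      (by simp; omega)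
    simp only [List.mem_cons, List.not_mem_nil, or_false, forall_eq_or_imp, forall_eq,
      LinearMap.comp_apply, cu_apply, LinearEquiv.coe_coe] at u1
    have k0 := X.mul_mem (X.mul_mem (X.inv_mem hg) (h.cmem (β.refl v) 1)) hg
    have k1 : (g⁻¹ * congr (β.refl v).1 (1 : ω.isom).1 * g) (u ⊗ₜ e₁) = u ⊗ₜ e₁ := by
      rw [LinearEquiv.mul_apply, LinearEquiv.mul_apply, dec_ten hW hf (g _), map_sub, congr_tmul,
        congr_tmul, refl_apply_of_perp u1.1, refl_apply_of_perp u1.2]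
      exact (congrArg _ (dec_ten hW hf _).symm).trans (lin_inv_apply _ _)
    by_cases k2 : g⁻¹ * congr (β.refl v).1 (1 : ω.isom).1 * g ∈ tens F U W
    · intro u'
      obtain ⟨s, hs⟩ := stab_of_fix k2 (tmul_ne_zero u0 e0) k1 u'
      exact ⟨s, by rw [← hs]; simp [lin_apply_inv]⟩
    generalize g⁻¹ * congr (β.refl v).1 (1 : ω.isom).1 * g = k at k0 k1 k2
    have k3 := ker_of_rk_le (A := cj k (nT U ω e₁)) (B := nT U ω e₁ ∘ₗ cj k (nT U ω e₁))
      (fun x hx => by simp only [LinearMap.comp_apply, hx, map_zero]) (by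
        rw [rk_cj, rk_nT h.nω e0]
        exact i2.trans (hm _ ⟨e₁, e0, rfl⟩ _ ⟨_, ⟨e₁, e0, rfl⟩, k, k0, k2, rfl⟩))
      (x := k (u ⊗ₜ f₁)) (by simp [lin_inv_apply, nT_apply, hf₁.B_ef, k1, Symp.B_self])
    exact absurd (by simpa [lin_inv_apply, nT_apply, hf₁.B_ef] using k3) (tmul_ne_zero u0 e0)
  let P : U ≃ₗ[F] U := LinearEquiv.ofInjectiveEndo (ctr U (ω.B e) ∘ₗ g ∘ₗ cu U e₁)
    ((injective_iff_map_eq_zero _).2 fun u hu => i1 u (by
      rw [nT_apply, show ctr U (ω.B e) (g (u ⊗ₜ e₁)) = 0 from hu, zero_tmul]))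
  have hP : ∀ u, P u = ctr U (ω.B e) (g (u ⊗ₜ e₁)) := fun _ => rfl
  obtain ⟨c, hc⟩ := scalar_of_eig h.nβ h2 hn
    (A := ctr U (ω.B f) ∘ₗ g ∘ₗ cu U e₁ ∘ₗ (P⁻¹ : U ≃ₗ[F] U)) fun v hv => by
      obtain ⟨u, rfl⟩ := P.surjective v
      obtain ⟨u', hu'⟩ := i3 _ hv u
      simp only [LinearMap.comp_apply, LinearEquiv.coe_coe, lin_inv_apply, cu_apply]
      rw [dec_ten hW hf (g (u ⊗ₜ e₁)), map_sub, congr_tmul, congr_tmul, ← hP] at hu'
      have h5 := congrArg (ctr U (ω.B e)) hu'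
      have h6 := congrArg (ctr U (ω.B f)) hu'
      rw [← hP] at h5
      simp only [map_sub, ctr_tmul, OneMemClass.coe_one, LinearEquiv.coe_one, id, hf.B_ef, hf.B_fe,
        Symp.B_self, one_smul, zero_smul, sub_zero, zero_sub, altKind_ε] at h5 h6
      rw [refl_apply_self hv, ← map_neg, P.injective.eq_iff] at h5
      rw [← h5, neg_tmul, map_neg, map_neg, refl_apply] at h6
      refine ⟨(β.Q (P u))⁻¹ * β.B (P u) (ctr U (ω.B f) (g (u ⊗ₜ e₁))) / 2, ?_⟩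
      rw [div_eq_inv_mul, mul_smul, eq_inv_smul_iff₀ h2]
      linear_combination (norm := module) h6
  refine g0 (stab_lag' h h2 hn hq hW hno (e := f - c • e) (fun H => ?_) e0 hg fun u => ⟨P u, ?_⟩)
  · simpa [hf.B_ef, Symp.B_self] using congrArg (ω.B e) H
  · have := hc (P u)
    simp only [LinearMap.comp_apply, LinearEquiv.coe_coe, lin_inv_apply, cu_apply] at this
    rw [dec_ten hW hf (g (u ⊗ₜ e₁)), this, ← hP, tmul_sub, smul_tmul]

omit h h2 hn hq hW hno [Finite F] in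
open Matrix Cfsg.Geo Asch in
theorem sp_max_tensor' [Fintype F] {m n₂ : ℕ} (hodd : Odd (Fintype.card F))
    (hn₂ : 3 ≤ n₂) (hq : 5 ≤ Fintype.card F) (h1 : Odd n₂)
    (e : (Fin m ⊕ Fin m) ≃ Fin 2 × Fin n₂) (P : GL (Fin m ⊕ Fin m) F) {f₁ f₂}
    (hf₁ : IsSymplecticForm f₁) (hf₂ : IsSymmetricForm f₂)
    (hT : IsTensorFormStructure id (sympForm m F) f₁ f₂ e P) :
    IsMaximalIn (spGL m F) (tensorProductSubgroup 2 n₂ e P ⊓ spGL m F) := by
  classical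
  have h2 : (2 : F) ≠ 0 := two_ne_zero_of_odd hodd
  obtain ⟨c, hc, h⟩ := ts_of (IsSymplecticForm.hm hf₁).toIsSesq (IsSymmetricForm.hm hf₂).toIsSesq hT
  obtain ⟨D₁, h3, h4⟩ := exists_form_of_symp hf₁
  obtain ⟨ω, h5, h6⟩ := exists_form_of_quad (IsSymmetricForm.quad h2 hf₂)
  obtain ⟨β, hβ⟩ : ∃ β : Form (altKind F) (Fin 2 → F), ∀ x y, β.B x y = c / 2 * D₁.B x y :=
    ⟨ofAlt ((c / 2) • D₁.B) fun x => by simp [Symp.B_self], fun _ _ => rfl⟩
  have h7 : β.Nondeg := fun x hx => h4 x fun y => by simpa [hβ, hc, h2] using hx y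
  have h8 : ∀ u w u' w', (fSymp F m).B (teq e P (u ⊗ₜ w)) (teq e P (u' ⊗ₜ w')) =
      β.B u u' * ω.B w w' := fun u w u' w' => by
    rw [fSymp_B, teq_tmul, teq_tmul, h, ← polar_toQuad, show ⇑(toQuad ω) = _ from h5,
      IsSymmetricForm.polar hf₂, h3, hβ]
    field_simp
  have h9' := (iso_comap _ ((TensorProduct.comm F _ _).trans (teq e P))).symm.nondeg
    (fSymp_nondeg (F := F) m)
  refine isMaximalIn_map' (eq_map_toM mem_spGL_iff _) (comap_tensor' e P) (toM_injective _)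
    (not_isom_le h9' h2 (by simp; omega) (by simp)) fun X x1 x2 x3 => ?_
  by_contra H
  refine x3 (le_lag (st_alt h6 h7 h9' (fun _ _ _ _ => (h8 ..).trans (mul_comm _ _)) x1 x2) h2
    (by simpa) (Or.inl (Symp.exists_sq_ne_one (Or.inl (by rw [Nat.card_eq_fintype_card]; omega))))
    (by simp) H (by simpa) fun a b => ?_)
  by_contra! H'
  have : (Finset.univ : Finset F) ⊆ {0, a, b} := fun d _ => by
    by_cases h0 : d = 0
    · simp [h0]
    by_cases h1 : d = a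
    · simp [h1]
    simp [H' d h0 h1]
  have := (Finset.card_le_card this).trans Finset.card_le_three
  rw [Finset.card_univ] at this
  omega

end Cfsg.Lib.Linear.SP6
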