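import Cfsg.Agent.Lib.Linear.EichGen
import Cfsg.Agent.Lib.Forms.Omega

/-!
Irreducible subgroups of symplectic groups in characteristic two which cover the unipotent radical
of a point stabiliser modulo its transvections.
-/

namespace Cfsg.Lib.Linear.EG

open Cfsg.Lib.Forms Cfsg.Lib.Forms.Form Module

variable {F : Type*} [Field F] {V : Type*} [AddCommGroup V] [Module F V]

theorem kurepa (h2 : (2 : F) = 0) (h k : F →+ F) (H : ∀ s, s ≠ 0 → k (1 / s) = h s / s) (x : F) :
    h (x ^ 2) = x * h 1 := by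
  by_cases h0 : x = 0
  · simp [h0]
  by_cases h1 : x = 1
  · simp [h1]
  have h3 : x + 1 ≠ 0 := fun h => h1 (by linear_combination h - h2)
  have h4 := H (x * (x + 1)) (mul_ne_zero h0 h3)
  rw [show 1 / (x * (x + 1)) = 1 / x + 1 / (x + 1) by
    field_simp; linear_combination -x * h2, map_add, H x h0, H _ h3,
    show x * (x + 1) = x ^ 2 + x by ring, map_add, map_add, show x ^ 2 + x = x * (x + 1) by ring] at h4
  field_simp at h4
  linear_combination -h4 + x * h x * h2

theorem add_self_two (h2 : (2 : F) = 0) (x : V) : x + x = 0 := by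
  rw [← two_smul F, h2, zero_smul]

variable {D : Form (altKind F) V} {L : Subgroup D.isom} {a : V}

/-- The multiples of the vectors in the `L`-orbit of `a`. -/
def Om (L : Subgroup D.isom) (a x : V) : Prop := ∃ g ∈ L, ∃ t : F, t ≠ 0 ∧ x = t • g.1 a

theorem Om.self : Om L a a := ⟨1, L.one_mem, 1, one_ne_zero, by simp [isom_one_apply]⟩

theorem Om.map {x : V} (h : Om L a x) {g : D.isom} (hg : g ∈ L) : Om L a (g.1 x) := by
  obtain ⟨k, hk, t, ht, rfl⟩ := h
  exact ⟨g * k, L.mul_mem hg hk, t, ht, by rw [map_smul, isom_mul_apply]⟩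

theorem Om.smul {x : V} (h : Om L a x) {s : F} (hs : s ≠ 0) : Om L a (s • x) := by
  obtain ⟨k, hk, t, ht, rfl⟩ := h
  exact ⟨k, hk, s * t, mul_ne_zero hs ht, by rw [smul_smul]⟩

theorem Om.trans {x y : V} (h : Om L a x) (h' : Om L a y) :
    ∃ g ∈ L, ∃ t : F, t ≠ 0 ∧ g.1 x = t • y := by
  obtain ⟨k, hk, t, ht, rfl⟩ := h
  obtain ⟨k', hk', t', ht', rfl⟩ := h'
  refine ⟨k' * k⁻¹, L.mul_mem hk' (L.inv_mem hk), t / t', div_ne_zero ht ht', ?_⟩
  rw [map_smul, isom_mul_apply, isom_inv_apply, smul_smul, div_mul_cancel₀ _ ht']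

theorem not_mem_span_symm {x y : V} (hx : x ≠ 0) (h : y ∉ F ∙ x) : x ∉ F ∙ y := fun h' => by
  obtain ⟨c, hc⟩ := Submodule.mem_span_singleton.1 h'
  have h0 : c ≠ 0 := by rintro rfl; exact hx (by simpa using hc.symm)
  exact h (Submodule.mem_span_singleton.2
    ⟨c⁻¹, by rw [← hc, smul_smul, inv_mul_cancel₀ h0, one_smul]⟩)

/-- The hypotheses of the theorem. -/
structure Cov (L : Subgroup D.isom) (a : V) : Prop where
  two : (2 : F) = 0
  nd : D.Nondeg
  ne : a ≠ 0
  cov : ∀ z, D.B a z = 0 → ∃ δ, In L a z δ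
  irr : ∀ W : Submodule F V, (∀ g ∈ L, ∀ w ∈ W, g.1 w ∈ W) → W = ⊥ ∨ W = ⊤
  dim : 3 ≤ finrank F V

namespace Cov

variable [FiniteDimensional F V] (C : Cov L a)
include C

omit [FiniteDimensional F V] in
theorem symm (x y : V) : D.B y x = D.B x y := by
  rw [Symp.B_symm]; linear_combination -D.B x y * C.two

omit [FiniteDimensional F V] in
theorem ne_zero {x : V} (h : Om L a x) : x ≠ 0 := by
  obtain ⟨k, -, t, ht, rfl⟩ := h
  exact smul_ne_zero ht ((LinearEquiv.map_ne_zero_iff _).2 C.ne)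

omit [FiniteDimensional F V] in
theorem full {x : V} (h : Om L a x) (z : V) (hz : D.B x z = 0) : ∃ δ, In L x z δ := by
  obtain ⟨k, hk, t, ht, rfl⟩ := h
  rw [D.B_smul_left, mul_eq_zero, B_isom_left] at hz
  obtain ⟨δ, h⟩ := C.cov (t • (k⁻¹).1 z) (by rw [D.B_smul_right, hz.resolve_left ht, mul_zero])
  refine ⟨δ / (t * t), In.smul ht ((h.map hk).congr rfl (by simp) ?_)⟩
  rw [RingHom.id_apply, mul_div_cancel₀ _ (mul_ne_zero ht ht)]

omit [FiniteDimensional F V] in
theorem eq_top {W : Submodule F V} (h : ∀ x, Om L a x → x ∈ W) : W = ⊤ := by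
  refine eq_top_iff.2 (((C.irr (Submodule.span F {x | Om L a x}) fun g hg w hw => ?_).resolve_left
    fun h => C.ne ?_).symm.le.trans (Submodule.span_le.2 h))
  · exact (Submodule.span_le (p := (Submodule.span F {x | Om L a x}).comap g.1.toLinearMap)).2
      (fun x hx => Submodule.subset_span (Om.map hx hg)) hw
  · rw [← Submodule.mem_bot F, ← h]; exact Submodule.subset_span Om.self

omit [FiniteDimensional F V] in
theorem partner {x : V} (hx : x ≠ 0) : ∃ y, Om L a y ∧ D.B x y = 1 := by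
  by_contra h
  obtain ⟨y, hy⟩ := C.nd.exists_ne_zero hx
  refine hy (LinearMap.mem_ker.1 (C.eq_top (W := LinearMap.ker (D.B x)) (fun z hz => ?_) ▸ trivial))
  by_contra h1
  exact h ⟨(D.B x z)⁻¹ • z, hz.smul (inv_ne_zero h1), by
    rw [D.B_smul_right, inv_mul_cancel₀ h1]⟩

theorem exists_map {p x : V} (hp : Om L a p) (hB : D.B p x = 0) (hx : x ∉ F ∙ p) (t : F) :
    ∃ g ∈ L, g.1 p = p ∧ g.1 x = x + t • p := by
  obtain ⟨z, hz, ht⟩ := C.nd.exists_perp_B_eq hx t
  obtain ⟨δ, h, hm⟩ := C.full hp z (D.mem_perp_span_singleton.1 hz)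
  exact ⟨_, hm, eich_apply_self _ h, by rw [eich_apply_of_perp _ h hB, ht]⟩

theorem add_smul {p x : V} (hp : Om L a p) (h : Om L a x) (hB : D.B p x = 0) (hx : x ∉ F ∙ p)
    (t : F) : Om L a (x + t • p) := by
  obtain ⟨g, hg, -, h1⟩ := C.exists_map hp hB hx t
  exact h1 ▸ h.map hg

omit [FiniteDimensional F V] in
theorem move {p b z : V} {δ : F} (h : In L p z δ) (hB : D.B p b = 1) (hz : D.B b z = 0) (x : F) :
    ∃ g ∈ L, g.1 p = p ∧ g.1 (b + x • p) = b + z + (δ + x) • p := by
  refine ⟨_, h.2, eich_apply_self _ h.1, ?_⟩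
  simp only [eich_apply, D.B_lin, hB, C.symm z b ▸ hz, h.1.B_ze, h.1.B_ee, altKind_ε]
  module

theorem exists_hp {p b : V} (hB : D.B p b = 1) : ∃ w, w ≠ 0 ∧ D.B p w = 0 ∧ D.B b w = 0 := by
  have h1 := (Symp.isHyp hB).finrank_hp
  have := C.dim
  obtain ⟨w, hw, h0⟩ := Submodule.exists_mem_ne_zero_of_ne_bot (p := D.hp p b) fun h => by
    rw [h, finrank_bot] at h1; omega
  exact ⟨w, h0, D.mem_hp.1 hw⟩

omit C [FiniteDimensional F V] in
theorem not_mem_add {p b w : V} (hB : D.B p b = 1) (h0 : w ≠ 0) (hw : D.B p w = 0) :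
    b + w ∉ F ∙ b := fun h => by
  have h1 := Submodule.sub_mem _ h (Submodule.mem_span_singleton_self b)
  rw [add_sub_cancel_left] at h1
  obtain ⟨c, rfl⟩ := Submodule.mem_span_singleton.1 h1
  rw [D.B_smul_right, hB, mul_one] at hw
  exact h0 (by rw [hw, zero_smul])

theorem om_of_add {p b w : V} (hB : D.B p b = 1) (h0 : w ≠ 0) (hw : D.B p w = 0)
    (hw' : D.B b w = 0) (hb : Om L a b) (h : Om L a (b + w)) : Om L a w := by
  have := C.add_smul hb h (by rw [D.B_add_right, hw', Symp.B_self, add_zero]) (not_mem_add hB h0 hw)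
    (-1)
  rwa [neg_one_smul, add_neg_cancel_comm] at this

omit [FiniteDimensional F V] in
theorem sub {p z z' : V} {δ δ' : F} (h : In L p z δ) (h' : In L p z' δ') (hB : D.B z z' = 0) :
    In L p (z + z') (δ + δ') := (h.mul h').congr rfl rfl (by rw [hB, add_zero])

/-- There are two orthogonal points in the orbit. -/
theorem iso_or [Finite F] {p b : V} (hp : Om L a p) (hb : Om L a b) (hB : D.B p b = 1) :
    (∃ w, Om L a w ∧ D.B p w = 0 ∧ D.B b w = 0) ∨
      ((∀ d, In L p 0 d → d = 0) ∧ ∀ x : F, Om L a (b + x • p) → x = 0) := by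
  classical
  by_contra h
  obtain ⟨h, h'⟩ := not_or.1 h
  obtain ⟨w, w0, w1, w2⟩ := C.exists_hp hB
  have h1 : ∀ t : F, ∃ δ, In L p (t • w) δ := fun t =>
    C.full hp _ (by rw [D.B_smul_right, w1, mul_zero])
  choose f hf using h1
  have h2 : ∀ (t x : F), Om L a (b + x • p) → In L p (t • w) x → t = 0 := fun t x hx h2 => by
    by_contra ht
    obtain ⟨g, hg, -, h3⟩ := C.move h2 hB (by rw [D.B_smul_right, w2, mul_zero]) x
    have h4 := hx.map hg
    rw [h3, ← two_mul, C.two, zero_mul, zero_smul, add_zero] at h4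
    have w1' : D.B p (t • w) = 0 := by rw [D.B_smul_right, w1, mul_zero]
    have w2' : D.B b (t • w) = 0 := by rw [D.B_smul_right, w2, mul_zero]
    exact h ⟨_, C.om_of_add hB (smul_ne_zero ht w0) w1' w2' hb h4, w1', w2'⟩
  have h3 : Function.Surjective f := Finite.injective_iff_surjective.1 fun t t' h3 => by
    have := h2 (t + t') 0 (by simpa using hb) ((C.sub (hf t) (hf t')
      (by simp [Symp.B_self])).congr rfl (by module) (by linear_combination h3 + f t' * C.two))
    linear_combination this - t' * C.two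
  have h4 : ∀ d, In L p 0 d → d = 0 := fun d hd => by
    obtain ⟨t, ht⟩ := h3 (f 0 + d)
    have := h2 t 0 (by simpa using hb) ((C.sub (C.sub (hf t) (hf 0) (by simp)) hd
      (by simp)).congr rfl (by module) (by linear_combination ht + (f 0 + d) * C.two))
    rw [this] at ht
    linear_combination -ht
  refine h' ⟨h4, fun x hx => ?_⟩
  obtain ⟨t, rfl⟩ := h3 x
  have := h2 t _ hx (hf t)
  subst this
  exact h4 _ ((hf 0).congr rfl (zero_smul _ _) rfl)

theorem eq_top_of_tv [Finite F] {c : V} {d : F} (hc : Om L a c) (hd : d ≠ 0) (h : In L c 0 d) :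
    L = ⊤ := by
  obtain ⟨b, hb, hB⟩ := C.partner (C.ne_zero hc)
  obtain ⟨w, hw, w1, w2⟩ := (C.iso_or hc hb hB).resolve_right fun h' => hd (h'.1 d h)
  obtain ⟨g, hg, t, ht, h1⟩ := hc.trans hb
  obtain ⟨k, hk, s, hs, h2⟩ := hc.trans hw
  refine symp_top C.nd h hd (C.full hc) hk hg (by rw [h2, D.B_smul_right, w1, mul_zero])
    (fun h3 => ?_) (by rw [h1, D.B_smul_right, hB, mul_one]; exact ht)
  rw [h2, Submodule.smul_mem_iff _ hs] at h3
  obtain ⟨r, rfl⟩ := Submodule.mem_span_singleton.1 h3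
  rw [D.B_smul_right, C.symm, hB, mul_one] at w2
  exact C.ne_zero hw (by rw [w2, zero_smul])

section
variable (hB : ∀ c d, Om L a c → In L c 0 d → d = 0)
include hB

omit [FiniteDimensional F V] in
theorem uniq {p z : V} {δ δ' : F} (hp : Om L a p) (h : In L p z δ) (h' : In L p z δ') : δ = δ' := by
  have := hB _ _ hp ((C.sub h h' (Symp.B_self D z)).congr rfl (add_self_two C.two z) rfl)
  linear_combination this - δ' * C.two

omit [FiniteDimensional F V] hB in
theorem tv_mul_mem {b c : V} {δ δ' : F} (h : In L b c δ) (h' : In L c b δ') :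
    Symp.tv D b δ * Symp.tv D c δ' ∈ L := by
  convert L.mul_mem h.2 h'.2 using 1
  refine isom_ext fun y => ?_
  have h2 := C.two
  simp only [isom_mul_apply, eich_apply, Symp.tv_apply, D.B_lin, h.1.B_ez, h.1.B_ze, Symp.B_self,
    altKind_ε]
  match_scalars
  · ring
  · linear_combination -(D.B b y) * h2
  · linear_combination -(D.B c y) * h2

theorem dich_aux {b c : V} {δ δ' : F} (hb : Om L a b) (hc : c ∉ F ∙ b) (h : In L b c δ)
    (h' : In L c b δ') (hδ : δ ≠ 0) : δ * δ' = 1 ∧ ∀ s : F, In L b (s • c) (s ^ 2 * δ) := by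
  have h1 := C.tv_mul_mem h h'
  have h0 : δ' ≠ 0 := by
    rintro rfl
    rw [Symp.tv_zero, mul_one, ← Symp.eich_zero_eq_tv (Symp.isEich (by simp) δ)] at h1
    exact hδ (hB _ _ hb ⟨_, h1⟩)
  have h2 : ∀ t : F, In L b ((δ' * t) • c) (δ' * t ^ 2) := fun t => by
    obtain ⟨g, hg, g1, g2⟩ := C.exists_map hb h.1.B_ez hc t
    have h3 := L.mul_mem (L.mul_mem hg h1) (L.inv_mem hg)
    rw [← conj_mul, Symp.conj_tv, Symp.conj_tv, g1, g2] at h3
    have h4 := L.mul_mem (L.inv_mem h1) h3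
    refine ⟨Symp.isEich (by rw [D.B_smul_right, h.1.B_ez, mul_zero]) _, ?_⟩
    convert h4 using 1
    rw [mul_inv_rev, mul_assoc (Symp.tv D c δ')⁻¹, inv_mul_cancel_left, Symp.tv_inv]
    refine isom_ext fun y => ?_
    simp only [isom_mul_apply, eich_apply, Symp.tv_apply, D.B_lin, h.1.B_ez, h.1.B_ze, Symp.B_self,
      altKind_ε, RingHom.id_apply]
    module
  have h3 : δ * δ' = 1 := by
    rw [C.uniq hB hb h ((h2 δ'⁻¹).congr rfl (by rw [mul_inv_cancel₀ h0, one_smul]) rfl)]
    field_simp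
  refine ⟨h3, fun s => (h2 (s * δ)).congr rfl ?_ ?_⟩
  · congr 1; linear_combination s * h3
  · linear_combination s ^ 2 * δ * h3

theorem dich {b c : V} {δ : F} (hb : Om L a b) (hc : Om L a c) (h : In L b c δ) (hδ : δ ≠ 0) :
    c ∉ F ∙ b ∧ (∀ s : F, s ≠ 0 → s = 1) ∧ Symp.tv D b 1 * Symp.tv D c 1 ∈ L := by
  have h0 : c ∉ F ∙ b := fun h0 => by
    obtain ⟨s, rfl⟩ := Submodule.mem_span_singleton.1 h0
    refine hδ (hB _ _ hb ((h.add_smul (-s)).congr rfl (by simp) ?_))
    simp only [altKind_ε, RingHom.id_apply]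
    linear_combination s * C.two
  obtain ⟨δ', h'⟩ := C.full hc b h.1.B_ze
  obtain ⟨h1, h2⟩ := C.dich_aux hB hb h0 h h' hδ
  have h3 := (C.dich_aux hB hc (not_mem_span_symm (C.ne_zero hb) h0) h' h
    (right_ne_zero_of_mul_eq_one h1)).2
  have h4 : ∀ s : F, s ≠ 0 → s = 1 := fun s hs => by
    have h5 : In L (s • c) b δ' := In.smul hs ((h3 s).congr rfl rfl (by rw [RingHom.id_apply]; ring))
    have h6 := (C.dich_aux hB hb (by rwa [Submodule.smul_mem_iff _ hs]) (h2 s) h5
      (mul_ne_zero (pow_ne_zero _ hs) hδ)).1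
    have h7 : (s - 1) ^ 2 = 0 := by linear_combination h6 - s ^ 2 * h1 + (1 - s) * C.two
    exact sub_eq_zero.1 (pow_eq_zero_iff (by norm_num) |>.1 h7)
  refine ⟨h0, h4, ?_⟩
  have := C.tv_mul_mem h h'
  rwa [h4 δ hδ, h4 δ' (right_ne_zero_of_mul_eq_one h1)] at this

/-- The exceptional configuration. -/
theorem exc [Finite F] {b c : V} {δ : F} (hb : Om L a b) (hc : Om L a c) (h : In L b c δ)
    (hδ : δ ≠ 0) : Nat.card F = 2 ∧ (finrank F V < 5 ∧ (finrank F V = 4 → 120 ≤ Nat.card L)) := by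
  obtain ⟨h0, h1, h2⟩ := C.dich hB hb hc h hδ
  have hbc := h.1.B_ez
  have hF : Nat.card F = 2 := by
    rw [Nat.card_eq_two_iff' (0 : F)]
    exact ⟨1, one_ne_zero, fun y hy => h1 y hy⟩
  obtain ⟨y, hy, y1, c, y2, hc, h0, hbc, h2⟩ : ∃ y, Om L a y ∧ D.B b y = 1 ∧ ∃ c, D.B c y = 0 ∧
      Om L a c ∧ c ∉ F ∙ b ∧ D.B b c = 0 ∧ In L b c 1 := by
    obtain ⟨y, hy, y1⟩ := C.partner (C.ne_zero hb)
    rw [h1 δ hδ] at h
    refine ⟨y, hy, y1, c + D.B c y • b, ?_, C.add_smul hb hc hbc h0 _, fun h3 => h0 ?_, ?_,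
      (h.add_smul _).congr rfl rfl ?_⟩
    · rw [D.B_add_left, D.B_smul_left, y1, RingHom.id_apply]; linear_combination D.B c y * C.two
    · simpa using Submodule.sub_mem _ h3
        (Submodule.smul_mem _ (D.B c y) (Submodule.mem_span_singleton_self b))
    · rw [D.B_add_right, D.B_smul_right, hbc, Symp.B_self]; simp
    · simp only [altKind_ε, RingHom.id_apply]; linear_combination -D.B c y * C.two
  clear h
  have two := C.two
  have hT : ∀ {x}, Om L a x → In L b x 1 → Symp.tv D b 1 * Symp.tv D x 1 ∈ L := fun hx h =>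
    (C.dich hB hb hx h one_ne_zero).2.2
  have p1 : ∀ x, D.B b x = 1 → ∃ g ∈ L, g.1 b = b ∧ g.1 y = x := fun x hx => by
    have z1 : D.B b (x + y + D.B y x • b) = 0 := by
      simp only [D.B_lin, hx, y1, Symp.B_self]; linear_combination two
    have z2 : D.B y (x + y + D.B y x • b) = 0 := by
      simp only [D.B_lin, C.symm b y, y1, Symp.B_self]; linear_combination D.B y x * two
    obtain ⟨δ, h⟩ := C.full hb _ z1
    obtain ⟨g, hg, g1, g2⟩ := C.move h y1 z2 (δ + D.B y x)
    have g3 : g.1 (y + (δ + D.B y x) • b) = x := by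
      rw [g2]; match_scalars
      · linear_combination two
      · rfl
      · linear_combination (δ + D.B y x) * two
    by_cases h3 : δ + D.B y x = 0
    · exact ⟨g, hg, g1, by simpa [h3] using g3⟩
    · rw [h1 _ h3] at g3
      refine ⟨g * (Symp.tv D b 1 * Symp.tv D c 1), L.mul_mem hg (hT hc h2), ?_, ?_⟩
      · simp [isom_mul_apply, Symp.tv_apply, D.eq_zero_symm hbc, Symp.B_self, g1]
      · simpa [isom_mul_apply, Symp.tv_apply, y1, y2] using g3
  have nb : ∀ {z}, z ≠ 0 → D.B y z = 0 → z ∉ F ∙ b := fun z0 hz h => by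
    obtain ⟨r, rfl⟩ := Submodule.mem_span_singleton.1 h
    rw [D.B_smul_right, C.symm b y, y1, mul_one] at hz
    exact z0 (by rw [hz, zero_smul])
  have p2 : ∀ x, x ≠ 0 → Om L a x := fun x x0 => by
    have p3 : ∀ x, D.B b x = 1 → Om L a x := fun x hx => by
      obtain ⟨g, hg, -, rfl⟩ := p1 x hx
      exact hy.map hg
    by_cases hx : D.B b x = 0
    swap
    · exact p3 x (h1 _ hx)
    have z1 : D.B b (x + D.B y x • b) = 0 := by simp only [D.B_lin, hx, Symp.B_self]; ring
    have z2 : D.B y (x + D.B y x • b) = 0 := by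
      simp only [D.B_lin, C.symm b y, y1]; linear_combination D.B y x * two
    have e1 : x = x + D.B y x • b + D.B y x • b := by rw [add_assoc, add_self_two two, add_zero]
    by_cases z0 : x + D.B y x • b = 0
    · rw [z0, zero_add] at e1
      rw [e1]
      exact hb.smul fun h => x0 (by rw [e1, h, zero_smul])
    · rw [e1]
      exact C.add_smul hb (C.om_of_add y1 z0 z1 z2 hy (p3 _ (by rw [D.B_add_right, y1, z1, add_zero])))
        z1 (nb z0 z2) _
  refine ⟨hF, ?_, fun h4 => ?_⟩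
  · by_contra h5
    obtain ⟨z, hz, hzc⟩ : ∃ z ∈ D.perp (Submodule.span F {b, y, c}), z ∉ F ∙ c := by
      by_contra h6
      push Not at h6
      have h7 := Submodule.finrank_mono (show D.perp (Submodule.span F {b, y, c}) ≤ F ∙ c from h6)
      have h8 := C.nd.finrank_perp (Submodule.span F {b, y, c})
      classical
      have h9 := (finrank_span_finset_le_card (R := F) ({b, y, c} : Finset V)).trans
        Finset.card_le_three
      rw [Set.finrank, Finset.coe_insert, Finset.coe_pair] at h9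
      rw [finrank_span_singleton (C.ne_zero hc)] at h7
      omega
    rw [D.mem_perp_span] at hz
    obtain ⟨z, z1, z2, z3, hzc, z4⟩ : ∃ z, D.B b z = 0 ∧ D.B y z = 0 ∧ D.B c z = 0 ∧ z ∉ F ∙ c ∧
        In L b z 1 := by
      have z1 := hz b (by simp)
      have z2 := hz y (by simp)
      have z3 := hz c (by simp)
      obtain ⟨δ, h⟩ := C.full hb z z1
      by_cases h6 : δ = 0
      · refine ⟨z + c, by rw [D.B_add_right, z1, hbc, add_zero],
          by rw [D.B_add_right, z2, C.symm, y2, add_zero],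
          by rw [D.B_add_right, z3, Symp.B_self, add_zero], fun h7 => hzc ?_,
          (C.sub h h2 (D.eq_zero_symm z3)).congr rfl rfl (by rw [h6, zero_add])⟩
        simpa using Submodule.sub_mem _ h7 (Submodule.mem_span_singleton_self c)
      · exact ⟨z, z1, z2, z3, hzc, h1 δ h6 ▸ h⟩
    have z0 : z ≠ 0 := by rintro rfl; exact hzc (Submodule.zero_mem _)
    have R : ∀ {x x'}, Om L a x → D.B x x' = 0 → x' ∉ F ∙ x → Symp.tv D x 1 * Symp.tv D x' 1 ∈ L →
        Symp.tv D x 1 * Symp.tv D (x' + x) 1 ∈ L := fun hx h h' h'' => by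
      obtain ⟨g, hg, g1, g2⟩ := C.exists_map hx h h' 1
      have h3 := L.mul_mem (L.mul_mem hg h'') (L.inv_mem hg)
      rwa [← conj_mul, Symp.conj_tv, Symp.conj_tv, g1, g2, one_smul] at h3
    have S : ∀ {x x'}, Symp.tv D b 1 * Symp.tv D x 1 ∈ L → Symp.tv D b 1 * Symp.tv D x' 1 ∈ L →
        Symp.tv D x 1 * Symp.tv D x' 1 ∈ L := fun {x x'} h h' => by
      have := L.mul_mem (L.inv_mem h) h'
      rwa [mul_inv_rev, mul_assoc, inv_mul_cancel_left, Symp.tv_inv,
        show (-1 : F) = 1 by linear_combination -two] at this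
    have t1 := hT hc h2
    have t2 := hT (p2 z z0) z4
    have t3 := R hc z3 hzc (S t1 t2)
    have t4 := R (x := c + b) (by simpa using C.add_smul hb hc hbc h0 1)
      (by rw [D.B_add_left, z1, z3, add_zero]) (fun h => by
        obtain ⟨r, rfl⟩ := Submodule.mem_span_singleton.1 h
        rw [D.B_smul_right, D.B_add_right, C.symm c y, y2, C.symm b y, y1, zero_add, mul_one] at z2
        exact z0 (by rw [z2, zero_smul])) (S (R hb hbc h0 t1) t2)
    have t5 := S t2 (R hb z1 (nb z0 z2) t2)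
    refine one_ne_zero (hB b 1 hb ⟨Symp.isEich (by simp) 1, ?_⟩)
    convert L.mul_mem (L.mul_mem t3 t4) t5 using 1
    refine isom_ext fun v => ?_
    simp only [isom_mul_apply, eich_apply, Symp.tv_apply, D.B_lin, hbc, z1, z3, D.eq_zero_symm hbc,
      D.eq_zero_symm z1, D.eq_zero_symm z3, Symp.B_self, altKind_ε]
    match_scalars
    · rfl
    · linear_combination (-D.B b v - D.B c v - D.B z v) * two
    · linear_combination (-D.B b v - D.B c v - 2 * D.B z v) * two
    · linear_combination (-D.B b v - 2 * D.B c v - D.B z v) * two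
  · have : Finite V := Module.finite_of_finite F
    have : Finite (V ≃ₗ[F] V) := Finite.of_injective _ DFunLike.coe_injective
    have p3 : ∀ x : {x : V // x ≠ 0}, ∃ g ∈ L, g.1 b = x := fun x => by
      obtain ⟨g, hg, t, ht, h⟩ := hb.trans (p2 _ x.2)
      exact ⟨g, hg, by rw [h, h1 t ht, one_smul]⟩
    choose f f1 f2 using p3
    choose k k1 k2 k3 using fun x : {x // D.Q x = 0 ∧ D.B b x = 1} => p1 x.1 x.2.2
    have := Nat.card_le_card_of_injective
      (fun x : {x : V // x ≠ 0} × {x // D.Q x = 0 ∧ D.B b x = 1} =>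
        (⟨f x.1 * k x.2, L.mul_mem (f1 _) (k1 _)⟩ : L)) (by
        rintro ⟨x, u⟩ ⟨x', u'⟩ h
        have h5 : f x * k u = f x' * k u' := congrArg Subtype.val h
        obtain rfl : x = x' := Subtype.ext (by
          rw [← f2 x, ← f2 x', ← k2 u, ← isom_mul_apply, h5, isom_mul_apply, k2 u', k2 u])
        rw [Subtype.ext ((k3 u).symm.trans (mul_left_cancel h5 ▸ k3 u'))])
    have e1 := (Symp.isHyp y1).finrank_hp
    have e2 := card_ne_zero_Q_eq_zero D
    rw [Nat.card_prod, (Symp.isHyp y1).card_partners, Symp.card_ker_tr, hF,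
      Module.natCard_eq_pow_finrank (K := F) (V := D.hp b y), hF,
      show finrank F (D.hp b y) = 2 by omega] at this
    simp only [alt_Q, and_true] at e2
    rw [Nat.card_congr (Equiv.subtypeUnivEquiv fun _ => trivial),
      Module.natCard_eq_pow_finrank (K := F) (V := V), hF, h4] at e2
    omega

end

end Cov

end Cfsg.Lib.Linear.EG
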