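import Cfsg.Agent.Lib.Linear.SpTwo

/-!
Irreducible subgroups of symplectic groups in characteristic two which cover the unipotent radical
of a point stabiliser modulo its transvections: the orthogonal case.
-/

namespace Cfsg.Lib.Linear.EG

open Cfsg.Lib.Forms Cfsg.Lib.Forms.Form Module

variable {F : Type*} [Field F] {V : Type*} [AddCommGroup V] [Module F V] [FiniteDimensional F V]
  [Finite F]

theorem dickson_eich {Q : Form (quadKind F) V} (hQ : Q.Nondeg) {e z : V} {d : F}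
    (h : Q.IsEich e z d) : dickson hQ (Q.eich e z d h) = 1 := by
  by_cases hz : Q.Q z = 0
  swap
  · rw [eich_eq_refl_mul h hz, map_mul, dickson_refl hQ hz, dickson_refl hQ (by rwa [h.Q_sub])]
    simp
  by_cases h1 : z ∈ F ∙ e
  · obtain ⟨d', h', h2⟩ := exists_eich_eq_of_mem_span h h1
    rw [h2, quad_eich_zero, map_one]
  by_cases he : e = 0
  · subst he; rw [eich_zero_left, map_one]
  have hd : d = 0 := h.quad_eq.trans hz
  subst hd
  rw [dickson_eq_one_iff]
  have : LinearMap.range (((Q.eich e z 0 h).1 : V →ₗ[F] V) - 1) = Submodule.span F {e, z} := by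
    apply le_antisymm
    · rintro _ ⟨x, rfl⟩
      refine Submodule.mem_span_pair.2 ⟨Q.B z x, -Q.B e x, ?_⟩
      simp only [LinearMap.sub_apply, LinearEquiv.coe_coe, eich_apply, Module.End.one_apply,
        quadKind_ε]
      module
    · rw [Submodule.span_le, Set.insert_subset_iff, Set.singleton_subset_iff]
      obtain ⟨x, hx, x1⟩ := hQ.exists_perp_B_eq' h1 1
      obtain ⟨y, hy, y1⟩ := hQ.exists_perp_B_eq' (not_mem_span_symm he h1) (-1)
      rw [Q.mem_perp_span_singleton] at hx hy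
      exact ⟨⟨x, by simp [eich_apply, hx, x1]⟩, ⟨y, by simp [eich_apply, hy, y1]⟩⟩
  rw [this, show ({e, z} : Set V) = Set.range ![e, z] by simp [Set.pair_comm],
    finrank_span_eq_card (LinearIndependent.pair_iff' he |>.2 fun a ha =>
      h1 (Submodule.mem_span_singleton.2 ⟨a, ha⟩))]
  simp

theorem ker_dickson_le_E {Q : Form (quadKind F) V} (hQ : Q.Nondeg) (h2 : (2 : F) = 0)
    (hn : 4 ≤ finrank F V) : (dickson hQ).ker ≤ Q.E := by
  by_cases hG : Q.Good
  · rw [← hQ.commutator_eq_ker_of_two_eq_zero hG h2, hQ.commutator_eq_E hG hn]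
  simp only [Good, not_or, not_exists, not_and, not_not] at hG
  obtain ⟨h1, h4, hT⟩ := hG
  have hE : Q.E ≤ (dickson hQ).ker := E_le fun _ _ _ h => dickson_eich hQ h
  obtain ⟨e, e0, he⟩ := hasTS_one_iff.1 (hT.mono one_le_two)
  obtain ⟨f, hf⟩ := hQ.exists_isHyp he e0
  obtain ⟨e', e0', he'⟩ := hasTS_one_iff.1 ((hf.hasTS_succ_iff hQ).1 hT)
  obtain ⟨f', hf'⟩ := (hf.nondeg_hp hQ).exists_isHyp he' e0'
  intro g hg
  obtain ⟨k, hk, k1⟩ := hQ.exists_mem_E_map hn ((LinearEquiv.map_ne_zero_iff g.1).2 e0) e0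
    (Q_isom g e)
  have b1 : Q.B e ((k * g).1 f) = 1 := by
    rw [← k1, ← isom_mul_apply, B_isom, hf.B_ef]
  obtain ⟨d, h, k2⟩ := Q.exists_eich_map (x := (k * g).1 f) (y := f) he (by rw [b1, hf.B_ef])
    (by rw [b1]; exact one_ne_zero) (Q_isom _ f)
  set l := Q.eich _ _ _ h with hl
  have hl' : l * k ∈ Q.E := Q.E.mul_mem (eich_mem_E _ _ _ h) hk
  suffices l * (k * g) = 1 by
    rw [← mul_assoc, mul_eq_one_iff_inv_eq] at this
    exact this ▸ Q.E.inv_mem hl'
  have hd : dickson hQ (l * (k * g)) = 1 := by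
    rw [← mul_assoc, map_mul, hE hl', hg, one_mul]
  have g1 : (l * (k * g)).1 e = e := by rw [isom_mul_apply, isom_mul_apply, k1, eich_apply_self]
  have g2 : (l * (k * g)).1 f = f := k2
  generalize l * (k * g) = u at hd g1 g2
  have hw : ∀ w : Q.hp e f, ∃ s t : F, w.1 = s • e'.1 + t • f'.1 := fun w => by
    obtain ⟨v, hv, h⟩ := hf'.exists_comb w
    have h5 := hf'.finrank_hp
    have h6 := hf.finrank_hp
    rw [Submodule.finrank_eq_zero.1 (show finrank F ((Q.restrict _).hp e' f') = 0 by omega),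
      Submodule.mem_bot] at hv
    exact ⟨_, _, by rw [h, hv, add_zero]; rfl⟩
  have hu : ∀ w : Q.hp e f, u.1 w ∈ Q.hp e f := fun w => Q.mem_hp.2
    ⟨by have := B_isom u e w; rwa [g1, (Q.mem_hp.1 w.2).1] at this,
      by have := B_isom u f w; rwa [g2, (Q.mem_hp.1 w.2).2] at this⟩
  have q1 : Q.Q e' = 0 := hf'.Q_e
  have q2 : Q.Q f' = 0 := hf'.Q_f
  have q3 : Q.B e' f' = 1 := hf'.B_ef
  have q4 : Q.B f' e' = 1 := by rw [quad_symm, q3]
  have q5 : Q.Q (e'.1 + f'.1) = 1 := by rw [quad_Q_add, q1, q2, q3]; simp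
  have hs : ∀ w : Q.hp e f, Q.Q w = 0 → w.1 ≠ 0 → u.1 w = e' ∨ u.1 w = f' := fun w w1 w0 => by
    obtain ⟨s, t, h⟩ := hw ⟨_, hu w⟩
    simp only at h
    have w2 := Q_isom u w
    have w3 := (LinearEquiv.map_ne_zero_iff u.1).2 w0
    by_cases hs : s = 0 <;> by_cases ht : t = 0
    · simp [h, hs, ht] at w3
    · simp [h, hs, h1 t ht]
    · simp [h, ht, h1 s hs]
    · rw [h, h1 s hs, h1 t ht, one_smul, one_smul, q5, w1] at w2
      simp at w2
  have ext : ∀ u' : Q.isom, u'.1 e = e → u'.1 f = f → u'.1 e' = u.1 e' → u'.1 f' = u.1 f' →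
      u = u' := fun u' a b c d => isom_ext fun x => by
    obtain ⟨w, hw', h⟩ := hf.exists_comb x
    obtain ⟨s, t, h'⟩ := hw ⟨w, hw'⟩
    simp only at h'
    rw [h, h']
    simp only [map_add, map_smul, a, b, c, d, g1, g2]
  have b2 := B_isom u e' f'
  rcases hs e' q1 (by simpa using e0') with c1 | c1 <;>
    rcases hs f' q2 (by simpa using hf'.f_ne_zero) with c2 | c2
  · rw [c1, c2, Q.B_self_of_Q q1, q3] at b2; simp at b2
  · exact ext 1 rfl rfl c1.symm c2.symm
  · have := ext (Q.refl (e'.1 + f'.1))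
      (refl_apply_of_perp (Q.eq_zero_symm (Q.mem_hp.1 (e' + f').2).1))
      (refl_apply_of_perp (Q.eq_zero_symm (Q.mem_hp.1 (e' + f').2).2))
      (by rw [refl_apply, c1, q5, Q.B_add_left, Q.B_self_of_Q q1, q4]; match_scalars
          · ring
          · linear_combination -h2)
      (by rw [refl_apply, c2, q5, Q.B_add_left, Q.B_self_of_Q q2, q3]; match_scalars
          · ring
          · linear_combination -h2)
    rw [this, dickson_refl hQ (by simp [q5])] at hd
    exact absurd hd (by decide)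
  · rw [c1, c2, Q.B_self_of_Q q2, q3] at b2; simp at b2

variable {D : Form (altKind F) V} {L : Subgroup D.isom} {a : V}

namespace Cov

variable (C : Cov L a) (hB : ∀ b c δ, Om L a b → (c = 0 ∨ Om L a c) → In L b c δ → δ = 0)
include C hB

theorem eq_of_om {p b z : V} {δ x : F} (hp : Om L a p) (hb : Om L a b) (h1 : D.B p b = 1)
    (hz : D.B b z = 0) (h : In L p z δ) (h' : Om L a (b + z + x • p)) : x = δ := by
  obtain ⟨g, hg, -, g2⟩ := C.move h h1 hz (δ + x)
  rw [← add_assoc δ, ← two_mul, C.two, zero_mul, zero_add] at g2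
  have h2 := h'.map (L.inv_mem hg)
  rw [← g2, isom_inv_apply] at h2
  suffices δ + x = 0 by linear_combination this - δ * C.two
  rcases C.iso_or hp hb h1 with ⟨w, hw, w1, w2⟩ | h3
  · by_contra h3
    obtain ⟨δ₁, e1⟩ := C.full hw b (D.eq_zero_symm w2)
    obtain ⟨δ₂, e2⟩ := C.full hw ((δ + x) • p) (by rw [D.B_smul_right, D.eq_zero_symm w1, mul_zero])
    have := hB _ _ _ hw (Or.inr h2) (e1.mul e2)
    rw [hB _ _ _ hw (Or.inr hb) e1, hB _ _ _ hw (Or.inr (hp.smul h3)) e2, D.B_smul_right, C.symm,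
      h1] at this
    exact h3 (by simpa using this)
  · exact h3.2 _ h2

theorem in_smul {p b z : V} {δ : F} (hp : Om L a p) (hb : Om L a b) (h1 : D.B p b = 1)
    (hz : D.B b z = 0) (h : In L p z δ) (t : F) : In L p (t • z) (t ^ 2 * δ) := by
  have hB' : ∀ c d, Om L a c → In L c 0 d → d = 0 := fun c d hc => hB c 0 d hc (Or.inl rfl)
  have hz' := h.1.B_ez
  have add : ∀ {p}, Om L a p → D.B p z = 0 → ∃ f : F →+ F, ∀ t, In L p (t • z) (f t) :=
    fun {p} hp hz => by
    choose f hf using fun t : F => C.full hp (t • z) (by rw [D.B_smul_right, hz, mul_zero])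
    exact ⟨AddMonoidHom.mk' f fun s t => C.uniq hB' hp (hf _)
      ((C.sub (hf s) (hf t) (by simp [Symp.B_self])).congr rfl (_root_.add_smul ..).symm rfl), hf⟩
  obtain ⟨f, hf⟩ := add hp hz'
  obtain ⟨g, hg⟩ := add hb hz
  have om : ∀ t, Om L a (b + t • z + f t • p) := fun t => by
    obtain ⟨k, hk, -, k2⟩ := C.move (hf t) h1 (by rw [D.B_smul_right, hz, mul_zero]) 0
    have := (show Om L a (b + (0 : F) • p) by simpa using hb).map hk
    rwa [k2, add_zero] at this
  suffices f t = t ^ 2 * f 1 by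
    rw [C.uniq hB' hp h ((hf 1).congr rfl (one_smul _ _) rfl), ← this]; exact hf t
  by_cases h0 : ∃ s, s ≠ 0 ∧ f s = 0
  · obtain ⟨s, hs, h0⟩ := h0
    have : ∀ r, f r = 0 := fun r => hB _ _ _ hp (by
      by_cases h3 : r • z = 0
      · exact Or.inl h3
      obtain ⟨r0, z0⟩ := smul_ne_zero_iff.1 h3
      have := (C.om_of_add h1 (smul_ne_zero hs z0) (by rw [D.B_smul_right, hz', mul_zero])
        (by rw [D.B_smul_right, hz, mul_zero]) hb (by simpa [h0] using om s)).smul
        (div_ne_zero r0 hs)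
      rw [smul_smul, div_mul_cancel₀ _ hs] at this
      exact Or.inr this) (hf r)
    simp [this]
  have f1 : Function.Bijective f := Finite.injective_iff_bijective.1
    ((injective_iff_map_eq_zero f).2 fun s hs => by_contra fun h3 => h0 ⟨s, h3, hs⟩)
  have e1 : ∀ s, f s ≠ 0 → g (s / f s) = 1 / f s := fun s hs =>
    (C.eq_of_om hB hb hp (by rw [C.symm, h1]) (by rw [D.B_smul_right, hz', mul_zero]) (hg _) (by
      convert (om s).smul (inv_ne_zero hs) using 1
      match_scalars <;> field_simp)).symm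
  have g1 : Function.Bijective g := Finite.surjective_iff_bijective.1 fun r => by
    by_cases hr : r = 0
    · exact ⟨0, by simp [hr]⟩
    obtain ⟨s, hs⟩ := f1.2 r⁻¹
    exact ⟨_, by rw [e1 s (hs ▸ inv_ne_zero hr), hs]; simp⟩
  let f' := AddEquiv.ofBijective f f1
  let g' := AddEquiv.ofBijective g g1
  have e2 := kurepa C.two f'.symm.toAddMonoidHom g'.symm.toAddMonoidHom fun s hs => by
    obtain ⟨r, rfl⟩ := f'.surjective s
    refine g'.symm_apply_eq.2 ?_
    rw [AddEquiv.coe_toAddMonoidHom, f'.symm_apply_apply]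
    exact (e1 r hs).symm
  have e3 : ∀ x, f (x * f'.symm 1) = x ^ 2 := fun x => by
    have := f'.symm_apply_eq.1 (e2 x)
    exact this.symm
  have c0 : f'.symm 1 ≠ 0 := fun h3 => by simpa [h3] using e3 1
  have e4 := e3 (t / f'.symm 1)
  have e5 := e3 (1 / f'.symm 1)
  rw [div_mul_cancel₀ _ c0] at e4 e5
  rw [e4, e5]; field_simp

theorem quad : ∃ Q : Form (quadKind F) V, (∀ x y, Q.B x y = D.B x y) ∧
    (∀ x, Om L a x → Q.Q x = 0) ∧ ∀ z, D.B a z = 0 → In L a z (Q.Q z) := by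
  classical
  have hB' : ∀ c d, Om L a c → In L c 0 d → d = 0 := fun c d hc => hB c 0 d hc (Or.inl rfl)
  have two := C.two
  obtain ⟨b, hb, h1⟩ := C.partner C.ne
  have h1' : D.B b a = 1 := by rw [C.symm, h1]
  let π : V →ₗ[F] V := LinearMap.id + (D.B b).smulRight a + (D.B a).smulRight b
  have hπ : ∀ v, π v = v + D.B b v • a + D.B a v • b := fun v => rfl
  have π1 : ∀ v, D.B a (π v) = 0 := fun v => by
    simp only [hπ, D.B_lin, Symp.B_self, h1]; linear_combination D.B a v * two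
  have π2 : ∀ v, D.B b (π v) = 0 := fun v => by
    simp only [hπ, D.B_lin, Symp.B_self, h1']; linear_combination D.B b v * two
  choose φ hφ using fun v => C.cov (π v) (π1 v)
  have U := fun {z δ δ'} => C.uniq hB' (z := z) (δ := δ) (δ' := δ') Om.self
  have φ1 : ∀ x y, φ (x + y) = φ x + φ y + D.B (π x) (π y) := fun x y =>
    U (hφ _) (((hφ x).mul (hφ y)).congr rfl (map_add ..).symm rfl)
  have φ2 : ∀ (t : F) x, φ (t • x) = t ^ 2 * φ x := fun t x =>
    U (hφ _) ((C.in_smul hB Om.self hb h1 (π2 x) (hφ x) t).congr rfl (map_smul ..).symm rfl)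
  have φ3 : ∀ z, D.B a z = 0 → In L a z (φ z) := fun z hz =>
    ((hφ z).add_smul (D.B b z)).congr rfl (by
      rw [hπ, hz, zero_smul, add_zero, add_assoc, add_self_two two, add_zero])
      (by simp only [altKind_ε, RingHom.id_apply]; linear_combination -D.B b z * two)
  let Q : Form (quadKind F) V :=
    { B := D.B
      Q := fun v => D.B a v * D.B b v + φ v
      symm := fun x y => by simp [C.symm x y]
      Q_add := fun x y => by
        rw [φ1]
        simp only [hπ, D.B_lin, Symp.B_self, h1, h1', quadKind_tr, RingHom.id_apply, C.symm a x,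
          C.symm b x]
        linear_combination 2 * (D.B a x * D.B b y + D.B b x * D.B a y) * two
      Q_smul := fun t x => by rw [φ2]; simp only [D.B_lin, RingHom.id_apply]; ring
      B_self := fun x => by simp [Symp.B_self, two]
      Q_mem := fun x => ⟨_, rfl⟩ }
  have hQ : ∀ v, Q.Q v = D.B a v * D.B b v + φ v := fun v => rfl
  refine ⟨Q, fun _ _ => rfl, fun x hx => ?_, fun z hz => by simpa [hQ, hz] using φ3 z hz⟩
  by_cases h2 : D.B a x = 0
  · rw [hQ, h2, hB _ _ _ Om.self (Or.inr hx) (φ3 x h2)]; simp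
  have h3 := hx.smul (inv_ne_zero h2)
  have h4 : D.B a ((D.B a x)⁻¹ • x) = 1 := by rw [D.B_smul_right, inv_mul_cancel₀ h2]
  suffices Q.Q ((D.B a x)⁻¹ • x) = 0 by
    rw [quad_Q_smul] at this
    exact (mul_eq_zero.1 this).resolve_left (pow_ne_zero _ (inv_ne_zero h2))
  generalize (D.B a x)⁻¹ • x = v at h3 h4
  have := C.eq_of_om hB Om.self hb h1 (π2 v) (hφ v) (x := D.B b v) (by
    convert h3 using 1
    rw [hπ, h4]; match_scalars
    · linear_combination two
    · rfl
    · linear_combination D.B b v * two)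
  rw [hQ, h4, ← this]; linear_combination D.B b v * two

theorem orth (hn : 4 ≤ finrank F V) : ∃ Q : Form (quadKind F) V, (∀ x y, Q.B x y = D.B x y) ∧
    ((∀ g : D.isom, g ∈ L ↔ ∀ x, Q.Q (g.1 x) = Q.Q x) ∨ ∀ g : D.isom, g ∈ L ↔
      (∀ x, Q.Q (g.1 x) = Q.Q x) ∧ Even (finrank F (LinearMap.range ((g.1 : V →ₗ[F] V) - 1)))) := by
  obtain ⟨Q, h1, h2, h3⟩ := C.quad hB
  have two := C.two
  have hQ : Q.Nondeg := fun x hx => C.nd x fun y => h1 x y ▸ hx y
  have h4 : ∀ g ∈ L, ∀ x, Q.Q (g.1 x) = Q.Q x := fun g hg x => by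
    let W : Submodule F V :=
      { carrier := {x | Q.Q (g.1 x) = Q.Q x}
        add_mem' := fun {x y} hx hy => by
          simp only [Set.mem_ofPred_eq] at hx hy ⊢
          rw [map_add, quad_Q_add, quad_Q_add, hx, hy, h1, h1, B_isom]
        zero_mem' := by simp
        smul_mem' := fun t x hx => by
          simp only [Set.mem_ofPred_eq] at hx ⊢
          rw [map_smul, quad_Q_smul, quad_Q_smul, hx] }
    exact (C.eq_top (W := W) fun x hx => (h2 _ (hx.map hg)).trans (h2 _ hx).symm).ge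
      (Submodule.mem_top (x := x))
  let L' : Subgroup Q.isom := (L.map D.isom.subtype).subgroupOf Q.isom
  have hL : ∀ (g : D.isom) h, (⟨g.1, h⟩ : Q.isom) ∈ L' ↔ g ∈ L := fun g h =>
    ⟨fun ⟨k, hk, e⟩ => (show k = g from Subtype.ext e) ▸ hk, fun hg => ⟨g, hg, rfl⟩⟩
  have f1 : Full L' a := fun z d h => by
    obtain ⟨h', hm⟩ := h3 z (h1 a z ▸ h.B_ez)
    refine ⟨h, _, hm, LinearEquiv.ext fun x => ?_⟩
    simp only [Subgroup.coe_subtype, eich_apply, h1, altKind_ε, quadKind_ε, h.quad_eq]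
    match_scalars
    · rfl
    · linear_combination D.B a x * Q.Q z * two
    · linear_combination D.B a x * two
  obtain ⟨b, hb, b1⟩ := C.partner C.ne
  have f2 : Full L' b := by
    obtain ⟨g, hg, t, ht, rfl⟩ := hb
    exact (f1.map ((hL g (mem_isom_quad.2 (h4 g hg))).2 hg)).smul ht
  have h5 := (ker_dickson_le_E hQ two hn).trans (E_le_of_full hQ (Or.inr (by omega))
    (h2 _ Om.self) (h2 _ hb) f1 f2 (by rw [h1, b1]; exact one_ne_zero))
  have : Nontrivial V := Module.nontrivial_of_finrank_pos (R := F) (by omega)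
  have h6 := Subgroup.index_dvd_of_le h5
  rw [hQ.index_ker_dickson, Nat.dvd_prime Nat.prime_two] at h6
  refine ⟨Q, h1, h6.imp (fun h6 g => ⟨h4 g, fun hg => ?_⟩) fun h6 g => ⟨fun hg => ⟨h4 g hg, ?_⟩,
    fun hg => ?_⟩⟩
  · exact (hL g (mem_isom_quad.2 hg)).1 (Subgroup.index_eq_one.1 h6 ▸ trivial)
  · have h7 := Subgroup.relIndex_mul_index h5
    rw [h6, hQ.index_ker_dickson] at h7
    exact (dickson_eq_one_iff hQ ⟨g.1, mem_isom_quad.2 (h4 g hg)⟩).1
      (Subgroup.relIndex_eq_one.1 (show (dickson hQ).ker.relIndex L' = 1 by omega) ((hL g _).2 hg))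
  · exact (hL g (mem_isom_quad.2 hg.1)).1 (h5 ((dickson_eq_one_iff hQ _).2 hg.2))

omit hB in
theorem main (hn : 4 ≤ finrank F V) : L = ⊤ ∨
    (∃ Q : Form (quadKind F) V, (∀ x y, Q.B x y = D.B x y) ∧
    ((∀ g : D.isom, g ∈ L ↔ ∀ x, Q.Q (g.1 x) = Q.Q x) ∨ ∀ g : D.isom, g ∈ L ↔
      (∀ x, Q.Q (g.1 x) = Q.Q x) ∧ Even (finrank F (LinearMap.range ((g.1 : V →ₗ[F] V) - 1))))) ∨
    (Nat.card F = 2 ∧ finrank F V = 4 ∧ 120 ≤ Nat.card L) := by
  by_cases h1 : ∀ c d, Om L a c → In L c 0 d → d = 0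
  swap
  · push Not at h1
    obtain ⟨c, d, hc, h, hd⟩ := h1
    exact Or.inl (C.eq_top_of_tv hc hd h)
  by_cases h2 : ∀ b c δ, Om L a b → (c = 0 ∨ Om L a c) → In L b c δ → δ = 0
  · exact Or.inr (Or.inl (C.orth h2 hn))
  push Not at h2
  obtain ⟨b, c, δ, hb, hc, h, hδ⟩ := h2
  obtain ⟨h3, h4, h5⟩ := C.exc h1 hb (hc.resolve_left fun h' => hδ (h1 b δ hb (h' ▸ h))) h hδ
  exact Or.inr (Or.inr ⟨h3, by omega, h5 (by omega)⟩)

end Cov

end Cfsg.Lib.Linear.EG
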