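import Cfsg.Agent.Lib.Fus.AltW

/-! Sylow `2`-subgroups of symmetric and alternating groups are self-normalising. -/

set_option autoImplicit false

namespace Cfsg.Lib.Linear

open Equiv Equiv.Perm Subgroup Sum Cfsg.Lib.Fus Cfsg.Lib.Amalg

variable {ι ρ : Type} [Fintype ι] [DecidableEq ι] [Fintype ρ] [DecidableEq ρ]

theorem zmod_two_cases (x y : ZMod 2) : y = x ∨ y = x + 1 := by revert x y; decide

theorem baff_single (i : ι) : baff ρ 1 1 (Pi.single i (1 : ZMod 2)) = swap (inl (i, 0)) (inl (i, 1)) :=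
  bpt_ext (fun j x => by
    by_cases h : j = i
    · subst h; rcases zmod_two_cases 0 x with rfl | rfl <;> simp; rfl
    · simp [h, swap_apply_of_ne_of_ne]) fun r => by simp [swap_apply_of_ne_of_ne]

theorem sign_baff_single (i : ι) : sign (baff ρ 1 1 (Pi.single i (1 : ZMod 2))) = -1 := by
  rw [baff_single, sign_swap (by simp)]

theorem exists_baff_of_commute [Subsingleton ρ] {g : Perm (BPt ι ρ 2)} (h : Commute g (baff ρ 1 1 1)) :
    ∃ σ μ, g = baff ρ σ 1 μ := by
  have h0 : ∀ i x, g (inl (i, x + 1)) = baff ρ 1 1 1 (g (inl (i, x))) := fun i x => by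
    simpa using congrArg (· (inl (i, x))) h.eq
  have h1 : ∀ i, ∃ y, g (inl (i, 0)) = inl y := fun i => by
    rcases hy : g (inl (i, 0)) with y | r
    · exact ⟨y, rfl⟩
    · have := h0 i 0
      rw [hy, baff_inr, ← hy] at this
      simpa using g.injective this
  choose y hy using h1
  have h2 : ∀ i x, g (inl (i, x)) = inl ((y i).1, x + (y i).2) := fun i x => by
    rcases zmod_two_cases 0 x with rfl | rfl
    · simpa using hy i
    · rw [h0, hy, ← Prod.mk.eta (p := y i), baff_inl]; simp [add_comm]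
  have h3 : Function.Injective fun i => (y i).1 := fun i j hij => by
    have := (h2 i (y j).2).trans ((by simp [show (y i).1 = (y j).1 from hij, add_comm] : _ = _).trans (h2 j (y i).2).symm)
    simpa using congrArg (Sum.map Prod.fst id) (g.injective this)
  refine ⟨Equiv.ofBijective _ h3.bijective_of_finite, fun i => (y i).2, bpt_ext (by simpa using h2) fun r => ?_⟩
  rcases hr : g (inr r) with ⟨i, x⟩ | s
  · obtain ⟨j, rfl⟩ := h3.surjective_of_finite (Equiv.refl _) i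
    have := h2 j (x - (y j).2)
    rw [sub_add_cancel, ← hr] at this
    simp at this
  · simp [Subsingleton.elim s r]

theorem eq_of_commute [Subsingleton ρ] {W : Subgroup (Perm (BPt ι ρ 2))} (h1 : ∀ i, ∃ μ, μ i = 1 ∧ baff ρ 1 1 μ ∈ W)
    (h2 : ∀ i l, i ≠ l → ∃ μ, μ i = 1 ∧ μ l = 0 ∧ baff ρ 1 1 μ ∈ W) {κ : Perm (BPt ι ρ 2)}
    (h3 : ∀ w ∈ W, ∀ x, κ (w x) = w (κ x)) (h4 : ∀ x y, κ x = x → κ y = y → x = y) : κ = baff ρ 1 1 1 := by
  refine bpt_ext (fun i x => ?_) fun r => ?_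
  · have h6 : ∀ μ, μ i = 1 → baff ρ 1 1 μ ∈ W → baff ρ 1 1 μ (κ (inl (i, x))) ≠ κ (inl (i, x)) := fun μ hμ hw h => by
      simpa [hμ] using (h3 _ hw _).trans h
    rcases hy : κ (inl (i, x)) with ⟨l, d⟩ | r
    · by_cases hl : i = l
      · subst hl
        rcases zmod_two_cases x d with rfl | rfl
        · obtain ⟨μ, hμ, hw⟩ := h1 i
          have := h4 _ _ hy (by rw [h3 _ hw, hy])
          rw [baff_inl, hμ] at this
          simp at this
        · simp
      · obtain ⟨μ, hμ, hμ', hw⟩ := h2 i l hl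
        exact absurd (by simp [hy, hμ']) (h6 μ hμ hw)
    · obtain ⟨μ, hμ, hw⟩ := h1 i
      exact absurd (by simp [hy]) (h6 μ hμ hw)
  · rcases hy : κ (inr r) with ⟨l, d⟩ | s
    · obtain ⟨μ, hμ, hw⟩ := h1 l
      simpa [hy, hμ] using h3 _ hw (inr r)
    · simp [Subsingleton.elim s r]

theorem mem_bwr_of_mem_normalizer [Subsingleton ρ] {Q : Subgroup (Perm ι)} (hQ : normalizer (Q : Set (Perm ι)) ≤ Q)
    {W : Subgroup (Perm (BPt ι ρ 2))} (hW : W ≤ bwr ρ 2 Q) (h1 : ∀ i, ∃ μ, μ i = 1 ∧ baff ρ 1 1 μ ∈ W)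
    (h2 : ∀ i l, i ≠ l → ∃ μ, μ i = 1 ∧ μ l = 0 ∧ baff ρ 1 1 μ ∈ W) (h3 : ∀ q ∈ Q, ∃ ν, baff ρ q 1 ν ∈ W) :
    normalizer (W : Set (Perm (BPt ι ρ 2))) ≤ bwr ρ 2 Q := by
  intro g hg
  have h4 := eq_of_commute h1 h2 (κ := g⁻¹ * baff ρ 1 1 1 * g) (fun w hw x => by
    obtain ⟨σ, -, μ, h⟩ := hW ((mem_normalizer_iff.mp hg w).mp hw)
    rw [show w = g⁻¹ * baff ρ σ 1 μ * g by rw [← h]; group]
    simp only [Perm.mul_apply, Perm.coe_inv, apply_symm_apply]
    rcases g x with ⟨i, x⟩ | r <;> simp [add_right_comm]) fun x y hx hy => g.injective (by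
      simp only [Perm.mul_apply, Perm.coe_inv, symm_apply_eq] at hx hy
      generalize g x = a at hx
      generalize g y = b at hy
      rcases a with ⟨i, x⟩ | r <;> rcases b with ⟨j, y⟩ | s <;> simp_all [eq_iff_true_of_subsingleton])
  obtain ⟨σ, μ, rfl⟩ := exists_baff_of_commute (g := g) (by
    rw [Commute, SemiconjBy, ← inv_mul_eq_iff_eq_mul.mp (mul_assoc g⁻¹ _ g ▸ h4)])
  refine baff_mem_bwr (hQ (mem_normalizer_fintype fun q hq => ?_)) _
  obtain ⟨ν, hν⟩ := h3 q hq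
  obtain ⟨q', hq', ν', h⟩ := hW ((mem_normalizer_iff.mp hg _).mp hν)
  rw [mul_inv_eq_iff_eq_mul, baff_mul, baff_mul] at h
  have := congrArg (fun g : Perm (BPt ι ρ 2) => fun i => (g (inl (i, 0))).map Prod.fst id) h
  rwa [show σ * q * σ⁻¹ = q' from mul_inv_eq_of_eq_mul (Equiv.ext fun i => by simpa using congrFun this i)]

theorem normalizer_syl_two (n : ℕ) : ∀ {α : Type} [Fintype α] [DecidableEq α] {P : Subgroup (Perm α)},
    Fintype.card α = n → Syl 2 P ⊤ → normalizer (P : Set (Perm α)) ≤ P ∧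
      (6 ≤ n → normalizer ((P ⊓ alternatingGroup α : Subgroup (Perm α)) : Set (Perm α)) ≤ P) := by
  induction n using Nat.strong_induction_on with
  | _ n ih =>
  intro α _ _ P hn hP
  rcases n.eq_zero_or_pos with rfl | h0
  · have := Fintype.card_eq_zero_iff.mp hn
    exact ⟨fun x _ => Subsingleton.elim 1 x ▸ one_mem _, by simp⟩
  obtain ⟨Q, hQ⟩ := exists_syl 2 (⊤ : Subgroup (Perm (Fin (n / 2))))
  let e : BPt (Fin (n / 2)) (Fin (n % 2)) 2 ≃ α := Fintype.equivOfCardEq (by simp [ZMod.card, hn, Nat.div_add_mod'])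
  obtain ⟨g, -, rfl⟩ := ((syl_bwr (by simpa using Nat.mod_lt n two_pos) hQ).map_top
    (f := e.permCongrHom.toMonoidHom) e.permCongrHom.surjective).exists_conj hP
  have : Subsingleton (Fin (n % 2)) := Fintype.card_le_one_iff_subsingleton.mp (by simp; omega)
  have h1 := (ih _ (Nat.div_lt_self h0 one_lt_two) (Fintype.card_fin _) hQ).1
  have h2 : cj g ((bwr (Fin (n % 2)) 2 Q).map e.permCongrHom.toMonoidHom) =
      (bwr (Fin (n % 2)) 2 Q).map (e.permCongrHom.trans (MulAut.conj g)).toMonoidHom := map_map ..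
  have h3 : alternatingGroup α = (alternatingGroup _).map (e.permCongrHom.trans (MulAut.conj g)).toMonoidHom := by
    ext x
    obtain ⟨x, rfl⟩ := (e.permCongrHom.trans (MulAut.conj g)).surjective x
    refine Iff.trans ?_ (mem_map_iff_mem (e.permCongrHom.trans (MulAut.conj g)).injective).symm
    simp [mem_alternatingGroup, mul_right_comm]
  rw [h2, h3, ← map_inf _ _ _ (MulEquiv.injective _), ← map_equiv_normalizer_eq, ← map_equiv_normalizer_eq]
  refine ⟨map_mono (mem_bwr_of_mem_normalizer h1 le_rfl (fun i => ⟨1, rfl, baff_mem_bwr (one_mem _) _⟩)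
    (fun i l h => ⟨Pi.single i 1, by simp, by simp [h.symm], baff_mem_bwr (one_mem _) _⟩)
    fun q hq => ⟨0, baff_mem_bwr hq _⟩), fun h6 => ?_⟩
  have h4 : ∀ i l : Fin (n / 2), ∃ μ, μ i = 1 ∧ (i ≠ l → μ l = 0) ∧
      baff (Fin (n % 2)) 1 1 μ ∈ bwr (Fin (n % 2)) 2 Q ⊓ alternatingGroup _ := fun i l => by
    obtain ⟨j, hj⟩ := Finset.exists_mem_notMem_of_card_lt_card (s := {i, l}) (t := Finset.univ)
      ((Finset.card_le_two).trans_lt (by simp; omega))
    simp only [Finset.mem_univ, Finset.mem_insert, Finset.mem_singleton, not_or, true_and] at hj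
    exact ⟨Pi.single i 1 + Pi.single j 1, by simp [Ne.symm hj.1], fun h => by simp [h.symm, Ne.symm hj.2],
      baff_mem_bwr (one_mem _) _, mem_alternatingGroup.mpr <| by rw [btr_add, map_mul, sign_baff_single, sign_baff_single]; simp⟩
  refine map_mono (mem_bwr_of_mem_normalizer h1 inf_le_left (fun i => (h4 i i).imp fun _ h => ⟨h.1, h.2.2⟩)
    (fun i l h => (h4 i l).imp fun _ h' => ⟨h'.1, h'.2.1 h, h'.2.2⟩) fun q hq => ?_)
  rcases Int.units_eq_one_or (sign (bphi (Fin (n % 2)) 2 q)) with h | h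
  · exact ⟨0, baff_mem_bwr hq _, h⟩
  · exact ⟨Pi.single ⟨0, by omega⟩ 1, baff_mem_bwr hq _, mem_alternatingGroup.mpr <| by
      rw [baff_eq, map_mul, sign_baff_single, h]; simp⟩

theorem normalizer_sylow_alt {α : Type} [Fintype α] [DecidableEq α] (h : 6 ≤ Fintype.card α)
    (S : Sylow 2 (alternatingGroup α)) :
    normalizer ((S : Subgroup (alternatingGroup α)) : Set (alternatingGroup α)) ≤ S := by
  have h1 := syl_of_sylow S
  obtain ⟨P, hP, h2⟩ := exists_syl_ge h1.isPGroup le_top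
  have h3 := h1.eq_of_le (P ⊓ alternatingGroup α) (le_inf h2 h1.le) inf_le_right hP.isPGroup.to_inf_left
  intro g hg
  have h4 := (normalizer_syl_two _ rfl hP).2 h (h3 ▸ le_normalizer_map _ (mem_map_of_mem _ hg))
  exact (mem_map_iff_mem Subtype.val_injective).mp (h3.le ⟨h4, g.2⟩)

end Cfsg.Lib.Linear
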