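import Cfsg.Agent.Lib.Linear.SylTwo
import Cfsg.Agent.Lib.Linear.SmallRec
import Cfsg.Agent.Lib.Perm.Basic

/-! Overgroups of Sylow `2`-subgroups of symmetric and alternating groups. -/

set_option autoImplicit false

namespace Cfsg.Lib.Linear

open Equiv Equiv.Perm Subgroup Sum Cfsg.Lib.Fus Cfsg.Lib.Amalg MulAction

variable {α : Type} [Fintype α] [DecidableEq α] {P : Subgroup (Perm α)}

theorem exists_eq_bwr (hP : Syl 2 P ⊤) : ∃ (Q : Subgroup (Perm (Fin (Fintype.card α / 2))))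
    (e : BPt (Fin (Fintype.card α / 2)) (Fin (Fintype.card α % 2)) 2 ≃ α), Syl 2 Q ⊤ ∧
      P = (bwr _ 2 Q).map e.permCongrHom.toMonoidHom := by
  obtain ⟨Q, hQ⟩ := exists_syl 2 (⊤ : Subgroup (Perm (Fin (Fintype.card α / 2))))
  let e : BPt (Fin (Fintype.card α / 2)) (Fin (Fintype.card α % 2)) 2 ≃ α :=
    Fintype.equivOfCardEq (by simp [ZMod.card, Nat.div_add_mod'])
  obtain ⟨g, -, rfl⟩ := ((syl_bwr (by simpa using Nat.mod_lt _ two_pos) hQ).map_top
    (f := e.permCongrHom.toMonoidHom) e.permCongrHom.surjective).exists_conj hP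
  exact ⟨Q, e.trans g, hQ, (Subgroup.map_map ..).trans (by congr 1)⟩

/-- The pairing preserved by a Sylow `2`-subgroup of a symmetric group. -/
structure Pairing (P : Subgroup (Perm α)) (τ : Perm α) : Prop where
  invol : ∀ x, τ (τ x) = x
  uniq : ∀ x y, τ x = x → τ y = y → x = y
  comm : ∀ g ∈ P, ∀ x, g (τ x) = τ (g x)
  swap_mem : ∀ x, swap x (τ x) ∈ P
  even : Even (Fintype.card α) → ∀ x, τ x ≠ x
  odd : Odd (Fintype.card α) → ∃ x, τ x = x

theorem pairing_bwr {Q : Subgroup (Perm (Fin (Fintype.card α / 2)))}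
    (e : BPt (Fin (Fintype.card α / 2)) (Fin (Fintype.card α % 2)) 2 ≃ α) :
    Pairing ((bwr _ 2 Q).map e.permCongrHom.toMonoidHom) (e.permCongr (baff _ 1 1 1)) := by
  have : Subsingleton (Fin (Fintype.card α % 2)) := Fintype.card_le_one_iff_subsingleton.mp (by simp; omega)
  refine ⟨fun x => ?_, fun x y => ?_, ?_, fun x => ?_, fun h x => ?_, fun h => ⟨e (inr ⟨0, by rw [Nat.odd_iff.mp h]; omega⟩), by simp⟩⟩
  · obtain ⟨⟨i, x⟩ | r, rfl⟩ := e.surjective x <;> simp [add_assoc, CharTwo.add_self_eq_zero]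
  · obtain ⟨⟨i, x⟩ | r, rfl⟩ := e.surjective x <;> obtain ⟨⟨j, y⟩ | s, rfl⟩ := e.surjective y <;>
      simp [eq_iff_true_of_subsingleton]
  · rintro _ ⟨_, ⟨σ, -, μ, rfl⟩, rfl⟩ x
    obtain ⟨⟨i, x⟩ | r, rfl⟩ := e.surjective x <;> simp [add_right_comm]
  · obtain ⟨⟨i, x⟩ | r, rfl⟩ := e.surjective x
    · refine ⟨_, baff_mem_bwr (one_mem _) (Pi.single i 1), ?_⟩
      rw [baff_single]
      rcases zmod_two_cases 0 x with rfl | rfl <;> simp [permCongr_def, symm_trans_swap_trans, CharTwo.add_self_eq_zero, swap_comm]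
    · rw [permCongr_apply, symm_apply_apply, baff_inr, swap_self]; exact one_mem _
  · obtain ⟨⟨i, x⟩ | r, rfl⟩ := e.surjective x
    · simp
    · exact absurd r.2 (by have := Nat.even_iff.mp h; omega)

theorem exists_pairing (hP : Syl 2 P ⊤) : ∃ τ, Pairing P τ :=
  let ⟨_, e, _, h⟩ := exists_eq_bwr hP; ⟨_, h ▸ pairing_bwr e⟩

theorem exists_notMem_of_card_lt (s : Finset α) (h : s.card < Fintype.card α) : ∃ x, x ∉ s := by
  simpa using Finset.exists_mem_notMem_of_card_lt_card (s := s) (t := Finset.univ) h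

theorem Pairing.exists_ne {τ : Perm α} (h : Pairing P τ) (s : Finset α) (hs : 2 * s.card + 1 < Fintype.card α) :
    ∃ x, τ x ≠ x ∧ x ∉ s ∧ τ x ∉ s := by
  obtain ⟨x, hx⟩ := exists_notMem_of_card_lt (s ∪ s.image τ ∪ Finset.univ.filter fun x => τ x = x) (by
    have := Finset.card_union_le (s ∪ s.image τ) (Finset.univ.filter fun x => τ x = x)
    have := Finset.card_union_le s (s.image τ)
    have := Finset.card_image_le (s := s) (f := τ)
    have : (Finset.univ.filter fun x => τ x = x).card ≤ 1 := Finset.card_le_one.mpr fun a ha b hb =>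
      h.uniq a b (by simpa using ha) (by simpa using hb)
    omega)
  simp only [Finset.mem_union, Finset.mem_image, Finset.mem_filter, Finset.mem_univ, true_and, not_or, not_exists,
    not_and] at hx
  exact ⟨x, hx.2, hx.1.1, fun h1 => hx.1.2 _ h1 (h.invol x)⟩

theorem exists_four_blocks (hP : Syl 2 P ⊤) (hn : 5 ≤ Fintype.card α) (he : Even (Fintype.card α)) :
    ∃ τ, Pairing P τ ∧ ∃ r : Setoid α, (∀ g ∈ P, ∀ a b, r a b → r (g a) (g b)) ∧ (∀ a, r a (τ a)) ∧
      (∃ x u, u ≠ x ∧ u ≠ τ x ∧ r x u) ∧ ∃ a b, ¬ r a b := by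
  obtain ⟨Q, e, hQ, rfl⟩ := exists_eq_bwr hP
  obtain ⟨κ, hκ⟩ := exists_pairing hQ
  have : IsEmpty (Fin (Fintype.card α % 2)) := by rw [Nat.even_iff.mp he]; infer_instance
  let π : α → Fin (Fintype.card α / 2) := fun a => (e.symm a).elim Prod.fst isEmptyElim
  have h1 : ∀ i, κ (κ i) = i := hκ.invol
  refine ⟨_, pairing_bwr e, ⟨fun a b => π a = π b ∨ π a = κ (π b), fun _ => .inl rfl, by grind, by grind⟩, ?_, fun a => ?_,
    ?_, ?_⟩
  · rintro _ ⟨_, ⟨σ, hσ, μ, rfl⟩, rfl⟩ a b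
    obtain ⟨⟨i, x⟩ | r, rfl⟩ := e.surjective a <;> [skip; exact isEmptyElim r]
    obtain ⟨⟨j, y⟩ | r, rfl⟩ := e.surjective b <;> [skip; exact isEmptyElim r]
    simp [π, ← hκ.comm σ hσ]
  · obtain ⟨⟨i, x⟩ | r, rfl⟩ := e.surjective a <;> [simp [π]; exact isEmptyElim r]
  · obtain ⟨i, hi, -⟩ := hκ.exists_ne ∅ (by simp; omega)
    exact ⟨e (inl (κ i, 0)), e (inl (i, 0)), by simp [hi.symm], by simp [hi.symm], by simp [π]⟩
  · obtain ⟨j, hj⟩ := exists_notMem_of_card_lt {⟨0, by omega⟩, κ ⟨0, by omega⟩} (Finset.card_le_two.trans_lt (by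
      obtain ⟨k, hk⟩ := he; simp; omega))
    exact ⟨e (inl (j, 0)), e (inl (⟨0, by omega⟩, 0)), by simpa [π] using hj⟩

theorem isPreprimitive_of_two_trans {M : Subgroup (Perm α)} (x : α) (h1 : ∀ a, ∃ g ∈ M, g a = x) (u : α)
    (h2 : ∀ b ≠ x, ∃ g ∈ M, g x = x ∧ g b = u) : IsPreprimitive M α := by
  refine isPreprimitive_of_is_two_pretransitive (is_two_pretransitive_iff.mpr ?_)
  have : ∀ a b, a ≠ b → ∃ g ∈ M, g a = x ∧ g b = u := fun a b hab => by
    obtain ⟨g, hg, rfl⟩ := h1 a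
    obtain ⟨k, hk, h3, h4⟩ := h2 (g b) (g.injective.ne hab.symm)
    exact ⟨k * g, mul_mem hk hg, h3, h4⟩
  intro a b c d hab hcd
  obtain ⟨g, hg, h3, h4⟩ := this a b hab
  obtain ⟨k, hk, h5, h6⟩ := this c d hcd
  exact ⟨⟨k⁻¹ * g, mul_mem (inv_mem hk) hg⟩, by simp [Subgroup.smul_def, h3, ← h5], by simp [Subgroup.smul_def, h4, ← h6]⟩

/-- The permutations preserving a relation. -/
def relStab (r : α → α → Prop) : Subgroup (Perm α) where
  carrier := {g | ∀ a b, r (g a) (g b) ↔ r a b}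
  one_mem' _ _ := Iff.rfl
  mul_mem' hg hk a b := (hg _ _).trans (hk a b)
  inv_mem' {g} hg a b := by simpa using (hg (g⁻¹ a) (g⁻¹ b)).symm

theorem le_relStab {r : α → α → Prop} (h : ∀ g ∈ P, ∀ a b, r a b → r (g a) (g b)) : P ≤ relStab r :=
  fun g hg a b => ⟨fun h1 => by simpa using h _ (inv_mem hg) _ _ h1, h g hg a b⟩

theorem exists_alt_two (hn : 4 ≤ Fintype.card α) {a b c d : α} (h1 : a ≠ b) (h2 : c ≠ d) :
    ∃ g ∈ alternatingGroup α, g a = c ∧ g b = d := by
  have := alternatingGroup.isMultiplyPretransitive α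
  obtain ⟨g, hg⟩ := is_two_pretransitive_iff.mp (isMultiplyPretransitive_of_le (G := alternatingGroup α)
    (n := Nat.card α - 2) (by simp; omega) (Nat.sub_le _ _)) h1 h2
  exact ⟨g, g.2, hg⟩

theorem not_alt_le_relStab (hn : 4 ≤ Fintype.card α) {r : α → α → Prop} {a b c d : α} (h1 : a ≠ b) (h2 : c ≠ d)
    (h3 : r a b) (h4 : ¬ r c d) : ¬ alternatingGroup α ≤ relStab r := fun h => by
  obtain ⟨g, hg, rfl, rfl⟩ := exists_alt_two hn h1 h2
  exact h4 ((h hg a b).mpr h3)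

theorem swap_mul_swap_mem {a b c d : α} (h1 : a ≠ b) (h2 : c ≠ d) : swap a b * swap c d ∈ alternatingGroup α := by
  simp [mem_alternatingGroup, h1, h2]

theorem exists_two_overgroups (hP : Syl 2 P ⊤) (hn : 5 ≤ Fintype.card α) (h : ∀ k, Fintype.card α ≠ 2 ^ k + 1) :
    ∃ H K, P ≤ H ∧ P ≤ K ∧ ¬ alternatingGroup α ≤ H ∧ ¬ alternatingGroup α ≤ K ∧
      alternatingGroup α ≤ (H ⊓ alternatingGroup α) ⊔ (K ⊓ alternatingGroup α) := by
  rcases Nat.even_or_odd (Fintype.card α) with he | he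
  · obtain ⟨τ, hτ, r, h1, h2, ⟨x, u, h3, h4, h5⟩, a, b, h6⟩ := exists_four_blocks hP hn he
    have h7 := hτ.even he
    have h8 := hτ.invol
    have h9 : ∀ a b, a ≠ b → τ a ≠ b → swap a b * swap (τ a) (τ b) ∈ relStab (fun a b => τ a = b) ⊓ alternatingGroup α :=
      fun a b h1 h2 => ⟨fun c d => by simp only [Perm.mul_apply, swap_apply_def]; grind,
        swap_mul_swap_mem h1 (τ.injective.ne h1)⟩
    have h10 : swap u (τ u) * swap u (τ x) ∈ relStab r ⊓ alternatingGroup α := by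
      refine ⟨fun c d => ?_, swap_mul_swap_mem (h7 u).symm h4⟩
      have : ∀ c, r ((swap u (τ u) * swap u (τ x)) c) c := fun c => by
        have a1 := r.symm (h2 u); have a2 := r.trans (r.symm (h2 x)) h5
        simp only [Perm.mul_apply, swap_apply_def]
        split_ifs <;> subst_vars <;> first | exact r.refl _ | assumption | exact r.symm a1 | exact r.symm a2 | exact r.trans a1 (r.symm a2) | contradiction
      exact ⟨fun h => r.trans (r.symm (this c)) (r.trans h (this d)), fun h => r.trans (this c) (r.trans h (r.symm (this d)))⟩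
    refine ⟨relStab fun a b => τ a = b, relStab r, le_relStab fun g hg a b h => h ▸ (hτ.comm g hg a).symm, le_relStab h1,
      not_alt_le_relStab (by omega) (h7 x).symm h3.symm rfl h4.symm,
      not_alt_le_relStab (by omega) (h7 x).symm (fun h : a = b => h6 (h ▸ r.refl a)) (h2 x) h6,
      alternatingGroup_le_of_isPreprimitive_of_isThreeCycle_mem (isPreprimitive_of_two_trans x (fun a => ?_) u fun b hb => ?_)
        (isThreeCycle_swap_mul_swap_same (h7 u).symm h4 (τ.injective.ne h3)) (mem_sup_right h10)⟩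
    · by_cases a1 : a = x
      · exact ⟨1, one_mem _, a1⟩
      by_cases a2 : τ a = x
      · exact ⟨swap x (τ x) * swap u (τ u), mem_sup_left ⟨fun c d => by simp only [Perm.mul_apply, swap_apply_def]; grind,
          swap_mul_swap_mem (h7 x).symm (h7 u).symm⟩, by simp only [Perm.mul_apply, swap_apply_def]; grind⟩
      · exact ⟨_, mem_sup_left (h9 a x a1 a2), by simp only [Perm.mul_apply, swap_apply_def]; grind⟩
    · by_cases a1 : b = u
      · exact ⟨1, one_mem _, rfl, a1⟩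
      by_cases a2 : b = τ u
      · exact ⟨_, mem_sup_right h10, by simp only [Perm.mul_apply, swap_apply_def]; grind⟩
      by_cases a3 : b = τ x
      · exact ⟨_, mem_sup_right (mul_mem h10 h10), by simp only [Perm.mul_apply, swap_apply_def]; grind⟩
      · exact ⟨_, mem_sup_left (h9 b u a1 (by grind)), by simp only [Perm.mul_apply, swap_apply_def]; grind⟩
  · obtain ⟨τ, hτ⟩ := exists_pairing hP
    obtain ⟨x, hx⟩ := hτ.odd he
    have h1 : ∀ g ∈ P, g x = x := fun g hg => hτ.uniq _ _ (by rw [← hτ.comm g hg, hx]) hx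
    obtain ⟨b, hb⟩ := exists_notMem_of_card_lt {x} (by simp; omega)
    rw [Finset.mem_singleton] at hb
    have h2 : x ∉ orbit P b := fun ⟨g, hg⟩ => hb (g.1.injective (hg.trans (h1 g g.2).symm))
    obtain ⟨c, h3, h4⟩ : ∃ c, c ≠ x ∧ c ∉ orbit P b := by
      by_contra h3
      push Not at h3
      obtain ⟨k, hk⟩ := hP.isPGroup.card_orbit b
      rw [show orbit P b = {x}ᶜ from Set.ext fun c => ⟨fun h h' => h2 (h' ▸ h), h3 c⟩, Nat.card_coe_set_eq,
        Set.ncard_compl, Set.ncard_singleton, Nat.card_eq_fintype_card] at hk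
      exact h k (by omega)
    have h5 : τ c ≠ c := fun h => h3 (hτ.uniq _ _ h hx)
    have h6 : τ c ≠ x := fun h => h3 (τ.injective (h.trans hx.symm))
    have h7 : τ c ∉ orbit P b := fun h => h4 (by simpa using mapsTo_smul_orbit (⟨_, hτ.swap_mem c⟩ : P) b h)
    have h8 : swap c (τ c) * swap c x ∈ relStab (fun a _ => a ∈ orbit P b) ⊓ alternatingGroup α :=
      ⟨fun a _ => by simp only [Perm.mul_apply, swap_apply_def]; grind, swap_mul_swap_mem h5.symm h3⟩
    have h9 : ∀ a ≠ x, ∃ g ∈ (relStab (fun a _ => a = x) ⊓ alternatingGroup α) ⊔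
        (relStab (fun a _ => a ∈ orbit P b) ⊓ alternatingGroup α), g x = x ∧ g a = c := fun a ha => by
      obtain ⟨g, hg, h1, h2⟩ := exists_alt_two (by omega) ha.symm h3.symm
      exact ⟨g, mem_sup_left ⟨fun a _ => ⟨fun h => g.injective (h.trans h1.symm), fun h => h ▸ h1⟩, hg⟩, h1, h2⟩
    refine ⟨relStab fun a _ => a = x, relStab fun a _ => a ∈ orbit P b, le_relStab fun g hg a _ h => h ▸ h1 g hg,
      le_relStab fun g hg a _ h => mapsTo_smul_orbit (⟨g, hg⟩ : P) b h,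
      not_alt_le_relStab (by omega) h3.symm h3 rfl h3, not_alt_le_relStab (by omega) hb h3 (mem_orbit_self b) h4,
      alternatingGroup_le_of_isPreprimitive_of_isThreeCycle_mem (isPreprimitive_of_two_trans x (fun a => ?_) c h9)
        (isThreeCycle_swap_mul_swap_same h5.symm h3 h6) (mem_sup_right h8)⟩
    by_cases ha : a = x
    · exact ⟨1, one_mem _, ha⟩
    obtain ⟨g, hg, -, h10⟩ := h9 a ha
    exact ⟨_, mul_mem (mem_sup_right h8) hg, by simp [h10, swap_apply_of_ne_of_ne h3.symm h6.symm]⟩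

theorem exists_fixed_point (hP : Syl 2 P ⊤) {k : ℕ} (hk : 2 ≤ k) (hn : Fintype.card α = 2 ^ k + 1) :
    ∃ x, (∀ g ∈ P, g x = x) ∧ (∀ H, P ≤ H → (∃ g ∈ H, g x ≠ x) → H = ⊤) ∧
      ∀ H, P ⊓ alternatingGroup α ≤ H → H ≤ alternatingGroup α → (∃ g ∈ H, g x ≠ x) → alternatingGroup α ≤ H := by
  have h4 : 4 ≤ 2 ^ k := Nat.pow_le_pow_right two_pos hk
  obtain ⟨τ, hτ⟩ := exists_pairing hP
  obtain ⟨x, hx⟩ := hτ.odd (hn ▸ ((Nat.even_pow' (by omega)).mpr even_two).add_one)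
  have h1 : ∀ g ∈ P, g x = x := fun g hg => hτ.uniq _ _ (by rw [← hτ.comm g hg, hx]) hx
  obtain ⟨c, hc⟩ := (exists_with_cycleType_iff α (m := {2 ^ k})).mpr ⟨by simp; omega, by simp; omega⟩
  obtain ⟨g, -, hg⟩ := hP.exists_conj_le (P := zpowers c) (isPGroup_zpowers_of_orderOf (k := k) (by
    rw [← lcm_cycleType, hc]; simp)) le_top
  have h2 : g * c * g⁻¹ ∈ P := hg (mem_map_of_mem _ (mem_zpowers c))
  rw [← cycleType_conj (τ := g)] at hc
  generalize g * c * g⁻¹ = c at hc h2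
  have h3 : ∀ a ≠ x, c a ≠ a := by
    have : c.support = {x}ᶜ := Finset.eq_of_subset_of_card_le (fun a ha => by
      simpa using fun h : a = x => mem_support.mp ha (h ▸ h1 c h2)) (by simp [← sum_cycleType, hc, Finset.card_compl, hn])
    exact fun a ha => mem_support.mp (by simpa [this])
  have h5 : ∀ a ≠ x, ∀ b ≠ x, ∃ g ∈ P ⊓ alternatingGroup α, g a = b := fun a ha b hb => by
    obtain ⟨i, hi⟩ := (card_cycleType_eq_one.mp (by simp [hc])).exists_zpow_eq (h3 a ha) (h3 b hb)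
    rcases Int.units_eq_one_or (sign (c ^ i)) with h | h
    · exact ⟨_, ⟨zpow_mem h2 i, h⟩, hi⟩
    obtain ⟨z, h6, h7, h8⟩ := hτ.exists_ne {a} (by simp; omega)
    rw [Finset.mem_singleton] at h7 h8
    exact ⟨c ^ i * swap z (τ z), ⟨mul_mem (zpow_mem h2 i) (hτ.swap_mem z), mem_alternatingGroup.mpr (by
      rw [map_mul, h, sign_swap h6.symm]; simp)⟩, by simp [swap_apply_of_ne_of_ne (Ne.symm h7) (Ne.symm h8), hi]⟩
  have h6 : ∀ H, P ⊓ alternatingGroup α ≤ H → (∃ g ∈ H, g x ≠ x) → IsPreprimitive H α := fun H hH ⟨g, hg, hg'⟩ => by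
    refine isPreprimitive_of_two_trans x (fun a => ?_) (g x) fun b hb => ?_
    · by_cases ha : a = x
      · exact ⟨1, one_mem _, ha⟩
      obtain ⟨w, hw, h⟩ := h5 a ha _ hg'
      exact ⟨g⁻¹ * w, mul_mem (inv_mem hg) (hH hw), by simp [h]⟩
    · obtain ⟨w, hw, h⟩ := h5 b hb _ hg'
      exact ⟨w, hH hw, h1 w hw.1, h⟩
  refine ⟨x, h1, fun H hH h => ?_, fun H hH hH' h => ?_⟩
  · obtain ⟨z, hz, -⟩ := hτ.exists_ne ∅ (by simp; omega)
    exact subgroup_eq_top_of_isPreprimitive_of_isSwap_mem (h6 H (inf_le_left.trans hH) h) _ ⟨_, _, hz.symm, rfl⟩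
      (hH (hτ.swap_mem z))
  have h7 := h6 H hH h
  rcases hk.eq_or_lt with rfl | hk
  · by_contra h8
    have : Nontrivial α := Fintype.one_lt_card_iff_nontrivial.mp (by omega)
    have := alternatingGroup.isSimpleGroup (α := α) (by simp [hn])
    have a1 := card_dvd_factorial_index_of_simple (H.subgroupOf (alternatingGroup α)) (mt subgroupOf_eq_top.mp h8)
    have a2 := (H.subgroupOf (alternatingGroup α)).card_mul_index
    have a3 := card_dvd_of_le hH
    have a4 := Perm.card_eq_mul_of_transitive (G := H) x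
    rw [(hP.inf_normal_top _).card_eq_pow] at a3
    rw [Nat.card_congr (subgroupOfEquivOfLe hH').toEquiv] at a2
    rw [nat_card_alternatingGroup] at a1 a2 a3
    rw [Nat.card_eq_fintype_card (α := α), hn] at a1 a2 a3 a4
    rw [show ((2 ^ 2 + 1 : ℕ).factorial / 2).factorization 2 = 2 by
      rw [← Nat.primeFactorsList_count_eq]; simp [Nat.factorial, Nat.primeFactorsList_ofNat]] at a3
    generalize (H.subgroupOf (alternatingGroup α)).index = j at a1 a2
    obtain ⟨m, hm⟩ : 4 * 5 ∣ Nat.card H := Nat.Coprime.mul_dvd_of_dvd_of_dvd (by norm_num) a3 (a4 ▸ dvd_mul_right _ _)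
    have a5 : j ∣ 3 := ⟨m, by simp [hm, Nat.factorial] at a2; linarith⟩
    rcases (Nat.dvd_prime Nat.prime_three).mp a5 with rfl | rfl <;> simp [Nat.factorial] at a1
  have h8 : 8 ≤ 2 ^ k := Nat.pow_le_pow_right two_pos hk
  obtain ⟨g, hg, hg'⟩ := h
  have h9 : ∀ a b, τ a ≠ a → τ b ≠ b → swap a (τ a) * swap b (τ b) ∈ H := fun a b ha hb =>
    hH ⟨mul_mem (hτ.swap_mem a) (hτ.swap_mem b), swap_mul_swap_mem ha.symm hb.symm⟩
  have a1 : τ (g⁻¹ x) ≠ g⁻¹ x := fun h => hg' (Perm.inv_eq_iff_eq.mp (hτ.uniq _ _ h hx)).symm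
  have a2 : g (τ (g⁻¹ x)) ≠ x := fun h => a1 (Perm.eq_inv_iff_eq.mpr h)
  have a0 : g (g⁻¹ x) = x := by simp
  have a3 := h9 (g⁻¹ x)
  have a4 := hτ.invol (g⁻¹ x)
  set y := g (τ (g⁻¹ x)) with hy
  have a5 : τ y ≠ y := fun h => a2 (hτ.uniq _ _ h hx)
  obtain ⟨z, b1, b2, b3⟩ := hτ.exists_ne {g⁻¹ x, g⁻¹ (τ y)} (by have := Finset.card_le_two (a := g⁻¹ x) (b := g⁻¹ (τ y)); omega)
  obtain ⟨w, c1, c2, c3⟩ := hτ.exists_ne {y, g z, g (τ z)} (by have := Finset.card_le_three (a := y) (b := g z) (c := g (τ z)); omega)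
  have d1 := mul_mem (mul_mem hg (a3 z a1 b1)) (inv_mem hg)
  have d2 := h9 y w a5 c1
  rw [← conj_mul, ← swap_apply_apply, ← swap_apply_apply, ← hy, a0] at d1
  simp only [Finset.mem_insert, Finset.mem_singleton, not_or, Perm.eq_inv_iff_eq] at b2 b3 c2 c3
  have e1 : g z ≠ y := fun h => b3.1 (by rw [g.injective h, a4, a0])
  have e2 : g (τ z) ≠ y := fun h => b2.1 (by rw [τ.injective (g.injective h), a0])
  have e3 : τ y ≠ x := fun h => a2 (τ.injective (h.trans hx.symm))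
  have e4 := hτ.invol
  refine alternatingGroup_le_of_isPreprimitive_of_isThreeCycle_mem h7
    (isThreeCycle_swap_mul_swap_same (a := y) (b := τ y) (c := x) a5.symm a2 e3) ?_
  convert mul_mem (mul_mem (mul_mem d1 d2) d1) d2 using 1
  ext a
  simp only [Perm.mul_apply, swap_apply_def]; grind

end Cfsg.Lib.Linear
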