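import Cfsg.Agent.Lib.Linear.SLPair

/-! The transvections with a given centre inside a subgroup of `SL_n`. -/

set_option autoImplicit false

namespace Cfsg.Lib.Linear

open Matrix Module

variable {ι : Type} [Fintype ι] [DecidableEq ι] {F : Type*} [Field F]

local notation "SL" => Matrix.SpecialLinearGroup

open Classical in
/-- The transvection `x ↦ x + φ(x) v` (the identity if `φ(v) ≠ 0`). -/
noncomputable def tvf (v φ : ι → F) : SL ι F := if h : φ ⬝ᵥ v = 0 then slTv v φ h else 1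

variable {v w φ χ : ι → F} {H : Subgroup (SL ι F)} {g : SL ι F}

theorem coe_tvf (h : φ ⬝ᵥ v = 0) : (tvf v φ).1 = 1 + vecMulVec v φ := by simp [tvf, h]

theorem tvf_mulVec (h : φ ⬝ᵥ v = 0) (x : ι → F) : (tvf v φ).1 *ᵥ x = x + (φ ⬝ᵥ x) • v := by
  rw [coe_tvf h, one_add_vecMulVec_mulVec]

theorem vecMul_tvf (h : φ ⬝ᵥ v = 0) (x : ι → F) : x ᵥ* (tvf v φ).1 = x + (x ⬝ᵥ v) • φ := by
  rw [coe_tvf h, vecMul_add, vecMul_one, vecMul_vecMulVec]

theorem tvf_add (h : φ ⬝ᵥ v = 0) (h' : χ ⬝ᵥ v = 0) : tvf v (φ + χ) = tvf v φ * tvf v χ := Subtype.ext (by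
  rw [sl_coe_mul, coe_tvf h, coe_tvf h', coe_tvf (by simp [h, h'])]
  simp [add_mul, mul_add, vecMulVec_mul_vecMulVec, h, vecMulVec_add, add_assoc])

theorem tvf_add_left (h : φ ⬝ᵥ v = 0) (h' : φ ⬝ᵥ w = 0) : tvf (v + w) φ = tvf v φ * tvf w φ := Subtype.ext (by
  rw [sl_coe_mul, coe_tvf h, coe_tvf h', coe_tvf (by simp [h, h'])]
  simp [add_mul, mul_add, vecMulVec_mul_vecMulVec, h', add_vecMulVec, add_assoc])

theorem tvf_zero (v : ι → F) : tvf v 0 = 1 := Subtype.ext (by simp [coe_tvf])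

theorem tvf_zero_left (φ : ι → F) : tvf 0 φ = 1 := Subtype.ext (by simp [coe_tvf])

theorem tvf_neg (h : φ ⬝ᵥ v = 0) : tvf v (-φ) = (tvf v φ)⁻¹ :=
  eq_inv_of_mul_eq_one_left (by rw [← tvf_add (by simp [h]) h, neg_add_cancel, tvf_zero])

theorem tvf_smul (h : φ ⬝ᵥ v = 0) (c : F) : tvf (c • v) φ = tvf v (c • φ) := Subtype.ext (by
  rw [coe_tvf (by simp [h]), coe_tvf (by simp [h]), smul_vecMulVec, vecMulVec_smul])

theorem tvf_mul (h : φ ⬝ᵥ g.1 *ᵥ v = 0) : tvf (g.1 *ᵥ v) φ * g = g * tvf v (φ ᵥ* g.1) := Subtype.ext (by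
  rw [sl_coe_mul, sl_coe_mul, coe_tvf h, coe_tvf (by rwa [← dotProduct_mulVec])]
  simp [add_mul, mul_add, mul_vecMulVec, vecMulVec_mul])

theorem tvf_single {i j : ι} (hij : i ≠ j) (c : F) :
    tvf (Pi.single i 1) (Pi.single j c) = SpecialLinearGroup.transvection hij c :=
  Subtype.ext (by rw [coe_tvf (by simp [hij.symm]), coe_transvection_eq])

/-- The annihilator of a vector. -/
def annV (v : ι → F) : AddSubgroup (ι → F) where
  carrier := {φ | φ ⬝ᵥ v = 0}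
  add_mem' ha hb := by simp_all
  zero_mem' := by simp
  neg_mem' ha := by simp_all

/-- The axes of the transvections of `H` with centre `v`. -/
def tvA (H : Subgroup (SL ι F)) (v : ι → F) : AddSubgroup (ι → F) where
  carrier := {φ | φ ⬝ᵥ v = 0 ∧ tvf v φ ∈ H}
  add_mem' ha hb := ⟨by simp [ha.1, hb.1], tvf_add ha.1 hb.1 ▸ mul_mem ha.2 hb.2⟩
  zero_mem' := ⟨by simp, tvf_zero v ▸ one_mem H⟩
  neg_mem' ha := ⟨by simp [ha.1], tvf_neg ha.1 ▸ inv_mem ha.2⟩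

theorem tvA_conj (hg : g ∈ H) : φ ∈ tvA H (g.1 *ᵥ v) ↔ φ ᵥ* g.1 ∈ tvA H v :=
  ⟨fun h => ⟨by rw [← dotProduct_mulVec, h.1], (H.mul_mem_cancel_left hg).1 (tvf_mul h.1 ▸ mul_mem h.2 hg)⟩,
    fun h => have := (dotProduct_mulVec ..).trans h.1
      ⟨this, (H.mul_mem_cancel_right hg).1 (tvf_mul this ▸ mul_mem hg h.2)⟩⟩

theorem tvA_smul {c : F} (h : φ ⬝ᵥ v = 0) : φ ∈ tvA H (c • v) ↔ c • φ ∈ tvA H v :=
  ⟨fun a => ⟨by simp [h], tvf_smul h c ▸ a.2⟩, fun a => ⟨by simp [h], tvf_smul h c ▸ a.2⟩⟩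

/-- The commutator rule. -/
theorem tvA_comm (h1 : χ ∈ tvA H v) (h2 : φ ∈ tvA H w) (h : φ ⬝ᵥ v = 0) : (χ ⬝ᵥ w) • φ ∈ tvA H v := by
  have := (tvA_conj (v := v) (φ := χ) h2.2).1 (by rwa [tvf_mulVec h2.1, h, zero_smul, add_zero])
  rw [vecMul_tvf h2.1] at this
  simpa using sub_mem this h1

/-- The centres all of whose transvections lie in `H`. -/
def fullW (H : Subgroup (SL ι F)) : Submodule F (ι → F) where
  carrier := {v | ∀ φ, φ ⬝ᵥ v = 0 → φ ∈ tvA H v}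
  zero_mem' φ h := ⟨h, tvf_zero_left φ ▸ one_mem H⟩
  smul_mem' c v hv φ h := by
    by_cases hc : c = 0
    · exact ⟨h, by simp [hc, tvf_zero_left]⟩
    · have : φ ⬝ᵥ v = 0 := by simpa [hc] using h
      exact (tvA_smul this).2 (hv _ (by simp [this]))
  add_mem' {v w} hv hw φ h := by
    by_cases d : v ∈ F ∙ w
    · obtain ⟨c, rfl⟩ := Submodule.mem_span_singleton.1 d
      rw [show c • w + w = (c + 1) • w by module] at h ⊢
      by_cases hc : c + 1 = 0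
      · exact ⟨h, by simp [hc, tvf_zero_left]⟩
      · have : φ ⬝ᵥ w = 0 := by simpa [hc] using h
        exact (tvA_smul this).2 (hw _ (by simp [this]))
    · obtain ⟨ψ, a, b⟩ := exists_dotProduct_of_notMem d 1
      have a := a w (Submodule.mem_span_singleton_self w)
      have e : (tvf w ψ).1 *ᵥ v = v + w := by rw [tvf_mulVec a, b, one_smul]
      rw [← e] at h ⊢
      exact (tvA_conj (hw ψ a).2).2 (hv _ (by rwa [← dotProduct_mulVec]))

theorem fullW_conj (hg : g ∈ H) (hv : v ∈ fullW H) : g.1 *ᵥ v ∈ fullW H := fun _ h =>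
  (tvA_conj hg).2 (hv _ (by rwa [← dotProduct_mulVec]))

theorem eq_top_of_fullW (h : fullW H = ⊤) : H = ⊤ := eq_top_iff.2 fun g _ =>
  sl_transvection_induction (· ∈ H) (one_mem H) (fun i j hij c => tvf_single hij c ▸
    ((h ▸ Submodule.mem_top : Pi.single i 1 ∈ fullW H) _ (by simp [hij.symm])).2) (fun _ _ => mul_mem) g

theorem mem_of_ann {W : Submodule F (ι → F)} (h : ∀ φ, (∀ w ∈ W, φ ⬝ᵥ w = 0) → φ ⬝ᵥ v = 0) : v ∈ W := by
  by_contra c
  obtain ⟨ψ, a, b⟩ := exists_dotProduct_of_notMem c 1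
  exact one_ne_zero (b.symm.trans (h ψ a))

theorem ann_span_pair : (∀ x ∈ Submodule.span F {v, w}, φ ⬝ᵥ x = 0) ↔ φ ⬝ᵥ v = 0 ∧ φ ⬝ᵥ w = 0 :=
  ⟨fun h => ⟨h _ (Submodule.subset_span (by simp)), h _ (Submodule.subset_span (by simp))⟩, fun h x hx => by
    obtain ⟨a, b, rfl⟩ := Submodule.mem_span_pair.1 hx
    simp [h.1, h.2]⟩

end Cfsg.Lib.Linear
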