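import Cfsg.Agent.Lib.Asch.NM3

/-! Tensor powers of small symplectic spaces in characteristic two: a Clifford overgroup. -/

set_option autoImplicit false

namespace Cfsg.Lib.Linear.Tw

open Matrix Cfsg.Geo Cfsg.Lib.Asch Module
open QuadraticMap (polar)
open scoped MatrixGroups commutatorElement

variable {ι κ : Type} [Fintype ι] [DecidableEq ι] [Fintype κ] [DecidableEq κ] {F : Type*} [Field F] {t : ℕ}
  {Q : (ι → F) → F}

/-- A pure tensor. -/
def pt (xs : Fin t → κ → F) : (Fin t → κ) → F := fun a => ∏ i, xs i (a i)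

theorem pure_pt (gs : Fin t → Matrix κ κ F) (xs : Fin t → κ → F) :
    Asch.pure gs *ᵥ pt xs = pt fun i => gs i *ᵥ xs i := by
  ext a
  simp only [mulVec, dotProduct, pure_apply, pt, ← Finset.prod_mul_distrib]
  rw [Finset.prod_univ_sum, Fintype.piFinset_univ]

omit [Fintype κ] in
theorem pt_single (a : Fin t → κ) : pt (fun i => (Pi.single (a i) 1 : κ → F)) = Pi.single a 1 := by
  ext b
  by_cases h : b = a
  · subst h; simp [pt]
  · obtain ⟨i, hi⟩ := Function.ne_iff.1 h
    rw [Pi.single_eq_of_ne h]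
    exact Finset.prod_eq_zero (Finset.mem_univ i) (Pi.single_eq_of_ne hi _)

omit [Fintype κ] [DecidableEq κ] in
theorem pure_ne_zero {gs : Fin t → Matrix κ κ F} (h : ∀ i, gs i ≠ 0) : Asch.pure gs ≠ 0 := fun h0 => by
  have : ∀ i, ∃ a b, gs i a b ≠ 0 := fun i => by
    by_contra h1; push Not at h1; exact h i (Matrix.ext h1)
  choose a b hab using this
  have := congrFun (congrFun h0 a) b
  rw [pure_apply] at this
  exact Finset.prod_ne_zero_iff.2 (fun i _ => hab i) this

theorem slot_mul_ne [Nonempty κ] {i j : Fin t} (hij : i ≠ j) {a b : Matrix κ κ F} (ha : a ≠ 0) (hb : b ≠ 0) :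
    slot i a * slot j b ≠ 0 := by
  rw [slot_apply, slot_apply, ← pure_mul]
  refine pure_ne_zero fun l => ?_
  by_cases h1 : l = i
  · subst h1; simpa [Pi.mulSingle_eq_of_ne hij] using ha
  · by_cases h2 : l = j
    · subst h2; simpa [Pi.mulSingle_eq_of_ne h1] using hb
    · simp [Pi.mulSingle_eq_of_ne h1, Pi.mulSingle_eq_of_ne h2]

theorem form_pt {f₁ : (κ → F) → (κ → F) → F} (h : IsSesq (RingHom.id F) f₁) (xs ys : Fin t → κ → F) :
    ∑ a, ∑ b, pt xs a * (∏ i, gramMatrix f₁ (a i) (b i)) * pt ys b = ∏ i, f₁ (xs i) (ys i) := by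
  have h1 : ∀ x y, f₁ x y = x ⬝ᵥ (gramMatrix f₁ *ᵥ y) := fun x y => by
    conv_lhs => rw [h.eq_fG]
    simp [formOfGram, dotProduct, mulVec, Finset.mul_sum, mul_assoc]
  have h2 := pure_pt (fun _ : Fin t => gramMatrix f₁) ys
  simp only [h1, dotProduct]
  rw [Finset.prod_univ_sum, Fintype.piFinset_univ]
  refine Finset.sum_congr rfl fun a _ => ?_
  have := congrFun h2 a
  simp only [mulVec, dotProduct, pure_apply, pt] at this
  simp only [mul_assoc, ← Finset.mul_sum, Finset.prod_mul_distrib, pt, mulVec, dotProduct, ← this]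

/-- The normaliser of a set of matrices. -/
def nzG (S : Set (Matrix ι ι F)) : Subgroup (GL ι F) where
  carrier := {g | ∀ x, x ∈ S ↔ cj g x ∈ S}
  mul_mem' ha hb x := by rw [cj_mul, ← ha, ← hb]
  one_mem' x := by rw [cj_one]
  inv_mem' {a} ha x := by rw [ha (cj a⁻¹ x), cj_cj_inv]

theorem mem_nzG [Finite F] {S : Set (Matrix ι ι F)} {g : GL ι F} (h1 : ∀ x ∈ S, cj g x ∈ S) : g ∈ nzG S :=
  fun x => ⟨h1 x, fun h => by
    obtain ⟨y, hy, e⟩ := (((Set.toFinite S).injOn_iff_bijOn_of_mapsTo h1).1 (cj g).injective.injOn).surjOn h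
    rwa [← (cj g).injective e]⟩

theorem isom_of (hQ : NQ Q) {μ : Type} [Fintype μ] [DecidableEq μ] (e : ι ≃ μ) (P : GL ι F) {g : GL ι F}
    (hg : g ∈ isoG (polar Q))
    (h : ∀ a, Q (g.1 *ᵥ vec e P (Pi.single a 1)) = Q (vec e P (Pi.single a 1))) : g ∈ isometryGroup F Q := by
  let S : Submodule F (μ → F) :=
    { carrier := {x | Q (g.1 *ᵥ vec e P x) = Q (vec e P x)}
      add_mem' := fun {x y} hx hy => by
        have h0 : ∀ u v, Q (u + v) = Q u + Q v + polar Q u v := fun u v => by simp [polar]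
        simp only [Set.mem_ofPred_eq, map_add, mulVec_add, h0] at hx hy ⊢
        rw [hx, hy, mem_isoG.1 hg]
      zero_mem' := by simp
      smul_mem' := fun c x hx => by
        simp only [Set.mem_ofPred_eq, map_smul, mulVec_smul, hQ.smul] at hx ⊢
        rw [hx] }
  refine mem_isometryGroup_iff.2 fun v => ?_
  obtain ⟨x, rfl⟩ := (vec e P).surjective v
  have : x ∈ S := by
    rw [pi_eq_sum_univ' x]
    exact S.sum_mem fun a _ => S.smul_mem _ (h a)
  exact this

theorem isoG_of_isom {g : GL ι F} (hg : g ∈ isometryGroup F Q) : g ∈ isoG (polar Q) := fun u v => by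
  have := mem_isometryGroup_iff.1 hg
  change polar Q (g.1 *ᵥ u) (g.1 *ᵥ v) = _
  simp only [polar, ← mulVec_add, this]

theorem exists_eich (hQ : NQ Q) (hn : 5 ≤ Fintype.card ι) (h2 : (2 : F) = 0) {x : Matrix ι ι F} (hx : x * x = 0)
    {a b : ι → F} (ha : Q a = 0) (hb : Q b = 0) (hab : polar Q a b = 0) (h1 : polar Q (x *ᵥ a) a = 0)
    (h3 : polar Q (x *ᵥ a) b ≠ 0) (hs : adj (RingHom.id F) (polar Q) x = x) :
    ∃ g ∈ omegaGL Q, ¬ IsSc (x * cj g x + cj g x * x) := by
  have H := hQ.hm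
  have sw : ∀ u v, polar Q u v = polar Q v u := fun u v => QuadraticMap.polar_comm Q u v
  have sa : ∀ u v, polar Q (x *ᵥ u) v = polar Q u (x *ᵥ v) := fun u v => by rw [H.adj_spec, hs]
  have xx : ∀ v, x *ᵥ x *ᵥ v = 0 := fun v => by rw [mulVec_mulVec, hx, zero_mulVec]
  obtain ⟨g, hg, h⟩ := hQ.eich hn ha (z := b) (by rw [sw, hab])
  simp only [hb, zero_smul, add_zero] at h
  have haa := hQ.alt h2 a
  have hbb := hQ.alt h2 b
  have hba : polar Q b a = 0 := by rw [sw, hab]
  have gg : g * g = 1 := by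
    refine Units.ext (Matrix.toLin'.injective (LinearMap.ext fun v => ?_))
    simp only [toLin'_apply, Units.val_mul, ← mulVec_mulVec, Units.val_one, one_mulVec, h, H.add_left, H.sub_left,
      H.smul_left, haa, hbb, hab, hba]
    match_scalars <;> grind
  have gi : g⁻¹ = g := inv_eq_of_mul_eq_one_right gg
  refine ⟨g, hg, fun ⟨c, hc⟩ => ?_⟩
  have key : ∀ v, x *ᵥ g.1 *ᵥ x *ᵥ g.1 *ᵥ v + g.1 *ᵥ x *ᵥ g.1 *ᵥ x *ᵥ v = c • v := fun v => by
    have := congrArg (· *ᵥ v) hc
    simpa only [cj_apply, gi, add_mulVec, ← mulVec_mulVec, smul_mulVec, one_mulVec] using this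
  classical
  obtain ⟨w, -, w0, hw⟩ := H.exists_perp_mem (W := ⊤) (s := {a, b, x *ᵥ a, x *ᵥ b}) (by
    rw [finrank_top, finrank_fintype_fun_eq_card]; exact Finset.card_le_four.trans_lt (by omega))
  simp only [Finset.mem_insert, Finset.mem_singleton, forall_eq_or_imp, forall_eq] at hw
  obtain ⟨w1, w2, w3, w4⟩ := hw
  have g1 : g.1 *ᵥ w = w := by simp [h, w1, w2]
  have g2 : g.1 *ᵥ x *ᵥ w = x *ᵥ w := by simp [h, sa, w3, w4]
  have c0 : c = 0 := by
    have := key w
    rw [g1, g2, xx, mulVec_zero, add_zero] at this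
    exact (smul_eq_zero.1 this.symm).resolve_right w0
  have g3 : g.1 *ᵥ a = a := by simp [h, haa, hab]
  have g4 : g.1 *ᵥ x *ᵥ a = x *ᵥ a + polar Q (x *ᵥ a) b • a := by simp [h, h1]
  have := key a
  rw [g3, g4, mulVec_add, xx, mulVec_smul, zero_add, mulVec_smul, g4, c0] at this
  have := congrArg (fun v => polar Q v (x *ᵥ b)) this
  simp only [H.add_left, H.smul_left, ← sa, xx, H.zero_left] at this
  simp [h3] at this

theorem sandwich {A : Type*} [Ring A] [Algebra F A] {p q y : A} {s : F} (h1 : q * p = p * q) (h2 : q * y = y * q)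
    (h3 : q * q = 0) (h4 : p * y + y * p = s • 1) : (1 + p * q) * y * (1 + p * q) = y + s • q := by
  have h5 : p * q * y * (p * q) = 0 := by
    rw [mul_assoc p q y, h2, mul_assoc p, mul_assoc y, ← mul_assoc q, h1, mul_assoc p, h3]; simp
  have h6 : s • q = p * q * y + y * (p * q) := by
    rw [mul_assoc p, h2, ← mul_assoc, ← mul_assoc, ← add_mul, h4, smul_mul_assoc, one_mul]
  simp only [add_mul, mul_add, one_mul, mul_one, h5, h6]
  abel

section
variable {k : ℕ} {e : ι ≃ (Fin t → Fin k)} {P : GL ι F} {f₁ : (Fin k → F) → (Fin k → F) → F} {c : F}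

variable (e P) in
/-- The slots. -/
noncomputable def ph (i : Fin t) : Matrix (Fin k) (Fin k) F →ₐ[F] Matrix ι ι F :=
  (tr e P).toAlgHom.comp (slot i)

theorem ph_apply (i : Fin t) (x : Matrix (Fin k) (Fin k) F) : ph e P i x = tr e P (slot i x) := rfl

theorem ph_comm {i j : Fin t} (h : i ≠ j) (x y : Matrix (Fin k) (Fin k) F) :
    ph e P i x * ph e P j y = ph e P j y * ph e P i x := by
  rw [ph_apply, ph_apply, ← map_mul, ← map_mul, slot_comm h]

theorem ph_inj [Nonempty (Fin k)] (i : Fin t) : Function.Injective (ph e P i) :=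
  (tr e P).injective.comp (slot_injective i)

theorem ph_pt (i : Fin t) (x : Matrix (Fin k) (Fin k) F) (xs : Fin t → Fin k → F) :
    ph e P i x *ᵥ vec e P (pt xs) = vec e P (pt (Function.update xs i (x *ᵥ xs i))) := by
  rw [ph_apply, tr_vec, slot_apply, pure_pt]
  congr 2; ext1 j
  by_cases h : j = i
  · subst h; simp
  · simp [Pi.mulSingle_eq_of_ne h, Function.update_of_ne h]

theorem not_mem_wreath [Nonempty (Fin k)] {i j : Fin t} (hij : i ≠ j) {m y : Matrix (Fin k) (Fin k) F}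
    (hm : ¬ IsSc m) (hy : ¬ IsSc y) {g : GL ι F} (hg : g.1 = 1 + ph e P i m * ph e P j y) :
    g ∉ tensorWreathSubgroup k t e P := fun h => by
  obtain ⟨σ, gs, h⟩ := cj_slot_of_mem_tensorWreath h
  simp only [← ph_apply] at h
  have h1 : cj g (ph e P j y) = ph e P j y := cj_eq_iff.2 (by
    rw [hg, add_mul, mul_add, mul_assoc, ← mul_assoc (ph e P j y), ← ph_comm hij, mul_assoc, one_mul, mul_one])
  have h2 : σ j = j := by
    by_contra h2
    refine hy (isSc_of_comm_single fun a b => ph_inj (e := e) (P := P) j ?_)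
    rw [map_mul, map_mul, ← h1, h, ph_comm h2]
  obtain ⟨z, hz⟩ : ∃ z, m * z - z * m ≠ 0 := by
    by_contra h3; push Not at h3
    exact hm (isSc_of_comm_single fun a b => sub_eq_zero.1 (h3 _))
  refine hy (isSc_of_comm_single fun a b => ?_)
  have h3 := h j (single a b 1)
  rw [h2] at h3
  set x : Matrix (Fin k) (Fin k) F := single a b 1
  set x' := cj (gs j) x
  have h4 : g.1 * ph e P j x = ph e P j x' * g.1 := by rw [← h3, cj_apply]; simp [mul_assoc]
  have h5 : ph e P i m * ph e P j (y * x - x' * y) = ph e P j (x' - x) := by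
    rw [hg, add_mul, mul_add, ← mul_assoc, ← ph_comm hij, one_mul, mul_one] at h4
    simp only [map_sub, map_mul, mul_sub, mul_assoc] at h4 ⊢
    rw [sub_eq_sub_iff_add_eq_add, add_comm, h4, add_comm]
  have h6 : ph e P i (m * z - z * m) * ph e P j (y * x - x' * y) = 0 := by
    rw [map_sub, map_mul, map_mul, sub_mul, mul_assoc, ph_comm hij z, ← mul_assoc, h5, mul_assoc, h5, ph_comm hij,
      sub_self]
  have h7 : y * x - x' * y = 0 := by
    by_contra h7
    rw [ph_apply, ph_apply, ← map_mul, map_eq_zero_iff _ (tr e P).injective] at h6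
    exact slot_mul_ne hij hz h7 h6
  rw [h7, map_zero, mul_zero, eq_comm, map_eq_zero_iff _ (ph_inj j), sub_eq_zero] at h5
  rwa [h5, sub_eq_zero] at h7

variable (hQ : NQ Q) (h₁ : IsSymplecticForm f₁)
  (hT : ∀ x y, polar Q (vec e P x) (vec e P y) = c * ∑ a, ∑ b, x a * (∏ i, gramMatrix f₁ (a i) (b i)) * y b)
include hQ h₁ hT

omit hQ in
theorem B_pt (xs ys : Fin t → Fin k → F) :
    polar Q (vec e P (pt xs)) (vec e P (pt ys)) = c * ∏ i, f₁ (xs i) (ys i) := by
  rw [hT, form_pt (IsSymplecticForm.hm h₁).toIsSesq]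

theorem adj_ph (i : Fin t) (x : Matrix (Fin k) (Fin k) F) :
    adj (RingHom.id F) (polar Q) (ph e P i x) = ph e P i (adj (RingHom.id F) f₁ x) := by
  have H := IsSymplecticForm.hm h₁
  have := hQ.hm.adj_slot (e := e) (P := P) (A := gramMatrix f₁) (c := c) (H.eq_fG ▸ H) (by
    ext a b
    simp [gramMatrix, pull, hT, Pi.single_apply, pure_apply]) i x
  rwa [← H.eq_fG] at this

theorem nm [Finite F] (hn : 5 ≤ Fintype.card ι) (h2 : (2 : F) = 0) (hc : c ≠ 0)
    (hp : ∀ xs, Q (vec e P (pt xs)) = 0) {W : Set (Matrix (Fin k) (Fin k) F)}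
    (hW1 : ∀ a : GL (Fin k) F, (∀ x, adj (RingHom.id F) f₁ (cj a x) = cj a (adj (RingHom.id F) f₁ x)) →
      ∀ x ∈ W, cj a x ∈ W) (hW2 : ∀ x ∈ W, ∀ y ∈ W, IsSc (x * y + y * x)) {y : Matrix (Fin k) (Fin k) F}
    (y1 : y ∈ W) (y2 : y * y = 0) (y3 : adj (RingHom.id F) f₁ y = y) {u u' : Fin k → F} (u1 : f₁ u u' = 0)
    (u2 : f₁ (y *ᵥ u) u' ≠ 0) {a : GL (Fin k) F} (a1 : a ∈ isoG f₁) (a2 : ¬ IsSc (y + cj a y)) (ht : 2 ≤ t)
    (h3 : 3 ≤ t ∨ ∀ v, f₁ v (y *ᵥ v) = 0) :
    ∃ K, tensorWreathSubgroup k t e P ⊓ omegaGL Q < K ∧ K < omegaGL Q := by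
  have H := IsSymplecticForm.hm h₁
  have : Nonempty (Fin k) := by
    by_contra h; exact u2 (by rw [Subsingleton.elim (h := by rw [not_nonempty_iff] at h; infer_instance) u' 0, H.zero_right])
  have A2 : ∀ x : Matrix ι ι F, x + x = 0 := fun x => by rw [← two_smul F, h2, zero_smul]
  let i : Fin t := ⟨0, by omega⟩
  let j : Fin t := ⟨1, by omega⟩
  have hij : i ≠ j := by simp [i, j]
  let S := Submodule.span F {z | ∃ l, ∃ x ∈ W, z = ph e P l x}
  have gen : ∀ l, ∀ x ∈ W, ph e P l x ∈ S := fun l x hx => Submodule.subset_span ⟨l, x, hx, rfl⟩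
  have mem : ∀ g : GL ι F, (∀ l, ∀ x ∈ W, cj g (ph e P l x) ∈ S) → g ∈ nzG (S : Set _) := fun g hg =>
    mem_nzG fun z hz => Submodule.span_induction (p := fun z _ => cj g z ∈ S) (by
      rintro _ ⟨l, x, hx, rfl⟩; exact hg l x hx) (by simp) (fun _ _ _ _ h h' => by simpa using S.add_mem h h')
      (fun r _ _ h => by simpa using S.smul_mem r h) hz
  have mem' : ∀ g ∈ isoG (polar Q), ∀ (σ : Equiv.Perm (Fin t)) (gs : Fin t → GL (Fin k) F),
      (∀ l x, cj g (ph e P l x) = ph e P (σ l) (cj (gs l) x)) → g ∈ nzG (S : Set _) := fun g hg σ gs h =>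
    mem g fun l x hx => by
      rw [h]
      refine gen _ _ (hW1 _ (fun x => ph_inj (e := e) (P := P) (σ l) ?_) x hx)
      rw [← adj_ph hQ h₁ hT, ← h, ← h, hQ.hm.adj_cj (isoG_le_sim hg), adj_ph hQ h₁ hT]
  have NN : ∀ m m', ph e P i m * ph e P j y * (ph e P i m' * ph e P j y) = 0 := fun m m' => by
    rw [mul_assoc, ← mul_assoc (ph e P j y), ← ph_comm hij, mul_assoc, ← map_mul, y2]; simp
  have GG : (1 + ph e P i y * ph e P j y) * (1 + ph e P i y * ph e P j y) = 1 := by
    simp only [add_mul, mul_add, one_mul, mul_one, NN, add_zero, add_assoc, A2]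
  let g : GL ι F := ⟨_, _, GG, GG⟩
  let h : GL ι F := Units.map (ph e P i).toMonoidHom a
  have g1 : g ∈ isometryGroup F Q := by
    refine isom_of hQ e P (hQ.hm.mem_isoG_of_adj ?_) fun b => ?_
    · change adj _ _ (1 + ph e P i y * ph e P j y) * (1 + ph e P i y * ph e P j y) = 1
      rw [hQ.hm.adj_add, hQ.hm.adj_one, hQ.hm.adj_mul, adj_ph hQ h₁ hT, adj_ph hQ h₁ hT, y3, ← ph_comm hij, GG]
    · change Q ((1 + ph e P i y * ph e P j y) *ᵥ _) = _
      rw [← pt_single, add_mulVec, one_mulVec, ← mulVec_mulVec, ph_pt, ph_pt, NQ.add (Q := Q), hp, hp, B_pt h₁ hT]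
      rcases h3 with h3 | h3
      · rw [Finset.prod_eq_zero (Finset.mem_univ (⟨2, h3⟩ : Fin t))]
        · simp
        · rw [Function.update_of_ne (by simp [i]), Function.update_of_ne (by simp [j]), h₁.alternating]
      · rw [Finset.prod_eq_zero (Finset.mem_univ j)]
        · simp
        · rw [Function.update_of_ne hij.symm, Function.update_self, h3]
  have h1 : h ∈ isometryGroup F Q := by
    refine isom_of hQ e P (hQ.hm.mem_isoG_of_adj ?_) fun b => ?_
    · change adj _ _ (ph e P i a) * ph e P i a = 1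
      rw [adj_ph hQ h₁ hT, ← map_mul, H.adj_of_iso a1, a.inv_mul, map_one]
    · change Q (ph e P i a *ᵥ _) = _
      rw [← pt_single, ph_pt, hp, hp]
  have h4 : ∀ l x, cj h (ph e P l x) = ph e P l (cj (Pi.mulSingle (M := fun _ => GL (Fin k) F) i a l) x) :=
    fun l x => by
    change ph e P i a * _ * ph e P i (a⁻¹).1 = _
    by_cases hl : l = i
    · subst hl; rw [Pi.mulSingle_eq_same, cj_apply, map_mul, map_mul]
    · rw [Pi.mulSingle_eq_of_ne hl, cj_one, ← ph_comm hl, mul_assoc, ← map_mul, a.mul_inv, map_one, mul_one]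
  have g2 : g ∈ nzG (S : Set _) := mem g fun l x hx => by
    change (1 + ph e P i y * ph e P j y) * _ * (1 + ph e P i y * ph e P j y) ∈ S
    obtain ⟨s, hs⟩ := hW2 y y1 x hx
    have hs' : ∀ l, ph e P l y * ph e P l x + ph e P l x * ph e P l y = s • 1 := fun l => by
      rw [← map_mul, ← map_mul, ← map_add, hs, map_smul, map_one]
    have yy : ∀ l, ph e P l y * ph e P l y = 0 := fun l => by rw [← map_mul, y2, map_zero]
    by_cases l1 : l = i
    · subst l1
      rw [sandwich (ph_comm hij.symm _ _) (ph_comm hij.symm _ _) (yy _) (hs' _)]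
      exact S.add_mem (gen _ _ hx) (S.smul_mem _ (gen _ _ y1))
    by_cases l2 : l = j
    · subst l2
      rw [ph_comm hij, sandwich (ph_comm hij _ _) (ph_comm hij _ _) (yy _) (hs' _)]
      exact S.add_mem (gen _ _ hx) (S.smul_mem _ (gen _ _ y1))
    · rw [sandwich (s := (0 : F)) (ph_comm hij.symm _ _) (ph_comm (Ne.symm l2) _ _) (yy _)
        (by rw [ph_comm l1, A2, zero_smul])]
      simpa using gen _ _ hx
  refine between (nzG (S : Set _)) (fun x hx => ?_) (fun hle => ?_) (g := ⁅g, h⁆)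
    ⟨⁅(⟨g, g1⟩ : isometryGroup F Q), ⟨h, h1⟩⁆, Subgroup.commutator_mem_commutator trivial trivial, rfl⟩ ?_ ?_
  · obtain ⟨σ, gs, h⟩ := cj_slot_of_mem_tensorWreath hx.1
    exact mem' x (isoG_of_isom (omegaGL_le hx.2)) σ gs h
  · have hx : ph e P i y *ᵥ vec e P (pt (Function.update (fun _ => y *ᵥ u) i u)) = vec e P (pt fun _ => y *ᵥ u) := by
      rw [ph_pt]; simp
    obtain ⟨r, hr, h5⟩ := exists_eich hQ hn h2 (x := ph e P i y) (by rw [← map_mul, y2, map_zero])
      (hp (Function.update (fun _ => y *ᵥ u) i u)) (hp fun _ => u')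
      (by rw [B_pt h₁ hT, Finset.prod_eq_zero (Finset.mem_univ i) (by simpa using u1), mul_zero])
      (by rw [hx, B_pt h₁ hT, Finset.prod_eq_zero (Finset.mem_univ j)
        (by rw [Function.update_of_ne hij.symm, h₁.alternating]), mul_zero])
      (by rw [hx, B_pt h₁ hT]; exact mul_ne_zero hc (Finset.prod_ne_zero_iff.2 fun _ _ => u2))
      (by rw [adj_ph hQ h₁ hT, y3])
    refine h5 (Submodule.span_induction (p := fun z _ => IsSc (ph e P i y * z + z * ph e P i y)) ?_ ⟨0, by simp⟩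
      (fun _ _ _ _ ⟨s, h⟩ ⟨s', h'⟩ => ⟨s + s', by rw [add_smul, ← h, ← h', mul_add, add_mul]; abel⟩)
      (fun r _ _ ⟨s, h⟩ => ⟨r * s, by rw [mul_smul, ← h]; simp⟩) ((hle hr _).1 (gen i y y1)))
    rintro _ ⟨l, x, hx, rfl⟩
    by_cases l1 : l = i
    · subst l1
      obtain ⟨s, hs⟩ := hW2 y y1 x hx
      exact ⟨s, by rw [← map_mul, ← map_mul, ← map_add, hs, map_smul, map_one]⟩
    · exact ⟨0, by rw [ph_comm l1, A2, zero_smul]⟩
  · have h5 := mem' h (isoG_of_isom h1) 1 _ h4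
    rw [commutatorElement_def]
    exact mul_mem (mul_mem (mul_mem g2 h5) (inv_mem g2)) (inv_mem h5)
  · refine not_mem_wreath hij a2 (y := y) (fun ⟨s, hs⟩ => u2 (by
      rw [hs, smul_mulVec, one_mulVec, H.smul_left, u1, mul_zero])) ?_
    have : (⁅g, h⁆).1 = g.1 * cj h (1 + ph e P i y * ph e P j y) := by
      rw [commutatorElement_def, cj_apply]; simp only [Units.val_mul, mul_assoc]; rfl
    rw [this, map_add, map_mul, map_one, h4, h4, Pi.mulSingle_eq_same, Pi.mulSingle_eq_of_ne hij.symm, cj_one]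
    change (1 + ph e P i y * ph e P j y) * _ = _
    simp only [add_mul, mul_add, one_mul, mul_one, NN, add_zero, add_assoc, map_add]

end

end Cfsg.Lib.Linear.Tw
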