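import Cfsg.Agent.Lib.Linear.TwA

/-! Tensor powers of symplectic 2- and 4-spaces in characteristic two are not maximal in `Ω⁺`. -/

set_option autoImplicit false

namespace Cfsg.Lib.Linear.Tw

open Matrix Cfsg.Geo Cfsg.Lib.Asch Module
open QuadraticMap (polar)
open scoped MatrixGroups

variable {ι κ : Type} [Fintype ι] [DecidableEq ι] [Fintype κ] [DecidableEq κ] {F : Type*} [Field F] {t : ℕ}
  {Q : (ι → F) → F}

/-- An alternating `4 × 4` matrix. -/
def alt4 (a b c d e f : F) : Matrix (Fin 4) (Fin 4) F := !![0, a, b, c; -a, 0, d, e; -b, -d, 0, f; -c, -e, -f, 0]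

theorem eq_alt4 {Z : Matrix (Fin 4) (Fin 4) F} (h : ∀ i j, Z j i = -Z i j) (h0 : ∀ i, Z i i = 0) :
    Z = alt4 (Z 0 1) (Z 0 2) (Z 0 3) (Z 1 2) (Z 1 3) (Z 2 3) := by
  ext i j
  fin_cases i <;> fin_cases j <;> simp [alt4, h0] <;> exact h _ _

theorem alt4_pol (a b c d e f a' b' c' d' e' f' : F) :
    alt4 f (-e) d c (-b) a * alt4 a' b' c' d' e' f' + alt4 f' (-e') d' c' (-b') a' * alt4 a b c d e f =
      (-(a * f' + f * a' - b * e' - e * b' + c * d' + d * c')) • 1 := by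
  ext i j
  fin_cases i <;> fin_cases j <;> simp [alt4, mul_apply, Fin.sum_univ_four] <;> ring

theorem alt4_pf (a b c d e f : F) :
    alt4 f (-e) d c (-b) a * alt4 a b c d e f = (-(a * f - b * e + c * d)) • 1 ∧
      alt4 a b c d e f * alt4 f (-e) d c (-b) a = (-(a * f - b * e + c * d)) • 1 := by
  constructor <;> ext i j <;> fin_cases i <;> fin_cases j <;> simp [alt4, mul_apply, Fin.sum_univ_four] <;> ring

theorem key4 {a b c d e f : F} {z z' : Matrix (Fin 4) (Fin 4) F}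
    (h : zᵀ * alt4 a b c d e f = alt4 a b c d e f * z') (h0 : z.trace = 0) :
    ∃ a' b' c' d' e' f', (a * f - b * e + c * d) • (z + z') = alt4 f' (-e') d' c' (-b') a' * alt4 a b c d e f ∧
      (a * f - b * e + c * d) • (z + z') = -(alt4 f (-e) d c (-b) a * alt4 a' b' c' d' e' f') := by
  set G := alt4 a b c d e f with hG
  have hT : Gᵀ = -G := by ext i j; fin_cases i <;> fin_cases j <;> simp [G, alt4]
  have h1 : G * (z + z') = G * z - (G * z)ᵀ := by rw [mul_add, ← h, transpose_mul, hT]; simp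
  have h2 := eq_alt4 (Z := G * (z + z')) (fun i j => by
    rw [h1, Matrix.sub_apply, Matrix.sub_apply, transpose_apply, transpose_apply, neg_sub]) fun i => by
    rw [h1, Matrix.sub_apply, transpose_apply, sub_self]
  have h3 : (alt4 f (-e) d c (-b) a * (G * z)).trace = 0 := by
    rw [← mul_assoc, (alt4_pf ..).1, smul_mul_assoc, one_mul, trace_smul, h0, smul_zero]
  have h4 : (a * f - b * e + c * d) • (z + z') = -(alt4 f (-e) d c (-b) a * (G * (z + z'))) := by
    rw [← mul_assoc, (alt4_pf ..).1, smul_mul_assoc, one_mul, neg_smul, neg_neg]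
  refine ⟨_, _, _, _, _, _, ?_, h4.trans (by rw [← h2])⟩
  have h5 := alt4_pol a b c d e f ((G * (z + z')) 0 1) ((G * (z + z')) 0 2) ((G * (z + z')) 0 3)
    ((G * (z + z')) 1 2) ((G * (z + z')) 1 3) ((G * (z + z')) 2 3)
  rw [← h2] at h5
  rw [h4, neg_eq_iff_add_eq_zero, h5, h1]
  generalize G * z = A at h3
  simp only [trace, diag, mul_apply, Fin.sum_univ_four, alt4] at h3
  simp only [smul_eq_zero]
  left
  simp at h3 ⊢
  linear_combination h3

theorem sq4 {f₁ : (Fin 4 → F) → (Fin 4 → F) → F} (h₁ : IsSymplecticForm f₁) {z w : Matrix (Fin 4) (Fin 4) F}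
    (hz : z.trace = 0) (hw : w.trace = 0) :
    IsSc ((z + adj (RingHom.id F) f₁ z) * (w + adj (RingHom.id F) f₁ w) +
      (w + adj (RingHom.id F) f₁ w) * (z + adj (RingHom.id F) f₁ z)) := by
  have H := IsSymplecticForm.hm h₁
  have hG := eq_alt4 (Z := gramMatrix f₁) (fun i j => h₁.skew _ _) fun i => h₁.alternating _
  have hu := H.unit
  have h1 : ∀ x, xᵀ * gramMatrix f₁ = gramMatrix f₁ * adj (RingHom.id F) f₁ x := fun x => by
    simpa using H.transpose_mul_gram x
  generalize gramMatrix f₁ 0 1 = a, gramMatrix f₁ 0 2 = b, gramMatrix f₁ 0 3 = c, gramMatrix f₁ 1 2 = d,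
    gramMatrix f₁ 1 3 = e, gramMatrix f₁ 2 3 = f at hG
  rw [hG] at hu h1
  have hp : a * f - b * e + c * d ≠ 0 := fun hp => by
    have h2 := (alt4_pf a b c d e f).1
    rw [hp, neg_zero, zero_smul, hu.mul_left_eq_zero] at h2
    have h3 : ∀ i j, alt4 f (-e) d c (-b) a i j = 0 := fun i j => by rw [h2]; rfl
    have := h3 0 1; have := h3 0 2; have := h3 0 3; have := h3 1 2; have := h3 1 3; have := h3 2 3
    refine hu.ne_zero ?_
    ext i j
    fin_cases i <;> fin_cases j <;> simp_all [alt4]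
  obtain ⟨a1, b1, c1, d1, e1, f1, z1, z2⟩ := key4 (h1 z) hz
  obtain ⟨a2, b2, c2, d2, e2, f2, w1, w2⟩ := key4 (h1 w) hw
  have h2 := alt4_pol a1 b1 c1 d1 e1 f1 a2 b2 c2 d2 e2 f2
  generalize z + adj (RingHom.id F) f₁ z = x at z1 z2
  generalize w + adj (RingHom.id F) f₁ w = y at w1 w2
  have h3 : ∀ {x y A B : Matrix (Fin 4) (Fin 4) F}, (a * f - b * e + c * d) • x = A * alt4 a b c d e f →
      (a * f - b * e + c * d) • y = -(alt4 f (-e) d c (-b) a * B) → (a * f - b * e + c * d) • (x * y) = A * B := by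
    intro x y A B hx hy
    refine smul_right_injective _ hp ?_
    change _ • _ • _ = _ • _
    rw [← mul_smul_comm, ← smul_mul_assoc, hx, hy, mul_neg,
      mul_assoc, ← mul_assoc (alt4 a b c d e f), (alt4_pf ..).2,
      smul_mul_assoc, one_mul, mul_smul_comm, neg_smul, neg_neg]
  exact ⟨(a * f - b * e + c * d)⁻¹ * _, by
    rw [mul_smul, ← h2, ← h3 z1 w2, ← h3 w1 z2, ← smul_add, inv_smul_smul₀ hp]⟩

section
variable {f : (κ → F) → (κ → F) → F} (h : IsSymplecticForm f) (h2 : (2 : F) = 0)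
include h

theorem ext_mv {A B : Matrix κ κ F} (H : ∀ v, A *ᵥ v = B *ᵥ v) : A = B :=
  Matrix.toLin'.injective (LinearMap.ext H)

theorem cj_rk {a : GL κ F} (ha : a ∈ isoG f) (u w : κ → F) : cj a (rk f u w) = rk f (a.1 *ᵥ u) (a.1 *ᵥ w) :=
  cj_eq_iff.2 (ext_mv h fun v => by
    simp only [← mulVec_mulVec, (IsSymplecticForm.hm h).rk_mulVec, mulVec_smul, mem_isoG.1 ha])

theorem trace_rk (u w : κ → F) : (rk f u w).trace = f w u := by
  rw [rk, trace_vecMulVec, dotProduct_comm, (IsSymplecticForm.hm h).dot]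

include h2

theorem sym (u v : κ → F) : f u v = f v u := by rw [h.skew]; grind

theorem adj_rk (u w : κ → F) : adj (RingHom.id F) f (rk f u w) = rk f w u :=
  (IsSymplecticForm.hm h).adj_eq fun x y => by
    have H := IsSymplecticForm.hm h
    simp only [H.rk_mulVec, H.smul_left, H.smul_right, RingHom.id_apply, sym h h2 w y, mul_comm]

theorem exists_tv (u : κ → F) : ∃ a ∈ isoG f, ∀ v, a.1 *ᵥ v = v + f v u • u := by
  have H := IsSymplecticForm.hm h
  obtain ⟨a, -, ha⟩ := H.exists_tv (h.alternating u)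
  have h3 : ∀ v, a.1 *ᵥ v = v + f v u • u := fun v => by rw [ha, add_mulVec, one_mulVec, H.rk_mulVec]
  refine ⟨a, fun x y => ?_, h3⟩
  change f (a.1 *ᵥ x) (a.1 *ᵥ y) = _
  simp only [h3, H.add_left, H.add_right, H.smul_left, H.smul_right, RingHom.id_apply, h.alternating, sym h h2 u y]
  grind

end

theorem nm_small [Finite F] {k : ℕ} {e : ι ≃ (Fin t → Fin k)} {P : GL ι F} {f₁ : (Fin k → F) → (Fin k → F) → F}
    {c : F} (hQ : NQ Q) (h₁ : IsSymplecticForm f₁)
    (hT : ∀ x y, polar Q (vec e P x) (vec e P y) = c * ∑ a, ∑ b, x a * (∏ i, gramMatrix f₁ (a i) (b i)) * y b)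
    (hn : 5 ≤ Fintype.card ι) (h2 : (2 : F) = 0) (hc : c ≠ 0) (hp : ∀ xs, Q (vec e P (pt xs)) = 0) (ht : 2 ≤ t)
    (hk : k ≤ 4) : ∃ K, tensorWreathSubgroup k t e P ⊓ omegaGL Q < K ∧ K < omegaGL Q := by
  have H := IsSymplecticForm.hm h₁
  have he : Even k := by simpa using IsSymplecticForm.even h₁
  have hn' : 5 ≤ k ^ t := by simpa [Fintype.card_congr e] using hn
  have hs := sym h₁ h2
  have h0 := h₁.alternating
  obtain rfl | rfl : k = 2 ∨ k = 4 := by
    obtain ⟨m, rfl⟩ := he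
    have : m ≠ 0 := by rintro rfl; rw [add_zero, zero_pow (by omega)] at hn'; omega
    omega
  · obtain ⟨w, w0⟩ := exists_ne (0 : Fin 2 → F)
    obtain ⟨u, hu⟩ := H.exists_ne w0
    obtain ⟨a, a1, a2⟩ := exists_tv h₁ h2 u
    refine nm hQ h₁ hT hn h2 hc hp (W := {x | x.trace = 0}) (fun a _ x hx => (trace_cj a x).trans hx)
      (fun x hx y hy => ⟨x 0 0 * y 0 0 * 2 + x 0 1 * y 1 0 + x 1 0 * y 0 1, ?_⟩) (y := rk f₁ w w)
      ((trace_rk h₁ ..).trans (h0 w)) (ext_mv h₁ fun v => by simp [← mulVec_mulVec, H.rk_mulVec, h0, H.smul_left])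
      (adj_rk h₁ h2 ..) (h0 u) (by simp [H.rk_mulVec, H.smul_left, hs w u, hu]) a1 (fun ⟨s, h⟩ => ?_) ht
      (.inl (by by_contra h; obtain rfl : t = 2 := by omega
                omega))
    · rw [Set.mem_ofPred_eq, trace_fin_two, add_comm, add_eq_zero_iff_eq_neg] at hx hy
      ext i j
      fin_cases i <;> fin_cases j <;> simp [mul_apply, hx, hy] <;> ring
    · have := congrArg (fun A => f₁ (A *ᵥ w) w) h
      simp [cj_rk h₁ a1, add_mulVec, H.rk_mulVec, a2, H.add_left, H.add_right, H.smul_left, H.smul_right, h0,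
        smul_mulVec, hs w u, hu] at this
  · classical
    obtain ⟨w, w0⟩ := exists_ne (0 : Fin 4 → F)
    obtain ⟨u, hu⟩ := H.exists_ne w0
    obtain ⟨x, -, x0, hx⟩ := H.exists_perp_mem (W := ⊤) (s := {w, u}) (by
      rw [finrank_top, finrank_fintype_fun_eq_card]; exact Finset.card_le_two.trans_lt (by simp))
    simp only [Finset.mem_insert, Finset.mem_singleton, forall_eq_or_imp, forall_eq] at hx
    obtain ⟨x1, x2⟩ := hx
    obtain ⟨v, hv⟩ := H.exists_ne x0
    obtain ⟨a, a1, a2⟩ := exists_tv h₁ h2 u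
    refine nm hQ h₁ hT hn h2 hc hp (W := {x | ∃ z, z.trace = 0 ∧ x = z + adj (RingHom.id F) f₁ z})
      (fun a ha x ⟨z, hz, hx⟩ => ⟨cj a z, (trace_cj a z).trans hz, by rw [hx, map_add, ha]⟩)
      (fun x ⟨z, hz, hx⟩ y ⟨z', hz', hy⟩ => hx ▸ hy ▸ sq4 h₁ hz hz') (y := rk f₁ w x + rk f₁ x w)
      ⟨_, (trace_rk h₁ ..).trans x1, by rw [adj_rk h₁ h2]⟩
      (ext_mv h₁ fun v => by
        simp [← mulVec_mulVec, H.rk_mulVec, h0, mulVec_smul, add_mulVec, mulVec_add, x1, hs w x])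
      (by rw [H.adj_add, adj_rk h₁ h2, adj_rk h₁ h2, add_comm]) (u := u) (u' := f₁ u w • v - f₁ u v • w)
      (by simp [H.sub_right, H.smul_right, mul_comm])
      (by simp [H.rk_mulVec, H.smul_left, add_mulVec, hs u x, x1, x2, H.sub_right, H.smul_right, hu, hs x v, hv])
      a1 (fun ⟨s, h⟩ => ?_) ht (.inr fun v => by
        simp only [add_mulVec, H.rk_mulVec, H.add_right, H.smul_right, RingHom.id_apply]; grind)
    have h3 := congrArg (· *ᵥ x) h
    have h4 := congrArg (· *ᵥ w) h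
    simp [cj_rk h₁ a1, add_mulVec, H.rk_mulVec, a2, H.add_right, H.smul_right, h0,
        smul_mulVec, hs w u, x1, x2] at h3
    obtain rfl : s = 0 := (smul_eq_zero.1 h3.symm).resolve_right x0
    simp [cj_rk h₁ a1, add_mulVec, H.rk_mulVec, a2, H.add_right, H.smul_right, h0,
        smul_mulVec, hs w u, hs w x, x1, x2, x0, hu] at h4

end Cfsg.Lib.Linear.Tw
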