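import Cfsg.Agent.Lib.Linear.McL3
import Cfsg.Agent.Lib.Linear.RegUnip

/-! `SL_n(q)` is generated by two regular unipotent elements. -/

set_option autoImplicit false

namespace Cfsg.Lib.Linear

open Matrix Module McL

local notation "SL" => Matrix.SpecialLinearGroup

theorem McL.mem_of_irr {F V : Type*} [Field F] [AddCommGroup V] [Module F V] [FiniteDimensional F V] {H : Subgroup (V ≃ₗ[F] V)}
    {g y : V ≃ₗ[F] V} (hg : g ∈ H) (hy : y ∈ H)
    (irr : ∀ U : Submodule F V, (∀ x ∈ U, g x ∈ U) → (∀ x ∈ U, y x ∈ U) → U = ⊥ ∨ U = ⊤) {v : V} {φ : Dual F V} (h : Rt H v φ)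
    {c : F} (h1 : y v = c • v) (h2 : φ (g v) = 0) (h3 : φ (g.symm v) ≠ 0) {f : V ≃ₗ[F] V}
    (hf : LinearMap.det (f : V →ₗ[F] V) = 1) : f ∈ H := by
  have v0 : v ≠ 0 := by rintro rfl; simp at h3
  let M := sInf {R | Inv H R ∧ v ∈ R}
  have vM : v ∈ M := Submodule.mem_sInf.2 fun _ a => a.2
  have k1 : ∀ R, Inv H R → ∀ k ∈ H, k v ∈ R → ∀ x ∈ M, k x ∈ R := fun R a k b d x e =>
    Submodule.mem_sInf.1 e (R.comap (k : V →ₗ[F] V)) ⟨fun y η x i j l => a _ _ _ (i.conj b) j (by simpa), d⟩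
  have iM : Inv H M := fun y η x a b d => Submodule.mem_sInf.2 fun R e => e.1 y η x a (Submodule.mem_sInf.1 b R e) d
  have MT : M = ⊤ := (irr M (k1 M iM g hg (iM _ _ v (h.conj hg) vM h3)) (k1 M iM y hy (h1 ▸ M.smul_mem c vM))).resolve_left
    fun e => v0 (by simpa [e] using vM)
  have k2 : ∀ x, x ≠ 0 → ∃ k ∈ H, φ (k x) ≠ 0 := fun x a => by
    by_contra b
    push Not at b
    let U : Submodule F V :=
      { carrier := {x | ∀ k ∈ H, φ (k x) = 0}
        add_mem' := fun a b k c => by simp [a k c, b k c]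
        zero_mem' := by simp
        smul_mem' := fun s x a k c => by simp [a k c] }
    rcases irr U (fun x a k b => a _ (mul_mem b hg)) (fun x a k b => a _ (mul_mem b hy)) with e | e
    · exact a (by simpa [e] using show x ∈ U from b)
    · exact h3 ((e.ge trivial : g.symm v ∈ U) 1 (one_mem _))
  have k3 : ∀ x : V, x ≠ 0 → ∃ k ∈ H, Rt H (k v) (φ ∘ₗ k.symm) ∧ (φ ∘ₗ k.symm) x ≠ 0 := fun x a =>
    let ⟨k, b, d⟩ := k2 x a; ⟨k⁻¹, inv_mem b, h.conj (inv_mem b), d⟩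
  have cp : Cp H ⊤ := ⟨fun _ _ _ _ _ _ => trivial, fun R _ a x b ⟨_, _, _, _, d⟩ z _ => by
      obtain ⟨k, e, i, j⟩ := k3 x (by rintro rfl; simp at d)
      simpa using k1 R a k e (a _ _ x i b j) (k.symm z) (MT.ge trivial),
    fun y _ η _ a b => ⟨let ⟨k, _, i, j⟩ := k3 y a; ⟨_, _, by simpa, i, j⟩, by
      by_contra d; push Not at d; exact b (LinearMap.ext fun x => d x trivial)⟩⟩
  have h4 := h.conj (inv_mem hg)
  obtain ⟨Y, a, b, -⟩ := cp.linear (v₀ := v) trivial v0 (two_le_finrank h (h.comm h4 h3 h2) h3 h4.1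
    fun e => h3 (by simpa [show g⁻¹.symm = g from rfl] using LinearMap.congr_fun e (g.symm (g.symm v))))
  refine mem_of_det (fun z ψ d => ?_) hf
  obtain ⟨ζ, i, j⟩ := exists_ext b (ψ ∘ₗ Submodule.subtype _)
  obtain rfl : ζ = ψ := LinearMap.ext fun x => j ⟨x, trivial⟩
  simpa using (a z trivial ζ i d).2 1

variable {F : Type*} [Field F]

theorem eq_top_of_irr {ι : Type} [Fintype ι] [DecidableEq ι] {H : Subgroup (SL ι F)} {g y : SL ι F} (hg : g ∈ H) (hy : y ∈ H)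
    (irr : ∀ U : Submodule F (ι → F), (∀ x ∈ U, g.1 *ᵥ x ∈ U) → (∀ x ∈ U, y.1 *ᵥ x ∈ U) → U = ⊥ ∨ U = ⊤) {v φ : ι → F}
    (h : ∀ c : F, c • φ ∈ tvA H v) {c : F} (h1 : y.1 *ᵥ v = c • v) (h2 : φ ⬝ᵥ g.1 *ᵥ v = 0) (h3 : φ ⬝ᵥ g⁻¹.1 *ᵥ v ≠ 0) :
    H = ⊤ := eq_top_iff.2 fun f _ => by
  obtain ⟨k, a, b⟩ := McL.mem_of_irr (H := H.map SpecialLinearGroup.toLin') ⟨g, hg, rfl⟩ ⟨y, hy, rfl⟩ irr (v := v)
    (φ := dotProductBilin F F φ) ⟨by simpa using (h 1).1, fun c => ⟨_, ⟨_, (h c).2, rfl⟩, fun x =>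
      (tvf_mulVec (h c).1 x).trans (by simp)⟩⟩ h1 h2 h3 (f := f.toLin') (by simp [SpecialLinearGroup.toLin'_to_linearMap])
  rwa [← SpecialLinearGroup.toLin'_injective b]

variable {n : ℕ}

theorem shM_pow_mulVec (k : ℕ) (x : Fin n → F) (i : Fin n) :
    (shM n F ^ k *ᵥ x) i = if h : i.val + k < n then x ⟨i.val + k, h⟩ else 0 := by
  rw [← single_one_dotProduct i (_ *ᵥ x), dotProduct_mulVec, dotProduct]
  simp only [vecMul_shM_pow, Pi.single_apply, Fin.ext_iff]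
  split_ifs with h
  · rw [Finset.sum_eq_single ⟨_, h⟩ (fun j _ e => ?_) (by simp)]
    · simp
    · split_ifs with a b
      · exact absurd (Fin.ext (by simp; omega)) e
      all_goals simp
  · exact Finset.sum_eq_zero fun j _ => by split_ifs with a b <;> first | omega | simp

variable {U : Submodule F (Fin (n + 1) → F)}

theorem shM_pow_mulVec_mem (h : ∀ x ∈ U, (jSL _ F).1 *ᵥ x ∈ U) (k : ℕ) {x : Fin (n + 1) → F} (hx : x ∈ U) :
    shM _ F ^ k *ᵥ x ∈ U := by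
  induction k with
  | zero => simpa
  | succ k ih => simpa [coe_jSL, add_mul, add_mulVec, pow_succ'] using sub_mem (h _ ih) ih

theorem single_mem_of_lead (h : ∀ x ∈ U, (jSL _ F).1 *ᵥ x ∈ U) {x : Fin (n + 1) → F} (hx : x ∈ U) {j : Fin (n + 1)} (a : x j ≠ 0)
    (b : ∀ i, j < i → x i = 0) (k : ℕ) (hk : k ≤ j.val) : Pi.single ⟨k, by omega⟩ 1 ∈ U := by
  induction k using Nat.strong_induction_on with
  | _ k ih =>
    have := U.smul_mem (x j)⁻¹ (sub_mem (shM_pow_mulVec_mem h (j.val - k) hx) (U.sum_mem (t := Finset.univ)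
      fun (i : Fin k) _ => U.smul_mem ((shM _ F ^ (j.val - k) *ᵥ x) ⟨i, by omega⟩) (ih i i.2 (by omega))))
    convert this using 1
    ext i
    simp only [Pi.smul_apply, Pi.sub_apply, Finset.sum_apply, Pi.single_apply, Fin.ext_iff, smul_eq_mul, mul_ite, mul_one, mul_zero]
    rcases lt_trichotomy i.val k with c | c | c
    · rw [Finset.sum_eq_single ⟨i, c⟩ (fun l _ e => if_neg fun f => e (Fin.ext f.symm)) (by simp), if_neg c.ne]; simp
    · rw [Finset.sum_eq_zero fun l _ => if_neg (by omega), if_pos c, shM_pow_mulVec, dif_pos (by omega), sub_zero,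
        show (⟨i.val + (j.val - k), _⟩ : Fin (n + 1)) = j from Fin.ext (by simp; omega), inv_mul_cancel₀ a]
    · rw [Finset.sum_eq_zero fun l _ => if_neg (by omega), if_neg c.ne', shM_pow_mulVec]
      split_ifs
      · rw [b ⟨i.val + (j.val - k), ‹_›⟩ (show j.val < i.val + (j.val - k) by omega)]; simp
      · simp

theorem single_zero_mem (h : ∀ x ∈ U, (jSL _ F).1 *ᵥ x ∈ U) (h' : U ≠ ⊥) : Pi.single 0 1 ∈ U := by
  classical
  obtain ⟨x, a, b⟩ := U.exists_mem_ne_zero_of_ne_bot h'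
  obtain ⟨j, c, d⟩ := (Finset.univ.filter fun i => x i ≠ 0).exists_max_image id
    (let ⟨i, e⟩ := Function.ne_iff.1 b; ⟨i, by simpa using e⟩)
  exact single_mem_of_lead h a (by simpa using c) (fun i e => by_contra fun f => e.not_ge (d i (by simpa))) 0 (by simp)

theorem eq_top_of_last (h : ∀ x ∈ U, (jSL _ F).1 *ᵥ x ∈ U) {x : Fin (n + 1) → F} (hx : x ∈ U) (a : x (Fin.last _) ≠ 0) : U = ⊤ :=
  eq_top_iff.2 fun v _ => by
    rw [pi_eq_sum_univ' v]
    exact U.sum_mem fun i _ => U.smul_mem _ (single_mem_of_lead h hx a (fun i e => absurd e (Fin.le_last i).not_gt) i.1 (Fin.le_last i))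

/-- The cyclic vectors. -/
def jB (n : ℕ) (F : Type*) [Field F] (k : ℕ) : Fin (n + 1) → F := (jSL _ F).1 ^ k *ᵥ Pi.single (Fin.last n) 1

theorem jB_succ (k : ℕ) : (jSL _ F).1 *ᵥ jB n F k = jB n F (k + 1) := by rw [jB, jB, mulVec_mulVec, pow_succ']

theorem jB_last (k : ℕ) : jB n F k (Fin.last n) = 1 := by
  induction k with
  | zero => simp [jB]
  | succ k ih => rw [← jB_succ, coe_jSL, add_mulVec, Pi.add_apply, ← pow_one (shM _ F), shM_pow_mulVec]; simp [ih]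

theorem two_gen {φ : Fin (n + 3) → F} {M : ℕ → F} (hM : ∀ k, φ ⬝ᵥ jB _ F k = M k) (h0 : φ 0 ≠ 0) (hβ : 1 + M 2 ≠ 0) (h3 : M 3 ≠ 0)
    (e1 : M 3 * M 1 = (M 2 + 2) ^ 2) (e2 : M 3 * M 2 = M 1 * M 4) {m : F} (hm : m = (M 3 * M 0 - M 1 * M 2) / (1 + M 2)) (m0 : m ≠ 0)
    (hR : Subring.closure {m * ((M 3 + (M 2 + 2) * M 4 / M 3) / (1 + M 2)), m ^ 2 * ((M 3 ^ 2 - M 1 * M 5) / (1 + M 2))} = ⊤)
    {w : SL (Fin (n + 3)) F} (hw : w.1 * (1 + vecMulVec (jB _ F 2) φ) = (1 + vecMulVec (jB _ F 2) φ) * (jSL _ F).1) :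
    Subgroup.closure {jSL _ F, w} = ⊤ := by
  set H := Subgroup.closure {jSL (n + 3) F, w}
  set u := jSL (n + 3) F
  have hu : u ∈ H := Subgroup.subset_closure (.inl rfl)
  let y := u⁻¹ * w
  have hy : y ∈ H := mul_mem (inv_mem hu) (Subgroup.subset_closure (by simp))
  let α := φ ᵥ* u.1
  have hα : ∀ k, α ⬝ᵥ jB _ F k = M (k + 1) := fun k => by rw [← dotProduct_mulVec, jB_succ, hM]
  have e1' : M 1 = (M 2 + 2) ^ 2 / M 3 := by rw [← e1]; field_simp
  have ui : ∀ k, u⁻¹.1 *ᵥ jB _ F (k + 1) = jB _ F k := fun k => by rw [← jB_succ, mulVec_mulVec, sl_coe_inv_mul, one_mulVec]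
  have y1 : ∀ x, y.1 *ᵥ x = x - (φ ⬝ᵥ x / (1 + M 2)) • jB _ F 2 + (α ⬝ᵥ x - φ ⬝ᵥ x / (1 + M 2) * M 3) • jB _ F 1 := fun x => by
    have := congrArg (u⁻¹.1 *ᵥ · *ᵥ (x - (φ ⬝ᵥ x / (1 + M 2)) • jB _ F 2)) hw
    simp only [← mulVec_mulVec, one_add_vecMulVec_mulVec] at this
    rw [show x - (φ ⬝ᵥ x / (1 + M 2)) • jB _ F 2 + (φ ⬝ᵥ (x - (φ ⬝ᵥ x / (1 + M 2)) • jB _ F 2)) • jB _ F 2 = x by
      simp only [dotProduct_sub, dotProduct_smul, hM, smul_eq_mul]; match_scalars <;> field_simp <;> ring] at this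
    rw [sl_coe_mul, ← mulVec_mulVec, this, mulVec_add, mulVec_mulVec, sl_coe_inv_mul, one_mulVec, mulVec_smul, ui, dotProduct_mulVec]
    simp [α, hα]
  let v := M 3 • jB (n + 2) F 1 + (M 2 + 2) • jB _ F 2
  let ψ := (1 + M 2)⁻¹ • (φ - ((M 2 + 2) / M 3) • α)
  have hψ : ∀ x, ψ ⬝ᵥ x = (φ ⬝ᵥ x - (M 2 + 2) / M 3 * α ⬝ᵥ x) / (1 + M 2) := fun x => by simp [ψ]; ring
  have p0 : ψ ⬝ᵥ v = 0 := by simp only [hψ, v, dotProduct_add, dotProduct_smul, hM, hα, e1', smul_eq_mul]; field_simp; ring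
  have p1 : ψ ⬝ᵥ u.1 *ᵥ v = 0 := by
    simp only [hψ, v, u, mulVec_add, mulVec_smul, jB_succ, dotProduct_add, dotProduct_smul, hM, hα, smul_eq_mul]
    field_simp; linear_combination M 3 * e2 + M 4 * e1
  have p2 : ψ ⬝ᵥ u⁻¹.1 *ᵥ v = m := by
    simp only [hψ, v, mulVec_add, mulVec_smul, ui 0, ui 1, dotProduct_add, dotProduct_smul, hM, hα, smul_eq_mul, hm, e1']
    field_simp; ring
  have p3 : ψ ⬝ᵥ u.1 *ᵥ u.1 *ᵥ v = (M 3 ^ 2 - M 1 * M 5) / (1 + M 2) := by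
    simp only [hψ, v, u, mulVec_add, mulVec_smul, jB_succ, dotProduct_add, dotProduct_smul, hM, hα, smul_eq_mul, e1']
    field_simp; ring
  have q0 : ψ ∈ tvA H v := ⟨p0, by
    convert mul_mem hy hy using 1
    refine Subtype.ext (ext_of_mulVec_single fun i => ?_)
    rw [tvf_mulVec p0, sl_coe_mul, ← mulVec_mulVec, y1, y1]
    simp only [hψ, v, dotProduct_add, dotProduct_sub, dotProduct_smul, hM, hα, smul_eq_mul, e1']
    match_scalars <;> field_simp <;> ring⟩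
  have yv : y.1 *ᵥ v = (-1 : F) • v := by
    simp only [y1, v, dotProduct_add, dotProduct_smul, hM, hα, smul_eq_mul, e1']
    match_scalars <;> field_simp <;> ring
  have q1 : ψ ᵥ* u.1 ∈ tvA H (u⁻¹.1 *ᵥ v) := (tvA_conj hu).1 (by rwa [mulVec_mulVec, sl_coe_mul_inv, one_mulVec])
  have q2 : ψ ᵥ* u⁻¹.1 ∈ tvA H (u.1 *ᵥ v) := (tvA_conj (inv_mem hu)).1 (by rwa [mulVec_mulVec, sl_coe_inv_mul, one_mulVec])
  have q3 := tvA_comm q2 q0 p1
  rw [← dotProduct_mulVec, p2] at q3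
  have q4 : ∀ c : F, c • ψ ∈ tvA H v → (c * m) • ψ ᵥ* u.1 ∈ tvA H v := fun c h => by
    simpa only [smul_dotProduct, p2, smul_eq_mul] using tvA_comm h q1 (by rwa [← dotProduct_mulVec])
  have q5 : (ψ ᵥ* u.1) ᵥ* y.1 - ψ ᵥ* u.1 = ((M 3 + (M 2 + 2) * M 4 / M 3) / (1 + M 2)) • ψ := by
    refine dotProduct_eq _ _ fun x => ?_
    have : ∀ k, ψ ᵥ* u.1 ⬝ᵥ jB _ F k = (M (k + 1) - (M 2 + 2) / M 3 * M (k + 2)) / (1 + M 2) := fun k => by
      rw [← dotProduct_mulVec, jB_succ, hψ, hM, hα]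
    rw [sub_dotProduct, ← dotProduct_mulVec (ψ ᵥ* u.1), y1]
    simp only [dotProduct_add, dotProduct_sub, dotProduct_smul, smul_dotProduct, this, hψ, smul_eq_mul]
    field_simp
    linear_combination (-(α ⬝ᵥ x)) * (M 3 * e2 + M 4 * e1)
  let R : Subring F :=
    { carrier := {s | ∀ c : F, c • ψ ∈ tvA H v → (c * s) • ψ ∈ tvA H v}
      mul_mem' := fun a b c h => mul_assoc c _ _ ▸ b _ (a c h)
      one_mem' := fun c h => by simpa
      add_mem' := fun a b c h => by simpa [mul_add, add_smul] using add_mem (a c h) (b c h)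
      zero_mem' := fun c h => by simp
      neg_mem' := fun a c h => by simpa using a c h }
  have hR' : ⊤ ≤ R := hR ▸ Subring.closure_le.2 (by
    rintro _ (rfl | rfl) c h
    · have := q4 c h
      have k := sub_mem ((tvA_conj hy).1 (yv ▸ (tvA_smul this.1).2 (by simpa only [neg_smul, one_smul] using neg_mem this))) this
      rwa [smul_vecMul, ← smul_sub, q5, smul_smul, mul_assoc] at k
    · have := tvA_comm (q4 c h) q3 (by simp [p0])
      rw [smul_dotProduct, ← dotProduct_mulVec, p3, smul_smul] at this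
      convert this using 2; simp only [smul_eq_mul]; ring)
  refine eq_top_of_irr hu hy (fun U a b => by_contra fun c => ?_) (fun c => by simpa using hR' (Subring.mem_top c) 1 (by simpa))
    yv p1 (p2 ▸ m0)
  push Not at c
  have d : ∀ x ∈ U, x (Fin.last _) = 0 := fun x e => by_contra fun f => c.2 (eq_top_of_last a e f)
  have e : ∀ x ∈ U, (1 + M 2) * α ⬝ᵥ x = (1 + M 3) * φ ⬝ᵥ x := fun x e => by
    have := d _ (b x e)
    simp only [y1, Pi.add_apply, Pi.sub_apply, Pi.smul_apply, d x e, jB_last, smul_eq_mul] at this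
    field_simp at this; linear_combination this
  have f := single_zero_mem a c.1
  have g : α ⬝ᵥ Pi.single 0 1 = φ 0 := by rw [← dotProduct_mulVec, jSL_mulVec_zero]; simp
  have i : M 2 = M 3 := mul_right_cancel₀ h0 (by have := e _ f; simp only [g, dotProduct_single] at this; linear_combination this)
  have j : shM _ F *ᵥ jB _ F 1 ∈ U := by
    convert U.smul_mem (-(1 + M 2) / φ 0) (sub_mem (b _ f) f) using 1
    rw [y1, g, ← jB_succ 1, coe_jSL, add_mulVec, one_mulVec, dotProduct_single, ← i]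
    match_scalars <;> field_simp <;> ring
  have k := mul_left_cancel₀ hβ ((e _ (shM_pow_mulVec_mem a n j)).trans (by rw [← i]))
  rw [← dotProduct_mulVec, coe_jSL, add_mulVec, one_mulVec, dotProduct_add, add_eq_left, mulVec_mulVec, mulVec_mulVec, ← pow_succ',
    ← pow_succ, dotProduct, Finset.sum_eq_single 0 (fun l _ o => by
      rw [shM_pow_mulVec, dif_neg (by have := Fin.pos_iff_ne_zero.2 o; rw [Fin.lt_def] at this; simp at this; omega), mul_zero])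
    (by simp), shM_pow_mulVec, dif_pos (by simp)] at k
  exact h0 (by simpa [show jB (n + 2) F 1 ⟨n + 1 + 1, by omega⟩ = 1 from jB_last 1] using k)

end Cfsg.Lib.Linear
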