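import Cfsg.Agent.Lib.Linear.Flag

/-! The unipotent characters of `GL_n(q)`: degrees and orthogonality. -/

set_option autoImplicit false

namespace Cfsg.Lib.Linear

open Cfsg Cfsg.Lib.Char Cfsg.Lib.Stein Finset Matrix Equiv

/-- The `q`-factorial. -/
def qfac (q r : ℕ) : ℕ := ∏ j ∈ range r, ∑ l ∈ range (j + 1), q ^ l

theorem qfac_pos (q r : ℕ) : 0 < qfac q r := prod_pos fun j _ => by simp [sum_range_succ']

variable {F : Type*} [Field F] [Fintype F] {n : ℕ} {α β : Fin n → ℕ} {a b : Fin n → Fin n}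

theorem card_GL_eq_qfac (ι : Type*) [Fintype ι] [DecidableEq ι] : Nat.card (GL ι F) =
    Fintype.card F ^ (∑ i ∈ range (Fintype.card ι), i) * (Fintype.card F - 1) ^ Fintype.card ι * qfac (Fintype.card F) (Fintype.card ι) := by
  rw [Nat.card_congr (Units.mapEquiv (reindexAlgEquiv F F (Fintype.equivFin ι)).toMulEquiv).toEquiv, card_GL_field,
    Fin.prod_univ_eq_prod_range fun i => Fintype.card F ^ Fintype.card ι - Fintype.card F ^ i]
  obtain ⟨p, hp⟩ : ∃ p, Fintype.card F = p + 1 := ⟨_, (Nat.succ_pred_eq_of_pos Fintype.card_pos).symm⟩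
  rw [hp]
  induction Fintype.card ι with
  | zero => simp [qfac]
  | succ m ih =>
    rw [prod_range_succ', qfac, prod_range_succ, ← qfac, sum_range_succ]
    nth_rw 2 [← geom_sum_mul_add p (m + 1)]
    simp only [pow_succ' (p + 1), ← mul_tsub, prod_mul_distrib, ih]
    simp; ring

theorem IsLab.card_par (h : IsLab α a) : Nat.card (parabolicGL n F α) =
    Fintype.card F ^ (∑ i ∈ range n, i) * (Fintype.card F - 1) ^ n * ∏ s, qfac (Fintype.card F) (α s) := by
  classical
  have h0 : ∀ {M : Matrix (Fin n) (Fin n) F}, BlockTriangular M a → (M.det ≠ 0 ↔ ∀ s, (M.toSquareBlock a s).det ≠ 0) :=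
    fun hM => by simp [hM.det_fintype, prod_eq_zero_iff]
  have h1 : Nat.card (parabolicGL n F α) = Nat.card ((∀ s, GL {i // a i = s} F) × ({p : Fin n × Fin n // a p.1 < a p.2} → F)) := by
    refine Nat.card_eq_of_bijective (fun g => (fun s => GeneralLinearGroup.mkOfDetNeZero _
      ((h0 (h.mem_par.1 g.2)).1 g.1.det_ne_zero s), fun p => g.1 p.1.1 p.1.2)) ⟨fun g g' e => Subtype.ext (Units.ext (Matrix.ext fun i j => ?_)), fun ⟨D, u⟩ => ?_⟩
    · rcases lt_trichotomy (a i) (a j) with h' | h' | h'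
      · exact congrFun (congrArg Prod.snd e) ⟨(i, j), h'⟩
      · exact congrArg (fun x => x.1 (a j) ⟨i, h'⟩ ⟨j, rfl⟩) e
      · exact (h.mem_par.1 g.2 i j h').trans (h.mem_par.1 g'.2 i j h').symm
    set M : Matrix (Fin n) (Fin n) F := of fun i j =>
      if h : a i = a j then D (a j) ⟨i, h⟩ ⟨j, rfl⟩ else if h : a i < a j then u ⟨(i, j), h⟩ else 0
    have h2 : BlockTriangular M a := fun i j h' => by simp [M, h'.ne', h'.not_gt]
    have h3 : ∀ s, M.toSquareBlock a s = D s := fun s => Matrix.ext fun ⟨i, hi⟩ ⟨j, hj⟩ => by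
      subst hj; simp [M, toSquareBlock_def, hi]
    exact ⟨⟨.mkOfDetNeZero M ((h0 h2).2 fun s => h3 s ▸ (D s).det_ne_zero), h.mem_par.2 h2⟩,
      Prod.ext (funext fun s => Units.ext (h3 s)) (funext fun p => by simp [M, p.2.ne, p.2])⟩
  have h2 : ∑ s, α s = n := by simp [← h.card, ← card_eq_sum_card_fiberwise]
  have h3 : ∀ m : ℕ, (∑ i ∈ range m, i) * 2 + m = m * m := fun m => by
    rw [sum_range_id_mul_two]; cases m <;> simp [mul_add]
  have h4 : #{p : Fin n × Fin n | a p.1 < a p.2} * 2 + ∑ s, α s * α s = n * n := by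
    have e1 : #{p : Fin n × Fin n | a p.1 < a p.2} = #{p : Fin n × Fin n | a p.2 < a p.1} := card_equiv (prodComm _ _) (by simp)
    have e2 : #{p : Fin n × Fin n | a p.1 = a p.2} = ∑ s, α s * α s := by
      rw [card_eq_sum_card_fiberwise (f := fun p => a p.1) (t := univ) (by simp)]
      refine sum_congr rfl fun s _ => ?_
      rw [← h.card, ← card_product]; congr 1; ext; simp; grind
    rw [mul_two, ← e2]; nth_rw 1 [e1]
    simp only [card_filter, ← sum_add_distrib]
    rw [sum_congr rfl (g := fun _ => 1) fun p _ => by grind]; simp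
  have h5 : ∑ s, ∑ i ∈ range (α s), i + #{p : Fin n × Fin n | a p.1 < a p.2} = ∑ i ∈ range n, i := by
    have := h3 n
    have := sum_congr rfl fun s (_ : s ∈ univ) => h3 (α s)
    rw [sum_add_distrib, ← sum_mul] at this
    omega
  simp only [h1, Nat.card_prod, Nat.card_pi, card_GL_eq_qfac, Fintype.card_subtype, h.card, prod_mul_distrib,
    prod_pow_eq_pow_sum, h2, prod_const, card_univ, Nat.card_eq_fintype_card (α := F), ← h5]
  ring

theorem index_par_mul (hα : ∑ i, α i = n) :
    (parabolicGL n F α).index * ∏ s, qfac (Fintype.card F) (α s) = qfac (Fintype.card F) n := by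
  obtain ⟨a, ha⟩ := exists_isLab hα
  have := (parabolicGL n F α).index_mul_card
  rw [ha.card_par, card_GL_eq_qfac, Fintype.card_fin, mul_left_comm] at this
  exact Nat.eq_of_mul_eq_mul_left (by have := Fintype.one_lt_card (α := F); have : 0 < Fintype.card F - 1 := by omega
                                      positivity) this

/-! ### The Jacobi–Trudi identity -/

section JT
open MvPolynomial

/-- The complete homogeneous symmetric polynomials. -/
noncomputable def hs (n m : ℕ) : MvPolynomial (Fin n) ℤ := ∑ l ∈ finsuppAntidiag univ m, monomial l 1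

theorem coeff_prod_hs : coeff (Finsupp.equivFunOnFinite.symm α) (∏ t, hs n (β t)) = #(Tab α β) := by
  simp only [hs, prod_univ_sum, ← monomial_sum_one, coeff_sum, coeff_monomial, Tab, card_filter]
  simp

theorem hs_eq (m : ℕ) : hs n m = PowerSeries.coeff m (∏ l, PowerSeries.mk fun k => (X l : MvPolynomial (Fin n) ℤ) ^ k) := by
  simp [PowerSeries.coeff_prod, hs, monomial_eq, Finsupp.prod_fintype]

theorem exists_pow_eq_sum_hs (j : Fin n) : ∃ c : Fin n → MvPolynomial (Fin n) ℤ, ∀ m : ℕ,
    X j ^ m = ∑ k : Fin n, (if k ≤ m then hs n (m - k) else 0) * c k := by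
  set E : Polynomial (MvPolynomial (Fin n) ℤ) := ∏ l ∈ univ.erase j, (1 - Polynomial.C (X l) * Polynomial.X)
  have h1 : E.natDegree < n := by
    refine ((Polynomial.natDegree_prod_le _ _).trans (sum_le_card_nsmul _ _ 1 fun l _ => by compute_degree)).trans_lt ?_
    have := j.pos; simp; omega
  have h2 : (E : PowerSeries (MvPolynomial (Fin n) ℤ)) * ∏ l, (PowerSeries.mk fun k => X l ^ k) = PowerSeries.mk fun k => X j ^ k := by
    rw [← mul_prod_erase _ _ (mem_univ j), mul_left_comm, ← Polynomial.coeToPowerSeries.ringHom_apply, map_prod, ← prod_mul_distrib,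
      prod_eq_one fun l _ => ?_, mul_one]
    ext1 k; cases k <;> simp [sub_mul, mul_assoc, PowerSeries.coeff_succ_X_mul, pow_succ', PowerSeries.coeff_one]
  refine ⟨fun k => E.coeff k, fun m => ?_⟩
  have := congrArg (PowerSeries.coeff m) h2
  simp only [PowerSeries.coeff_mul, PowerSeries.coeff_mk, ← hs_eq, Polynomial.coeff_coe] at this
  rw [← this, Nat.sum_antidiagonal_eq_sum_range_succ fun i k => E.coeff i * hs n k,
    Fin.sum_univ_eq_sum_range fun k => (if k ≤ m then hs n (m - k) else 0) * E.coeff k]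
  simp only [ite_mul, zero_mul, ← sum_filter, mul_comm]
  refine (sum_subset (fun k => by simp +contextual [Nat.lt_succ_iff]) fun k h h' => ?_).symm
  rw [Polynomial.coeff_eq_zero_of_natDegree_lt (by simp at h h'; omega), mul_zero]

theorem det_pow (l : Fin n → ℕ) : (of fun i j => (X j : MvPolynomial (Fin n) ℤ) ^ l i).det =
    ∑ σ : Perm (Fin n), monomial (Finsupp.equivFunOnFinite.symm fun j => l (σ j)) (Perm.sign σ : ℤ) := by
  simp [det_apply', monomial_eq, Finsupp.prod_fintype]

theorem jacobi_trudi (l : Fin n → ℕ) : (of fun i j => (X j : MvPolynomial (Fin n) ℤ) ^ l i).det =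
    (of fun (i j : Fin n) => (X j : MvPolynomial (Fin n) ℤ) ^ i.1).det *
      ∑ κ : Perm (Fin n), if ∀ i, κ i ≤ l i then (Perm.sign κ : ℤ) * ∏ i, hs n (l i - κ i) else 0 := by
  choose c hc using exists_pow_eq_sum_hs (n := n)
  have h1 : ∀ l : Fin n → ℕ, (of fun i j => (X j : MvPolynomial (Fin n) ℤ) ^ l i).det =
      (of fun (i k : Fin n) => if k ≤ l i then hs n (l i - k) else 0).det * (of fun k j => c j k).det := fun l => by
    rw [← det_mul]; congr 1; ext1 i j; simp [mul_apply, hc]
  rw [h1, h1 (fun i => i.1), det_of_isLowerTriangular (of fun (i k : Fin n) => if k.1 ≤ i then hs n (i - k) else 0)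
    fun i j h => if_neg (not_le.2 h), mul_comm, ← det_transpose (of fun i k => ite _ _ _), det_apply' (transpose _)]
  simp [hs, prod_ite_zero]

theorem sum_sum_Tab {l l' : Fin n → ℕ} (h : StrictMono l) (h' : StrictMono l') :
    (∑ κ : Perm (Fin n), ∑ κ' : Perm (Fin n), if ∀ i, κ i ≤ l i then if ∀ i, κ' i ≤ l' i then
      (Perm.sign κ : ℤ) * (Perm.sign κ' : ℤ) * #(Tab (fun i => l i - κ i) fun i => l' i - κ' i) else 0 else 0) =
      if l = l' then 1 else 0 := by
  have := congrArg (coeff (Finsupp.equivFunOnFinite.symm l)) (jacobi_trudi l')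
  rw [det_pow, det_pow, sum_mul, coeff_sum, coeff_sum, sum_eq_single 1 (fun σ _ hσ => ?_) (by simp)] at this
  · convert this.symm using 2 with κ
    · have e : Finsupp.equivFunOnFinite.symm l - Finsupp.equivFunOnFinite.symm (fun j => (κ j).1) =
        Finsupp.equivFunOnFinite.symm fun i => l i - κ i := by ext; simp
      simp only [coeff_monomial_mul', e, coeff_sum, Finsupp.le_def, Finsupp.equivFunOnFinite_symm_apply_apply, mul_sum,
        apply_ite (coeff _), ← coeff_prod_hs, ← eq_intCast C, coeff_C_mul]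
      split_ifs <;> simp [mul_assoc]
    · simp [coeff_monomial, eq_comm]
  rw [coeff_monomial, if_neg fun e => hσ ((Perm.monotone_iff σ).1 fun i j hij => h'.le_iff_le.1 ?_)]
  have e := congrFun (Finsupp.equivFunOnFinite.symm.injective e)
  rw [e, e]; exact h.monotone hij

end JT

theorem strictMono_add {ν : Fin n → ℕ} (h : Monotone ν) : StrictMono fun i => ν i + i.1 := h.add_strictMono Fin.val_strictMono

theorem sum_sub_perm {ν : Fin n → ℕ} (hν : ∑ i, ν i = n) {κ : Perm (Fin n)} (h : ∀ i, (κ i).1 ≤ ν i + i) :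
    ∑ i, (ν i + i - κ i) = n := by
  rw [sum_tsub_distrib _ fun i _ => h i, sum_add_distrib, hν, κ.sum_comp univ (fun i => i.1) (by simp), add_tsub_cancel_right]

omit [Fintype F] in
theorem unip_eq (ν : Fin n → ℕ) : unipotentCharacterGL n F ν = ∑ κ : Perm (Fin n), if ∀ i, (κ i).1 ≤ ν i + i then
    (Perm.sign κ : ℤ) • fixedPointCharacter (parabolicGL n F fun i => ν i + i - κ i) else 0 := by
  ext g; simp [unipotentCharacterGL, ite_apply]

theorem gen_unip (ν : Fin n → ℕ) : IsGeneralizedCharacter _ (unipotentCharacterGL n F ν) := by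
  rw [unip_eq]
  refine isGeneralizedCharacter_sum _ fun κ _ => ?_
  split_ifs
  exacts [(isCharacter_fix _).isGeneralizedCharacter.zsmul _, isGeneralizedCharacter_zero]

theorem inner_unip [Fintype (GL (Fin n) F)] {ν ν' : Fin n → ℕ} (h1 : Monotone ν) (h2 : ∑ i, ν i = n) (h1' : Monotone ν') (h2' : ∑ i, ν' i = n) :
    classInner (unipotentCharacterGL n F ν') (unipotentCharacterGL n F ν) = if ν = ν' then 1 else 0 := by
  have := congrArg (Int.cast : ℤ → ℂ) (sum_sum_Tab (strictMono_add h1) (strictMono_add h1'))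
  simp only [unip_eq, classInner_sum_left, classInner_sum_right]
  convert this using 1
  · push_cast
    refine sum_congr rfl fun κ _ => sum_congr rfl fun κ' _ => ?_
    split_ifs with h' h
    · rw [classInner_zsmul_left, classInner_zsmul_right, inner_par (sum_sub_perm h2 h) (sum_sub_perm h2' h')]; ring
    all_goals simp [classInner_zero_left, classInner_zero_right]
  · simp [funext_iff]

theorem qfac_mul_pow (q : ℕ) {k l : ℕ} (h : k ≤ l) : (qfac q l : ℂ) * q ^ (∑ j ∈ range k, j) =
    qfac q (l - k) * ∏ j ∈ range k, (((∑ i ∈ range l, q ^ i : ℕ) : ℂ) - (∑ i ∈ range j, q ^ i : ℕ)) := by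
  induction k with
  | zero => simp
  | succ k ih =>
    obtain ⟨m, rfl⟩ := Nat.exists_eq_add_of_le h
    rw [sum_range_succ, pow_add, ← mul_assoc, ih (by omega), prod_range_succ, show k + 1 + m - k = m + 1 by omega,
      add_tsub_cancel_left, qfac, prod_range_succ, ← qfac, add_assoc, add_comm 1, sum_range_add _ k]
    simp only [pow_add, ← mul_sum]
    push_cast; ring

theorem unip_one {ν : Fin n → ℕ} (h2 : ∑ i, ν i = n) :
    unipotentCharacterGL n F ν 1 * (Fintype.card F : ℂ) ^ (n * (n - 1) * (n - 2) / 6) * ∏ i, (qfac (Fintype.card F) (ν i + i) : ℂ) =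
      qfac (Fintype.card F) n * ∏ i, ∏ j ∈ Ioi i, (((∑ l ∈ range (ν j + j), Fintype.card F ^ l : ℕ) : ℂ) -
        (∑ l ∈ range (ν i + i), Fintype.card F ^ l : ℕ)) := by
  set q := Fintype.card F
  have h1 : n * (n - 1) * (n - 2) / 6 = ∑ i ∈ range n, ∑ j ∈ range i, j := by
    refine Nat.div_eq_of_eq_mul_left (by norm_num) ?_
    clear! ν
    induction n with
    | zero => simp
    | succ n ih =>
      rw [sum_range_succ, add_mul _ _ 6, ← ih, show (6 : ℕ) = 2 * 3 from rfl, ← mul_assoc, sum_range_id_mul_two]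
      rcases n with _ | _ | n <;> simp; ring
  rw [← det_vandermonde fun i : Fin n => ((∑ l ∈ range (ν i + i), q ^ l : ℕ) : ℂ), det_eval_matrixOfPolynomials_eq_det_vandermonde _
    (fun k : Fin n => ∏ j ∈ range k, (Polynomial.X - Polynomial.C ((∑ l ∈ range j, q ^ l : ℕ) : ℂ)))
    (fun k => by rw [Polynomial.natDegree_finsetProd_X_sub_C_eq_card, card_range]) fun k => Polynomial.monic_prod_X_sub_C _ _,
    ← det_transpose, det_apply', h1, unipotentCharacterGL, sum_mul, sum_mul, mul_sum]
  refine sum_congr rfl fun κ _ => ?_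
  simp only [transpose_apply, of_apply, Polynomial.eval_prod, Polynomial.eval_sub, Polynomial.eval_X, Polynomial.eval_C]
  split_ifs with h
  · rw [← Fin.sum_univ_eq_sum_range fun i => ∑ j ∈ range i, j, ← κ.sum_comp univ _ (by simp), ← prod_pow_eq_pow_sum, mul_assoc,
      mul_comm (∏ _, _), ← prod_mul_distrib, prod_congr rfl fun i _ => qfac_mul_pow q (h i), prod_mul_distrib, fix_one,
      ← index_par_mul (F := F) (sum_sub_perm h2 h)]
    push_cast; ring
  · obtain ⟨i, hi⟩ := not_forall.1 h
    rw [zero_mul, zero_mul, prod_eq_zero (mem_univ i) (prod_eq_zero (mem_range.2 (not_le.1 hi)) (sub_self _))]; simp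

theorem irr_unip {ν : Fin n → ℕ} (h1 : Monotone ν) (h2 : ∑ i, ν i = n) : IsIrrCharacter _ (unipotentCharacterGL n F ν) := by
  classical
  refine (gen_unip ν).isIrrCharacter_of_norm_one (by simp [inner_unip h1 h2 h1 h2]) ?_
  obtain ⟨d, hd⟩ := (gen_unip (F := F) ν).exists_int_degree
  have := unip_one (F := F) h2
  rw [hd] at this ⊢
  norm_cast at this ⊢
  refine nonneg_of_mul_nonneg_left (this.ge.trans' (mul_nonneg (by positivity) (prod_nonneg fun i _ => prod_nonneg fun j hj => ?_)) |>.trans_eq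
    (mul_assoc _ _ _)) ?_
  · rw [Int.subNatNat_eq_coe, sub_nonneg, Nat.cast_le]
    exact sum_le_sum_of_subset (range_mono ((strictMono_add h1).monotone (mem_Ioi.1 hj).le))
  · exact_mod_cast mul_pos (pow_pos Fintype.card_pos _) (prod_pos fun _ _ => qfac_pos _ _)

end Cfsg.Lib.Linear
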